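import Cfsg.Agent.H916.RG.Pair_m3
import Cfsg.Agent.H818.Gen.Rows_m3
import Mathlib
import Cfsg.Agent.H893.PPow
import Cfsg.Agent.H915.S8.RuCent
import Cfsg.Agent.OddHalf.Table.OutRu
import Cfsg.Agent.H31.RC.Spor.Gen
import Cfsg.Agent.Lib.Cores
import Cfsg.Agent.H120.Sys
import Cfsg.Agent.S2119
import Cfsg.Agent.Involutions.BaerSuzuki
import Cfsg.Agent.Lib.SL2Mat
import Cfsg.Agent.ChevalleyStructure.SL2Hom
import Cfsg.Agent.KFacts.RgdTI
import Cfsg.Agent.KFacts.RgdCharP
import Cfsg.Agent.Nodes.RGDChev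
import Cfsg.Agent.Nodes.SimplyLaced
import Cfsg.Agent.H460.OT.BruComb
import Cfsg.Agent.BpExc.NChev
import Cfsg.Agent.H795.SetTor_m3
import Cfsg.Agent.Nodes.BN
import Cfsg.Prelude.Def_EvenType
import Cfsg.Agent.BpExc.Pair
import Cfsg.Agent.H763.Co3.C0_mg
import Cfsg.Agent.FastGrp
import Cfsg.Agent.Prune
set_option linter.all false

section
prune_inst 0x7fbcb8f8afa8addfdfff7e37aed0dffc01808fffa6dff9437fe06bbf0b9f030009c5ab890de010fe0ed6609410b87853fb7ec67fe863dc7ffffd5ff41ffbee0fe5f6b50811d084240f340fff03f07f8a6f3fffffffffffffffffffffffffffbefffffbfeffff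

-- part: H327/RG/FldAbs
section
prune_inst 0x4010000
set_option linter.all false
open scoped Cfsg.Agent.FastGrp

/-!
# S3509, automorphisms of field type (field, graph-field): abstract form

`K₀` the group, `ι : K₀ →* Y`, `σ` the Steinberg automorphism of `Y` belonging to `K₀`.

* `Fr ι σ` : the frame (centralizer of `K₀` trivial, `K₀` normal in `Y^σ`);
* `Fl ι σ p Ψ α` : a power `α ^ i`, `i` prime to `p`, is induced by `conj y * Ψ`;
* `Lv ι σ p Ψ L` : `Ψ ^ p = σ`, Lang's theorem for `Ψ`, `L ≤ K₀` the group of `Ψ`, `⁅L, L⁆` simple with `RC`, the end;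
* `field_abs` : a cover with one member of type `Fl ι σ p Ψ`, all other members inner-diagonal or of types which
  cannot centralise `L`, is impossible.
-/

set_option autoImplicit false
set_option linter.unusedSectionVars false

namespace Cfsg.Agent.H327.RG

open MulAction Subgroup Cfsg.Agent.H106.RC
open Cfsg.Agent.H28.GenF (InD)
open scoped commutatorElement

section frame

variable {Y K₀ : Type*} [Group Y] [Group K₀]

/-- the frame -/
structure Fr (ι : K₀ →* Y) (σ : MulAut Y) : Prop where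
  inj : Function.Injective ι
  cent : ∀ z, (∀ a, z * ι a = ι a * z) → z = 1
  fixι : ∀ a, σ (ι a) = ι a
  norm : ∀ y, σ y = y → ∀ a, ∃ b, ι b = y * ι a * y⁻¹

/-- field type, `p` the order -/
def Fl (ι : K₀ →* Y) (p : ℕ) (Ψ : MulAut Y) (α : MulAut K₀) : Prop :=
  ∃ (i : ℕ) (y : Y), i.Coprime p ∧ ∀ a, ι ((α ^ i) a) = (MulAut.conj y * Ψ) (ι a)

/-- the level of a field automorphism -/
structure Lv (ι : K₀ →* Y) (σ : MulAut Y) (p : ℕ) (Ψ : MulAut Y) (L : Subgroup K₀) : Prop where
  pow : Ψ ^ p = σ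
  lang : ∀ h : Y, ∃ g, h = g⁻¹ * Ψ g
  fixL : ∀ a ∈ L, Ψ (ι a) = ι a
  charL : ∀ α : MulAut K₀, (∀ a, Ψ (ι a) = ι a → Ψ (ι (α a)) = ι (α a)) → ∀ a ∈ L, α a ∈ L
  centL : ∀ y, (∀ a ∈ L, y * ι a = ι a * y) → y = 1
  simple : IsSimpleGroup ↥⁅L, L⁆
  ncomm : ¬ IsMulCommutative ↥⁅L, L⁆
  rc : RC ↥⁅L, L⁆
  fin : ∀ β : MulAut K₀, (∀ a, ι (β a) = Ψ (ι a)) → ∃ u ∈ ⁅L, L⁆, u ≠ 1 ∧ ∃ a b : K₀, a * u = u * a ∧ b * u = u * b ∧
    ⁅β a * a⁻¹, b⁆ = u

variable {p : ℕ} {ι : K₀ →* Y} {σ Ψ : MulAut Y}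

/-- an automorphism of field type is conjugate to the standard one -/
theorem exists_std (h : Fr ι σ) (hpow : Ψ ^ p = σ) (lang : ∀ h : Y, ∃ g, h = g⁻¹ * Ψ g) {x : MulAut K₀}
    (hxp : x ^ p = 1) {y : Y} (hx : ∀ a, ι (x a) = (MulAut.conj y * Ψ) (ι a)) :
    ∃ γ : MulAut K₀, γ ∈ InD ι ∧ ∀ a, ι ((γ * x * γ⁻¹) a) = Ψ (ι a) := by
  obtain ⟨g, hg⟩ := lang y
  have hφ : ∀ a, Ψ (g * ι a * g⁻¹) = g * ι (x a) * g⁻¹ := by
    intro a
    rw [hx, MulAut.mul_apply, MulAut.conj_apply, hg, map_mul, map_mul, map_inv]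
    group
  have hφn : ∀ n : ℕ, ∀ a, (Ψ ^ n) (g * ι a * g⁻¹) = g * ι ((x ^ n) a) * g⁻¹ := by
    intro n
    induction n with
    | zero => intro a; rfl
    | succ n ih => intro a; rw [pow_succ', MulAut.mul_apply, ih, hφ, pow_succ', MulAut.mul_apply]
  have hσg : σ g = g := by
    have h2 : g⁻¹ * σ g = 1 := by
      apply h.cent
      intro a
      have h3 := hφn p a
      rw [hpow, hxp, MulAut.one_apply, map_mul, map_mul, map_inv, h.fixι] at h3
      calc g⁻¹ * σ g * ι a = g⁻¹ * (σ g * ι a * (σ g)⁻¹) * σ g := by group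
        _ = g⁻¹ * (g * ι a * g⁻¹) * σ g := by rw [h3]
        _ = ι a * (g⁻¹ * σ g) := by group
    exact (inv_mul_eq_one.1 h2).symm
  have hσg' : σ g⁻¹ = g⁻¹ := by rw [map_inv, hσg]
  choose b hb using h.norm g hσg
  choose b' hb' using h.norm g⁻¹ hσg'
  let γ : MulAut K₀ :=
    { toFun := b
      invFun := b'
      left_inv := fun a => h.inj (by rw [hb', hb]; group)
      right_inv := fun a => h.inj (by rw [hb, hb']; group)
      map_mul' := fun a a' => h.inj (by rw [hb, map_mul, map_mul, hb, hb]; group) }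
  have hγ : ∀ a, ι (γ a) = g * ι a * g⁻¹ := hb
  refine ⟨γ, ⟨g, hγ⟩, fun a => ?_⟩
  have h2 := hφ (γ⁻¹ a)
  rw [← hγ (γ⁻¹ a), MulAut.apply_inv_self] at h2
  rw [MulAut.mul_apply, MulAut.mul_apply, hγ, ← h2]

theorem Fl.conj {α γ : MulAut K₀} (h : Fl ι p Ψ α) (hγ : γ ∈ InD ι) : Fl ι p Ψ (γ * α * γ⁻¹) := by
  obtain ⟨i, y, h1, h4⟩ := h
  obtain ⟨g, hg⟩ := hγ
  obtain ⟨g', hg'⟩ : γ⁻¹ ∈ InD ι := inv_mem ⟨g, hg⟩
  refine ⟨i, g * y * Ψ g', h1, fun a => ?_⟩
  have e : (γ * α * γ⁻¹) ^ i = γ * α ^ i * γ⁻¹ := conj_pow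
  rw [e, MulAut.mul_apply, MulAut.mul_apply, hg, h4, hg', MulAut.mul_apply, MulAut.mul_apply, MulAut.conj_apply,
    MulAut.conj_apply, map_mul, map_mul, map_inv]
  group

/-! ### the derived group of `L` -/

variable {L : Subgroup K₀}

theorem Lv.conj_der {a b : K₀} (ha : a ∈ L) (hb : b ∈ ⁅L, L⁆) : a * b * a⁻¹ ∈ ⁅L, L⁆ := by
  have h1 : ⁅a, b⁆ ∈ ⁅L, L⁆ := commutator_mem_commutator ha (commutator_le_self _ hb)
  have h2 := mul_mem h1 hb
  rwa [commutatorElement_def, inv_mul_cancel_right] at h2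

/-- the centralizer of the derived group in `L` -/
theorem Lv.cent_der (h : Lv ι σ p Ψ L) (hι : Function.Injective ι) {a : K₀} (ha : a ∈ L)
    (hc : ∀ b ∈ ⁅L, L⁆, a * b = b * a) : a = 1 := by
  have hcen : ∀ z ∈ ⁅L, L⁆, (∀ b ∈ ⁅L, L⁆, z * b = b * z) → z = 1 := by
    intro z hz hzc
    have h1 : (⟨z, hz⟩ : ↥⁅L, L⁆) ∈ center ↥⁅L, L⁆ := by
      rw [mem_center_iff]
      intro b
      exact Subtype.ext (hzc b b.2).symm
    rcases h.simple.eq_bot_or_eq_top_of_normal (center ↥⁅L, L⁆) inferInstance with h' | h'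
    · rw [h', mem_bot] at h1
      exact congrArg Subtype.val h1
    · exact (h.ncomm ⟨⟨fun b c => (mem_center_iff.1 (h' ▸ mem_top c) b)⟩⟩).elim
  have h1 : ∀ b ∈ L, a * b = b * a := by
    intro b hb
    have h2 : ⁅a, b⁆ = 1 := by
      refine hcen _ (commutator_mem_commutator ha hb) fun c hc' => ?_
      have h3 := hc _ (Lv.conj_der (inv_mem hb) hc')
      rw [inv_inv] at h3
      have h4 := hc c hc'
      rw [commutatorElement_def]
      calc a * b * a⁻¹ * b⁻¹ * c = a * b * a⁻¹ * (b⁻¹ * c * b) * b⁻¹ := by group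
        _ = a * b * (a⁻¹ * (a * (b⁻¹ * c * b) * a⁻¹)) * b⁻¹ := by
            rw [h3]; group
        _ = a * c * b * a⁻¹ * b⁻¹ := by group
        _ = c * (a * b * a⁻¹ * b⁻¹) := by rw [h4]; group
    rwa [commutatorElement_eq_one_iff_mul_comm] at h2
  have h2 : ι a = 1 := h.centL _ fun b hb => by rw [← map_mul, h1 b hb, map_mul]
  exact hι (by rw [h2, map_one])

/-- an automorphism preserving `L` and trivial on the derived group is trivial on `L` -/
theorem Lv.triv (h : Lv ι σ p Ψ L) (hι : Function.Injective ι) {α : MulAut K₀} (hα : ∀ a ∈ L, α a ∈ L)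
    (hc : ∀ a ∈ ⁅L, L⁆, α a = a) {a : K₀} (ha : a ∈ L) : α a = a := by
  have h1 : a⁻¹ * α a = 1 := by
    refine h.cent_der hι (mul_mem (inv_mem ha) (hα a ha)) fun b hb => ?_
    have h3 := hc _ (Lv.conj_der ha hb)
    rw [map_mul, map_mul, map_inv, hc b hb] at h3
    calc a⁻¹ * α a * b = a⁻¹ * (α a * b * (α a)⁻¹) * α a := by group
      _ = a⁻¹ * (a * b * a⁻¹) * α a := by rw [h3]
      _ = b * (a⁻¹ * α a) := by group
  exact (inv_mul_eq_one.1 h1).symm

/-- automorphisms commuting with the standard one preserve `L` -/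
theorem Lv.pres (h : Lv ι σ p Ψ L) (hι : Function.Injective ι) {β α : MulAut K₀} (hβ : ∀ a, ι (β a) = Ψ (ι a))
    (hαβ : α * β = β * α) : ∀ a ∈ L, α a ∈ L := by
  refine h.charL α fun a ha => ?_
  have h1 : β a = a := hι (by rw [hβ, ha])
  rw [← hβ, ← MulAut.mul_apply, ← hαβ, MulAut.mul_apply, h1]

/-- **A cover with a member of field type.** -/
theorem field_abs (hF : Fr ι σ) (hLv : Lv ι σ p Ψ L)
    {G Ω κ : Type*} [Group G] [MulAction G Ω] [Nonempty Ω] [Finite κ] {N : Subgroup G} (hE : Env G Ω N)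
    (e : N ≃* K₀) {x : κ → G} {q : κ → ℕ} (hx : PF x q) (hcov : Cov Ω x) {i₀ : κ} (hp : q i₀ = p)
    (hi₀ : Fl ι p Ψ (act hE e (x i₀)))
    (hT : ∀ j, j ≠ i₀ → act hE e (x j) ∈ InD ι ∨ ∃ Ψ' : MulAut Y, Fl ι (q j) Ψ' (act hE e (x j)) ∧
      ∀ y : Y, ¬ ∀ a ∈ L, y * Ψ' (ι a) * y⁻¹ = ι a) : False := by
  obtain ⟨i, y, hi, hy⟩ := hi₀
  subst hp
  have hxp : (act hE e (x i₀) ^ i) ^ q i₀ = 1 := by
    rw [← map_pow, ← map_pow, ← pow_mul, mul_comm, pow_mul, hx.pow, one_pow, map_one]
  obtain ⟨γ, hγ, hγ'⟩ := exists_std hF hLv.pow hLv.lang hxp hy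
  have hact : ∀ g, act hE (e.trans γ) g = γ * act hE e g * γ⁻¹ := act_conj hE e γ
  have hT' : ∀ j, j ≠ i₀ → act hE (e.trans γ) (x j) ∈ InD ι ∨ ∃ Ψ' : MulAut Y,
      Fl ι (q j) Ψ' (act hE (e.trans γ) (x j)) ∧ ∀ y : Y, ¬ ∀ a ∈ L, y * Ψ' (ι a) * y⁻¹ = ι a := fun j hj => by
    rw [hact]
    rcases hT j hj with h | ⟨Ψ', h, h'⟩
    · exact Or.inl (mul_mem (mul_mem hγ h) (inv_mem hγ))
    · exact Or.inr ⟨Ψ', h.conj hγ, h'⟩
  obtain ⟨e', he'⟩ : ∃ e' : N ≃* K₀, e' = e.trans γ := ⟨_, rfl⟩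
  rw [← he'] at hact hT'
  obtain ⟨β, hβ⟩ : ∃ β, β = act hE e' (x i₀) ^ i := ⟨_, rfl⟩
  have hβ' : ∀ a, ι (β a) = Ψ (ι a) := by
    intro a
    rw [hβ, hact, conj_pow, hγ']
  have hcomm : ∀ j, act hE e' (x j) * β = β * act hE e' (x j) := by
    intro j
    rw [hβ, ← map_pow, ← map_mul, ← map_mul]
    congr 1
    have : Commute (x j) (x i₀) := hx.comm j i₀
    exact this.pow_right i
  obtain ⟨u, hu, hu1, a, b, ha, hb, hux⟩ := hLv.fin β hβ'
  refine out_killY hE e' hx hcov hLv.simple hLv.ncomm hLv.rc ?_ (i₀ := i₀) ?_ hu hu1 ha hb (k := i)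
    (by rw [← hβ]; exact hux)
  · intro j
    have h1 := hLv.pres hF.inj hβ' (hcomm j)
    intro a ha
    have h2 : (⁅L, L⁆).map (act hE e' (x j)).toMonoidHom ≤ ⁅L, L⁆ := by
      rw [map_commutator]
      refine commutator_mono ?_ ?_ <;>
      · rintro _ ⟨b, hb, rfl⟩
        exact h1 b hb
    exact h2 ⟨a, ha, rfl⟩
  · intro j hj hc
    have htr : ∀ a ∈ L, act hE e' (x j) a = a := fun a ha =>
      hLv.triv hF.inj (hLv.pres hF.inj hβ' (hcomm j)) hc ha
    rcases hT' j hj with ⟨y, hy⟩ | ⟨Ψ', ⟨i', y, -, hy⟩, h'⟩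
    · refine act_ne_one hE e' (hx.ne j) ?_
      have h1 : y = 1 := by
        refine hLv.centL y fun a ha => ?_
        have h2 := hy a
        rw [htr a ha] at h2
        exact (eq_mul_inv_iff_mul_eq.1 h2).symm
      subst h1
      refine MulEquiv.ext fun a => hF.inj ?_
      rw [hy, one_mul, inv_one, mul_one]
      rfl
    · refine h' y fun a ha => ?_
      have h2 := hy a
      rw [H28.GenF.apply_pow (htr a ha)] at h2
      exact h2.symm

end frame

end Cfsg.Agent.H327.RG
end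

-- part: H660/RR/Crd
section
prune_inst 0x41460750501220200001c851230003a87d7000590006b880199440f460247fb6225036f016ca01d121832ae002000000813980070422800002a0004004001012080a85602f389a10ca6000f80b007590c00000000000000000000000000041000004010000
set_option linter.all false
open scoped Cfsg.Agent.FastGrp

-- part: H660/RR/Defs
section
/-!
# S3509 (regular cycles in primitive groups): interface (helper660)

* `KSet T` : `Ω` is the set of `k`-subsets of `Fin m`, `G` acts through `Sym m` and `T` induces all of `Alt m`;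
* `ASRow P` : the statement for almost simple groups with socle in the class `P`;
* `Reg g` : `g` has a regular point (for actions which need not be faithful).
-/

set_option autoImplicit false

namespace Cfsg.Agent.H660.RR

open Subgroup MulAction

/-- the action on `k`-subsets -/
def KSet {G Ω : Type*} [Group G] [MulAction G Ω] (T : Subgroup G) : Prop :=
  ∃ (m k : ℕ), 5 ≤ m ∧ 1 ≤ k ∧ ∃ e : Ω ≃ {s : Finset (Fin m) // s.card = k},
    (∀ x : G, ∃ τ : Equiv.Perm (Fin m), ∀ ω, (e (x • ω)).1 = (e ω).1.map τ.toEmbedding) ∧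
    (∀ τ ∈ alternatingGroup (Fin m), ∃ x ∈ T, ∀ ω, (e (x • ω)).1 = (e ω).1.map τ.toEmbedding)

/-- the row of the simple groups with the property `P` -/
def ASRow (P : ∀ (T : Type) [Group T], Prop) : Prop :=
  ∀ (G Ω : Type) [Group G] [Finite G] [MulAction G Ω] [FaithfulSMul G Ω] [Finite Ω],
    IsPreprimitive G Ω → ∀ (T : Subgroup G) [T.Normal], IsSimpleGroup T → (∃ a b : T, a * b ≠ b * a) →
    centralizer (T : Set G) = ⊥ → P T → ∀ g : G, (∃ ω : Ω, stabilizer (zpowers g) ω = ⊥) ∨ KSet (Ω := Ω) T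

/-- `g` has a regular point on the set of the points with the property `P` -/
def RegP {G X : Type*} [Group G] [MulAction G X] (g : G) (P : X → Prop) : Prop :=
  ∃ x, P x ∧ ∀ k : ℤ, g ^ k • x = x → ∀ y, P y → g ^ k • y = y

theorem reg_iff {G Ω : Type*} [Group G] [MulAction G Ω] [FaithfulSMul G Ω] (g : G) :
    (∃ ω : Ω, stabilizer (zpowers g) ω = ⊥) ↔ ∃ ω : Ω, ∀ k : ℤ, g ^ k • ω = ω → g ^ k = 1 := by
  refine exists_congr fun ω => ?_
  constructor
  · intro h k hk
    have h1 : (⟨g ^ k, k, rfl⟩ : zpowers g) ∈ stabilizer (zpowers g) ω := hk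
    rw [h, mem_bot] at h1
    exact congrArg Subtype.val h1
  · intro h
    rw [eq_bot_iff]
    rintro ⟨_, k, rfl⟩ hx
    rw [mem_bot]
    exact Subtype.ext (h k hx)

end Cfsg.Agent.H660.RR
end

-- part: H660/RR/Prod
section
/-!
# S3509: regular points in product action (helper660)

* `regP_sections` : `X → I` equivariant, the powers of `g` fixing `i` have regular points on the fibre over `i`; then `g`
  has a regular point on the set of all sections.
-/

set_option autoImplicit false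

namespace Cfsg.Agent.H660.RR

open Subgroup MulAction

section one

variable {G X : Type*} [Group G] [MulAction G X]

/-- if `g` acts trivially on `P` then so do its powers -/
theorem zpow_trivial {g : G} {P : X → Prop} (h : ∀ y, P y → g • y = y) (k : ℤ) : ∀ y, P y → g ^ k • y = y := by
  intro y hy
  have h1 : g ∈ stabilizer G y := h y hy
  exact zpow_mem h1 k

end one

/-- **The product lemma.** -/
theorem regP_sections {G I X : Type*} [Group G] [Finite G] [MulAction G I] [MulAction G X] (π : X → I)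
    (hπ : ∀ (g : G) (x : X), π (g • x) = g • π x) (hne : ∀ i, ∃ x y : X, x ≠ y ∧ π x = i ∧ π y = i) (g : G)
    (h : ∀ i, ∀ n : ℕ, g ^ n • i = i → RegP (g ^ n) (fun x => π x = i)) :
    ∃ s : I → X, (∀ i, π (s i) = i) ∧ ∀ k : ℤ, (∀ i, s (g ^ k • i) = g ^ k • s i) → ∀ x : X, g ^ k • x = x := by
  classical
  -- representatives
  obtain ⟨r, hr1, hr2⟩ : ∃ r : I → I, (∀ i, ∃ k : ℤ, g ^ k • r i = i) ∧ ∀ (k : ℤ) i, r (g ^ k • i) = r i := by
    refine ⟨fun i => (Quotient.mk (orbitRel (zpowers g) I) i).out, fun i => ?_, fun k i => ?_⟩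
    · have h1 : (Quotient.mk (orbitRel (zpowers g) I) i).out ∈ orbit (zpowers g) i := by
        rw [← orbitRel_apply]
        exact Quotient.mk_out (s := orbitRel (zpowers g) I) i
      obtain ⟨⟨_, k, rfl⟩, hk⟩ := h1
      refine ⟨-k, ?_⟩
      have h2 : (Quotient.mk (orbitRel (zpowers g) I) i).out = g ^ k • i := hk.symm
      show g ^ (-k) • (Quotient.mk (orbitRel (zpowers g) I) i).out = i
      rw [h2, smul_smul, ← zpow_add, neg_add_cancel, zpow_zero, one_smul]
    · have h1 : Quotient.mk (orbitRel (zpowers g) I) (g ^ k • i) = Quotient.mk (orbitRel (zpowers g) I) i := by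
        apply Quotient.sound
        show orbitRel (zpowers g) I _ _
        rw [orbitRel_apply]
        exact ⟨⟨g ^ k, k, rfl⟩, rfl⟩
      show (Quotient.mk (orbitRel (zpowers g) I) (g ^ k • i)).out = _
      rw [h1]
  have hrr : ∀ i, r (r i) = r i := by
    intro i
    obtain ⟨k, hk⟩ := hr1 i
    conv_rhs => rw [← hk, hr2]
  obtain ⟨l, hl⟩ : ∃ l : I → ℕ, l = fun i => period g i := ⟨_, rfl⟩
  have hlpos : ∀ i, 0 < l i := fun i => by
    rw [hl]
    exact period_pos_of_orderOf_pos (orderOf_pos g) i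
  have hdvd : ∀ (k : ℤ) i, g ^ k • i = i ↔ (l i : ℤ) ∣ k := fun k i => by
    rw [hl]
    exact zpow_smul_eq_iff_period_dvd
  -- the exponents
  have hex : ∀ i, ∃ n : ℤ, 0 ≤ n ∧ n < l (r i) ∧ g ^ n • r i = i := by
    intro i
    obtain ⟨k, hk⟩ := hr1 i
    have hl0 : (0 : ℤ) < l (r i) := by exact_mod_cast hlpos (r i)
    refine ⟨k % (l (r i) : ℤ), Int.emod_nonneg _ hl0.ne', Int.emod_lt_of_pos _ hl0, ?_⟩
    rw [hl]
    show g ^ (k % (period g (r i) : ℤ)) • r i = i
    rw [zpow_mod_period_smul]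
    exact hk
  choose n hn0 hnl hn using hex
  -- the regular points
  have hreg : ∀ i, ∃ d, π d = i ∧ ∀ k : ℤ, (g ^ l i) ^ k • d = d → ∀ y, π y = i → (g ^ l i) ^ k • y = y := fun i =>
    h i (l i) (by
      have := (hdvd (l i : ℤ) i).2 dvd_rfl
      rwa [zpow_natCast] at this)
  choose d hd1 hd2 using hreg
  have hne' : ∀ i, ∃ d', d' ≠ d i ∧ π d' = i := by
    intro i
    obtain ⟨x, y, hxy, hx, hy⟩ := hne i
    by_cases hxd : x = d i
    · exact ⟨y, fun h => hxy (hxd.trans h.symm), hy⟩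
    · exact ⟨x, hxd, hx⟩
  choose d' hd'1 hd'2 using hne'
  let Tr : I → Prop := fun i => ∀ y, π y = i → g ^ l i • y = y
  let y : I → X := fun i => if Tr (r i) ∧ i ≠ r i then d' (r i) else d (r i)
  have hyπ : ∀ i, π (y i) = r i := by
    intro i
    show π (if Tr (r i) ∧ i ≠ r i then d' (r i) else d (r i)) = r i
    split_ifs
    · exact hd'2 _
    · exact hd1 _
  refine ⟨fun i => g ^ n i • y i, fun i => ?_, fun k hk => ?_⟩
  · show π (g ^ n i • y i) = i
    rw [hπ, hyπ, hn]
  · -- the fibre over a representative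
    have key : ∀ i0, r i0 = i0 → ∀ x, π x = i0 → g ^ k • x = x := by
      intro i0 hi0
      have hmul : ∀ j : ℤ, (l i0 : ℤ) ∣ j → g ^ j • d i0 = d i0 → ∀ x, π x = i0 → g ^ j • x = x := by
        rintro _ ⟨j, rfl⟩ hj x hx
        rw [zpow_mul, zpow_natCast] at hj ⊢
        exact hd2 i0 j hj x hx
      have hn0' : n i0 = 0 := by
        have h1 : (l i0 : ℤ) ∣ n i0 := by
          rw [← hdvd]
          have h2 := hn i0
          rwa [hi0] at h2
        have h2 := hnl i0
        rw [hi0] at h2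
        exact Int.eq_zero_of_dvd_of_nonneg_of_lt (hn0 i0) h2 h1
      have hy0 : y i0 = d i0 := by
        show (if Tr (r i0) ∧ i0 ≠ r i0 then d' (r i0) else d (r i0)) = d i0
        rw [if_neg (fun h => h.2 hi0.symm), hi0]
      -- the two equations
      have hA : g ^ n (g ^ k • i0) • y (g ^ k • i0) = g ^ k • d i0 := by
        have h1 := hk i0
        simp only [hn0', zpow_zero, one_smul, hy0] at h1
        exact h1
      have hrk : r (g ^ k • i0) = i0 := by rw [hr2, hi0]
      have hrk' : r (g ^ (-k) • i0) = i0 := by rw [hr2, hi0]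
      have hu := hn (g ^ k • i0)
      have hv := hn (g ^ (-k) • i0)
      rw [hrk] at hu
      rw [hrk'] at hv
      have hul := hnl (g ^ k • i0)
      have hvl := hnl (g ^ (-k) • i0)
      rw [hrk] at hul
      rw [hrk'] at hvl
      have hu0 := hn0 (g ^ k • i0)
      have hv0 := hn0 (g ^ (-k) • i0)
      have hB : d i0 = g ^ k • g ^ n (g ^ (-k) • i0) • y (g ^ (-k) • i0) := by
        have h1 := hk (g ^ (-k) • i0)
        have e1 : g ^ k • g ^ (-k) • i0 = i0 := by
          rw [smul_smul, ← zpow_add, add_neg_cancel, zpow_zero, one_smul]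
        rw [e1] at h1
        simp only [hn0', zpow_zero, one_smul, hy0] at h1
        exact h1
      set u := n (g ^ k • i0) with hudef
      set v := n (g ^ (-k) • i0) with hvdef
      by_cases hTr : Tr i0
      · -- `g ^ l` is trivial on the fibre
        have hku : (l i0 : ℤ) ∣ k - u := by
          rw [← hdvd, sub_eq_neg_add, zpow_add, mul_smul, ← hu, smul_smul, ← zpow_add, neg_add_cancel, zpow_zero,
            one_smul]
        have hmul' : ∀ j : ℤ, (l i0 : ℤ) ∣ j → ∀ x, π x = i0 → g ^ j • x = x := by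
          rintro _ ⟨j, rfl⟩ x hx
          rw [zpow_mul, zpow_natCast]
          exact zpow_trivial (P := fun x => π x = i0) hTr j x hx
        have h1 : y (g ^ k • i0) = d i0 := by
          have h2 : g ^ (-u) • g ^ u • y (g ^ k • i0) = g ^ (-u) • g ^ k • d i0 := by rw [hA]
          rw [smul_smul, ← zpow_add, neg_add_cancel, zpow_zero, one_smul, smul_smul, ← zpow_add,
            ← sub_eq_neg_add] at h2
          rw [h2]
          exact hmul' _ hku _ (hd1 i0)
        have h2 : g ^ k • i0 = i0 := by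
          by_contra hne2
          have h3 : y (g ^ k • i0) = d' i0 := by
            show (if Tr (r (g ^ k • i0)) ∧ g ^ k • i0 ≠ r (g ^ k • i0) then d' (r (g ^ k • i0))
              else d (r (g ^ k • i0))) = d' i0
            rw [hrk, if_pos ⟨hTr, hne2⟩]
          exact hd'1 i0 (h3.symm.trans h1)
        exact hmul' k ((hdvd k i0).1 h2)
      · have hyd : ∀ i, r i = i0 → y i = d i0 := by
          intro i hi
          show (if Tr (r i) ∧ i ≠ r i then d' (r i) else d (r i)) = d i0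
          rw [hi, if_neg (fun h => hTr h.1)]
        rw [hyd _ hrk] at hA
        rw [hyd _ hrk'] at hB
        have huv : g ^ (u + v) • d i0 = d i0 := by
          rw [add_comm, zpow_add, mul_smul, hA, smul_smul, ← zpow_add, add_comm, zpow_add, mul_smul]
          exact hB.symm
        have huvi : (l i0 : ℤ) ∣ u + v := by
          rw [← hdvd, add_comm, zpow_add, mul_smul, hu, smul_smul, ← zpow_add, add_comm, zpow_add, mul_smul, hv,
            smul_smul, ← zpow_add, add_neg_cancel, zpow_zero, one_smul]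
        obtain ⟨w, hw⟩ := huvi
        have hl0 : (0 : ℤ) < l i0 := by exact_mod_cast hlpos i0
        have hw2 : w < 2 := by
          by_contra h2
          push Not at h2
          have : (l i0 : ℤ) * 2 ≤ l i0 * w := mul_le_mul_of_nonneg_left h2 hl0.le
          omega
        have hw0 : 0 ≤ w := by
          by_contra h2
          push Not at h2
          have : (l i0 : ℤ) * w < 0 := mul_neg_of_pos_of_neg hl0 h2
          omega
        have hw1 : w ≠ 1 := by
          rintro rfl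
          apply hTr
          intro x hx
          have h1 := hmul (l i0) dvd_rfl (by rw [mul_one] at hw; rw [← hw]; exact huv) x hx
          rwa [zpow_natCast] at h1
        have hw' : w = 0 := by omega
        rw [hw', mul_zero] at hw
        have hu' : u = 0 := by omega
        rw [hu', zpow_zero, one_smul] at hA hu
        exact hmul k ((hdvd k i0).1 hu.symm) hA.symm
    intro x
    have h1 := hn (π x)
    have h2 : π (g ^ (-(n (π x))) • x) = r (π x) := by
      rw [hπ]
      conv_lhs => rw [← h1]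
      rw [h1, smul_eq_iff_eq_inv_smul, ← zpow_neg, neg_neg, h1]
    have h3 := key (r (π x)) (hrr _) _ h2
    have h4 : g ^ n (π x) • g ^ k • g ^ (-(n (π x))) • x = g ^ n (π x) • g ^ (-(n (π x))) • x := by rw [h3]
    rw [smul_smul, smul_smul, smul_smul, ← zpow_add, ← zpow_add, ← zpow_add, add_neg_cancel, zpow_zero, one_smul] at h4
    have e : n (π x) + (k + -n (π x)) = k := by ring
    rwa [add_assoc, e] at h4

end Cfsg.Agent.H660.RR
end

-- part: H660/RR/Dec
section
/-!
# S3509: Cartesian decompositions (helper660)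

* `Dec π ev` : `Ω` is the set of sections of `π : X → I`, equivariantly;
* `Dec.reg` : regular points from regular points on the fibres.
-/

set_option autoImplicit false

namespace Cfsg.Agent.H660.RR

open Subgroup MulAction

/-- `ev` identifies `Ω` with the set of the sections of `π` -/
structure Dec {G Ω I X : Type*} [Group G] [MulAction G Ω] [MulAction G I] [MulAction G X] (π : X → I)
    (ev : Ω → I → X) : Prop where
  hπ : ∀ (g : G) (x : X), π (g • x) = g • π x
  hev : ∀ (w : Ω) (i : I), π (ev w i) = i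
  surj : ∀ s : I → X, (∀ i, π (s i) = i) → ∃ w, ev w = s
  inj : Function.Injective ev
  eq : ∀ (g : G) (w : Ω) (i : I), ev (g • w) (g • i) = g • ev w i

variable {G Ω I X : Type*} [Group G] [MulAction G Ω] [MulAction G I] [MulAction G X] {π : X → I} {ev : Ω → I → X}

/-- **regular points from the fibres** -/
theorem Dec.reg [Finite G] [FaithfulSMul G Ω] (h : Dec (G := G) π ev) (hne : ∀ i, ∃ x y : X, x ≠ y ∧ π x = i ∧ π y = i)
    (g : G) (hg : ∀ i, ∀ n : ℕ, g ^ n • i = i → RegP (g ^ n) (fun x => π x = i)) :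
    ∃ ω : Ω, stabilizer (zpowers g) ω = ⊥ := by
  obtain ⟨s, hs, hk⟩ := regP_sections π h.hπ hne g hg
  obtain ⟨w, hw⟩ := h.surj s hs
  rw [reg_iff]
  refine ⟨w, fun k hkw => ?_⟩
  have h1 : ∀ x : X, g ^ k • x = x := by
    apply hk
    intro i
    rw [← hw, ← h.eq, hkw]
  apply FaithfulSMul.eq_of_smul_eq_smul (α := Ω)
  intro v
  rw [one_smul]
  apply h.inj
  funext i
  have h2 : g ^ k • i = i := by
    obtain ⟨x, y, -, hx, -⟩ := hne i
    rw [← hx, ← h.hπ, h1]
  have h3 := h.eq (g ^ k) v i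
  rw [h2, h1] at h3
  exact h3

end Cfsg.Agent.H660.RR
end

-- part: H660/RR/Comp
section
/-!
# S3509: the component of a Cartesian decomposition (helper660)

* `Dec.rho` : the action of the stabiliser of an index on its fibre;
* `Dec.primitive` : the component is primitive;
* `Dec.concl` : if the component is the action on `k`-subsets then the conclusion of `S3509`.
-/

set_option autoImplicit false

namespace Cfsg.Agent.H660.RR

open Subgroup MulAction
open scoped Pointwise

section rho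

variable {G I X : Type*} [Group G] [MulAction G I] [MulAction G X] {π : X → I}

/-- the action of the stabiliser of `i` on the fibre over `i` -/
def rho (hπ : ∀ (g : G) (x : X), π (g • x) = g • π x) (i : I) : stabilizer G i →* Equiv.Perm {x : X // π x = i} where
  toFun g :=
    { toFun := fun x => ⟨(g : G) • (x : X), by rw [hπ, x.2]; exact g.2⟩
      invFun := fun x => ⟨(g : G)⁻¹ • (x : X), by rw [hπ, x.2, inv_smul_eq_iff]; exact g.2.symm⟩
      left_inv := fun x => Subtype.ext (inv_smul_smul _ _)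
      right_inv := fun x => Subtype.ext (smul_inv_smul _ _) }
  map_one' := by
    ext x
    exact one_smul G (x : X)
  map_mul' a b := by
    ext x
    exact mul_smul (a : G) (b : G) (x : X)

theorem rho_apply (hπ : ∀ (g : G) (x : X), π (g • x) = g • π x) (i : I) (g : stabilizer G i) (x : {x : X // π x = i}) :
    ((rho hπ i g x : {x : X // π x = i}) : X) = (g : G) • (x : X) := rfl

end rho

variable {G Ω I X : Type*} [Group G] [MulAction G Ω] [MulAction G I] [MulAction G X] {π : X → I} {ev : Ω → I → X}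

/-- a section with given coordinates -/
theorem Dec.exists_coord (h : Dec (G := G) π ev) {i0 : I} {g : I → G} (hg : ∀ i, g i • i0 = i)
    (y : I → {x : X // π x = i0}) : ∃ w, ∀ i, ev w i = g i • (y i : X) := by
  obtain ⟨w, hw⟩ := h.surj (fun i => g i • (y i : X)) (fun i => by rw [h.hπ, (y i).2, hg])
  exact ⟨w, fun i => congrFun hw i⟩

/-- **The component is primitive.** -/
theorem Dec.primitive (h : Dec (G := G) π ev) (hp : IsPreprimitive G Ω) (hI : IsPretransitive G I)
    (hK : ∀ w w' : Ω, ∃ n : G, (∀ i : I, n • i = i) ∧ n • w = w') (i0 : I) :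
    IsPreprimitive (rho h.hπ i0).range {x : X // π x = i0} := by
  classical
  choose g hg using fun i : I => hI.exists_smul_eq i0 i
  have htr : IsPretransitive (rho h.hπ i0).range {x : X // π x = i0} := by
    refine ⟨fun x y => ?_⟩
    obtain ⟨w, hw⟩ := h.exists_coord hg (fun _ => ⟨(g i0)⁻¹ • (x : X), by rw [h.hπ, x.2, inv_smul_eq_iff, hg]⟩)
    obtain ⟨w', hw'⟩ := h.exists_coord hg (fun _ => ⟨(g i0)⁻¹ • (y : X), by rw [h.hπ, y.2, inv_smul_eq_iff, hg]⟩)
    obtain ⟨n, hn, hnw⟩ := hK w w'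
    refine ⟨⟨rho h.hπ i0 ⟨n, hn i0⟩, _, rfl⟩, ?_⟩
    apply Subtype.ext
    show n • (x : X) = y
    have h1 := h.eq n w i0
    rw [hn, hnw, hw, hw', smul_inv_smul, smul_inv_smul] at h1
    exact h1.symm
  refine { htr with isTrivialBlock_of_isBlock := ?_ }
  intro B hB
  rcases B.eq_empty_or_nonempty with rfl | ⟨b0, hb0⟩
  · exact Or.inl Set.subsingleton_empty
  -- the coordinates
  have hyπ : ∀ (w : Ω) (i : I), π ((g i)⁻¹ • ev w i) = i0 := by
    intro w i
    rw [h.hπ, h.hev, inv_smul_eq_iff, hg]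
  obtain ⟨y, hy⟩ : ∃ y : Ω → I → {x : X // π x = i0}, ∀ w i, ((y w i : {x : X // π x = i0}) : X) = (g i)⁻¹ • ev w i :=
    ⟨fun w i => ⟨(g i)⁻¹ • ev w i, hyπ w i⟩, fun w i => rfl⟩
  -- the block
  let 𝔅 : Set Ω := {w | ∀ i, y w i ∈ B}
  -- the action in coordinates
  have hu : ∀ (x : G) (j : I), (g (x • j))⁻¹ * x * g j ∈ stabilizer G i0 := by
    intro x j
    rw [mem_stabilizer_iff, mul_smul, mul_smul, hg, inv_smul_eq_iff, hg]
  have hact : ∀ (x : G) (w : Ω) (j : I), y (x • w) (x • j) = rho h.hπ i0 ⟨_, hu x j⟩ (y w j) := by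
    intro x w j
    apply Subtype.ext
    rw [rho_apply, hy, hy, h.eq, smul_smul, smul_smul]
    show _ = (((g (x • j))⁻¹ * x * g j) * (g j)⁻¹) • ev w j
    congr 1
    group
  have hblock : IsBlock G 𝔅 := by
    rw [isBlock_iff_smul_eq_of_nonempty]
    rintro x ⟨w, ⟨v, hv, rfl⟩, hw⟩
    have hv' : ∀ i, y v i ∈ B := hv
    have hw' : ∀ i, y (x • v) i ∈ B := hw
    have hBj : ∀ j, (⟨rho h.hπ i0 ⟨_, hu x j⟩, _, rfl⟩ : (rho h.hπ i0).range) • B = B := by
      intro j
      rw [isBlock_iff_smul_eq_of_nonempty] at hB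
      apply hB
      refine ⟨y (x • v) (x • j), ⟨y v j, hv' j, ?_⟩, hw' _⟩
      exact (hact x v j).symm
    have hmem : ∀ (u : Ω) (j : I), y (x • u) (x • j) ∈ B ↔ y u j ∈ B := by
      intro u j
      rw [hact]
      conv_lhs => rw [← hBj j]
      constructor
      · rintro ⟨z, hz, hzu⟩
        have h1 : rho h.hπ i0 ⟨_, hu x j⟩ z = rho h.hπ i0 ⟨_, hu x j⟩ (y u j) := hzu
        rw [Equiv.apply_eq_iff_eq] at h1
        rwa [← h1]
      · intro hz
        exact ⟨_, hz, rfl⟩
    apply Set.Subset.antisymm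
    · rintro _ ⟨u, hu', rfl⟩
      have hu2 : ∀ i, y u i ∈ B := hu'
      show ∀ i, y (x • u) i ∈ B
      intro i
      have h1 := (hmem u (x⁻¹ • i)).2 (hu2 _)
      rwa [smul_inv_smul] at h1
    · intro u hu'
      have hu2 : ∀ i, y u i ∈ B := hu'
      refine ⟨x⁻¹ • u, ?_, smul_inv_smul x u⟩
      show ∀ i, y (x⁻¹ • u) i ∈ B
      intro i
      have h1 := (hmem (x⁻¹ • u) i).1
      rw [smul_inv_smul] at h1
      exact h1 (hu2 _)
  have hcoord : ∀ s : I → {x : X // π x = i0}, ∃ w, ∀ i, y w i = s i := by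
    intro s
    obtain ⟨w, hw⟩ := h.exists_coord hg s
    refine ⟨w, fun i => ?_⟩
    apply Subtype.ext
    rw [hy, hw, inv_smul_smul]
  rcases hp.isTrivialBlock_of_isBlock hblock with h1 | h1
  · left
    intro b hb b' hb'
    obtain ⟨w, hw⟩ := hcoord (fun _ => b)
    obtain ⟨w', hw'⟩ := hcoord (Function.update (fun _ => b) i0 b')
    have h2 : w = w' := by
      apply h1
      · show ∀ i, y w i ∈ B
        intro i
        rw [hw]
        exact hb
      · show ∀ i, y w' i ∈ B
        intro i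
        rw [hw']
        by_cases hi : i = i0
        · subst hi
          rw [Function.update_self]
          exact hb'
        · rw [Function.update_of_ne hi]
          exact hb
    have h3 := hw i0
    rw [h2, hw', Function.update_self] at h3
    exact h3.symm
  · right
    rw [Set.eq_univ_iff_forall]
    intro b
    obtain ⟨w, hw⟩ := hcoord (fun _ => b)
    have h2 : w ∈ 𝔅 := by rw [h1]; exact Set.mem_univ w
    have h3 : ∀ i, y w i ∈ B := h2
    have h4 := h3 i0
    rwa [hw] at h4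

/-- coordinates in the fixed fibre -/
theorem Dec.exists_y (h : Dec (G := G) π ev) {i0 : I} {g : I → G} (hg : ∀ i, g i • i0 = i) :
    ∃ y : Ω ≃ (I → {x : X // π x = i0}), (∀ w i, ((y w i : {x : X // π x = i0}) : X) = (g i)⁻¹ • ev w i) ∧
      ∀ (x : G) (j : I), ∃ u : (rho h.hπ i0).range, ∀ w, y (x • w) (x • j) = (u : Equiv.Perm _) (y w j) := by
  have hyπ : ∀ (w : Ω) (i : I), π ((g i)⁻¹ • ev w i) = i0 := by
    intro w i
    rw [h.hπ, h.hev, inv_smul_eq_iff, hg]
  have hu : ∀ (x : G) (j : I), (g (x • j))⁻¹ * x * g j ∈ stabilizer G i0 := by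
    intro x j
    rw [mem_stabilizer_iff, mul_smul, mul_smul, hg, inv_smul_eq_iff, hg]
  refine ⟨Equiv.ofBijective (fun w i => ⟨(g i)⁻¹ • ev w i, hyπ w i⟩) ⟨?_, ?_⟩, fun w i => rfl, fun x j =>
    ⟨⟨rho h.hπ i0 ⟨_, hu x j⟩, _, rfl⟩, fun w => ?_⟩⟩
  · intro w w' hw
    apply h.inj
    funext i
    have h1 : (g i)⁻¹ • ev w i = (g i)⁻¹ • ev w' i := congrArg Subtype.val (congrFun hw i)
    exact smul_left_cancel _ h1
  · intro s
    obtain ⟨w, hw⟩ := h.exists_coord hg s
    refine ⟨w, ?_⟩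
    funext i
    apply Subtype.ext
    show (g i)⁻¹ • ev w i = _
    rw [hw, inv_smul_smul]
  · apply Subtype.ext
    show (g (x • j))⁻¹ • ev (x • w) (x • j) = ((g (x • j))⁻¹ * x * g j) • (g j)⁻¹ • ev w j
    rw [h.eq, smul_smul, smul_smul]
    congr 1
    group

/-- the second alternative of `S3509` -/
def PAlt (G Ω : Type*) [Group G] [MulAction G Ω] : Prop :=
  ∃ (m k r : ℕ), 5 ≤ m ∧ 1 ≤ k ∧ 1 ≤ r ∧
    ∃ e : Ω ≃ (Fin r → {s : Finset (Fin m) // s.card = k}),
      (∀ x : G, ∃ (π : Equiv.Perm (Fin r)) (τ : Fin r → Equiv.Perm (Fin m)),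
          ∀ (ω : Ω) (i : Fin r), ((e (x • ω) i : {s : Finset (Fin m) // s.card = k}) : Finset (Fin m)) =
            (((e ω) (π.symm i) : {s : Finset (Fin m) // s.card = k}) : Finset (Fin m)).map (τ i).toEmbedding) ∧
      (∀ τ : Fin r → Equiv.Perm (Fin m), (∀ i, τ i ∈ alternatingGroup (Fin m)) →
          ∃ x : G, ∀ (ω : Ω) (i : Fin r), ((e (x • ω) i : {s : Finset (Fin m) // s.card = k}) : Finset (Fin m)) =
            (((e ω) i : {s : Finset (Fin m) // s.card = k}) : Finset (Fin m)).map (τ i).toEmbedding)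

/-- **the conclusion from the component** -/
theorem Dec.concl [Finite I] (h : Dec (G := G) π ev) (hI : IsPretransitive G I) (i0 : I)
    (T' : Subgroup (rho h.hπ i0).range) (hK : KSet (Ω := {x : X // π x = i0}) T')
    (hT : ∀ g : I → G, (∀ i, g i • i0 = i) → ∀ t : I → T', ∃ x : G, (∀ i : I, x • i = i) ∧
      ∀ (i : I) (y : {x : X // π x = i0}), x • g i • (y : X) =
        g i • (((((t i : (rho h.hπ i0).range) : Equiv.Perm {x : X // π x = i0}) y) : {x : X // π x = i0}) : X)) :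
    PAlt G Ω := by
  classical
  obtain ⟨m, k, hm, hk, e0, h1, h2⟩ := hK
  choose g hg using fun i : I => hI.exists_smul_eq i0 i
  obtain ⟨y, hy1, hy2⟩ := h.exists_y hg
  obtain ⟨ε⟩ : Nonempty (I ≃ Fin (Nat.card I)) := ⟨Finite.equivFin I⟩
  have hr : 1 ≤ Nat.card I := by
    have : Nonempty I := ⟨i0⟩
    exact Nat.card_pos
  refine ⟨m, k, Nat.card I, hm, hk, hr, y.trans (Equiv.arrowCongr ε e0), fun x => ?_, fun τ hτ => ?_⟩
  · choose u hu using fun j => hy2 x j
    choose τ0 hτ0 using fun j => h1 (u j)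
    refine ⟨ε.symm.trans ((MulAction.toPerm x).trans ε), fun i => τ0 (x⁻¹ • ε.symm i), fun ω i => ?_⟩
    show (e0 (y (x • ω) (ε.symm i))).1 = (e0 (y ω (ε.symm (ε (x⁻¹ • ε.symm i))))).1.map _
    rw [Equiv.symm_apply_apply, ← hτ0]
    congr 2
    have h3 := hu (x⁻¹ • ε.symm i) ω
    rw [smul_inv_smul] at h3
    exact h3
  · choose t ht1 ht2 using fun i : I => h2 (τ (ε i)) (hτ _)
    obtain ⟨x, hx1, hx2⟩ := hT g hg (fun i => ⟨t i, ht1 i⟩)
    refine ⟨x, fun ω i => ?_⟩
    show (e0 (y (x • ω) (ε.symm i))).1 = (e0 (y ω (ε.symm i))).1.map _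
    have h3 := ht2 (ε.symm i) (y ω (ε.symm i))
    rw [Equiv.apply_symm_apply] at h3
    rw [← h3]
    congr 2
    apply Subtype.ext
    rw [hy1]
    have h4 := h.eq x ω (ε.symm i)
    rw [hx1] at h4
    rw [h4, inv_smul_eq_iff]
    have h5 := hx2 (ε.symm i) (y ω (ε.symm i))
    rw [hy1, smul_inv_smul] at h5
    exact h5

end Cfsg.Agent.H660.RR
end

-- part: H660/RR/Crd
section
/-!
# S3509: the components of a primitive group with a nonabelian minimal normal subgroup (helper660)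

* `Crd` : the Cartesian decomposition attached to a `G`-invariant partition of the simple factors;
* `Crd.ph` : a factor as a subgroup of the component; simple, conjugation, transitivity.
-/

set_option autoImplicit false

namespace Cfsg.Agent.H660.RR

open Subgroup MulAction Cfsg.Agent.H893 Cfsg.Agent.H893.Fac

variable {G Ω I X : Type*} [Group G] [MulAction G Ω] [MulAction G I] [MulAction G X]

/-- the decomposition attached to the partition `c` of the factors -/
structure Crd {N : Subgroup G} {m : ℕ} {T : Fin m → Subgroup G} {e : N ≃* (∀ i, T i)} (hf : Fac N m T e)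
    (c : Fin m → Fin m) (π : X → I) (ev : Ω → I → X) (jj : Fin m → I) : Prop where
  dec : Dec (G := G) π ev
  jsurj : Function.Surjective jj
  jiff : ∀ i j, jj i = jj j ↔ c i = c j
  jperm : ∀ (x : G) i, x • jj i = jj (hf.perm x i)
  eviff : ∀ i (w v : Ω), ev w (jj i) = ev v (jj i) ↔ ∃ n : N, (∀ l, c l = c i → e n l = 1) ∧ v = (n : G) • w

variable {N : Subgroup G} {m : ℕ} {T : Fin m → Subgroup G} {e : N ≃* (∀ i, T i)} {hf : Fac N m T e}
  {c : Fin m → Fin m} {π : X → I} {ev : Ω → I → X} {jj : Fin m → I}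

namespace Crd

variable (C : Crd hf c π ev jj)

include C

theorem perm_N (n : N) : hf.perm (n : G) = 1 := hf.le_ker_perm n.2

theorem smul_I (n : N) (i : I) : (n : G) • i = i := by
  obtain ⟨a, rfl⟩ := C.jsurj i
  rw [C.jperm, C.perm_N]
  rfl

theorem N_le (i : I) : N ≤ stabilizer G i := fun n hn => C.smul_I ⟨n, hn⟩ i

theorem exists_ev [Nonempty Ω] {i : I} {x : X} (hx : π x = i) : ∃ w, ev w i = x := by
  classical
  obtain ⟨w0⟩ := (inferInstance : Nonempty Ω)
  obtain ⟨w, hw⟩ := C.dec.surj (Function.update (ev w0) i x) (fun j => by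
    by_cases hj : j = i
    · subst hj
      rw [Function.update_self]
      exact hx
    · rw [Function.update_of_ne hj, C.dec.hev])
  exact ⟨w, by rw [hw, Function.update_self]⟩

/-- elements without components in the class act trivially on the fibre -/
theorem triv [Nonempty Ω] {a : Fin m} {n : N} (hn : ∀ l, c l = c a → e n l = 1) {x : X} (hx : π x = jj a) :
    (n : G) • x = x := by
  obtain ⟨w, rfl⟩ := C.exists_ev hx
  have h1 := C.dec.eq n w (jj a)
  rw [C.smul_I] at h1
  rw [← h1]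
  exact ((C.eviff a w ((n : G) • w)).2 ⟨n, hn, rfl⟩).symm

theorem congr [Nonempty Ω] {a : Fin m} {n n' : N} (hn : ∀ l, c l = c a → e n l = e n' l) {x : X} (hx : π x = jj a) :
    (n : G) • x = (n' : G) • x := by
  have h1 := C.triv (a := a) (n := n'⁻¹ * n) (fun l hl => by
    rw [map_mul, map_inv, Pi.mul_apply, Pi.inv_apply, hn l hl, inv_mul_cancel]) hx
  rw [Subgroup.coe_mul, InvMemClass.coe_inv, mul_smul, inv_smul_eq_iff] at h1
  exact h1

/-- elements of the class part are determined by the fibre -/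
theorem eq_one [FaithfulSMul G Ω] [Nonempty Ω] {a : Fin m} {n : N} (hn : ∀ l, c l ≠ c a → e n l = 1)
    (h : ∀ x, π x = jj a → (n : G) • x = x) : n = 1 := by
  apply Subtype.ext
  apply FaithfulSMul.eq_of_smul_eq_smul (α := Ω)
  intro w
  rw [OneMemClass.coe_one, one_smul]
  apply C.dec.inj
  funext i
  obtain ⟨b, rfl⟩ := C.jsurj i
  have h1 := C.dec.eq n w (jj b)
  rw [C.smul_I] at h1
  rw [h1]
  by_cases hb : c b = c a
  · apply h
    rw [C.dec.hev, C.jiff, hb]
  · exact C.triv (a := b) (fun l hl => hn l (by rw [hl]; exact hb)) (C.dec.hev w _)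

/-- the transitivity of `N` on the fibre -/
theorem tr [Nonempty Ω] (htr : ∀ w v : Ω, ∃ n : N, v = (n : G) • w) {a : Fin m} {x y : X} (hx : π x = jj a)
    (hy : π y = jj a) : ∃ n : N, (n : G) • x = y := by
  obtain ⟨w, rfl⟩ := C.exists_ev hx
  obtain ⟨v, rfl⟩ := C.exists_ev hy
  obtain ⟨n, rfl⟩ := htr w v
  refine ⟨n, ?_⟩
  have h1 := C.dec.eq n w (jj a)
  rw [C.smul_I] at h1
  exact h1.symm

end Crd

/-- the representation of `N` on the fibre -/
def rN (C : Crd hf c π ev jj) (i : I) : N →* (rho C.dec.hπ i).range :=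
  (rho C.dec.hπ i).rangeRestrict.comp (Subgroup.inclusion (C.N_le i))

/-- the representation of a factor on the fibre -/
def ph (C : Crd hf c π ev jj) (i : I) (l : Fin m) : T l →* (rho C.dec.hπ i).range :=
  (rN C i).comp (Subgroup.inclusion (hf.le l))

namespace Crd

variable (C : Crd hf c π ev jj)

include C

/-- the coordinates of an element of a factor -/
theorem e_incl (l : Fin m) (t : T l) : e (Subgroup.inclusion (hf.le l) t) = Pi.mulSingle l t := by
  have h1 : Subgroup.inclusion (hf.le l) t = e.symm (Pi.mulSingle l t) := by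
    apply Subtype.ext
    rw [hf.single]
    rfl
  rw [h1, MulEquiv.apply_symm_apply]

theorem ph_inj [FaithfulSMul G Ω] [Nonempty Ω] {a l : Fin m} (hl : c l = c a) :
    Function.Injective (ph C (jj a) l) := by
  rw [injective_iff_map_eq_one]
  intro t ht
  have h1 : Subgroup.inclusion (hf.le l) t = 1 := by
    apply C.eq_one (a := a)
    · intro k hk
      rw [C.e_incl, Pi.mulSingle_eq_of_ne]
      rintro rfl
      exact hk hl
    · intro x hx
      have h2 : (ph C (jj a) l t : Equiv.Perm {x : X // π x = jj a}) ⟨x, hx⟩ = ⟨x, hx⟩ := by rw [ht]; rfl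
      exact congrArg Subtype.val h2
  exact Subtype.ext (congrArg (fun z : N => (z : G)) h1)

/-- a factor as a subgroup of the component -/
theorem simple [FaithfulSMul G Ω] [Nonempty Ω] {a l : Fin m} (hl : c l = c a) :
    IsSimpleGroup (ph C (jj a) l).range := by
  have := hf.simple l
  exact (MulEquiv.isSimpleGroup_congr (MonoidHom.ofInjective (C.ph_inj hl))).1 this

theorem nonab [FaithfulSMul G Ω] [Nonempty Ω] {a l : Fin m} (hl : c l = c a) :
    ∃ x y : (ph C (jj a) l).range, x * y ≠ y * x := by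
  obtain ⟨x, y, hxy⟩ := hf.nonab l
  refine ⟨MonoidHom.ofInjective (C.ph_inj hl) x, MonoidHom.ofInjective (C.ph_inj hl) y, fun h => hxy ?_⟩
  rw [← map_mul, ← map_mul, (MonoidHom.ofInjective (C.ph_inj hl)).injective.eq_iff] at h
  exact h

/-- conjugation of the factors in the component -/
theorem conj_range {a l : Fin m} (x0 : stabilizer G (jj a)) :
    (ph C (jj a) (hf.perm x0 l)).range =
      ((ph C (jj a) l).range).map (MulAut.conj ((rho C.dec.hπ (jj a)).rangeRestrict x0)).toMonoidHom := by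
  have hspec := hf.perm_spec x0 l
  have hval : ∀ (k : Fin m) (t : T k) (x : {x : X // π x = jj a}),
      ((((ph C (jj a) k t : (rho C.dec.hπ (jj a)).range) : Equiv.Perm {x : X // π x = jj a}) x :
        {x : X // π x = jj a}) : X) = (t : G) • (x : X) := fun k t x => rfl
  have hconj : ∀ (s : T l) (t : T (hf.perm x0 l)), (t : G) = x0 * s * (x0 : G)⁻¹ →
      ph C (jj a) (hf.perm x0 l) t = (rho C.dec.hπ (jj a)).rangeRestrict x0 * ph C (jj a) l s *
        ((rho C.dec.hπ (jj a)).rangeRestrict x0)⁻¹ := by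
    intro s t hst
    rw [eq_mul_inv_iff_mul_eq]
    apply Subtype.ext
    ext x
    show (t : G) • (x0 : G) • (x : X) = (x0 : G) • (s : G) • (x : X)
    rw [hst, smul_smul, smul_smul]
    congr 1
    group
  apply le_antisymm
  · rintro _ ⟨t, rfl⟩
    have h1 : (t : G) ∈ (T l).map (MulAut.conj (x0 : G)).toMonoidHom := by
      rw [← hspec]; exact t.2
    obtain ⟨s, hs, hst⟩ := h1
    exact ⟨ph C (jj a) l ⟨s, hs⟩, ⟨⟨s, hs⟩, rfl⟩, (hconj ⟨s, hs⟩ t hst.symm).symm⟩
  · rintro _ ⟨_, ⟨s, rfl⟩, rfl⟩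
    have h1 : (x0 : G) * s * (x0 : G)⁻¹ ∈ T (hf.perm x0 l) := by
      rw [hspec]; exact ⟨s, s.2, rfl⟩
    exact ⟨⟨_, h1⟩, hconj s ⟨_, h1⟩ rfl⟩

omit C in
/-- from the component to the fibres -/
theorem regP_of {i : I} (h : Dec (G := G) π ev) {g : G} (hg : g ∈ stabilizer G i) (x : {x : X // π x = i})
    (hx : ∀ k : ℤ, ((rho h.hπ i ⟨g, hg⟩) ^ k) x = x → (rho h.hπ i ⟨g, hg⟩) ^ k = 1) :
    RegP g (fun x => π x = i) := by
  refine ⟨x, x.2, fun k hk y hy => ?_⟩
  have hval : ∀ z : {x : X // π x = i}, (((rho h.hπ i ⟨g, hg⟩) ^ k) z : X) = g ^ k • (z : X) := by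
    intro z
    rw [← map_zpow]
    rfl
  have h1 := hx k (Subtype.ext (by rw [hval]; exact hk))
  have h2 := hval ⟨y, hy⟩
  rw [h1] at h2
  exact h2.symm

end Crd

end Cfsg.Agent.H660.RR
end
end

-- part: H268/RX/Disp
section
set_option linter.all false
open scoped Cfsg.Agent.FastGrp

/-!
# S3509, exceptional groups: the dispatcher (helper268)

* `InK ι`  : no cover of an environment with socle `K₀` by inner-diagonal elements (given `IHx |K₀|`);
* `OutK ι` : no cover with a member which is not inner-diagonal (given `IHx |K₀|`);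
* `Kills.rc` : both give `RC K₀`; `rowX_of_model` : a row from models of the groups of a family;
* `rowX_exc` : the row of the exceptional groups from the rows of the eleven families.
-/

set_option autoImplicit false
open Cfsg

namespace Cfsg.Agent.H268.RX

open MulAction Cfsg.Agent.H106.RC Cfsg.Agent.H873.RG
open Cfsg.Agent.H327.RG (act)
open Cfsg.Agent.H28.GenF (InD)

/-- covers by elements acting as members of `D₀` are impossible -/
def InKD {K₀ : Type} [Group K₀] (D₀ : Subgroup (MulAut K₀)) : Prop :=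
  IHx (Nat.card K₀) → ∀ (G : Type) [Group G] [Finite G] (Ω : Type) [Finite Ω] [Nonempty Ω] [MulAction G Ω]
    (N : Subgroup G) (hE : Env G Ω N) (e : N ≃* K₀) (κ : Type) [Finite κ] (x : κ → G) (r : κ → ℕ), PF x r → Cov Ω x →
    (∀ i, act hE e (x i) ∈ D₀) → False

/-- covers with a member acting outside `D₀` are impossible -/
def OutKD {K₀ : Type} [Group K₀] (D₀ : Subgroup (MulAut K₀)) : Prop :=
  IHx (Nat.card K₀) → ∀ (G : Type) [Group G] [Finite G] (Ω : Type) [Finite Ω] [Nonempty Ω] [MulAction G Ω]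
    (N : Subgroup G) (hE : Env G Ω N) (e : N ≃* K₀) (κ : Type) [Finite κ] (x : κ → G) (r : κ → ℕ), PF x r → Cov Ω x →
    (∃ i, act hE e (x i) ∉ D₀) → False

/-- the inner part, for a frame `ι : K₀ →* Y` -/
abbrev InK {K₀ Y : Type} [Group K₀] [Group Y] (ι : K₀ →* Y) : Prop := InKD (InD ι)

/-- the outer part, for a frame `ι : K₀ →* Y` -/
abbrev OutK {K₀ Y : Type} [Group K₀] [Group Y] (ι : K₀ →* Y) : Prop := OutKD (InD ι)

theorem rc_of_inout {K₀ : Type} [Group K₀] [Finite K₀] (hs : IsSimpleGroup K₀) (hn : ¬ IsMulCommutative K₀)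
    {D₀ : Subgroup (MulAut K₀)} (h1 : InKD D₀) (h2 : OutKD D₀) (hIH : IHx (Nat.card K₀)) : RC K₀ := by
  refine rc_of_noCov hs hn ?_
  intro G _ _ Ω _ _ _ N hE e κ _ x r hx hcov _
  by_cases h : ∀ i, act hE e (x i) ∈ D₀
  · exact h1 hIH G Ω N hE e κ x r hx hcov h
  · push Not at h
    exact h2 hIH G Ω N hE e κ x r hx hcov h

/-- nothing outside: all automorphisms are in `D₀` -/
theorem OutKD.of_top {K₀ : Type} [Group K₀] {D₀ : Subgroup (MulAut K₀)} (h : ∀ α, α ∈ D₀) : OutKD D₀ := by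
  intro _ G _ _ Ω _ _ _ N hE e κ _ x r _ _ ⟨i, hi⟩
  exact hi (h _)

/-- a row from models -/
theorem rowX_of_model {P : ∀ (S : Type) [Group S], Prop}
    (h : ∀ (S : Type) [Group S] [Finite S], NSA S → P S → ∃ (K₀ : Type) (_ : Group K₀) (_ : Finite K₀)
      (_ : S ≃* K₀) (D₀ : Subgroup (MulAut K₀)), InKD D₀ ∧ OutKD D₀) : RowX P := by
  intro S _ _ hS hP hIH
  obtain ⟨K₀, _, _, e, D₀, h1, h2⟩ := h S hS hP
  refine RC.congr e.symm (rc_of_inout (isSimple_cgr0 e hS.simple) ?_ h1 h2 ?_)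
  · intro hc
    apply hS.ncomm
    refine ⟨⟨fun a b => ?_⟩⟩
    apply e.injective
    rw [map_mul, map_mul]
    exact hc.is_comm.comm _ _
  · rwa [← Nat.card_congr e.toEquiv]

/-- **The row of the exceptional groups.** -/
theorem rowX_exc
    (hG2 : RowX (fun S _ => Lie.IsoChevG2 S)) (hF4 : RowX (fun S _ => Lie.IsoF4 S))
    (hE6 : RowX (fun S _ => Lie.IsoChevE6 S)) (hE7 : RowX (fun S _ => Lie.IsoE7 S))
    (hE8 : RowX (fun S _ => Lie.IsoE8 S)) (h2E6 : RowX (fun S _ => Lie.Iso2E6 S))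
    (h3D4 : RowX (fun S _ => Lie.Iso3D4 S)) (hSz : RowX (fun S _ => Lie.IsoSuzuki S))
    (hRee : RowX (fun S _ => Lie.IsoRee S)) (h2F4 : RowX (fun S _ => Lie.Iso2F4 S))
    (hT : RowX (fun S _ => Lie.IsoTits S)) : RowX (fun S _ => IsExceptionalLieType S) := by
  intro S _ _ hS hP hIH
  rcases hP with h | h | h | h | h | h | h | h | h | h | h
  · exact hG2 S hS h hIH
  · exact hF4 S hS h hIH
  · exact hE6 S hS h hIH
  · exact hE7 S hS h hIH
  · exact hE8 S hS h hIH
  · exact h2E6 S hS h hIH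
  · exact h3D4 S hS h hIH
  · exact hSz S hS h hIH
  · exact hRee S hS h hIH
  · exact h2F4 S hS h hIH
  · exact hT S hS h hIH

end Cfsg.Agent.H268.RX
end

-- part: H272/RC/Cc
section
set_option linter.all false
open scoped Cfsg.Agent.FastGrp

/-!
# Closures of conjugates (helper272, for S3509)
-/

set_option autoImplicit false

namespace Cfsg.Agent.H272.RCly

open Subgroup

section closures

variable {G : Type*} [Group G]

/-- the closure of the conjugates under the elements with `P` -/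
def Cc (P : G → Prop) (w : G) : Subgroup G := closure {z | ∃ c : G, P c ∧ z = c * w * c⁻¹}

theorem mem_cc {P : G → Prop} {w c : G} (hc : P c) : c * w * c⁻¹ ∈ Cc P w := subset_closure ⟨c, hc, rfl⟩

theorem conj_cc {P : G → Prop} (hmul : ∀ a b, P a → P b → P (a * b)) {w c : G} (hc : P c) {z : G} (hz : z ∈ Cc P w) :
    c * z * c⁻¹ ∈ Cc P w := by
  unfold Cc at hz
  refine closure_induction (p := fun z _ => c * z * c⁻¹ ∈ Cc P w) ?_ ?_ ?_ ?_ hz
  · rintro _ ⟨u, hu, rfl⟩
    have e : c * (u * w * u⁻¹) * c⁻¹ = (c * u) * w * (c * u)⁻¹ := by group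
    rw [e]
    exact mem_cc (hmul _ _ hc hu)
  · simp [one_mem]
  · intro a b _ _ ha hb
    have e : c * (a * b) * c⁻¹ = (c * a * c⁻¹) * (c * b * c⁻¹) := by group
    rw [e]
    exact mul_mem ha hb
  · intro a _ ha
    have e : c * a⁻¹ * c⁻¹ = (c * a * c⁻¹)⁻¹ := by group
    rw [e]
    exact inv_mem ha

end closures

end Cfsg.Agent.H272.RCly
end

-- part: H291/RG/Ru
section
set_option linter.all false
open scoped Cfsg.Agent.FastGrp

/-!
# S3509, the row Ru (helper291)

The classes of `Ru` whose order is not a prime power (list of helper51) and, for each, a certificate that the pair of powers of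
prime order covers no transitive action: products of conjugates under the centralizer of the other member.
-/

set_option autoImplicit false
set_option maxRecDepth 100000
set_option exponentiation.threshold 5000

namespace Cfsg.Agent.H291.RG.Ru

open Cfsg Subgroup Cfsg.Agent.Lib Cfsg.Agent.Lib.BitNet Cfsg.Agent.SporadicB Cfsg.Agent.SporadicB.RuData
open Cfsg.Agent.SporadicB.RuOrder Cfsg.Agent.RuD.Data Cfsg.Agent.SporRec.TCUpperCert Cfsg.Agent.SporRec.R3.Kernel
open Cfsg.Agent.RuD.Letters Cfsg.Agent.H51.Ore.Ru Cfsg.Agent.H916.RG Cfsg.Agent.H106.RC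

/-! ### the letters as tables -/

/-- the table (16 bits for each point) of the inverse position map of a network on 4096 points -/
private noncomputable def tabN (l : List (ℕ × ℕ)) : ℕ :=
  transp 8 (pack (fun r => Nat.shiftRight (forceN (Nat.mod r 16) fun j => BitNetSimple.appMF l (idxMask 12 j))
    (Nat.mul 256 (Nat.div r 16))) 256 8 0)

/-- look up -/
private def lkN (T i : ℕ) : ℕ :=
  Nat.mod (Nat.shiftRight T (Nat.add (Nat.mul 256 (Nat.mod i 256)) (Nat.mul 16 (Nat.div i 256)))) 4096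

private theorem lkN_tabN {l : List (ℕ × ℕ)} (h : Valid l) {i : ℕ} (hi : i < 4096) (h2 : appInv l i < 4096) :
    lkN (tabN l) i = appInv l i := by
  apply Nat.eq_of_testBit_eq
  intro j
  show ((tabN l >>> (256 * (i % 256) + 16 * (i / 256))) % 2 ^ 12).testBit j = _
  rw [Nat.testBit_mod_two_pow, Nat.testBit_shiftRight]
  by_cases hj : j < 12
  · have e1 : 256 * (i % 256) + 16 * (i / 256) + j = 2 ^ 8 * (i % 256) + (16 * (i / 256) + j) := by omega
    have e2 : (0 + (16 * (i / 256) + j)) % 16 = j := by omega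
    have e3 : 256 * ((0 + (16 * (i / 256) + j)) / 16) + i % 256 = i := by omega
    have a1 : i % 256 < 2 ^ 8 := by omega
    have a2 : 16 * (i / 256) + j < 2 ^ 8 := by omega
    have e4 := testBit_pack (fun r => Nat.shiftRight (forceN (Nat.mod r 16) fun j => BitNetSimple.appMF l (idxMask 12 j))
      (Nat.mul 256 (Nat.div r 16))) (w := 256) 8 0 a2 a1
    have e5 := (testBit_transp (K := 8) _ a1 a2).trans e4
    rw [e1, decide_eq_true hj, Bool.true_and]
    refine e5.trans ?_
    show ((forceN ((0 + (16 * (i / 256) + j)) % 16) fun j => BitNetSimple.appMF l (idxMask 12 j)) >>>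
      (256 * ((0 + (16 * (i / 256) + j)) / 16))).testBit (i % 256) = _
    rw [Nat.testBit_shiftRight, e3, e2, forceN_eq, BitNetSimple.appMF_eq, testBit_appM' h, testBit_idxMask hj,
      decide_eq_true (show appInv l i < 2 ^ 12 from h2), Bool.true_and]
  · rw [decide_eq_false hj, Bool.false_and]
    exact (Nat.testBit_lt_two_pow (lt_of_lt_of_le (show appInv l i < 2 ^ 12 from h2)
      (Nat.pow_le_pow_right (by norm_num) (not_lt.1 hj)))).symm

private theorem lkN_app {l : List (ℕ × ℕ)} (h : OkNet 4060 l) {i : ℕ} (hi : i < 4060) :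
    lkN (tabN l.reverse) i = app l i ∧ app l i < 4060 := by
  have e : appInv l.reverse i = app l i := by rw [← BitNetSimple.app_reverse, List.reverse_reverse]
  have h1 := (h.lt_iff i).2 hi
  exact ⟨by rw [lkN_tabN (BitNetSimple.okNet_reverse h).valid (by omega) (by omega), e], h1⟩

/-- the tables of the letters -/
private noncomputable def tabL : List ℕ := [
  0xfff02c40f7003b0067f07360e1603d00d8d0a4e098501f30ad80cd60a6909710ffe06980270042f031b01e30d7c06cf0b9505ac06d905120ea40b900bda04ee0ffd003f0ca90b9906a8032604f607ba0e470d2a0f2309ec03a003cb0884015b0ffc00f40b8f019a05580ea608670f45029a0f780aa1018906d4074105d204280ffb07110b2701a9012d0d620931086002ca0c5b0a700c5e0a1f098804500f860ffa0cf9062506950c6500390af106ec0eb5005709250daa00d90a7b05300e6a0ff90d9b007b0efa080e0053000200910fae082e091801f20e83088a09b902ec0ff805f409540e280e2b02690f270a1b0c6e06eb002f0a85001100090eea0d010ff701300ee50f110bd90d9d041c0cbe0e620b5d01640b4f03b404a301eb06de0ff604c800d4073c0a190dd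a0fc20a6c0e610b73020109fd0bb10e86096d049b0ff505860edf06880471078806c003b5042401b303a204cb0c100cf3007505680ff40715018a06ac07c70f040e8e0360001400560ef808740ed704ae0e060efc0ff3029c04d702f5016705130727066404040a2903ca07330211049004ff0a780ff20e5b01470974095d00780f7d040204ac0f3f0f8c0636071302ea04f905ea0ff10781073400d3000809fa0a95073903740be9068a062904a70b7505d404980ff009720f8f0c9c0ecb0cda063e0d4103450b3b01ca0ba1030f01620d25000b0fef0280086803d20ebe0aaa007f0d510d880f9209320d7503a40e6e0d1706490fee08c90b2e0a5c02660f8809b20d02007301000d2700fe029203c90b540e0f0fed038109580ccd03ac09650dac0549075000300fb503560c170b620c4002790fec09390e39023c0b94009d04fd086c0a9408fa0fd00b10072c00f90db60cc90feb09010c3205c80ca804560ed40626015e06f80cce0891046d0f5e01f7050d0fea01f8099e0f8502d704810e05085304840a1200f200410f9302f206c90bc10fe9033004360de206f10980023d045707e10c3407e60830063d08b70f9903020fe80f2003df02db0c8f011005880f9c06b907980519083404250520060105210fe70d090bbd0b630a3d0b710c9d0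a6f01a5057f0cbd0d0009030e45055606b60fe601770255067c06970b43038a050105e9079d05520842097f033f06c200360fe50df708210a4b06270fa1055b0ddb00a10d5d07a509bd0aaf0ed206cd01c20fe40d810c2a0e680dc7045a027409060ce20f6105b40bc20db90dd60e2d04540fe301c40369079f03bc083f06b30d46041007cd0c7f0b98031205820afe05bf0fe200840ce907e40f68067004bb02c9008900cd0c3e0ca409830ec6094805720fe106a001d406510d330e6f065002b107e90a2e01a008920b780c5302c0040d0fe00c0105de072b08a4086e07960f0a024d07180c82015600610337037601690fdf0df50070065706d203c300d8031c0a98085a0a0007010de801d6095b0c160fde019d088d036c0720060e07a80c8a085600f70de0075c0a200a430ac008050fdd00a20da40e650e6303c707a603a5037a0e0701230731026a05230d1001b40fdc08c30d160960084f05500b720c4201b509b80e340a910b380cbf033401700686058108e50735090a016b00b40f7e03ad091e053f0a870ac70ce80db80da30c90038d0af60af001fe02050385091d09cd0b8a06c10b7a09440216043801b6053a0765052f08170bf70ed606be02a2016d05fe0969040e0aca065d0f3c03fa08b005cf011c0f6d08ae03ff06b10504029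802530c91034d003a00b00bb509df046803f4044809a602d303d5070703b3048904c00f2a0df30acc0bea024107c405170ad902e402ff06ce044a028a00bd0435047200c3080d0b2f009b02df07d5080900940cb601990491090e0a6e06b400d60b5107c00d050ad70da903000218080a09eb0d1808b50a7a073e0f840abe0bd203fc01f10b0103bd06540de10df6019f0d870c2705c503580b8407830f3506240f1e08800a5e03be0bd70cc40cf10a6702e50953032a07d40499049f0785072f0bdf01fc0e8d0cef0507036f056d0d3007b80105030e0e35016f0b6105460e1d0700074a0124035d091c0c47041405ec0a9d0d4901cc013b015c07af075503660a3004a8046a08ff06280e940a4809750108026c0608078f063b00b90392018e08fe0ed80a5d09290604039d0b060b050399005d05eb0290004e08790e140a420bd60272034202750c310eae0a47051608030d6d0ced0007069307da020a06e301e50b3f03460d1a0d56093306e20f5d082007aa0f340a0903d7025f0a320a140a6500930866047f09210cd0037d01120bf0000301780eb80a280529022a072a0321008204f502fd07780c8b00ae040a008d087d0e5f001303d9018701250b7b04960d5b0c6705f307fb05f00c2b0b3d0c180b0e00ec05a806b00aa70eee0c0701ea0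67e0f7202ee08e2071000c701060a1706a9074400ba0a33087b048a02140e0b0ceb0ef60a2a0e9f06610911045c0a640be4071d068003db01610e040bf40b290b9c0a930add0a540ea100c9010e02e209240a8108180d0e0c66050a00040fbd0f0e089607670157019209610e3f0b07014b0c6305380525025201ab046706710cd3032d06810bba04090d4f00bc040802a601d305a704a408b902c200d7093d0a790f5303bb0eff0ee306bb097e0c2402bd01730a960b6006410edc0548067d063c08b30adf0154076205d609f609360d83004a04e400ad0083047c094101e60206009e024508c400e50b9b03200aa505030f1400ea0e150051086f040b05da0eab07940bbb011f039c00670f510e4c0d3b0584088201de0288034f05d509f5080f06d7029b01e10abd082c05970c7e096b02dc053d0c9b0231027809790e4f00e30bb8013d085408a10fb30f3e0bef0c6d08f70a7608d40f520b0f0a5709d909090d2c03d30ebc0f3a05b806c6077f080605e70de701c004e50c7c01800b930d470e5603d40dc30f1b08d60f9d02be0ab3008f0a1e0748073b049d0833088e07730c790be30e6005aa0fc4041605800c0a009a03c10a9f0f300a210d6700c4097c09e203c40f1a0f480fa00a8e01940855055402c50fa40c15078908fd06180220072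204a00e2f089b0bc8028f0a8303e4031508af0d8a01f909c4034b07e80e8c083a01380293094a09cf0aab0bcb01db0c9904bf0e4206dc0ab10ed1083900be0d93062c0a7f0c720e180f2207ac0458052d0c7d0d0a0c3b02e90087005c0b330d3f0c090c73035f02440e24041b01ec0dd504870888024f0b5308ab00e7070e085908150fa700da068205ed07fa07a0078d01d80f75071a0cd4010f0f660365053708f50a2d07dc0c5f0d6305a507a208a20287021d044f005a068e08d505e4080c03f7075600dd09db00bf0b2a0a520d8009470dbc0a0404c30d3809e3070c019308d7095606f50e2608020b74098c083b0a390c9a09ee02340e25061c0f7605280b0205b00e080e19068d0c770d070fa503f608b8065a053e038e09d8055e052e076f08e109af0b3a044b0642043308380d79098e06030fd80d9f0ac902b20c4c0cff0423002902d801a20c71046e024b0c5c03e501b10bb909d00a3703980f9e0042051a0f580d9e07f901ce0071054c0560076b0aa20bd80aad0d35053902f40858063701a800cb0fac01460994052c057407ae0b1c006d0746025c0a3c007707db0fab04320ac20fad0f9809ed002e0c9604ab072402860eb70cf406fe07f20bed0a7d0352015202ad05c108100e27032c0fb8060907b60b57011e01360aac08240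77a08c50b890565026e04fa0a36074b0aef0ea20b7c0dcc077701bc0d9c0b680d8c00a6061a0a4a0f5002d50dfd0e410905091208350e210dc8005206900e5d0c800cfb072e050c0d0c0c220beb094f0f6509900e6d09de0bfd0bc905d0043b025d01ae000c02b60422084c02220d6c09c90299046f081e0f070bc403f105100a2c0d0f081905a10afc02a508370f900d6b0cd70b9d09dd06990f830b4708270dc40c1a01aa0cb1007c022b082a01210ec10d210e9c05e5088b0eb40b3108dd0da607e702090aba03fe0ddd04e2037f09590b6d0be009280341030c0ac403ef062f0c350f670223059b00db0e3a0968027102a1059f0e230612089c02f705320f1900550561031109aa012802070b5609ae029f0cb40db40587041d071905f508d90faf0edd0ae501c70533069104f005fc050e01bf037e074e0fa60f060d2d09a3022107e500bb0f5b01790d780f4108110b4b0c980db50ee1001b03ba03fd015305e1014e034e02c807b0054308810abb0b800f150ce3096a08a309d2038309a20fd3057e04af032800af00380f0005750dea0a1d0712074308310d1f0f080e4e0d1304c20fbc05590af709e708a60ed000950e5c06e6058c0d6008bc01cf0e000ede0aec08e808a504aa0cf005c70d030d8f05a3026401820b040c4601c10ef3077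60b0b0f2505470ef90abf00c2042d015101ba0449020d0ea300f6006e03c0027b02d60f47043107290ab20e810a710f160d69036800580a410c750b9707fc0cfc0cbb01e9005f02620cb80cfd0673086a0895084506a60e030ad20ece09a70cd500470eac0e8f086108a004e307df0d040a4506e80efe073f00f105af07d8034a048c0e400d740f8e0c41039a0a620b76068707820be60fbf0d1b0e320a230c2102610d730645003c0bac0a750bc30c1104c609e00248023206ca0515033c094e001a0a80062d0659027d07fe09f10c6808990f370cfa0116021b087808630c85099d008101d00e5506070bec07ec0dad058e04c1068b066c0e1f037c095c0eba0ed503ea0b3504b80d1906bd04c7031f098d0e0c0acd058b04750f1802b904b305cc06ef05730b88058d018d0c1d0b6904e10139050b0a0e011808cf03ee01c6017d0b1b0500097005d8082504dc002604eb02560ca102260bd504150f5f046908f90ba60a160e7f0fda02fe0d8609a80c7b030804a9011b02f302830bce014c03510df00e98099c0be80dfc032f05550d150bcf0d200d230442087a0fb900720cbc0d9709f40d70004304000fba0ab006bc016507b40894064f07b1016a07cf0c6f076104d207ff0c1e011d078008930dde0cb50fb10c9206060eda005b0b920eca0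5f205b902aa047a0c5400620db2010203430a63069d00980049006f0c2509630c2909140c3a01cb0063050f068506a50e22069405930885083609420c230a60046102100ab908de06da0c120d0602f90e4b05f1016e08c809e609d60df4052a0763022800210d3e00ab03610c2d076a08ba0b64047407d70348008604fc07e20aee096607ef02020d920c2802fb0ab60af50cf509e80814027709c000320a6b045f066a0ed30239000e04db0f7c0a500314089706a20bb60c1f0bb409ca07b700fb02f60a900b6e057c014a07210b7e0a440fdb0ef50f2e014408ac0c6402890cea052603330195012604f805ff048b08d2098b0841084a09da0b1502040a3b09d40109030601680ad30f4b065801fd03570d7b0cc007ea071c0f40062b0ee205a603f90dc2065202820eb903e20c4e09d3025a08650338039f0390006809c205270d4e067b05e00e3c03700b460bc0079700b602e30a4c0a590b83069c05cb01550b9a0ee40d7109670cc6075f0b9f0ef103c50edb0aea0eed0b7f07160f94030503180cb302a9099f0f950ae905d30a8d0bc70ebb0d5302170eef07bd0a1305180d90067605e3028102b803e6017c0ebd0bff06e703cc0ba40c780e1109ef08db0434006c0ebf088605340fc30e2e046c05c9009f072507a10e6b03620a3f09f20b4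c063f0bb7087102ac077d0dca097d06c30a550b2d00cc0c9500920d370987000a09fe08bd08aa0c6005bb0f380e760ce60b8608c203940a72087f0ea50c3f09150684089007ca02fa064309c802680d820263051c001d019b0f240df900160f5a0e73013e04da0bd40313038f02ab05410c0b0c8c07dd0c6a0632086d0d5e03270bb004bc082605c407bf09ce091601710669081f004600ed0da00c0806fc08500ca0027f03e100f3022c039502cb02240b4002300d0808bf0ccb0af2040100540a2b0eb10843002008040f7106aa0a530828075a077203880ee604ad05b2077c0f6b025b09970bbe0910043c019c0d7f021a062e01e007580a3400660ab5006a04ef049a02f10b960fcf025e093f084e0a9e0493075403ce0d2401f50a4d0d120e9702500eb207060cf204f40b220c430bad058907f109e40b030b000b210d7a0f9602b706f603710d5a020305bc0a990e920e380930056f0cc307ee04c9054d006501b809dc027c0ef0082f0377074900e206d6005e05ce0e59018f08770a050c810eaf0ae70a9a00ff0b7d082206c5054e0bf50a730aa306790dae0dff02120d8e0544026005fb0d91074c07080ae20f100d4a0a820dfe00dc0ddf09040ae10251008e091908e7023a08c103b10323027308a701d20a490ad1028c096e02ef0e130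7f80c8609d50f6e0ae00b1a07040c0f0daf036b0eaa058a039b0cd808a80dcd0dbe09a4061301f6007a08690e1c00d203eb01600c3c07d908ad0f0d0d610ba7085f091708f6036408ec011505940d39077e0cde0dcf062a0d7e0d76027e0aa607370f6400880dbf00170aae00060235013a036e02570adb022f080100fa0463027a01350e31069f099908890e87013704d00a6103dd028e0e750b550405089a0353099201ff05d9076d074705790f0b01910de30af800e000120be20ce40114099503aa020e0ba30def0b2b021900f50fd7079a077b0c84018300a4095e07bb04ca0e290fd20b8109fc03c60714081307c5033e09640bf300c106b505140c0e09c6075301320e8804cc01200943012b004407d00bee032900760aa80cdd0e1e0bfa060f06cc0aed05830ed90e430faa061b05b5093b078e0d720b6b054f0f2b018606890ec70267051f0b5e08f300010907096c079c05f70a510d540bdd0fb40cc50ce7068c008c02950f89085706460d6a0f2f057b01010b8b0e5407f70afb044502ed0a9700590b4a01c30b160f3b0d50017e0d9902f00a8c06e407f60e6c045109d1036a00c60d980f8d01c800a30f8a0a89009709c703e00d5902bc059d0a7c0ac3008b0cdc08fb090d0b420bae0f2108f40b70036d063502910cca015800b50b5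a055d045d0c6c09810c020e5a0f8701b709cc03490e9902eb001e0f7904fb076404d30e670c200829071e05b1092f0b52087507eb03720fcc03a906e50f4906f704cf0bf2092d0e0a02d90a5f095f03d102a806000dce060a089d0c520baf000f0cee0294032e04de0a560c360fc7063106ad0ad006b70ea00ef205ca06fb08230b2501df0f05040f050209e5063903350c7600fd028d0e7a055f09730f090b5f0705055306df047709b108120ae401040683093508b4090201720f600e01021e03820aa404b603400d950e9d0c50044c01070145096201af044e063a0b180a4f023b0ded03ae027609840bfc0db70bd3031e0d5f069a0c300111061e0b2007ab07be0a180663080b0cdf0d3208e90784026b02c606fa053c04bd02cd03190ba2065c02b307de02b4075201e70aeb04ed079104e006f407030d94043003010f69057d000d0dba08d00247098f055101330de60f8101a30b320f620f630b8c01ee02c70df802bf037502d40cba00e4094b083c02c30e7704c40a3a048002e108b606770dd208ea0b660c19095a04270c6906d802a00af909be001004200d5c035e0db30f29024606560c8305e6041a01ac09c500ac05a90fc0041108ef084906d500640908064a05450ce104550c6100900d6f099b09c10ea9064d04620459023808870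a1c0e7807ed09e10adc01fb07230c740728081b0b1906bf00c5064c04f70b580ba80bdc0c37048e0e6409b408c009b60a2f0f43042c029e0e820883042e06ff0196067506a1091f05710e580f9f0b1d00a00ace0b480531051e061405360f74081c0c140a0f0e500e72053504d807e00b37081d0e360ec0031604b00e7d048201190da708700c4f0cae03590846084b019004370a84078a093a071f09a00ce50354024c0baa0c3906200fb007b90caf0dc5060203100b340470004508620fa901b9048505d10851052b0ad6019801030a860cc20c5d0c480dd00c13013f026f041f0c51067200ef08ed079b015f07170005038c01bb001c0b3e0e490f4d00d001e20a060abc0a0307c30dd7038906960726093c0f9a07fd05bd01d104a600ce0bb3094007690b0d0e9b071b0d2806550df200990a380d3a08e3049c09820d290d36034c07ad056308d1030a04cd08520ead037908fc02e7092a0e3e0b410898091b0799003e0e9607510c6207f003c201590c4a024306050f280f3d0440078603da0a0b0cc80a0a0c70061d0f0100b703860466004f0665052406740ae602de06660b77069e097b0c9f0236078c0f44070f0c8e0b0c0ab8042608dc066007ce028b04e601310eb00d2f048f04ce0f17081a03af0ba00ba908f00c970b45059a07c2058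502fc09c3067a0a1006a401d7011304ea02840f97073201ed0578091a08470a0709260e1204170b44075901400240003406f20fc504b70f7b05cd007e07750ae305980d7d05db0f0c02e607020b490efd0fbe0c450c8905e20d480e2c0c0c073a0ad409f008b10b2c036704120c7a07450c44083d033a033b0fc90be706c40e3d031a03e90bbf0f32010c09e903bf032501d90b820c1c026d0a0105ad004802540cf605c30f56087602960cec0a0c0d96056206150dc009b706f0008502650cb209bc0acf030303a80c3d0a580bd00c2c01be0ca30e460d8b00b10e530d4b04b9083e0d580fd9012a0d3d096f046b03d80f0f0dec056c064b06330bb20eec06b808f1045b05ae00270a080c8707920afa087c047307b30c0003dc0f4606190cb00a0d0e1b0bc501da04830b5003b90c9e0795020c007d074f014d06af02370ca60c6b02ae04b5004c02e00937056a0b230d140f4c0946055c040c0caa0ec2038b0aff04f20b4d0de90610044305ab00e608d30bd106ae01a40e930406015a08a90cdb0060044d07d6035b056b0b6a0a240ccc05dc0c0d06e90e4a01760f1c04e80df10d0d0a7e0e7e01dc08b20d260040062104180be10c0305b70ac801cd07bc04f30b390da10db00d850f2c03550617043d039705570deb0f5408cc05ef05060d400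17a03a301ad0c0605960a66018801170a6a0e1002ce04a5041e09fb059e04dd035c0e4d0e9a021f09bf0742011a09bb010a0fd10f57001806d0037304e90a220e2001fa0d550ee904780ef706ed036302ba0542001f03d6014f045e087207d202a40dd90cfe0a8f006b092305f80486087e05080d1e0dee06e1030906f900a9047604b10b4e085c08080a110cac032401e403a10989047d02b5085d00150f1f0e950cb70a9b04c50d110bfb002502330a3e04be003b043e02a7010b00c003ec03b80cad0f4e0bab09780b1f020b0d640bf8032b00ca07680d7700190a260ce00184054a0b170d2b0da505660e0205d70d1c06fd0de40eb303c80d450ca507cb016c008a06160cd208cb043a002209520b670a460f8b06c706f303cf075e0d9a04f109cb0a2701660920002301b00d440cf803470a880a020acb07a40577015002d004b200fc0e9e0e890da2051b09f80cab05ee0dd30dfb0429070903a609f30be50f8204530e790208020f04390d0b00b301340b090000082b07400b79014808eb0e850d420afd05910b8509910f9b07b201f0018c0a5b0e0d05fa0b91047e0dfa0ac503e8003d090c08ca002d017b0fb601750ec30b1100350dc603ab09ac07d30d4307f50f2d067804d1060c05fd07a3058f018b00370297012f0b5b03500c1b02d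d02b0066f0fa305dd01290fb7078b030b0da807740730060d077104ba080009130ea7031d0ca7090f002a046007a909a501970f7308bb02cc0de509860f3300e8051106cb01a10ba50d890ee80630068f085e0c5703de02290ecc0bde054b02e80d520fc105ba07660a77072d0494049e0387012c03fb064e04790c4b0b0a086409490993033102c10c2f06d30d650c2e0c8d02150bbc06db07a7065e0d570d4d0a3102580b5906ab0e5e0b0807d10e0e0a92024e089e08da004d0cc70444081605a203220ab40b8d037b0934066d0e2a0d3c09ad095002d1094d038406b2047b09f708df03170dd80e4801bd0638049706230f9108f8094500500447046500280eb60bfe0495059005a002bb0e1703cd01a6076e0f120a40014209b500aa02af0452073d05760031009602a300b20c9306530f4f0bf60b6f00a704a2093805e8010d0c560668094c092b039300b80dd40ec90c58095705f90bc606e006ba0f7f0e330e8000d504920b3002420e1a01ef03ed042b0ec80b6c0cd9024900330fd60540021c03800f31086b099a09ff0ddc00df06620e900779051d0181042a0fcd0fbb0d4c02da05950f7a089f0ac1088f09ba02850e090e7b03b60ef40e3b039603910cb90b1e076c082d0cc108ce0f36084d0b1207cc0e8b048806670c4d0e6600d10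78707c80d6807f403070d6e019e0c49021300800522056703f20a6d0af3090b097a0b1301410bca0a1a06400e740a8a0b1406ea09a9055a079e06a304fe023e03e30e700fcb00690cf7017f022d09960b24012e00c80aa00efb050504210e510fa203f30e5703f805700d3101dd03f504ec044109760dab01c9033603a707e30f4a0e8a0ae80e520f3900ee01a7056e08be074d012205c001430b650a8b075b03f0012707b50b5c05c60d1d0ac60d660dc905920ad50bf905b60ade09a104d90cd10a680fc60b870f6c0a2506340d3406470738076004d60900092200eb00e10304069b04190955043f07930ea8093e0f42013c022504b405b300240fa80b3605a40e37033d00a8056906c80f26057a009c0844041307570f020807069207c10d22002c092c00f008e0075d0ab70dbb061f06440bdb0fd40f030f5c08c60fca044608cd0e300e7c0c5a0a150ee703b70c260bcc05be0fd5092709ab0c0401c5092e00a50e8402f8039e01b2037800790f1d03390951022e07700ccf0d2e0ec4079002270ecf0bf106a706dd0db107c90ec508400464060b09d70c9402d20c050f130ca202590bcd04a101f4098a033200cf084808e40dbd0a74048d08320a350d8405c20fc8066b085b09ea04d504070fce0e710aa900de0a5a0e4406110e690f800ada0dd101490af408c709980509059c09b30f6f0977066e02cf08d807f3030d0185035a07c6070a05990a9c0c330174064803e70ecd0f5509b00dc10200053b0873024a0dcb070b002b08ee065f03b20b280f590fb2023f004b065b08f200e90c88088c09f903440c5900f80ee004d40b3c0eeb0f6a04df01e808e60f770c5505f6016305640b9e029d04e70c38007405df070d062206d1015d0e910b8e01d5040306ee0b26,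
  0xfff005907d007e909ff0b9806fe045a098a0baf0e49064d01290e600a2906620ffe0888009f0e6c02a80b8d0eea054e04e5080f0d7b09a508c302fe08f70cee0ffd0a600147067d0c530c1d06860960080203f90d0d021308e10b3d06950cbd0ffc01230f5d0fa40568017f04720db0058d0ddf0456033206fa0eb9023404170ffb05e500970a6200910c3d076c042a0330092903730b8402b80f5f0b600f830ffa0b8b0d450be1051905640f0e0b300d8c02a90fb30ab50eb30dbe05280ebd0ff90d300069006306530e4b00fc012d036a00bc07130ab10dc803dc0eaa015a0ff806880e3902f60842050504f807e008b0083903cb0eb00677092e063a0a8c0ff709660e44018f094103e703a507b0059e07b507890e250b0805360009055e0ff6060702d007ec070408ce02a509a902d20dd207360fdb0bb401f009d90e3b0ff5094b032606d10cc903ab0bd5001d03e406f50fbb045d01cf04b0033604210ff40146016d03b40ba303330c010a5a0d84032a0cf505850e8b036e05f105dd0ff3097e0c6a0c4c0f3107d702620da002fb06d0074c039c0efd05480e50046f0ff20e3e0f9a072008450ccc0bd90e6b00dc03450d9b03f3097b057b08b80b650ff10e26016201880f0405c60c4b04d10b69061f0d6605cf0f3b0cbb0a350a4a0f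f0081908ff0e66069805780dab009806370cce00b10c890c7b05700bdb01f30fef0d090414092407ce0e1a08a5087e0977089507ae07ac0c00007f0a2503600fee03e50aa105a50eab01c90ec505d009220904048a0a5c0fd0017b0cbc03df0fed036705e609cf0dfb0e1205fd0dea03ae06cf08850f7e0d7e0b5a07550f770fec08bf0048094e0b850d040b1301a304ab0018058808eb055a093509070ed70feb05b803510dbc00a80d9800870a6f000306b80a480ca50a75071402f80f290fea0d5803dd0f74016709210390005c0f5009e6060f0c540a3b02630d9d0f140fe9093906780c5b0b0a065e080807eb01db0f4500640b10081b054404120fce0fe80f0f0c0f0e060c590e8902230d220175097c05f50ea40e1002b50b3e047d0fe704d20dff0ade08d50a8800d804e902930b06075b030e0d7f0fb9037c07280fe605860bb30b2c021706e9012a03b60a510af806aa0ec20c4e09820ae702300fe5060507f20faa01ae00f1074705320e95075d0993016e030d0a7905170b6d0fe40f6106b50d76026504a40da70ef10b730d1f07970d5f08660b250b5708230fe30e720236031d0da20b09049000380f4d02b703ad06bc01fe0279011d09670fe200b606fb06f600c0002006e6000708b9057a0eb6072900f4018600240d6e0fe10dc2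0d070f6009c20d12022208c10db8061d0a20008e0e0906a80d7d0d500fe003c0059f09f10913054104af0fad0c2f0fd20efa0e0c08a2097a062c0c760fdf0afd007c0d3607c5072a0e220fbe05ea08500d34046b056e07f403be0dbb0fde07d307bb0b95098e042b00610253011105b108a30681022c0e5a0dfd01b10fdd0d5b02390be30ecc0a9605e0062906500c52084f017e0a44096f0fd5024f0fdc0a46010908c209830c21071202bb0fda06d3052505770e080ab90d14049a088b03b503a30c8e0cf80aa50d6408030e30082d043905f00e5e01f40e8009a70c220c160e140b400cbe002f08270dd30abd01480fa802000d2c096509840a450c0c00e40e2f0a8707c20f98004f053a011306840f910bc20b8a0f050d110b2a0807041c038f09110f070023091907610b8200060bf603290dbf0f850377078b082e091409d301a50bc0015d0e9d002a0c4902cd05ce027a0cc70bf308ca09f009960eac0a5b02bc024706830d9105db09cd03680f2e07e40bc90a7800140105056b02d6005d0c8f012f00780ad604dc0dd104f3072507b6060009fb021c0c5607bd07b70e1f06030d530a1304b8059309b200570406078f0465068b0db10628020303fa0b4109f80a5008be03f002a20a020df70fa70a050114088205820032095c05c4080d02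b409ee069a095b0595082b046708b202560dc601bb03ef00cd097d05c208140e43089401d8054c0f820f7d056a095d072e0a7001530d88094c09e803ce0e8f05910af1065c04950ac20b52086400860cfb0ae408e60cc5075705e2009d0ea00ccf0b4e02c2018b0ea60a49057109f704cf0b26054b01be0510043400f0044b00d007be03e603af059006d906550a2f0adf0ae00c61083c0764053803cd06ea00b907c60e2b01c00c8a0c730fd6020402af04ed01ee0d820c0b0f5706ec054a0a9a0db4071d09b40c1b0b3f09160a360eca0a6d00f602260d6303f10efe071c05240cda0cc30a1b0b6305610cdd0350095f0fc90b01081a07b801e504240c0503150f5406da00cc0d710a7d0033063c069008700ee90b3a04450205013f00fb03f4038e0794035d0aaf0c840af70c310b0d0f240bcd03e10d5d0b2205a909a3023b01fa099f0f7a070a05350f9f0ab30c940f200d8600f808d4089206c6093b0a240cef001e086a0c7d0968070f02bd0c4f0bc3059d074606e50da10c640fb1010e0c9a0d190c7702a7039e07f10f950b7b03fb04cb09a80eaf0d130b4b021e072c019207f70664029c02d404f70f2708f0014c02120fa209ca05ad08e30f7102e30a8e0df00c360d17063e06300703047009f60962054d079c0e1e015b01cb0d3d0938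034b01dd0d29070b03b10d8008ec07cb01fc06b204860da60acd06850d7401580846088402310e1d0b71081c0e0e027c01ef09a405550d3f090c0f970df30cc1092b0af30b920e4a050c00820afb0cb1031e0d4700e90d0008e00e2300b201ac0ca90e960dc1047e0491067f0d560c98063f06a40fbf0e64041f0df90d8a02f206ac08fd07fb013e09330b8107520b720d3209ec0ec809e50a420a330d9f07f3058b0caf002d0bb80f43079606eb0d68084b0f7c09b303740ea101ce040f0f700341058a01c206db04d806d5052c061b0c8b02e5053f00e6024c019a06d70d200cc003d9066a0e9f05f60db20d7c012801300cf20a3c0c65081802370c1e0fa50d16030501f502c1026406e3079d0fc203280d2d09d504b90e8a01d90ec00e700ceb0a5f08ea0cdc02ee0ebc0a2a0f120f5205d40530078804eb04cc07600e350717026e055c04a20d240649027d058f0a3f0e670c23099d0af00318029a065609580f1e00e1020609440a04083d0b29043d0515078e09de0e5207c1034807680177057c0c700f0b05f708bb05a200ba07980eff0008072707a004640dce01740d0301b40a3204990150007a0d810df6059a0898091c048b02aa09750458077207c70e3109b007010fd302330d6a037b01c40c90040c0d4f083602e20fb70b110d5e0d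0c08c7068e0a91078204ca0f1d0e7f09b60f2b0a170a4c019100a20bca0cfc0863086c033402f30ae10c9100220ef201b30a1d0e470ed4073a08000e990d350b070b180f3700470b9403b702f4069f0d520c60068002e409db05ab0287040d0cc601cc0d770b6f0cd40c2c0696086f0c32081702190cd30b4304fc043701bc00f7060b03e304c1096a0a5407e1041108da0cea0876059b0df50dd902ad03040deb0bd1021b08c606a20395043003b3055600ee0a610254043b06700b140ccd085e06a7043805800413036b08540f67038c0ed10cba025c087908a80c1801da075f042f00fa0b4a0fd70c6e010a0a0b0110034c05540ac70f2306bf0f33099c01a408dc001003f705c001700b27027b041a0f16084405cb0d42047300db009508250ad20f110d9c059c0d8f0e4506180ef301b8093f0b7a0f75031407430e170d0804a3052b0e420974011e0bbf03b901bf0f460d8b036309310df200ab0ac109ba04c7006002a10925004608290f260a9704420bb20b770b0c000c0df102810fcd0f0d03e002e107b102890c3b07bf004902760a41066d05ae045f027303d10d1c0ed50a0d07240fba05620d2f046600da035307510e110d2e074b02d90f0c07e708350c82007d0c290a0c033f08770a5e08a1013601220da502fc0f06022506750687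031f0387038b08bd04f1050802b904fe05c80edc0c870d9a02c60d2604a50522036407d6050f0f8f0c380acb0bd80f3f02920475029909340daa018a06fd0b1f0f940e1b077b0b4d00f90f4b071604ce00ff037806cb05b40cb80c20053b0f220ec6004b000a01fb04160fd9043c05ca049807ad065a0e810d3e0aeb07c804fd02d706a0054507630e610d2a092d062d0a6e07e50b4c0ebf08b60a3107d409f40fcf0d8308400a1a02b10ee203de051b00110a9003120cdb00c90ddc0a7b0ace032207aa012c01df0663030308730e18087802860e0f088f0b3c002b026a08e4076a01820e34085902c90cb0072f0d1d00360382090309df08a902750f490344026906e10cf30e870f3a019906240998030b089706ab05140dc30ecb073c02680b62083703c10c9d05bd0fc302de056d085a03ac0fd10cf4098f0045038101f1004106520493061509f508a0089600f30ac00d5a03ed06ae015c090e01780d4d01310d050d700de500540c920aba0c8d023e05da0c3907fc06c305af0f5e06040c740d3701a70058000b0e2a0be80a2203db04470dee0e8e088e00f20d730e0305bb0ab6056c0fa905870e3c0d790a1c064f09aa09200f8e0e770446017d02ef0b000380054f0497024101d60b8805470108074d0487062104770619040a07ca0f9e0b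99062706170e410f3d0e050a270bd00dcf079f0bc409bd071f0be902cf06c50d33087b0aef09090eeb04490c5d07370c63067400e801260aac09ce064a0d6206d208aa02a30d4e0c780210009b008506a60e3d0e33034d064c0359036f05370bf80f6d00c6035b007e05d80caa08990d490f620ba203fd0daf0a640c6f0d2b05cc0b5008d10afc05ec0990080e011c0a550aa80a1901a1082808b1082a0eef0b9a002609230f530a760db30bfb065d075406f40da80b900101051604480aab0379016a07c30cec0a57003100de03d0071b0cf60e010fcc02f104960408042e0b970eb508f109690af501e404c002290ee005d30b790e36083a05aa0201027007b40851034f0a2b0dda026f0749050407910d06032f001b0ac601d20d670db70bc70b56064600df039203a007f50ef900ef013805f30c85081f083e0e5f01a601ba0a2e095002320dfc0a4b0e370dc90bf50fa1014209dd0dc706a10c1f0c460bdf0cd8081100fe0dba076b0636069d0f81024906d807260a9807ff0b380a060c0e0cde0f03043a097007d90b67076e0f130aa90ca30c720d94047b013d08530e210e7b0c13052d05510c0609c407100cd608040c330e54045e02910a9c082407000fa3037105830645042d045b037a043600d90fa6044001ca0c10062506920e6e0602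0b0309fd0b24037d056905a60d2501630b55007103b2047a0b7e054906a50354061e08010c420bcc04550a4d0eee0244079b077e06420c480aa00116074e0aa60c6803a6091b032506060d9302600a2303490b0f0dd409320cfa01120bef0e190ea908e90be00f9006820f8b06a9098b05a3072d08910efc0f15030f00bb0bd603720857023c0b6b01fd0e760f58002e0cf90a9e0c4109da0352007402d100ed0d87001c0f1f0ca6072307710ad006e40397009e0fc60b9e00c700b3019008f502cc033e09d608b30c6b04100cff0edd0d0b02fa013b071e02b60d0e03d20bc6036d02450ee7091e05b602b3005606c907db028a0f32088308d601c70e1600cf0613015706e0028d0e9c0ecd00670ca40949088607730d6501d50f7602ce00b807c00bea0959094309a60bf709c50e5c0b2b0ede019b05f204070f8c076f05b504c80fb405a70bf9056603f50fc101f800e502f7074807cd0add0118043e0dae09bf0e820be600bd090f0c3f04830ebe0dd702ac0c6d09760016020d0cac03aa06b1051d04c6077a001207850cc808fb031b040304800afa05d906ba0a9d009c03ca09e100ea0df8073e00ce0c7f004c09fe0c9f0f550c7a00420b37039f06bd066104b404010e7d0beb0070096e0c7e07180a1508a7014005be04d408bc090209170c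c202ca0d430f3401d30a1e0b2f0dd6025f0b61090002b00ab80e0b0be70f28010c08650ef507f80bec0492052307e600920404091806dd0a4301ea0776073103b80079067c076d0bf40d380eb70821009a075a0c3e083f018c00a50e02096109a2086e014e06100e5904530ea205d109eb0f5a0bde08410066024a0ec909150992084c07450ca2097208600ecf06e8095307d5008c0c2a098c03980dd0087d09c908e8033a060d0647052008060396079e069700a70a34033d0fc70e13079a0589014f02d80e2d0423078c0e320ea30c280ad50b16019d0eba0b4f012000ec00d60df4038303a803660a1008800ad80a9f09300f65098601f70a77094f0d400c97057e0c750ea500960e7400890672098908300e68018d0248066f0f9c009403a400880bb50b8f0f2509ef006b0fd80f69044a0f9b067a0ba504b300af0edf0a8604da036c06c000c80f6c0a120ac80b31029606be0ad40fc8071a06e20b96042c00e701410cfe04bd044e056f02160fbc0912093d00550f170b7c0fae05b207fe0f5b0af904e202dd0aa4043f0dc004a60639007b091a0ced020a09c30b5d014a0b640ec101350144077f04e00bc105720ea70dcc02eb03bf0de905f401a9073f07860af607b30f18096d051e0b210ec706f30b1b0106031c0b930b740a5204430611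025b03d8082c0f6b049f06f1053d0f4004fa00d1005a0cb6051106f90742069b015f0f6406f2010b011f04a909e9029404c206d60a1f01610f720654014505d701170302019f0c5702db0eb10bac0a6602ff008d003004760e9306af035e05c1066908690b7f03bc01ab05e80a8a0779064006ce04540f51077509510f2c05a40dfe0dbd0b470be201d40a0907a90fbd0f2a0a69021d017902e0081e06c402ed08ba01690073082000c503ec060e089b020c09010b1a0f4a0f93015606310b68083307a60adc0831033b01e20b5f030a01270715061c01c5078404f90666064b0f100479049e05070e580b420cae05980c710b2e08d80d010342058c0e550e9b09990cb400d50ef702f50abc07b904f2047c0616088c05c90b12056707050abb0f4e026b0bbe0cb9024e0b3600c408f60ba402da0f0009a1057607dd02c4044f050906c106670ad90a470ad30ab40e71092c09ae0d280cdf08b501e60bbd0ae30dcb04740c30075e0e0a0790010f0a5d079909ab0881085b0a6c037f05fb09790ad70fb009ed0f0101a20fab0bba0eb4027f061403c50ca1025104e107ea08620a56016400a10c4505c303cf064809c603d301840ec30c510769018e0c8605e905e708cf0744021a09630ce006bb05b90bae0e780d440a810e940ac408750fa00ddb0e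040bcb00b00218029d0d690e4801340ee404250ce30a5905740efb0107099b020f01e708ad0c7902c30cbf0a74055202bf0c0805ef00f5040b0887088d0b1d04d5006f085608470a110cf704bf09c0031006f0094607ed015e0fcb068904f50c8005de0cad0b540ce10c9906910e5b0e570d900bce0394086108db028007930cd201bd0c430dad02460393036500eb0f3c00ad027706ca08ee02020947082201810de6055007ee0195008f0d600dec0557029f06940e4c0b5b0d0a0d7205d20bbc0d4a05ee01600bfd08cc06c804d606b70c9609970560070c0f73066b0084078a024b0c2e088a0faf0de70469084d04b10290089c077702d3045208f3099a05fa04e70dc40e2e00aa073300e00e460bb90da40d590d020660080507e20eed05130f2f0ece01f20bad0c5f0dfa032d0f6e08580ca701970ac30bee074a091f000e0f4f01cd01870b9d07b202dc073403e2095a08c00f680ea8050300dd096404050bd4083801af089f02cb0c5c09ea02090ee1026d0766006d03f8040e0028097f09bb09f90dc50b830594017200cb000d0957039902e80c020166001f0f440d7a04000f0a013302c702520ed309270539072108a60ae2071101ed0a3e011a093a0d180848034a0c5a0bd205650ab70e2c069e0e2406ef06680719052f0b590a990679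078d07320cf10ef40c3a095e09950bf208af05b0025a0bb00a890b020e970308083b0e9809c10c500a6b020b061a045c08f4099e04ea0c040b580f84059603a1070701390cb20f30080b060c016c058407650f0207830cb70cfd073b063201de0fb20b5107ef013c0b5e001305d608df04600bed0e92003703880f470730065b03d40c9e09e7038504e809800c400e6a03ea0527046a051a052e06ad080c0433028f0bd305180029059903240250003c0a0f0ddd094802ae0a72015100d306cc06dc03eb047f063d08ed04be0a4e0a580acc03ff046102c00bf10f6a0a370e690fc0015201030c34055f062e09cc069c0910073503690c1a0a650376082607dc0ded00d70f1a067e05fe08550936086705c5057f073903c30da905c70d550b530b89048c0d9701b00d8e07d10d6b0a830d100ed0000f0435012502710b8c08a4048e041508d00f5905df00c301e30b66085f053103e903e801a005e10bb107f0019e041d0f7b01850cd70c250c260d39089d002708740b4607590459008b055b0f7f0e3a041b079205ba0f350a7e008008100cd0082f015906a30bfe0d9603cc014902a406b00ada06b40e2000050d54005002ea03c6016f022e09dc0a14022d0575094a06b60b1c0468017a00650a940cb30de00e070c44019600680bb60357048107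a30b8605eb048d030c06220aca08c40a1609b70ac9070609fa0c5509870f1c03bd0ae50cd90d2701980c95053404bc093e0d6d062f0ce406f7096b0722093c07f90fb60285005f027803da012407cf090b087f0d9505a1032b000103c70dca01dc089301b205020f3801890db601e901c60658005e00b50d230d1506710431012b05530243050a0eda0baa0d3b00a404630d4b0313038d0ef803a9006a0b8e0ae90d6f05920787069304ee04e30211066c022405b70de30b04047808d9058e0ebb08ae06990a6308e50a9300430257065f07da0b6e064100e206440a710ac5001708fc0cb50ce604f003fe02f0060a05bc00c10f360c58040203f60740078000830d4c0a210b80067b02c801c10b1509b10ae600b705000c8800c2076701d707500090025506230aad0bfc0391095402ec0ae8029e0be501320a9b07a10422023f04510c7c05ed011505dc03620484000209730adb07ba09fc04de0f800e79077d028c0e63051f0aa704ec01c307a404b209940eec0b6c0e8808fe035c09be06e7052905a8026706c201760a260a2802ba0d610b750b6a039b02fd0d57030003bb0d7505fc044407080fc4048f04dd003b07780c4d052a0c9c0e4f0b3907ab07f6051c0ef60ee306090fd4032e026c03890c4a0d41094208f90c5e0e91022006f80301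087200440d3c0597081206c70e6d0a7a0da30240053c0ca00de104e601e80c6208b403d60d890fc50a950ba602b2022a0601022b0b3507d80272032c0e830f6604820ee80358074100a300530e29004d07560ce70dcd03460c14023d08340b0e01430a30000003470c170ed808f806ee0579037002e9091d046d0e860b23092f08710173096c0a3d064e05010c09054008ac0307032107e80a850e3808c80b4502610100086802e60d9901a8077c05b305e30227035f017c03fc089e08f2035a0ce90e3f0753054309bc08e708c907c40a920991046c053e06df0795090a0ce50c660acf00bf022105d5092a0e620d3107cc03310c8104fb02ab09f300a000fd00400a0a068d02e70c350b2800ac0db90633049d00a90c2b0634008107fa0aae0e5d02df006e0a0302660ba0023a0e51032303ee0bdc08b707a8049c0ba70f4200760762073d019403c805ff0a680e1c03390f870f7804cd08130635084e0d920ef00075049b04ac0c8c09260b2d05060e65085d04a109050f390928039a0aa2012e09780a8208fa0ab00f920a2d02f904b702be06ed09d1085c0f1904b604f60f560a7f0c3c01c80f09048501ff002c044c016b025809cb0ee508c504ef0a8f0419068f0015073806570940014b0fb50dde089a04aa0ed60c9b09f205bf046e04d909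060c270e7300350f8a0edb0e7c0a080f7905a008160ba109b50bab01b9098104c502a000ae0457009909d808dd0f3e08ef087a09d70ed20f990d1b0f410dd8024d0f2d0b870573090806b90db5025d0aaa028e0a070e9e09d0035604d3012102150a000b9c0a6a0a3808d70bd70f63019c075c04290a840a7c04180b760b19066e0c2d0c690450087c03a203ba06510dd5070900210335016504940b490154028803f20ab20a6703c909560a8d03b0031905460bdd02d507af0e0d006c08cb00520f9d04db0a4f0b9b0c110e4d0d5103c2037e0a400ccb05ac0e840c0a04090375014d058104c3081d0bc50bfa03550aed09c808d2004e00190ec4055d09450f88033800d40ead0aea0ba904c4090d010d0242080a04d7011b0e750955074f05cd04710a7309c702820b200119050b044d09d203060432022f07d2005101aa070e020e04c90643033c048909e4003900a60aa30b320b1e0c6c042707df0c37038a0c1501d0088906380d2106120bda044104a7003a0072005b028b0fca00340cf00abe041e07a504bb083202a60971003f07de0a530ba807020809039d06260b5c05f904260b780b3305420b480171015502280d1e04ba0de801b60d9e00250a1806fc0bff01e00c120be40c24089001b704df02c50a8000e30c930ce80f8602380af2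0c19086d0b17021404e40665028405330b440e56063b0f5c086b0f2101ec01020ce201d1031a095204620e850c8304a0050d04f404b5084308d301b50183021f0c670e6f00ca0a390a0e0a8b0e9a0ad107580eb2034e06d40b0b00d206ff02740b3b09e3007700930b340d6c0d780c1c04ff0fac0b9f0ee60937084a03d70e2801800a3a0dac0a2c06cd04d008de03270320072b0aee0e8d0bc8010407a209e002350def0b910c070311077005120b70030908e20420004a0ca80abf06590d3a008a01eb060803c40d460fb802080aec0af409ac0d5c00b4016809a00afe07a704ad055905210f480cab01ad05e4025900040f89068a0d8d0e4e03a7062a07810eae0e7a05630558068c0297094d077408cd062b028308ab0e270e7e03430e1509af0e8c09b809e201f607e305f8048809d40d850bb70f9607c90bbb0295001a070d019306200f8d09880526003d025e0f080e530d0f0bf00316003e0ed906760d1a0f1b06de0e4001f90e900de40361038406b3029804a8050e04ae0b7d0eb807fd034006730849027e0b050c030cca042801e10e000062029b0bcf09ad00be0386013a0d4808150cc408520aff07bc03370a010cd50cd1098d02070c0d0c470985013703d5057d0f4c031709b90f6f0de2,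
  0xfff08bc011b09790d200b560b5c0dc0023c090505a90d78010c0a9a01e505370ffe00c80da7037a070f0c5d0b7a01af016b049201090ddd03000d4c0d1b0f3f0ffd089f0150028d0ea00cc9019f0d2502860d0e0b0b01540ce000e800c40e310ffc0a3403bc0201000203ce0e9507800fa4028e048f0c180ca50af70a2b05da0ffb05f0069504040a7f0617062706ce0b6c034208560ade03fb033f03700fc70ffa0b3b0b760b270b96024106e509ab0b180d7f06f10d940eb30aec0a5c04d60ff9070d0e2c06f004200790055807120a68065604250f21067903b6096f0e240ff80b530aab0f4b0ba00b3507cf0b030a7700a306400e3a0cc102730d5002a20ff701bc09010f100cc802fc084307b0094a0b94095a06480e8e055207b20f930ff6085f07ea0f5f0b70017507df0a86091306f6019a0fd305ae08100ecc05240ff50b3d0ed702ac011e0d040f900dca04a8051501120a530f040ef303a90bb20ff40099021b026303590c1003b40f1b036a0f9508b60ec60edf00f10af201760ff302f50ba4029c006a041e09cb004001a9061b0bdb0bb600ed09830ca0002e0ff20db9045d05f105cc01f400b50831055e04ee0072008a0726020f046009c30ff109cc05c2088c0b490d5d0b2b0d6f0a2105fa0cf2057a085c0dad001802f40f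f009090c860cf007020046047a036503b70cf90efb026f085d0c4707ba09ae0fef076007920c700d9a05c6056c0c960e2d076d094e032209c202df0b5202e50fee0e20055705300fa30ec305e7015601cd008702b906f206bf0a480eed00af0fed01ee02b503c4036f0177044f04d20124027f0833012008180c00043503f30fec0554055a0d8d0b5d02fa02c303ab0c510609073d0e3405a00fb601ec03260feb0ee5077a0be2086108b905380382080f056109af096307840ae40e2502a80fea0462051c0964063d098c0658055b0df604000641064206de012709730f9a0fe902390abf071d09250a8a0dd10a100c460383083a0c1c02d7022a0e780e360fe80b2f0de80e880be8085508a70b5b0bbd064f0166075309180e900d6e02fd0fe70a9b06b90fb103b201d4000d0e6b0b60059209ee076c0b150c6d0a45027a0fe609650c770c9f01cc089c0e7e035804b9081604a307000f7709880146084e0fe50eeb009a0f7909310a5f08530b51047209fa0ae10535093d00ef01ff09ba0fe404cf0da906470eae02eb0179056d07ad0d1f0dd802d80e5b0b210d880f890fe3066c0dc106120b8f0ada0735021000df06e30d1d0d8e03e303710f490e790fe20cc60cc707460ceb0d710e38004b08540d0c05a60ddc049008740b0607090fe10757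0b7102520a6e05e5042908c7049c09510e4e07a00a4f074201e10d760fe000590cb203fd08a504cd0b3205a10935037c06ba0d0204b400770c140f300fdf03f4051b0c230f8e024b013e04df09f60d95054008df03df02ef0d3807e30fde0605010e0787008004fb0e510dd50a7003ea083b05410f7c0c1a0e0b074e0fdd017204fe0a5e08900cbc0d830a1d042f083e0043096b00450c790aae009e0fdc0a8b04e207210c8b09a209dc0f010f180a010b1009a90f2f0ec5005009ce0cd1007d06d506b305f30b9506ad0a6707db0b3408a201030baf0966095209a707140a510d24037904970ae30a6208b00b9b088800fc0d7c06440c26098a0ecd0180030903d7096807440e1501a10d010bd00e84052e000a0e10043f0bc30b2a091d0f5c05e4097b065c033d00320620000e001e006c06140a5404e40dc60c7a081d0df50f4306540e3b0f550ac50e110a900942041d037f0dd903e900390dd40d3a0ac10f730a7108600893057602b00c4000a1083600fa0f200f630e6e008b0da6008208de0b20058505b60d330c3a0a600ddb0e01002607030c2a0ea4078e09b70bc500d70d5502900e60038f073b0a15082a0b300f64082b09a60ae7048404f6020801250fa50501016f04060b860981052b00c00e65044006150b6701020f7e0649052d02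710e0909ac0e3c0f7a069d0d970d7708ed0544059803ac0906094f0b5709e90fdb0f120b840b4503840d2f0842016e075003d104a00162039e031a02480c66069707d908ab0e0a06ca007c04610424099c0d3b0653016c03c900ce0b590dcf0c0f0183090f060f011a09f80f58060a0ee402ba02cf0cb00948043a0ece0eac01b10a7a081400dc08c40d3508fb0d5f0c5b0afc0abd0dc70fcf044e00da0dcd03bb032b019b00c20fab07cd0a6900050ae00e820f1307ee0ea8077601f60b7d0ab00f05052f0ef10896003b0ec20bf207930f7b01a20be6018403a2023f0e7705bc04390e5709f308b70a240aa80094067705210f6a084f097d061d01c508f50c2d0e980d310aa60c27091608d00b1d087f090a091707110238058601890b5e0afd0b130ac20cc30630005f0d5a08460d5800d00602066d0d900fc80f560db00bf708470d690b7e02290caa0ac00f680c6c03b90f2c078d0efe00fb08a801ce0de208be0c5c07a308e1044c03180b7904c7008f003a03890e7f088d04f401d80ee20c170d2a0d4908c60b6a059b0aef0a320889091f001a0f0d051f02dc028f00950ed409d7065100120a3a04a10cb10c1306c305270eca07a20160086f04a90e2900600b0c045608ce0d180aaf05c4061f0ced049d059401fd05ba0aee082f09c901d9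01a500f2050f043e03c50d3f0d4d0caf09ec09aa038b0a9806cc07a6045e00b00ac903ef042604450ead0df101b40e810e140c1509cd0a4d09a10de303f80f470ed60500040803a80428067b0c610c8900b60c2f00c1020300a508ff00b2053406c8052808c00c590ba6015e028b03aa02c00c3105d30c920ebf07310b0706780de90f190d2103b003ee032703880f3200890f390732074f07290e450d9f0f4609bc04be0bc70d7a0221097209be0b4403620c500b280ea30ebd062109b207e802ce044d036b053a0477064b00370a260872036004230751017e0a410add0e7601320abe0eff0fb50e640ccb05230dfc073e0ef7036d0b830abb0c9508210d3e0ebb01690374089408840e4004730ccd0e5c06870b5f0b480c4b011009390f82029a00e507b501f005e00fc308b2091c03cf0e690940014b03240ef207860da1071a023a0aeb070a0de7060007e603c805ee0e620b65095400270f290fa702770d920b3c020007ab00000a020301078b012d01b80b4c05780bb00c0c09530038047d0fd408cb01000b85052c063c07f004430b08097802ec0faa0db60c8a04f30b8a0e3005f4015c0c6a0ad504b602f90c99080302c107bc0c58089206610924070c0d8a043008ba038c0d410971087d0ded039309f20923074d0d4f053f0d590c6f0d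ac0f810a2c0d8b011c03e009f40e1704c2025c0d4003fa096c014f00a7059a02b2051e095b0cdb0f750684017f066203960d0d0d7d0ca704810de000f5066e0cbd04ba01f70d07076902880be709b30a500cc00ce70255061c05c50539040304190ca10d23018804ac0969002a0e040cce04270a0b00410dc801cf0eb70ccc0c8d08da08f700ad0a04084b07bf08d605640bc20921075e0d9c03c303db06c405eb0533075d004401190b250563019008fe00ee020e0be40479097a046b01dd00f00a5607ae0a4203f60498000c0f2e0e43077d047806c202f10b3302400aad069f0f0b07e409db0583033703ad020a015906b002300dce09b40a780d5109820ad20e470d79057b011805b101d20cf500ac01ac08cd0d820e8605660da50df808fa0ad007b8047100880b4608ec0c3200690ba90eb608130e5507c807430f0e01c30197087107540130046e03c001aa02aa03a609a400920de4072800ab0a4e04dc08a6025b043305ff0dc401f5020c07f30c08086b00cd0c6b0d980d3006cb0f870ec704110f5b021307f507c100eb066508580cb80b4b0dfe0eb20b1a017300db09e80a0d05910635032e0e7a068e05710bb30f0a02750fd5032306c009ca02d408a90dc2048305e204a600aa06900a430d8c0cd303660bab03fc0770050e02780be0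0e6f05960a0f0828089e08090ac30ec007fc01d505120d160df30e670fa90e9c07a4033b07400f42008302a4021706450bee0fbd02990a850817032a020d039109c7079f0b4305e6074502310b8006f804550762055f02460736000b0adc05db00c5006b0f2a068b0fcb00f802cc0e59055d03480bb908b10a4904420ec10f0f0e02080508e006c50d84069b09d906d60b5a0bfd027401f30bf80a1c04220e8704e1080b03ec02d1072b064a029e0a25026d02330cbe0ce60113058000550efd06a309ad04150b820c34055009fd0b110a5b0e9e0e0f0c7d02950d14047b03a50091074b04020f6100d101a0099600dd0545092c07410955083506960c630f1a051d07d2094302c408380a110e440a7b082308a40daf0c9c0826091004d00ae60547069c0c5407e1001f0cf30f5d0f230c2e02640900043607da0ee70d110405063902a106c60d430c640b680acd0d5400ea06330bef0704024502ff08760a33079a027c0ab300850e700aba05f60de508500c070d9602b6005b0b3e035b0066065f0338095c072403990da30c570ef4005d0bca0ca8066a0d700fc207880556048e091102d204ae094c0b870f6e0163097c086206d2007e0212038506250f48083d0cd0058d0bda060b028408aa068307160f670d9908ef0bfa0f3c019e08cc0f540a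9d06a5075501b306130932019206f409fc06df0dbb0adb07680b1f00760d220dfb0595018a071b0b9e09340cc50f69062a04fa025e06f708490b7507bb0451071901c4074c07180e03071f05cb00f702690c550663075a0a9303610ad604cc027b0759061001b50d270d7b095d086903530ab80fbf07710a9203470db50def022506e706fe00310e4f00960ea901850051006f0d7e0a6309120d05008c0b6f053e06a7084108a3073c0e85079e09f502e800c90667031607d7045f0bdd0af902a60f7003e203900bd402af00630b6e0013046a0c8f0be3048d0b420c5a0068067f038e05fc09d40dc50f8c03c70bdf03f704e301230a120f4d0f34054f00d502a70d670798058f06fc0f27021d0b2205490cec09b008480f45044a0fc601c80b6305970a8f00640cfd08220409018f015d00a6063e0b0400150aea0cf102810825072f010106b509700f8b0891018c0e8b06b40bdc03510edc017b023203b804a20340057d00c304c0065700d60a300d4609b50cb60ab60ae901da081500480974074a09200434021a049504f200e4087c000603c10e41031f0e5f03c6010f093706110d8601c705180ec902bf0c240ce801e401330e420a2202e606da09980a7d046f004e04bf04b206b105ab09a808a0022703300298024a0a200e080cde01bb022f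07330f170f600d6b06ee045c0dab04890df008d308f60960087b0cb9030e0fc90637013c07fd006e0f7f0267019103320f1c06b70ca300520a5500160f240bd50c480a9709030f91049a087a06d903a105310ad10e280e0506bb03eb04b30e1900d408d1029700cc0a810c3e017109dd0e330fbb0f2d02f3022e0a35009705ad06a606e902830bcf03a40bba03cd0eab0618049f04500aac0a7e0e3d011f0a73048208eb041601820ed508b403c20a5d06700b81008407d30141025f067d0d370db20b54078c0d730b5502570b290a2f0e3701a300560c12082c08fc0b0f0a9f042a0c35090d0fd90bde008600c706fa0e0e03430bfb040104ca077f068f0a0e0c3f04d706ed03b30d390fd209e60c910c7e09c808820220083c0b14034c0b240e66002b0a6f0ebc0c970c5f0e180fb20c9e0dcc068800cb03b500ae0681048b0ab7062b0c0a0f500edb03de040e04da036e0c210a7c0f970e890a1e05430f350d4206e0069a0c6707d003cc040701930e630779009d0cd808860f4a05c106ac099e03720693098b0a3e08d203a707be00d809fe0bce0cae0f840deb075c04f109f00cfe00e70a070c0e0ce500e307ac02dd05c70a790cff01700b7b03f90f3b0dae0cda021109e4072e016a01e904ff00300b580cac00b7044708010bbf0fb70fad0d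6409a507730e0603e60dcb05d20de6041c07f8094d0f59037504cb0b3106bd042b0bb80aed02e007470bbc00e10e210dfa0a380d03099a0fcc005709d60d65084d0c3600f4089505b30167031d0a3b09940c650a470607067200360f36033607770ea60af60e5d032006740b4a021f0222040c068a02e207610e740140050508bb0da00a1b03250dd60a57018102360b73058201ea0f5101780d480c6904bb0d3d02f80aa70933063a0f620d290c720b72005805be02bd0b170775092707e5037b01580edd05f209020f570ae208290de10cd604b507aa0b920f0601a706ab02e30cd20e83081f0590039a0b980cef0bf607de028c0e1f0ba50c810f11080001fb084c087900280d6107a508f10ab40791027e01f90ec400220837000905880bed04f00ad30d91019801d601e800200f8f0be1034a03460d6c0ab2060804aa0c7c056705d1018606430a640d6d02e70a4a033c08200d6606ef01c908e4035700bc0f9f013b056909610904076e04c807fb014a0db3082404e70ee309ef0b120314026c01d005d8040d08e701870da80b01013604dd0fa80d1000210d360bae08bd030507fe06a202cb080d0c4506b607c6015b0b1c033507670c980b370d8f07f40c4a0f780bf30f9401ba0ac805730d2806cd04b10f9205b20562006d052605030e93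09bb01ab05c80b0d0117012c029b07f90cd901390a95092b0a39004d036803100e4d078f0e960aa4058e017c01d308db0967062d076a0c90026e0e5306190f850e7500670049047e086d0dd00834074802db0e0c03560d600cab0a370ea5022305e80899032104d304760a7500b909360ee60a3c092e01a8041b0a2908f0031702180a4604d406bc0378039b02370e6d0cea0e3f0b0e003401b00f4f0a520e9b0553038d02d60c7b012f099d068d0b9104eb0f0004540c9303af0e3e0b380cf4009800900e7201b9003309410c3809da0c010e970ea202b306690eea02be003c01d1082d049e05220f6f04c10b4100140f6c0beb07740cb506eb06d00993025a0e23080c02870ad406660c6007e707d509860bd60eef0555013a01f201bd0a190fc40bc40cf6098905ce0f7d00bb0ae501470ef6062407990da209900f1d0781042107c9045a02530a4b060e0dc90cdd0959041f0eaf0d2e07f20cc20d170c9405c0001d019c00750af10afe0bec0d81009303f007af0f0c0fa10df2035d050d0e8c0f980ed802bb041a0ac709ff01fa059903f1067a0bd807580f86092a00b407b6012606a803e4024e04ce08e80f9e07b30a090717044608ea0449099907a90a6a0b990510012806c9088f0fa00a5a05f706590b93010d0dec0f5e03540261024d01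55087700a20bb407c00ecf0626095e08590593085a010b0f3a0bf4064c01ad0ee006cf051604c90eb50b78060c0a2d00a8055c09ea09f9093e08e6021502720a720e710acb095701990ed10e730d570d190ee1018b0dee0441046d0f80064e06760ec80b230307090b0aff08ae0b1605fb0e1a06f9089809c40766091908ee0a800ad70daa0cd40d93008108850c9d0ae80496042c06600fa202020eb1005a099f0796054d009b059c038103d80fb807e206aa0cd70eec0763035a0e2e04fd00030b0a0467061601310ef804f50cb709e504e802d001640b3a0e920e5e085103080d2c0638080e045201ef036401db0207082e041802f70c5201520ce103520985087309de0bac07ec08e50eda06e101530fbc09c5031107940b8b0739022d0e91017d002c01f801be0c2b01b208110f9904d10a27029f0a82092203310dfd01dc046402920db401070a0303e10fd101cb0fbe06e8088e09ed034f010a0cb30448024705e10d1a08080b4e0aa905ef00e600de01570d0f0fcd0c3c0d5b0e0d04880a8e016804c3034d03030fc1097703760eb4020b0e5409bd0c4d015a013704680302020902fe024c00b80a4c0398027004940259031307c7067e0c4c051a023e0cf8093c0a080eba0ea70d5e010404b0069e05bd050408440f030adf0fb908e2077b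091e0622026a0d740b6d07f70e49058a02a00f1e098d096e0a870a6c092f01e3084a09c6032d0bf10ba10c200a94093f0ed20e8d045b0511040f0b3f0f6608970d26067304850fba02ee00cf0b8d0a6604f70b2c004f0ea10ed00713078a0bc108ac0c3902f00b47097508190bc80f760ce4079c087809920f4e095f07150bbe05170e8a07e904ab0065023505c90ce20042071c065b086e0ca201e60af00a8d0dbe06310d6a09d101e70f260c0203a300a40f9d07c20c090b9a043203dd0c1b019d072d0c4403be03150a0a044b0bd903da03d2040a0c42022c0a0c06af0dd701ae049b0d1205a301a6059d09f70baa0f6d067c02b70b7f0623031b05dd04a40b88047c0344098f06ae06d706d102e104ea0e1d0aa106fb0c1f0f0206460e2b0b8905b50a3f0b610dbc0c6204910d9d05ea04de04570c3d0afa08810eb00a2305bb0fb307d60f22083200ba063205a405f805df03d3058b0bad057408f300fe086405c3047f01490c4107490205050708020cb402d902fb0ecb00080f150c3704630bbb0f830a99007b045806dd02bc0c8c069107c30938004c09df05320f3d0782037303410ef50b0203e5079705ec0bea0224013d0ad80105043d0b000a9609d20830034e09b808650e4b087e029104b70a170f160a6d07ff0386026205790bd703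d0080a0efa0c75021c05de08d401220536040b06a40024016d07cc045904f80fd608d5045307c5033905e90e070f7207bd0fce093009b9056002c701bf0812007f0d47043105680cba0b260251079b0bb10bcb093a0ee9086801d7022809e201df0b6203630a76033e039d081e0e5209eb0d06069900ca0a2a0bb7030b0c8005810f3e056a04660689066f0c22048600ff041204ad0b64014d04bd057500e9056b0276070602140a6505d60ba2052a053b0c9b04750c730a6b0675057c0a1a07ce03800af8078307e00b9d09e305a704e501ed086a09460004072a098e04ec0c04039f06db0efc01950b6602060e260bc0038a081b0722001c066408060c8309d50c330cad089a007305ed04870e9a08af06a90c060e9f0c880d6203bf08070b2e02ab09e004c601960a4000bf0840003e01450d85088b0abc09d8011400fd0aca01c0057705130be508f20dbf0d450c840b39025002a30c53039200e009b60ba80a0505d40f8a033a0d3c0c2808c90cee08b50c870fac05aa0c7803dc092907d101c10ee80d80004a0dc3058c062f0acc07dd060605870d630e1202ae0254065e0f9b0d3209080765075200790e1e05d9042e04a708830e0000f30a8307ef03060cca0d0a0958030f00620d4408670dd20d090c49015102b8002302c80df90f520a14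054807b40e9d0880001b0e2205b70655022b02440c680e500d080f4100070b5009f101fc066803d403a0037d06d303770bcd032c0e27037e05a20e2a0ac602d500d90138035c06d400350e94063604800aa302e90b0503b10db80cc40d720c250e8004650e2f0c710ebe0c0b072709e1051908c8002500010f1f0a840b69073000be0111092804a50ca90c1909c006c103280f380e5a0070018e012b029308ca0cfa06500572061a052909fb02c500b105bf0d8702ea0eb8094506340e4802da083903bd030c0b9c03f20a59046908c200ec0f07005c04d50d1e01eb08fd0c2904af00a00be9068c05140997070705f9007406920dd30129068500f90dda0f88057e07cb0bb5086c0499075f00f605d00eb9053d07ed023b009c016107b10cdf0e560f400fb40f9c060d024304bc00bd0ca602660c8e002d0b40062c079507370f8d0a880350018d02340d4a0e6109a004ef0b74063b076f04f90c7608bf0b7c02e407f10faf0cbb0cdc0dbd03cb015f0f6506be0708066b03d60eee0bff09490cd50987048a096d0a1308d80a160bf90f74097e04ed0c6e0f28087006e4024209950a1f02c60071019404c40fc5085e0a890c740682039c054a062e0f250603031e077c0e4a073805080a1808b30af30b1e01080bf506d8035f054205e30c1d05ca08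dd0fd80fd70ce90fca079d05d70d75008e0a06005e0c8507100d1c04e9096a0aa003ba080405460db10dea0b770701093b05b4013408f4001001fe0f44020401740d0b0334039506f30ddf056501430df40dff072c089d07560d4e02de0ba70e350506070b0ab90827014c0d5c0fd0028a08cf01c609bf058408570628090702600256094706940367032909b10413001905af021907dc0e7d07c404fc07fa061e03e803ed03940c820289065206c7016505ac01f1038702b4035e0bc60772053c02ca0ba3075b0afb0e460a00026501a40d68050c043c000f0ca404100956052007ca06e60f960d530e5802820b900b0901160785003f0ad90f0901c203e707d40c05088a004702d306f5059f0a4402580d000a8c001102c20a9e01e0077e0c2c09140ace0fda04d807250f08036c0a360f310a6102cd06010c1104c50bc9072007f60eaa014802960a310319054c05a80b9f0e8f0bd1002f0c430980046c0b8e0a910e3908f90ce30da4043703120b9705f508c5057008d7099b0d13009f029d0698095001ca0589034907a8055102790a280f140cf703d9076b0af405dc08e90a9c02f60e1c04930f5a0c16026808e30dba0e1b08a10d9e054e0ccf068005a50acf07eb0bfe09cf08c30249092d02f207890e160aaa0c7f06fd007a0764057f070e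0d52090e0c5e0aa50e7c06860fae0dde07d800c6014e00b305090e6807a702800e6a0ef90723025d0f6b030d09a3065a09e7065d086606e20db70ac40144050b00610ab50a5800170a74092602a903ff03ae08ad01de091b062905fd0fb00c5606a0081a0397090c043b0f37064d05590aa20fa609d00b2d027d0f53094403ca0c3b07b905cf050a0444050202ad024f04d90d150bd2042d03450216085b0ef002a500e206ec0c0d008d0ed90e4c05fe056f041408870f2b00a901b70d4b0a2e0c4e0121056e071e08c100530ed3021e013f0226073a06b20e990cbf017a0b190e3205250875073f0e7b0d5608520c4f0d2b067100780438033301e2011d00d20f330b36032f091a09d30d2d073401060d890bcc098409910915012a0c3006ff06a107050ede0474089b026b083f023d05cd03f502b10af50d340b8c05b00e6c081c0c9a0604054b0cfb03040b1b094b0135034b029409760c0308f80b4f028501b603d50c1e03690ab10b4d0fc004db0054014207a104e008450a3d05b80f71063f0bf002c9030a059e0f4c035500d30bfc08dc05d508d909620b6b06dc0df70778031c0e130bd3097f04b80cfc048c00290863012e011502ed003d04170d9b047004e605b909c106ea03fe08b807b706b8,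
  0xfff0d9703e801b60ec902210a200719085e0e8f0b330e580d370e9f0e2c0a310ffe043d05ce03e9022405ac0bb70c4907790714039d058d021000f50e8501f50ffd02c9015007d1043f020c083b0b7b02090e890a8901f10b3003be0bd10cfb0ffc09040538091707fc05cf0443031a088e0a5605a3068f079e0bf808680b5e0ffb01ec09ff088d08d7064f0ea7094005f6046c033b03ee081c086505b00f1a0ffa08010d140972089b067f023f04f50dbc04c30530060d00230e8b0d010cf90ff9092f01e50f6a02c109200a0c082a0805059505900b730f5c04580c4a0ca20ff80d080a6d02a30ce707fe0f8109900cbd02a20af3027d057904db0b7500a30ff70e3d05990b190cde0464000c09f605df09b30501056608110c100f130b900ff6005c01170e4e0ec80f0e03c300770401046004d80cb203a304510a0804b10ff50fb00cef01080bd90c47069807cd021608910139072d010d098b0de60eec0ff400e407d6063100a90552052c014b06020c0b037806930e0f0b580b1f0f6f0ff30fad018806850ce904b50fbe0a3c0a6a095f0c700455083c05b6044e02d90ff20eb10465051801cd002109c40c8f061d055b097c0fba049603f606f605430ff101eb0e970db50da8070205c80caa07aa0a6c038b0a800e2e0135072b072c0f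f0057e01c20d460d5d00460a58088a0f3a04d6054101330e210d0408c404380fef05190fcb0bdb08e90d240a5907f70b9f013607180ec008520f9d04d504450fee0b7c0cdc06f107e80c450020000d05cc0af90a7e007503fc0b13076201590fed086109f30d4907320e4b039b0a730d3d0971034305d60bad01400495082b0fec04e300a4010a07330d6c05d4024a01a504cb0a8d09270c37020705f0051d0feb01ac0ce5031701ee0c5f03bc0d390ebf08d9042800cc0e5c0e1803070fd70fea02f1009a0b6207dd05c3081904ee027404000c9f08220cf10bb1085405870fe90f010c690d6a08f60aa8039e0ed40a970b390329004208cd05c1074006180fe80c3e03f202d0059e0cd80b9a025c099b061704b904ec0c6401b20e990fdb0fe70f40022308f1026401d401560d2309950f070c9409b702e9033e0b5a059a0fe6077303e406410ef90442052d057301660afd041d04330522055d045600e90fe50e03051c0ac504fc02fb0ee00f0b013b09fa0331041c0d0a0c0509dd09c10fe40d6509470d8409340ddc07430057030f05c50e6d001a04d3066d0608007c0fe303c00eb903f8082d00be098503000584087d091d089209b50e8d06fe02c40fe20a3d046303f007680f510d030a61097303c20c6002eb02940acb0d5605dc0fe10195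04de0ab801cb0ae60aad01aa0a6208300f5f01020498095d0b9305720fe00e650fd30ce405d202b70212038e042a0e540f4c0b810ee90a860dd5008e0fdf03d200580928049d02d10ccb03dc07b00b4005f50c210713006805dd01190fde0a5503d00aa107bd0afb0cb80c140aa602fe019f0efb00350c1a0d4b08990fdd07e00c590ef20f8b0b4f03860c720eca031b00e30802023a04a902db098a0fdc0a8b09df0d1709d506b3050e02390a7a065e0b660a190ab00dfe0f5d097e0ad4033d056909a200560e93082302e003ef00ba06ea082401db06280946099e049206df05c6037905260409049c02770ad70d2f01b1067307bb06d8009e08f30a13087008af0674036c0b440ba20a5c06d601cf0d43046b07c20ea000ab01290d1d06790f980474016a007d037f0fb700060670003d00bd0e6a02ba059101780bbc00ee0ee40447014907990f790e7400ac000904a30032017a037a0f1607ab094304400e1c02c8033c098008710476020804aa097402c70cda037701830a3b0cf6030b00970783046e09830bf902830085029505120b8a08450f420ca90a8c076c0be30f260da5035609da03740c28025807120ce0013403f306cb075c0f310b080c40081f07c6095a09930c4e05de0dae04930d1c00590ac10005017b07a006f804070e7e07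ed031e0ba80866090e06e108bc0def0edc090a0c4c0df805f407240d180faa02fd0a5b070509cf01c40888065f0d630aa3007301e30d070dd107800bd80f91020d0fd00bee050501480f89023702ff099c04a2002f01dc006b079b06c20758002a0e6e0e33061f09db023e0c1301710f4304e405820bdf01d80eef048b05b400fc0f180fbb040207ba00840296062c00030372090c0bc903e60ca007bf03890dd002aa06e903d502320dca07a606150d820e8207b2035d02450d7a0bab021a0f2f0181063206e7089600d50190013106d302a70303069b04fa041706e507820aed093f0f8c02b5028509870a8a02690f1f03d306f00bbe0756055e083f03c505e00aa909410a70035b0adb08cc09ad021d05440201067a06fc04bf09fb05da08160a48063e091b08aa0e1302bf08460f330213036a0b210e4100e7024206d106ab0bd6013d000b03080d6f0749021c06b7068908730a3a0ba60e5f011c0f1c0e7508be0db80a5006ef072e0fcd0bf106b504f70c3c0dcd0ba904040a28094806ae0b68068803c407c5099406500ba50755002d0b0102d8050d0efd0c0c00b305d70a1008c105a5038d078d067d00040f580f0604bd042f07c7099207070c790f24026a0de4014607950b5704e70af6060f048a0f8e029b0a1805ba084800f609230ad2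0c510130050f0a4e08f50d3f09e2091c0f6e0dac0cf20adf0b170a6909000096081707db090302e50aeb05c90ca6046f0f37005102f600440b720368061206a207e903db0d1e074d09af086e0dab0f4d0fc40b88041b023308ac0fc601570293093a02e4034104fe0efe064502f803ed06bd06f505090da4080f077f02700143006d0a84063f0da20ade0eff0fd8091108ec08eb036f001b0457062f0fc20d280a8802bd0b1a07760b560b270cae0e150a440547088b09e104dd063a06070fa301b309f70e500dfa053f09a009c00211049b022d062e04c907860c6a0a330cf402be0abe032703a6007b013e04a70015030e05ea0b690bcd0c550ca30eaa0b480b160fa7038f0800095704310a9c08c8078403c108980d3e0c4b06520a390e5609f90b6e0df007ca0c2d087907910caf0fd4077806ce0f1b070c0a5e017e0c9a031200450ead096901510ed105970c840bf30bac0b0a0bed07750d36016908b0001f071e05310dd4038c06a50a9f0d410024089e00480659024c02dc0421064601c603cf0eab0f94082e03b40db207770e9504f601c802ec09e901ca026106f7002607ff09060d0d0a41001608a105b5041106640420078c0ab30d8e022c022603240d7b022b056b0000078b027f06e300010bd4087c09c903a8076f047702a009bb09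aa07cf0c3f039008a80b220aa00a0d0d060b5b01d202a10323072a0984027a0a8204bb05fe05ff0f750ab90d12058004eb015c09a507c108d5057c0d4c0edd0a7704f0025f016206dc0b230a810b9407a30c160ba00e5d0e280d1f05320e4d0af402310e6b0ba40761070a0c0f00a60014049102150dbd04c10e840eb70fa90e470e0e0c9009f00bec0d7900da0c4d09580e2f061e0b6107e507df05000ab707f40ab206110a4d07e30a1a0c9e0ec204700df500de05a808ca0101000a06ed0886028e0a270754020f0a4f08430e07007e02b40c5a0b59046205a90c38042903950b510603011a02e60fd203a40bea00af0cd90f090e71006e09300be00b9d01d90c8d084b035c066704440d4006fd0a900ee502d70ae007da06480d5503ac0c110634015d0250004e08a600890a850eda0e7f0067006609220f11017901750381031c05760a4200f20585066c08c7032b0fb50d8502980b0c07280bc3043e05b20b460d7507000cdb06380f3f0cc90dde014104f9058b06370b540edb09a6068b01a00c990f0c00d00cd60ca70f6c0a3f04820e510c390ec500190bc709450fae08cf0e170dc603dd087e0798041f0c9702d507f60ed80c30096c0cab09ca071b01fb0144078803d60c750d6804bc06b80d2b049e0c8001f606bf077009dc02780d51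021f02ad043b07be01b80f570c68032200020e8a0e010f5e0eea0d2d0ccc01fc018b08560e780c2a024602e70715015e08ab0d660dea0c320ac90a7406970b3109c70a4007a503f5020b0ca100a00f7e0bb60eed0ae5008307360b7e0354075a03b103c9099d0f8707920cee0d57024d09880d6d0acc06a60355089c0bf006260e320a680e6106c506470be60ea10bd00a450b360df60f530af701040be50e870d700c8504ae024b00180c980291097703d802030fda0b12007906620055051f00110b1d04a504cc027b094b0f1d0cb30f12005a0edf04da0ddb0b760cbb07300510028100dc09d800d10ec706ec08370f72092c090704e0045008ae0b000fc703260d480d3a0e7906d20df2057d0ba706ad08ef084108e300080f2b019d05e50c5007c3026b0ad90d920fac00500f230ec403b2045e08ad0e860ee708f402cb0a6f03fa0c0e052e09180c1702e2077206a0039f0a1400a20ea8042405bd0add0369027c0c580a600f5406bc0b6c026e09260d1509e000e00e1d072f0c27081308420af502f3094f088507f909d303800a050bca0f70066a04e10d9f0483045200330f320c3303ec0410066b09ec031300720a9208380e430b3202bc0fd909b905aa0d9b0ddd09b6060b042d06300e05085b08120a9e08a4034e0499038a08d00e700f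960a020a3202ce0fb802b30b2d03ca08c20a510f9b09160ceb0af2056705cb0ef0065602d602d401640eae0074018503340184028a04f307e70d50064408100dc00384092e094e0eeb071f0d2200d300940abb09d005db0f66009c0d5b0b820c3408e801ae041301670d8a074205ab0c9b025205e90eb008620a38088c0d7701c00ef10f4900b406d400b00a940f690c150d930325040a0bf6035e037d06f306990a0e0daf081a02a50d1b0ca50e270f3d03ff0118056808d20694030500870e1b0ca8070e0d8b03930ed30c6700e500130ede08310bc50e4800ca047802ef024105a103140c6e01bd0e570ac80cb00cad055407b30cb40c890a4a0df9003b0f7b0a0a0e7a027e02380412087f03e008c30c200ce20aee00b105ca08ff09780f4107e605af085a0dee06420ae305bb07b80e040ac2093b0dfc06b406de074b08dc0b3e097a04c7054d089005150a950aec0aea0a76047e08ed0b670fab01580d3b0f9c0e440766031007a10194030c0cf003e3084d0542098d0aa20db70b4c083605b907900cb70b7d043505a7009909f2000e06870d900ad100fb004a0f8f0f8a075d015206be05f10d200d5a0e3e076b0881026f09c508dd0583099101d10ecf0e81008805860dd606e408690174085101ed080c009203ab0b5c0a160cc801f902ee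0b5d053c015305fb008102bb0c61078507b5065b09250d3201070f3b073e044b0c6b0bfc0c1e09b4068a02ed047f0eee01ce0c6c0c9505b706050ad50e2904530c9d0c4604260c660b4707f101df095e0200031f061c06830e35003603cd02c609e40f850f7109630be70b2f060a01ff090f081405b3095c0834088308de003408b1019b0c3a018d03ad06af04b308cb0e3601a708350fa202b901bc0d5204d208580f39048805480af803280d0c0e1e001e0d020d350c520c0801f704a1010c063c0d9807bc0ed002040b8c0c7107cb00ec01a305f30f650e2a0b3a0b0f0301093506e605e806250b970c560ad800d208da0833060c09130b8b07310c1806a70a2c01f801dd02b8038203370d13065a05c002590b8d022000ed067c034c0d8007a8039706390a66057108b90ae40dbf056308bb0d2a091506810e7b03b50ece06c40daa0f2507ec0d30000f032d0c7d064d08df0f830e9a0d0e004d09c3050203e701960028006302a9046906490d1a0f80016b0914085500f006d7022a077c09a70afc0ec60ef306cd07d708f908280ca40a9904ed09be07f804f80ae701ad00ad008d0fc8048006c6077a004307ac03f10bbf0dda012808f20d250e1f0cb909810f200a2600d4044c065c0ab104c40d1000f1065d00b706540b3b05c7062002f509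760d7d09650d890fcf06fb08a503a905350f840a1f042e07ce0609039102c00a650ef505bc0a6709b8081d0199085d053a03470e380afa081b056d087504cf0cb60ddf01b706a10f2d0d270e4c008b0b6a0f9f044909b201de03eb099701a807f0005e05c4025501c909680c1d0e6f040b06a80f7f0acd04ac0e110c000e0a0dcc069e015b0d7e04b205770f05062d0f2102cf02680d710c7a07d20abf051e0124028b012f0093062103940fa80a1d09a1051b009f04be06cc00270e340d9c014d03b8066e01110b4e08090e5e09d10de107f5041e0a21078f06c3049f0bf70604070604940125042507200cba0ed709120c3d04b803f90aef0fc007c8089408a902720fc3069a030a0b430fb1017c08b2058f01bb0c2e056e00dd09420392095404ba0a5a0e7209590fbc0cc405e7010f080e0aa40c7302fa05330d8800a105cd00760e8c05f9058905e1034802a40f34086003390fbd08e103200ef8089d06820c65047206d507170a34068004c8044804ad0c4f01030aaf071c09ef0ce605fc0276070b09b10cd5045b01870b49091f076d0ebd0d29003001f40f2909440b3f0bdd0b350f4704050efa0ec301060fa50a1b024e0dd30cc2064a001d0d8f05eb096f0b5005ee01000a7503c703580f460a3e052402b104dc03150de904970a830b95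0c6f05170b2b030607ea007805940da306b00112018c0b7409390a1e0de304c004030b9207eb034a06220ab4060106eb08ee0236002508f70de50cb5024308d10de20eb60b260351086d03bb022e05060aae0f1e0290050406c002c5076306b9090d074e0cd70e5b02b001ba0b41014c078a0040074c033600c109190e220be20c2c050c064e0aba08b6044f04610dd805460dc90fc505ad03e10570064c045908e60012018a0c290aa70f2a07390c42039605f700470acf0d3c0c2407010e7607b907250d910a00048e0d3102400e6008ea05c209ed09320f140df30132079609980b8f0cd30f7701760dc800b90cce00eb0dff00610e5308db05a4016f09ea0887033003040cd10e4605a608490eba01ef0847043a0bcc0e7c00170dc509a900b606360da60c820da70f380999055f012e0ef60d5c0f5503b00b0309fd057f0953088f00b80b0902ab02920e3f09620198068e06c703870f8d0767072109ee0c7e0b370e7306f20af103ba0a04004f0933074608570f5b0e5a0a1107ee0f0d05d105e40275045c01e70e9106950be9090102dd071102480dcf0cca040f0031026606f9040c0c770b1c077e075902470123098f09610e6c0c010a4700bb092d01a90b2e00910cff077b07c9086a0ad30f00057801e10f040dec0d160adc0c8a0e5901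8e0a230704030d0b050a7d0f0f03a101bf06e20064010b03b70db40a5204f108530d4a0e8007510eb500290bfb07270b770070025a029a0cbf05530a0b084c0a720dce0874088400e10600019c02cc063b0bc107a40cfd09eb00e60e6304d408b30b7002880e2507dc0aff06960ebb0d6b073801260b5f00b500c30a290967057a0b9b062b0eb8006f06ee03990c480c8307260b4d0c2b0aac029d0db90e9e014e003c09700df4026501c3026d0613086c034503210bb20ea50950085c096e0c5b0b65050a015a0bf208e409ab043400fe08080e880b9e08fc0bd30ae208a002290dc30dc40be105560986066f0baf0fb60b85012205a207d30d860eb40df707350f2c05140e620f5008630069069d0f6001d60e4204ab06a904ca068d03600ac707d8003e04d70c0906600e900e8e08b8033a07ae09e302b20e550ae103fe016c02fc060e0bf4087b012b01b005810a6e09cb0f5a0fa40ea206a40d8d0b1107fb0f9e0a64019304e809020e980956046d020e00b209d20318003a0ad608040416052a0a2a0d7f0cfc01a207100a250ac40ce10745037c09bd08d606160765025d0675028603ea0bb0045a03ae032f0b070e8309c8016307a2073405980d8709f806b20e7d0ecc07d5062705250a1c073f0da008760d600b1e05d90a980e260f1506c9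0fb3058e0060020603330c9609e70fb40d590e0c0ae904fd056f05fa070d04a0084a0b1b040e0b7907220cec0ea904390c62037108e70dd2092a08bd0a930bbb0b6b0d7c0485008a022f02cd08820ebc008f06ff0d8109d90d7303df0ee60ee100a50b4b0db1049a097f06580e4a0a9103fd0b02096a01600536061b0217084f01ab01d50ed60311006507890df109b00c1c0ee308d3067b0e24021e0ee8073d03670263071d0829041a00d704e605ae055a02df0e1001be08a7062906350c1b04d00a53052000e805620d670fc9011e056003f40a630b91066105580bba02ca06100872017f048f01a608d8044d0b7f0dba0b1404cd0baa0623083e0d3801e00c2f08670c870a090ee20f4a0db002e10806005b07870dcb05080e9400380d9d0a9602f90665075e0b180ed204270e2b0ef70b71072907de099a01e407710877018f091e021b054b0abc0b34052f06d00c19094a052100cd08180bc60ecd09e5003f098c01910e3b054e0ac005b80c03096b0a12002e0a5f0aa5082608e205a00cc708970a7c09fe0e6403b604860385023b09bf069c0f44004c04e2053902e80e7700f308c00bb8079c0d000054016d020a070f0d6900c70f0800c80c630b890d0f09510bfa0747033f0177032e029e04b7026000390aab0e300d8305750cc102ea01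0e0929080d04a60f680b8608d404180f4e0222034f012d05ec0ebe0e9b0deb08c504810bd508c608200fbf0f2e0545008005d50a780f4803da00fa08590f67007f043c0e4003160b9800490a3600ce012708b506c804b40a2b0bff0ac60d4d06d90964098e0bdc0c6d010903d903bd044104c2053e0b4201680b7a008203660fd105290ed90f7403b90364013f06dd0c780f27014a0138037b05270262084e08ba026c0cd20cf7042b012001a10a8e0faf0353054a03460ace03020de00b2503750ef40ed50b2001720982029f04f204e502270fa009520cb1014f036307530880063300bf035f07570b100d740fb9011d019e0fcc0ba10606080304ea0ae80c8b02d203f703bf03d1082705510f9703d7079408c90a9a0e000c5e089a08070b990a4b0d9604c606e0079f06db0d53002c0d9e09a40b2808320f61061a08f807a702250a570e12042201700fb2075b03c8038304710f4b0c53058802b60bda09ac005d02c3093704d103af073b0c0600f80bcb03440cf3083d00ff04df080a028d06680af00b2403c60d2c0a2e0e450bb9063d001c0f9a016e0513073702790a010dbb096004e90137011601130a5d0f030f5905230a350c88037305030ccf0b0d0f86093d056407ad01650349047c05110d0901af0de703b30eb30a71054f054c0bef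018209490d340c04074f08f0005204af043002440ac3036b0b530b6302820f780c250e9c01c100100e68008c07930f630b83096d09f50cdf02f7082c02280bb309a30b64057b0e4f0f7c0f020bc40a0707500b1507c000c50c5c01e80d7209f10516045d0bc20b2907cc0f950a2d0ea307600ccd076a0ded06770f19036d03a50ada05f20c2304150ea405f80037076408b40f7d0fa1055c01550a03053404790e16059b0d7601140f3e01890a370f450c8e051a0bd70cd401730ad0048d05d002de0e520a30053d0de8056c03cc09fc0e370592085f0b52040809cc02c20c7b06550b8001fa0fca09de0f36086f01860cc5035003350b2a029c00f90a790a0609090a2f01e207e20f3c0071082f02da0dc10b9c02710c8c036101610fa6037e0f820a9b058a03400d9406190690061401b407b605bf08890d950d5f08ce02ae07f209bc06920bcf025606cf08e0064b0c76092b0d190d4f086b04ef08bf0e200528087a053b047b0557004106860f280c1201c707080b8705e2033201d707b4040d0a240ced032c0180059d0e080d33046609ce0bce09d4015f030906b10f560b60094d0e19075f00d604ff0b0e023c0b0b0bf500bc0219047504230c0a07e40e0906ac0bc80e1a0c1f01fd06760640084402ac0c740c260efc0ab60bd20b4a044a0a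22038802a8006a068c01a40095025b0f300f880ea6080b0fc100c00908087809f40afe0e0d0cea02f0029900a80b380b040eac0f640d1103d4024f09380b5509a807c4062a069f0b6f0c36023d0678009b0beb02f40357097d0d4e08390a7b06bb074801d0068405ed0936062407d9025e09e8047d069100df07af096607410a1702340da9045f0dbe083a05d801b50eb20a8f039c090b093c0d0b093107fa0921011b03aa0f620989031901100eaf00620c5d01540d2e077d0d0505740d540f170dd70c430d4504fb066601b9059c079d00aa0a460d4703de00d8094c05ef0c4401f00c350a9d08400d7800070f93025307520489086407e102300c860d420c7f00ef0365045402f20c31014203620a1503e5078e06a308fd0d9904a404ce0218009d0a6b0cbe019a00900105074402510484004b00cf01d308fa04d90dc7039a0f0a082106ca08fb053702890f520be40e2d090500c406530ba3089303420b8e0f760e3903a7091a0c920437071a0bde05400fd60f4f0a7f0bbd09e605be02020f90035a0db606430d440e660487025404f406690214081e0ce8041907090d9a047309cd0f73052b06e80cc001ea0c9c0f6d02a604b601450c4107ef076e06510c930e96073a0b45054900c607a902d302350cfa012107d40cf5007a06c1078103e2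011f0f7a0d620ecb013a03cb00db07f3017d0249099f028f05d303a00aca012a0a5401cc050b046800e20bb400d90c910e490cac0e3c0593081503760dc2072307740ab5047a01f2032a085007d000c90a4c043606720cc3043205fd0b3d008600ea08a3002b0abd0a0f0e14036e0c0d01da07b1066301920e3a01f30bae06f40115009803ce046705b10f35059601fe04c50c0705e3028406aa04a807160dfb073c0f6b099605590cfe056a031d095b0a8704140e230910035900f40e0b058c04060aaa00220b3c09d707b702af01e60c2209240bfe0cf80d6e093e0dd90f100e020d5e09d604b000ae0b0609c20db30d8c0671012c09ae0b6d0bb50bc006fa0d580bfd03980ce30c570e67067e06b60e06055500a706da00cb02800fd50b2c08950b84046a097b0b960c5401c505650c7c05e60f9203380e9d02570370044603fb0da102e30f220e31028709c605500dad048c04900d64050700fd0cbc08b7097900c207fd079a01e9042c0c8102730797059f0657095507030cc6020502970d210ec1089f0d610be806ba0a4900f7013c08250fce05610cdd0d26076903520e690197005f0e920975028c034d034b0b7808e501470c3b0267006c03a20cd008fe0c02074a09ba08a20dfd0f9900530a43,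
  0xfff0f620bac015802d703410bf304410b7e0e820be7093d02f1042c0dc80bc00ffe0634017d055b0cd609f60bbb00fd0be20f31039406bf0eba013201fe03f70ffd03090085014d04430bcf0a01026b0f4c01b108310a6f0dff0f7f083e07290ffc02600c4902ce084206880e400cf904c1025409f905470c870eec037808500ffb08d0088200d508d8006100be05cd034d017a013104ac05c409c3031803490ffa00d701a90992068c06aa0ad30ec6059e0fa60d61062e07a700d600290f010ff902b407990fca078a064106df0600062902070d0c09f80c3206320f1c0d8b0ff80d9809cf065208920c54005809eb01c4030a0a6e04d508b50d730f3c0cb20ff70480049d01410c8c05540b7108f70d03003e083b0fb9077700c30038018a0ff603ef01e30aae08db0ba703c3074f0a2b062f04760eb403dc089c093900e80ff5066208890b5e0a0c052a04160f27061006f506fa05f20ad607fe035a079f0ff401d60b63068607d60289059603260f5c02c60a47046d0b6b07470a3c02190ff3016b099406900e71011f0a9104ce056b0c1602a1036b000906d908c909030ff20f160900004d05b3086508640f400bd001d7098901f70b2f0b7c06190ea90ff106b206e50f140c3806b6028e00f501400f6f0468092f0e6309d805a10f760f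f00aee02120a1f07fa08800064000e0ee0061d06ca0398065d0c4a026805260fef026d0647070d0f540dfd01bf04c307860cc906af07500ea300b305a40e000fee06130afc0b080e370dce06d804810a83046c05b400390a6309bf07920eb30fed0def0b3c06fb02d305370e6206800ae001cb0117082f0f9e03360eb8056f0fec06690bb40a2c0b0a008b07620cc40ccd0ec006d409110651042903df043d0feb08da09860ef30a00028d05600abe0e02072c0e1f07fb0b150a310998073e0fea0fa503d20247086a02440a370c390f490dc10dd9032b0a4404e70bcc02f00fe9031a0a2d073c00f10d45067105750b1d07060efa08970cdd0c1e0ce50dd20fe80e9d0a7c0d270b7206a201f108b307630c4203fc0a3305d20605052300860fe70b840b6606de08530598063c0e9c07bf02a3001e02b20e4c007009e302060fe60b2706b3066e0407023b0f9705a00f5a04ea0b1c04420823084c0a61072d0fe508b00f950b990345077e05a909040798016f0ac200c0033c012e0db0046b0fe4039609c001ee0c9e051307ea01c302bb0f6102db04500b330bd20df4018d0fe30a1808020749039a0db902ad0a6006a102a409ea036203e301d501790e050fe20999093c033a02f50e43044908b802480d08075c00300fb000f30cf8063a0fe10951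071306f80a640ac9005c07d009740e3304b5051a0668034803680add0fe009a20eb2011b02c3019b015b08a7008703e20d4206c604530ded0ad50a580fdf0b010d720a500c14061a0ce800bf0caf05fc08b607320a4c0d0d0f4208050fde03970df0081704a205b107fc05990b8e031509a908cc0d33057d0f930a290fdd048a03ee0d200fad00070dab0a59081f0bad0dd505db0dc60b8c080e0d060fdc02fa0c7801710d1603b70a5a00a10163043602df05f709540d890f8f0af108360bc304980d35069b01030d2d0b580aad07450ab5055506cf00bc04d9035508330bd90300071108370ef2090b0e54017c05cf0f990ae80cfb0884087b0543059f086f0790059d0a690120027809cb034e0bb305d70e7304ba0eab09ac00db0de40707096602130e930d3003ff047e0f940b2503560f4305d10a8200420cb30c4603c6018405d90ab707250b8a0659025801e80cd7094f0af90a5e023205e900e003950c8e007e0b290d4308d104fa0a3600fa054c08dc01d40ecc02aa0edc0c190bdd095c078f0bfa0f8e017806b70ba504ae08010ab106ab090101a303da0bb60fd9083a0102025d0bce0a9a089e05800923039b00ef077b00eb02d200aa074d090705500499044605c20f90053c02410224084b08110aa80332030b037700f40ed70a2808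b70c8a0edb09d60c7f06630c5509590b0f048d03d60c710e6b06b1013b0f0605d60c6b08790d0009d2074c0ab40c9204210d6d034307af0dca089b07ca02dc0eaa0c3c079d0f47044d0f330c0a02cc0f600051011d0946069d011a0d1706e30a66076d0be40929096e0a72081a06c201b30aac0e8b06830a2e080d03040ef00f8a04b100e40d5d02730de6000501a508490a7d04230af508cf0701067c08c0088a0816012407870eb10e9e0a510ab00acd043e0b3e0f2d0aa40a100cba067006ce009409880d07000c040e02510f750e07000b0c940e7b04d80b300f2308af002f044c0ea00912018f0b8d0bbc09730c8d044a0b220f98079108fc0d5c018e022a054804f106bd0be5085409bd0fd70cd900df060d0c4c03bd025a008d0c8401830db10845047208a60b7b0fac0aa50a6b07d2001d044b0df30c1d0a860090063e0b4507e804c20e220d8e0e2d0b4208ee01e6049f0c480e2605110a200d040e4b080409e00885007c017e0f3403ed0ebf08ab04b40a70033d03bc03570646035b0d0f0d2f0c9f0b810581097801500f830ed2009a06f70af4067900060883098001800ab608e60411095502e707c600500437031e041a057900d80efd05c8087e0a4802c505da02f80f450b9d09140192034202d50f1e06dd08770eac0ad907e50ad2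018500920e8a06ff04120e5304010afe0ea20593057b00d407390e46020e08600c020fbd038306f306da09fa023c0473026507bd0cde06d20dbc063f043003af071b0d670b5206f10b37030f09de022f045a006d06f60d570a780457081e017707ef0fd802c000910fa302a0065c053b0dcd069204b00a5407a4095d0704066c095800600b9301300b9105ef084d08690c070a22036e0ec801af01050baa0fd508a10095081c0c2c09ca0c8b0cc507dc07c800bb0962085f01e1028f0c17045400bd05f00fd4017406be0b020fc90f800d7e0b2002010b830bcb097e0d2b044004640f0f0e7204a006660e120942032d09a6042a05e402a90dd609af091906a70f730d830c2608ff08bb0d3d0b540815062d0bc9099a00cf0d240f0702d607b301ab0bae0d990310047c0f59001c0c900982012f020f0ea508bf043c06c80e5a0aa90f130cfd07e108340daf05100146011c03a10b3805ae0d700bde0df903010cee0077087c0eef08120dd3090e0e59070301b800350c9905a60c680e47008a0fa204f30f8c0c0c0e49083f075200590acb0d920d0209e103c50c330b2108bd0138098a0975040d00dc0bdf0859084000ad0b070f5e02d10b4a0a4000f9016204dd0d7b01130d960e960bb90b69093809b8077c0e3f073d0337009b0b560e08000200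b40ddf024f06610d800b3a06a50c7007ff09100e580a0d0f7b0fc402f3067e01270590006f07ce033b0e9804e600ac0a5d0b1002e102a20c6c0ca706a309c60bc601340bb70f6d08e50eff09e502ea0d8f073803ea0b4b01bb0b6a03cf04f803930589094a037f090d0ad406120c4e0a30003306e007b60063009705e208fb0aa3054d07b00fb70b6104e505aa0d940b880bd60b49033307120c5d0f58083508700081092405bf026e05e70e0a0e2b0e3103fa07220c7d05bd04a308a30d5204690c7908c608980f2f043b05410d7102ae0a800ed5088800320f3a00c405950cf40b860e5c0306078b0fd3039001e701cc057804a70909025c060903fd0bb1007d0f5b08580552091c028008290dc90ef50b3d025504310169099b0316060f04f4051d0760012d057200b90e290fc5021f00ab06c30ba101c004e3074b0bc7075905b00b6809810b600f6a05360ef400990fc20b34033f052809770ba90e8f095a0ca006ba0bf703b20f68035407510d3602af023e0e670546003100c70e7607b509870e740cb70d3c049305fa02bc08710c0d0e2c0fab0f5000f80055043a0202001800af09fe057f06c90d18009e0826098305f50f9b06280bda0bee047702a801f305170dba067a02cf0a98024a080f04ec072404f70b90033002100361093309ec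0a3e075f0abf082d0c2807cb0f910cac0c610b800c6505be0b75052206db00d204c705cc040804890aea0dcf05660c980c800ef60d9e060209cd067700de09ba0a550d6f0dc2096a0fa90d1902e305020bd70be0005405c30dbf0db307f0070c0f3b04da02900db805d40de0025e05ad04580d7d012806110cd0017f0a4108eb01a6090a09e80c6d044f094109a504d6052c02b70adf06300db50bea06ae0049014c0e2809c50b7f03e60161069508c307ab0a1a07430ab20cc1029401750ed908f102630ed40c2206180a0206dc0bf905c7006705840acf05640d3b0df2073007740d9f0bf00b8908f50dfb0e210438026607260db40c0e002c0e52041309e6008f0c9304ca0c2a0956076a08a00e0d072b090608f90b470e5e0dac028700240c5201820e13068a014a02a605000e97076403a9047b09fd0c670ad1021702390b9a0c6200b70f0403a201a807ed0d9d0c4700e6079601b60e68065501be004e034f03b5034c05c6081b00690d6506f409c40e1b0f8706b001e909b9067f0a110cb803c10043046209280e0f03bf0e6e06ed0b2c03920a1604350484063b09a00cc30d8c0f20040b0915055f0beb0b44089d023f0d93070f010e0ae9062a078101f408130617066f0e900eb50a0403520211080709a80d4d082500040c7603ae014206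38062400460d81064d0f7a0e4a091f05bb048f05eb04db01d30ae503f408240a7e07db01de075b01b00d480c12036502180e1e05d00532004000c90dc00250003b054a0ac60e1c0a150a7301ea0495028b0a4d00d00eb90ece0846049b073a0fc708e400080a1e013e0d1a07360c570a34053003d80de709dc096508320ce40daa023101140ef80d0b091e02fb05ce0a9e0f82044704fe0d010372037d064e096f0b7a029200e5057e0c3f076102820ede0ba40118022702150015047805ea0a8708e80a0b050a050d0f4101ff0c130ab90c23042e0e70051c04a902c203600cc606ad055802ff022e02710ad001e0037502be0ebb0389080b01fb07da064400dd019c09c909db0e2e00d108d704aa072807b4032a02a503a709610dfc04850d880afb0dea035101370ace00750cd20e010e3406a90a560800022c001106fe0bd505a7065a0f6707d7005f062b07c904a60cb50ca409f00aec0d2504ee00a20f2904fd015306ac0bd800000a8b0d0e00a0019302e40a2a0631088607ec009f070a00b1078207460e9f0e0b07b20822004b0dd005870d1f0fc304f50649062200b503070d3807de00c604090e990ddc0293021b00b20295056c0270060a01220dee005704e8037608bc04d7092708ba0f660bab05e80da20cf30c45055a0ba30b130338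0fcd0f000b2607ee0b12086e09bb01df0b970a170fbe023709b60ac009ad026103aa0ad70302046f00f60c41047f036f0691084a02c907dd037e00e303d40b960a270a8a08740d5f0aef0f8500a709ed02ac01700a8e0016037403e70bca0da303a60e3c0c58061404d30c040f7d0e860ee1020c01870e8406210f9d015203b801100b36011606ef098c095b07c30b390c11073701490539029e0edd0a050d6c0d1c09bc09d303120890051b04bb0ee4030307ae0e650afa077204e90c1b05c504c803c2049208ce0dcb00ca0bc205ee06c00371002d04be075506f00a3b0e030b1b04c904fb0415068b05240ad80f0a093207bc06200c96096803d10ee2058c09490fd1084f07000a1d0176097c0878030d01b401a00ec108ec09950f71071d0bfb09c7034004390bfe072102d00742090f0c8105570b6f033e00560f440851045509220542005301d909d50694085504df09400e2a0f1a08e204190021039c07a90490087d088e08060aa201ad0d4e085b0f8b014e05a80e300685092d02f7045d0f3800fb08fd0f220e0e07c40a14014f0d3e096905e6026709600eb7004a038d08ea07340ced07c5005b098400a80b0408180c9c02720a9b018c02ab096d064b01ca021c0df6091a07950f7903e50f880b7006ec04e002bd0e8c0ee302b6008209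1300730f7c02290f9c0533095e0cdb010b059405490a8900fe09b0078902210d5504b800ff02b50be903d30cbc0a7407f300b807b10c5008e901860384050b0f74086b00190edf06a40ae40f8604d20d90094505df02ed0a39067b077606070f3f0c2e0b1a0ec9038800120284029a0553099607b9002e0c5908c50866093402da024b01c20d5b012301db08c402860328076e0f0506d303de04740a4f038109fc01810fce09d90151028808b404b601060f210bdc0c910f100568012b048e02280d5309200e5f0ab309ff01ae0b2d01480c970d28029b06b9005a0b9c02b80ea408cb0c5f00520b5b033401ed0ef90a670a120a900dbb08e30b4d0cf1099006c70acc0ee706c507c1007b0bb20bfc0157058b0c85089f06cc03230f0906760615094c0df10bba086101aa04bc020304c50e6d00ce0d7501940d490ed302cb08df04320fbf05880ef105f8077f00280b5d04ff00c506560afd084409aa09ab0dd807b8060e0f3e03cb0769071f01560c4d0f3503cc016a09b3061e0f3909350e640b7302350766004108a401cd071c0895038008a2004c0de200da0b76039109b7017b0ceb0d7c0f8d0aa70ec709ce0d370c5c0cae0aa0006605200d5e0cdf0ed80f9a0d220f5708f00d630bbd03e105e10eda0e6001990b5102fc0c370259085604c0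09dd0c74098f079b0fda010006650c0b09430e380b670c6909360b000ebd0c2b0d1e01bd0e320e610f5d054f0f370b78028307ad089905ac0145024604140a3f02eb07cd0e440a7f06f90ec50b92022b036d0a21040f03140d110d1d064807830ca5029d01010950090c0f26036307750cfa083d0b5907aa050c020d07d8088f09970e4502e50d6007f60fcb077a06400f4e09370ea603b60e420d4c0c4f01f507270b8b01f60a090329031901e40ddd0b6c035f0ac803c909d005bc0b46030e03be01e504b20d84074a0bdb0faf0c5609fb0ecb08a501ac0af70cd30caa0828075d02620e410ea803a80e5108aa03c80521041707c00e24001b027d05c9003705c0058d08390a7a036c0db603b007700b640e800f9f0adb08f803670cd503530c7a02ee01dd0a530ac30cdc08760b14032f09c203b40fa700030a8c0f170c1c04ef07790e16057104280ed105310bff09180a520c060bd307d90fae07650424064a0ca309c101890c6a07df0f5304cf0ba20f0c0bb50f1f093e0d9b079a0f2a05d5027f0525086701040b32006a000105dd0c7b0bb00269067d0346099d0a9c0f6b0fb609530cad0f030a94051e0b790d91085c0ed60d2e0d470868068f05e00ac70e78040a05b502300e1405b70a9205de021d032403210d59000f026404bd0fa109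e9031f05830887079e035e0d3903e80c72056d008e073f03e40c4009ae0be60adc070b0c3b01360d740bf60fd605a50509068104660d95015a03ec028c061604f90b5c0bfd00200f32016d09520c6e059206e106b803ce089408fa0238097d006e08f6039d0ca10d2c0c3d02dd0e560c53095f0852042200fc024900250db2002305140c3100d30fc10e77002b007a006b0af009d40b950e3b00d90ea70dd10af60f020eeb074106010e81016e03f60ed007d3052e05620d690e9b0b2b027e0b870b6d0ca2097903690ca8007208ac05ff089a0a060529003a0efc01a70c1a0dfe09da0c290cf60c1807400107000a086d000d01e2038b04fc0cb000a301cf042f052b0fa40ce003bb0e6c07440c8302de0fbb03580eaf0331047a076f07090d1403080aaf0a960b5f07ba046a0a810456015f01c805b80b3f008c0d12049a0b6e02fe091b0d54041f0e04092b0188005d0f5603440b9b01b9035d0d8d016002ca031b097109b50a030fc8001300440d44046500cb0cbd031c055e034b0121075306a00f25097f09630dcc0d970e8d032004ad0e200ee50efb04eb055d08b9003d023607840abc0379072a01ec0c05052f0d2a00f00cd10ebc09020cda0d4b027604180d1007a00dda08cd06c101c505350cbe0a3d0bf5081903250827036602000f24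061f0b3100ea02970bec09760c3a04270e230a770f6c0fcf029c057c0d3109e408d50ce6088d0b6206970e8508f3002a0df50ca90139027b05d802d8019d025f07f90505065009480f1909080809032c014b068409170fb2091609f70b11056306a80cfe026a0a790540066d09d109250eed045208720ee60143060600c80da605a30a2505ca0b650dbe0944050e093003dd0f12065e031d0d3f0014082c0e7a023d0a9708a80115073505120ae109a4066a0223061b08ca0b0d011901d8055c0e8706330c7e0f180fb101d0094706cd04040a8f04b9012a03a40504032700cc0f2e03f5045107a607eb087f0de1069e09cc066b0e570fb505650cea08de0d860b9e025b0b050dc405560d6e0c6f0ea10bcd046103b30a0701fa0d9a00450c0806e40da10f840197022005f30e4f0d4f03d7089607bb053f07540b17015c0b0b03730516021407a50ba002f2066408c10be105f406cb015401fd0e0c0c5b0e8e068904670c2004e4087a03b10b5a041c06ea0aff0d8200f2009c07f5030c01c10ccb05910d34023a0b40024d024002d4043301f90905027c0c360e8801c6039901720e950cb402b304790a6d0af2082a03350f510f1b0ba8006508f40cf201350576097b07f202e00797076b03ab0b24082e0f0b0ae30d7809c80f5504a50820047d0e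910fb30dd408ed0f9604dc03a501eb063706d50bf208100c5e0e7c0e5b00260f300b8502c70c9d00790b3b0216022d0a1b0e6a043402cd0b0303e00a88018b08dd037a043f0a650f6304d00022024502ba07c7072e0fd009e2088b0d05045b04a4092104ab0b4c069a0b160c880c25013a02a70c890a260ac504f207680ba60cb10c2f0a4b05e309f20ca60f2c03c005340eb604f60deb0aeb05860fcc052d0dfa0fa808c20bf40672031307310dc70486019f087507fd0c3505c1001f021a0c770d58059c054506ee0e50020a0a0e05d300270a1c0a0a01f80a76037006980a320c8203a30a1906730771042d07150aed0ce20b8f0cc20e1002f908e1075707730c600459048801a10d68044e084e0b550cc805510e350cc0058a0f92038c0168051f0a6a0c3e08d20bf80c7c0034001a05af0bed06f20f4f010c078c0ebe057a0225010f01670c090a23009303850cf502d90c43085705030b53060c01da0e7f0af30c6406fd038a0cd808d408a901b70b9f0166032e07e70c240fb80aab04940569092c02b90aca0e15063500c102e600710756069905190e3e0ae209f105010b0e0e4d0fba0ecf09e7050608d6041d07050d5a0dbd0f6402850d6b0cb9038e02e901d20a0f0675003c0e9a07e40111027a0fc600e203d500ae0b82065f0a620a13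04b3010a03f20496071e00780205038f0c0f008307b706c405f900a90d7601f006fc0d6405730f4a0f770350053d0cd406e60ccf05ab07a30bd40de807d10df709a709d70c630fb40a38016501ce020404cb0603064f0ce30080083c0f810a9d00b009a30df80d0a08fe0e480b7401260e69062c0cbb0242085d0f4d0e4e073b0c0100e90f3d0062094d0f46091d056a026c09910d4104a1039e008809df09310347078d0e27027402220b280b1e0d62094e0da5076c0b980da400470a6806bb099c0257021e02530ee8007f064c06e9013d048302ec04030b2e07880305069609ee050f02f4058503860e9407f406e2024e0e55029f0821082b06b403fe04e20ce9084801d10f780eea09f402fd01a20d21087304cd02f60862015e07f701b2083805fd05ec03a00448041b06d70cfc04970a350abb077d0e6f0e06086c02c8046e09ef08910814045e057700cd0a4204d101640e250ec207cf040c075a00ba0e0905740bf102560e830dc5098d0322048c0aa60a7b0ecd0ae7029603e9019100680d6a0e3d07a20d7a0e660645004804bf09a10dc30fc003f00c95049e0a5c0a5f06040de509850582009603f9036405ba0aba0c300a6c07f802b00d320c2d0b0c09b104c4013306eb0bbf0f7006820ac40f15014404af038706d006580b4e081d06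260da907e90291078003c70654045c0e110e7d0a85053e05fe0c030f48097a063d06670f0e0bd1068705440559073307160a2f03d900ec00890d1b07580ef70c1508410be3071704100d2900170964068d0d5105080e7e01470d8a048b099f028a093a03db0a4e0da00a08094b04050233034a0b940bc4029906e70bbe06080e92012901c907cc0f0801ba01b5092a0fd205670f7e009806530a8d079c040206780d770a5b07100d130f0d0b06098e062503ba08e008630cef092e054e0cf708ad072300c20ac1080c0b430f6e0c5a0cab071406230ada00b6097207c20b2300a407e2064202790cff080a04060d87079309670e79092604ed03f3053a02090a9f04f00c510efe0d8505150bc50ce709700bc804700570031703d005b60b1f072003fb0f8905ed0dd7013c046006bc0359028103b90a990b35039f01dc061c07be01fc0a490843020b0e75035c0fdb083003f8071a0da80463079409be07e001c708d9065705b9093f0a750faa069c0dde0d7f07a8088c085a01a40c340420076700a60084024c0d5606930674075e093b0e360f11088108b20cc7051802ef0f3609b40ae60109013f044404450b5007d5022602bf03820e1909b207480c750de90eae07a10a710e2f0d46006c00360c210d4a02c108be01960cce0a3a0275072f0277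0f5f0bb80b5709930719069f02340c860f690c10070805dc0d79063900ee0ade01730e17004f05a20eb00c44074e0f6504b70f2807f10f2b012c0527054b019a0597096b0d3a0243019e01080fbc0dad04de08d300f704910d2608f2037c0f520a840baf02e805f60ddb0a950eee0507096c01120bc103ac0e1d0a4a016c07e30d40049c0ead03ad07e60ce10a450cec0a5700ed0cb600e70c2704cc03f10ec30a240f7200a507ac0e5d0ec403eb07180d1501f20dec042501900ab804e10b480b4f009d0208056101ef0da70b19003f04a806a60b09064300100c9a03c4056e06b5036a0c000b77015908b10d66085e00e1015508c8068e03110f4b0e1808e708c704260e1a033909f5058f0d090be80c6605cb0785037b026f06e8041e03cd03ca0c8f060b01950ee9098b0fa00a460ccc08930808063604c608ae0b4105b20aaa08030cf0011e078e0a9301bc0eca0d50007407d40d230482053802b102e20cbf04710cca05fb0e3a0b7d0957066002980bef0a43059b05e50dae0125059a04000b18005e025207020c730b2a042b06d106d6077809f3062700760c9b02c4015d04870af8065b08ef070e0abd010d0c1f0f1d04d40847047505f10198099e045f0aa10d9c058e0de30c4b0e890db70e39,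
  0xfff09540b1b0790028d0b990392084b0b8e0b7f08c5061300f308c10f7004990ffe0fc9061e0b2e02630b2902160b950bd10afc0e55093407be04cf051509c50ffd05e605fd0d20036902bb037003450bfb0b590dfd00070ef70b0d072d05550ffc0fd408de0a9d039506fe079801810ea60b000e6c03e70f0401cf040607330ffb0bc604a7017107fd021d0a3a0317017800a20acb0fa30a920d4d019f0a6a0ffa04ad04880d070cc207700d5601bf0def0d8509c70b310baa04460e280b6b0ff9069a0f5e02730b7c09790b5106ab09ce0d72085f0ef50d690d92025e07960ff80e710c460040001e022301ac086b0f9c05920a9c041a0b7706f0097b0d860ff703fd09740f070acc0cb008bb0ba9015106a30877074e05a00653056403a10ff604250958028f05b30c110bd607a50f9007db0a1e083a04b20bb100d1079b0ff504f9043d0aa90d7d07ec091302d607340d1b036f0d280ca50c6b03a505320ff405790d11070f0a9f0e8d0c140ed2056308e70d89056c0f0104530c7d09500ff30da808dd084a0d9805430de60f4b089a011c057e0e920ded0062002c03ff0ff206970e5609f108db0c9e05d705c6052209bf09710e420d7c078a091108ef0ff1034708b105740f260d260cf2001a001107a30b2b0336061c02e2032b0b3a0f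f00a3902be006706470d4b0957091e0d5902f80c1709a503d603e40287041f0fef00b707fa087d06b408310ec600f20c450867012e005c0d08032f09d400440fee093d0f3106640ade07750db50a560dc6072e04100f19050501d70402069e0fed059e03f305ad01120eea01de082a09d20bb9007101530fa1092f0eb602b50fec015200590e0104ca065b0b300b460af502c90b0f06190e8e0421031208890feb07680ae20546056902d70276087c03b3032003130f7c079c0a170757029b0fea0aed074107cb0e5807510cd50d1e0a2d0c59061605a1037d013e0c2d0b330fe9045b0f490c6202c70ea4055002af0aab09da0fd3032a08b90094053f01da0fe806a2048209b30dcd0e9d06e600630fc50f9208930d360523058205d20e680fe70d0b0969035006740f280e3906f40f5100a30892029304fc077b021504930fe60f6d09f3057c01d10982029d0777045009e80efd0a43059404330477083e0fe50a9508a40341026b01ca07a805580e4003070c9a08940e2006af059007c70fe40d4c016907020865053c0a0f08290bcf0cc0007c0f5a02f0001701a406700fe30f5007610c670f440eaa0a9009810115079a078f0b9701b806310abf0e6a0fe2095d0cb30c7f071c0deb0fd008a104400ea3034c0817048c02f10c5b07b10fe10e25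0884023100b4070407500966049d063b0e5f04960a4b05040e8b058b0fe0055a04a401bc039b08d105110642091a065a080707ab0747000903b4034b0fdf08dc02070a46059603a7012708a2086007690c6605db018206060ca70d000fde019407c800300e440bee0f9b0dfc0b7e062b05ba0bba09630ad909ed06480fdd09480195014d07c60a6f0fd80df30d68084e032d07320a8304c8062103860fdc065e0ba300d506db0e0809140edf0800098e0e1a0a890f620a470ed40a680c9508b7087808d90b2401af06140bf206f60bdc04df0729021a08c700950da3098501a50a140b140907081306e90f37093f083f048707260c5f071300e9011f0c130cae01580a4a05ce02de094c0cdb0e670828086409be09b90cd402710d9e09dd0bc107d00d500b57037b0903023600960ba0042706ad0161051001cd093c09cf013d038e09370eb0068e043205970735095909f2007502720aeb02ee074d032508420a1b069f09f60166019b010f0a15089508700b0103f008f500c50bd30926058103bc09ea020e075f034d024a075404470d8d01c50600070a0a8a0cdc0efc01dc0eb402d90235077101ef03540c4004d202c30327007001a80f1f021105e9083706710bc000d606110a2b0513021005aa0441001908540f0a054d0b390a8108f40e300b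c3041b0f8c07ed033a014e063501e806d40d54065d09aa091f0409065c029f0dbb07fe0e4f08050ae000350ac102a00429011603cd0be601f609e20e7605400db90aa400ae052509b20dd8087a06910310012c0552050d070800ad0d0e034f022707e4083d0fd70c9900ac0e3505b702fe0024036802fc017209840ebf0a65092e08340b4d07f90fca0a9102650bd90b0604920c290ccd06b009c406820be801ce001805760f880a32060401850e14038402d1013401d80c3c0f41039e018d088f0c1e0bf70992006f09960da20a67059109490c8501620306076203cb0e640a6b0bae05fb0c77007d0cea0916022a07810ecb095305b5055108ce00260f630973064b08750014017b0aa80cbd09290bec084700880ae505c30efe0188071a0e5c0c7b0cbf0d3d0b9d0947029e0422002f012106ec018c0a59026c007b051e052f090a06790a700f170dde0ec7086e02dd022101c802c80586015b06c803bb014f0473069305fa02db00e50c9b0458030400560be904c20228095c09ef07ee00930efb0a38001f0a790bdd0f9f08f20fab032609060d6f072807e809750f5f09520050014500fe05ff062706850fad01800d700a4104d501d6076b0b1c0d750363088b02200fcd061d027408a60a5a0f690583049c0f770d44083b0672057d03730cd2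0a510c960bb807bc0b9800ca033f00b005d403ac0e18093b055f07950bfa0caf0b070f2b0c560a2f0b5a0ca101c7080400050abb0c240a0e0b1e0774041c0ed806d1082602ff0a550c69069907640036065f04170aad038d0a8504b006e40cd308a80dab0106040004ac0c92013b0e940b7207100457015e0ece09990ac9005301e306f2099a053d04740f64071e03440f8708fa096b0f220103046a07a7021e08b804d904bb03fe03b903a3000a045f0df00eb90c0e0d0c04a60aae06ca051f0c25054e0260012301460e9806340ca2040b04660638098c08a30527027e02480d8102000fb807c30e77013609180dd507aa0ce0080603a40c150cd10186073a01c20da909f705350b71047208be0dc70afd085b0b9309200a1301410f2704de0118044c00100f600e3205de0a99021f023b0c580b11020d01be0cd00a2006ed0b5e03d903e90c2a04b107030a8206be0c16018a083c08bc04370e870e1608c303b60f090abe0d0204b7005a0a250a070daf03e3074c096e0f710e910f6a0295040d0a340edb0d1402a605cf06b80bb4013106320eef015f01ed0c72024303530567052d00060fa20c0b06240c600ab8011a0c020799043e0e6909ee01420e7b0c7c045105070e1b025b01cb00720c7000ed0d65041d0a3b0dd40a8f0e7803b707170a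640d66015d0bef061b0f7601e0093803890be1086a074301910de20262067a0ce80db0000c0d010bf60b0207eb0a720f4f095f011e0d380b040f42003e0a6c08d00b3e01b00b270d9503f60e740e88023d0d1f09220d34085c047802f6094b050b0df100e201890ba606b9088e05b00765006c03210bd708b30af709020c5a0f48030b00ab00ce02b10dc00224078907b203c30512064e02b80bc2028a08a9054c036c015902e50a2a0832036a08e90adb074b05850a3c0b2c0ed90bcb0dbd085e01560c9c099302880c91095b09600b640ad005c50fa008740f9a063300c10a710167018304d80ced0efa042e0970075d0fcf088209360e6d005e0480089c018f046e0164011d029a06c001c30a4e09f807cf04c6042b09c0068d032c07e90f39077d04e008f9091703ab04ab07630c9007b004350ae30109010e03fa038101d20c4e02bc0a6006d30e47062a096d08200f960ca4040109bb0f0d08f70cf5031f0aaf038c09880012031d089e02440a3305750b03034e0ef3006a099107ca00890ac009e50f8d0135020608850b6802d40b74000f0f830a1801df0c820785029908160cbe07930d970dfb0adf0f550d67003c061507fc030c056e05b10a61066506c40d220b17067e0ebd071606b707000f0805340465022b03f50241055604f00c64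08f60f8e01790e8401f502470eda0ca302750ae909210fa90a1d0bd00d160de50a930b7806550de00fbb035d01e4031904fb06e200db00a50ddc0c1c014b0ebc06f106f70824089f05be0252038506e707b603a206cc03bd067f0c3f088708df0e6e0ee809440f660ea204890f1c06fb03ed0a0c027f05c2043c07a1031e08e20aa10b4504ea0f2400f70291039800760ead05030d180e5006d80c3b08460f290755002903f70e82054a05d10d5a030106c6070b0a0d0f3505590bf4039f04a30b940cd60f8f0650099f0dd101fb0940015a0a1f00d90af200380100039d03a9063f00ee0eed0c880ecc06c9003b013c059c0ae8051c096208c90cfc066a076a002d0e0d0b0a07e1099e09e600800c9307f8009a012d07ae050005f802680aac03eb0a4c0f9d02c40d490e490e5e096109de07300b1606c70749091b021b013900f6073c026d0c870be000eb09d605440cad02400d8b05e50086040808bf07f306e30ef9075c0f40067d05ac077c0e9c07010d960c0708cf0aff04ba0dbf097c00b605c1088d00ff0c4409a7012a0f3b0e5a05bd0bf30c6306c3021c0e33050e09fc04600f0c0d7e01a107390c3700150066098d05a7068604e30b8005360c8d090f0ef208d70b19076e0d630808056200aa0d420e9909c3045e083007cc0d9100f902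010bdf04e104640d78038a07d80e6b048e05b20fdb08fe0ee50c4c06d60dc2032e062f0e620bfc0bb70ddd01db061f03c00577096f079f06520d3904e50d8a0e2103e60b4c02250a360ede02e90d84060e058c009d00bb07a406ae05e806a70ac70d0a00e7047604e70d120cc606e804f302f905c00e6003fb09cc05e70b18071806f803ce09ff0b84000e097f0a690db7089604ae067307ce0ba80a44033305d004cc0170017e02a10db3080207f60a73062601ab0a6609e30b440b6a0cff0b8501e501010c8f09460a100b5b059f05310e4503900c1b0db4045c0ccc05e307360f4309040b520cf609ac0a8006a503ec0212053a07ff0c1f06dc03b107210ad705710e950dd7003d0939061706a80af405d508970143061a0e9705990f2c0cab0e110d4f0fc00bff0dcc094f0ad20a2c04140270048101630fbc0140068802340d9303e207a9020a01c90315066d01e10d9a0b340c6e0d2e0c270bc4017a004900e1082f0e7d016d082e05010d17070e07940623026e01d50e36052a02f2090107660b4801960baf01b90b880c81038205f40675073804dc0e4e00ec02b00654016f02a201b4094d06b109a809cd02b20217049e008a046d06a902050c83078c00250dfa050805ae0ec902ca02bf0db80c0f049b02510c3a078609a20c780a09092d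05da022901f0064600790b42052800f803620a310e6f0f2e011109870c9700c8016500dd0a7f0cbb0b9a0542096c06fa02cc06900ec00fda03a80aa706c50fae073701a3003206cd0a23046104a50f93001302920a5c0fce0de105470a3d0355027904cd012f0d2d0f7e0ea70404091d0788008303dd082d080e0e13066903c407720a620d6d07ad0b83054104a003770ba70a2704b90ae60fac09080ecd02e80de80e890d6403df0d37086d081c0abc0f890b470fd208e3011004cb0e700ed50b8c0aaa0a7d08fc0d600e530c5d044502800a97008f0a57014c0d73073d03590bac0e3e0c8004c5019d02450f3803320ce206ff028600920b5d09670ba20a4d000b0e5d0da1080f0b7500840a1104980f3d07de02300b0c0b65037905a605f30f4c0d610cbc0391030e0644038b0bf501f40822028103110cef08ab039a0dc30f6b03ea0c41066c08cb04eb040c03f20ab50bf90c03089908eb019a041e0ce60f67010d070d061205e40c200bb50c430bc90844066301f80a2802e703380a0608380ad80c5c08ca0ec80930024b03000e4b0b090b66030906d00d710ab304750d570d320610078b0b280c3d080d05530c6c093e08c60af90841044b0ac80ef40548077e048405a500870e460cb40296078706a4001d07600ddb010a0308034a0cb104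16026f07fb0f0001c406bc0d6e09cb03f80823051805f708e6025f0d9401e60d82050f0462056f04b40ed003400719004e0d2a063a0d210e2b09190acd0393001b09eb081100a10b700f0b0dc40923007f0b620ec50aca0aee0c8900a9057a03580fa40d1304d7056103b20519091c00a8040e0df70dad0dc10be70cf106bf084307c40f730d3a01740c12078006200b4e0e900cca0b600b6c0b9104280bc70cc30cf900160c050d030f2f06f90db602c002b30745043b04830ec3044805bb033d03d700cf04b50eb70ef8077a056d06bb09ad05f2073e0ad40dd3058e07120d4501d90cfb05ed01ff068103c503b50f7509c802ad05d60afa00e408660f1809fd0c8c049103d4002b0a8601c6075b0c060add0c94096a005402080077012905f50278058908cc0f3e07a20d770b8b0415025c0fb705c80397014a0ca608ac070c0b8a064a08210ee60dac02830f4a0968020b02aa0f81062d0f8b0c710a880f33059b028b08610f2305fc060b0c7907730ab20e850b430d27017d04f4033908af0fc8025d00b1047d0f95004202f500fa0ccb00bf08f80fc40c30075304390a190be50f120b2f0cb700e30e2d0629089000fb086f0fb3089d099d092b0dbe03af0f3a05170ca804c40eb503f906c10a530f910de7064f06df06830beb01070bfd0c5e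0de40667034600e807dd0d3b02a800dc0b6d04050eeb0b370909025402cf099c0c390d1d047c07d901a70ce30e5405cc077f06ef0f1a00690ab602570e340e1d08ad0cf004a2030208b405df0a7a0b9008e10570058a0b550b6301bd0a290b350ad60f970a0b021901b50c38087e0dce06430be401b109a60e090ea50e4a06ce04860c2305bf0dcb028208a501ae09b40a2405d904c10cee01f70396064c0c2807ac02030dca0b1302970c9805660d4803de0e0602ab0a7b07f40c350cc40bfe0a8c08e803dc049502490ce90a7503830c9d044a0fcb0058009701770c860bb301cc02f30133055e037e0b0e0a030aa6009c006d0de30f020f740f840a42004703d8085a07ba0b92008104b6087306aa02ae07df09780e31004c06980a3708bd0d1002320dc505e1074403da075a071100b305f90ad502c10ec203be0e2206770fb608190df9019c0a4f02690ab90137094209ae01570edc0e610b960a3001f90fbf0cac0253037f0e480e80087f01320ee20f2001ad02d208180b2302a4016c07b401280f470cc90e3a027b00310a840fc60db1059a0ed1081b098f05200a6e045504ef0b220c47060c01e20090024d03ae01bb0c6f0aec0f250ee9073106b50fc70b5604e40f9801a00ab006c205c40f5900610b5f06e00ee00e2c073b07150f9e05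b8095a034207f006ea06fd00c906d70c330b2d080c0b9f0c4a05800a5207af0dec0a1a0bea0e1201ba033b024e0df6022203340b2008e505c703750a450dd906620b530856047a0b050bd8098009f0030a01eb0752011400c00a220467075e02560a3e0df209fa08c2005b08ee09000e570b100d290aa5044e074a005708ae03c702a705fe043f072f066607c10c01092c07a005a400fd015c05840c040a020c340e240b6703d205450f0e0e230eff03d307d5068903520c3208d404680d2b076f09430f80064104430f570b6902cb0411056b02f70d7902f40bb60f5d04ed0bbf07060423022e0209038f02590cc5051b06570a9402d00e4c055402a30eec071407e70c2e042a0d0409f90ac3012201200aea0f3f00cb09b500200b8707f70c0c0ee30ca00cd803240839010500f4031c09e1049f09e907e60ce70d1a0b0b0bc501b30ad1048d05260b410d5e008d0d410b400869002a0e0b0dcf08010cc7092708090989033108aa0b7302ac0e0006dd04f70eaf09bd04560ea80a5807d20b7602420d4702fb0d330ace057f0289072c00d7033c01d30d0f09d50a5b0cdd0e2e047e04520ee409950494069c09d9063e00b8036409af09ba05e20b1f0880056008f30c7a0af007200c3e03e10ab108ff00af0bca0742077900e00e7a09a30f0f0c6d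0365062e045903290cd9022d0cf30356016e03a00862057808d5066e0c000de9029c039c004309450f1603cc04180b9b0f1b0c1002390b320d620444068b09b00d5d0a630c22048a00390edd031b031600de0479057201440bbc0c26020f0f5c04aa0e4d0e5b0b8102dc07c903ca03e00bf0078406d50ef102a50d0d026101080f78090e0df808ec0cdf029009a00e0e01870ceb02fa0f680a2606bd0a0808270d8f037107ef06a102580b490803097204130c540d8008fd0f7f0ac50f2d0be30bde00c403990990089105a20b7b0d5f0f7d009b014903bf02a9034800ef058f023703300d7b086c04e60f5303740eb309650af30c5309050cb60b8d0c490cb204f20e960f320f860361095e0ed6054b08e00f850e020e590f4d0cb50d6b0fcc081e084f027d0b4f02c5071d08790dea0d530f8205d30ce50ba50dba0e3b049a07e5033507d4074f0b25009f0b08042c09100dd007e20d760e9a088c0cf80651052e02380aa2040a0c0a07da06da0430079e01e90d5504c30521042d06280f6e03800e070b4b08b20f560b7900e60871084c04240fb50e17013a02ea0bb20c7e0a2e09c90f790f2106840eee0acf0680051607bf0df5037201b20ed7028e0d3c01240f3c00cd0d150eae00d800b9069b00000ae40ba1064d0a12009e00a7009900410c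680aa003370fb40fc20fc3035a06e1062508720b5802ba04c0019e026a0d5c00740a8700f109fb0b1204f60bbb09760c8e0e0508d20e10023e092509ab09e70994016800d30ef0018e0b50029805240810046b046c0449089b0a480e7f031a0eb20c650e290ac602b4047b0b8900bd0c360514067b0d3f01190b9e08da090d00820198066803600cd70ed30485021807240eb80b3b0e430a5e0e260c08098a04e805380d2c02940eac0e1f068f08150997031804f108d805bc03c10c9f06cf09120463026606010506063007d706d207bb0faa0d400bd405a807d10a0103670eb100550c8b09b704fe0bce07f504bd0fa509320758068c02cd0530036d09980c4d085900ea01a90915081f00fc0bad031402e60791081a0f61040f0c4206ba037a0454034908cd043404af04dd01b700f509d70d7f00600a5d02850dee066006070e1c04fa0b8603050aef035b02e30e8f01020d4e0ce102b70b5c0f030dd20d05066b09ec035e0f7a0a960e9b08350034073f0d430a7e052b0cde0e720b1d072a0a00006b07c202ed048b0c5505950cc8011702ef030f028404c90986004d0a8b0e510cfe0e3d0cce018b06ee0d4a0e3f03ad06950d5205ef010c00450d6a018401ea075907ea0587098301fd076d09b6013f05dd094a0d9c079d078d045a0b360d24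0dae0e8c0855051a084d0f1d060a07400bab020c03d001f309c2077601540b2605f109d3056a00280f1e06de01300eab01f10da507230f6f0a0a0d1c0a7607b90e0f05af0a1608ed0d2f03aa088a0d5104e905cb0199054f08a00b38065602ce0afe036605ca08e404db0c6a0c0d04d10b4a0387046f06a00ae701fa04f50264007a087b030d06d900c6003f0e8605730c1d00c7005d082b0cba060d076c098b06b20b82004f0f45050907c50dbc05d804d40ccf09df04120bf100370af101480c2b02460fd509c104da0d900c4f090b03c60f1003220eca055b0ee10c090abd0a4004b8003a07220d06053b09d00ef60fd603940f06058804a10f540c2c00c20bdb0964040705a3053705b60639053e0c5003b00e3c03cf0f6c0a5407090065045d00850c750a77012b0c8a03e80e5206080af807bd051d0fbe035f07a60c480f5b03570fb10b7d08250e1e07f205c901260858095100030b3d069408760420050c0f140da4006e078e01dd023f02ec0fb003c803c90a05085d03e50cfd0f7b06580cb90fba01aa0c4b0c73035c0c2106eb0ac40851035101d4083600b20a8e024c0e9e00d2083306050f940bbd00f009a903ba00da09c6072b062208ea0bcc0ec105f608f00e4104bf0dfe0dc8067c09a10bbe0fb20bf8062c0267006803280e2f0b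a40d83060f094108c4002300b504a90afb06ac0a7801a20c310e2a0aa30ec4080a0c740e810be203f10d9d0cc108500a9806f30f13064907b506f50b8f0dff0dd60a9b055c000205b408520bd20848099b02040376076705dc02500e1506180f5807e002330dc90a8d082c04f80e3803db02b608f104ee020205020f150497036b0676005f0c7604ec0d74090c00a40e65013804d3047000c30da00b1507920da704bc055d06920b1a09770849043606370aba0bcd08c8033e0f8a05f006a602eb05ab04e20ab4008e016a01c108fb0d88042f02e40a490cb809a402b90d9b092a06cb08a703a605ea063d0378074809fe03d101730c190c1a0b3c0ebb0c1807d609330636025a0fa601fe0b6e008c01e707e300980a2105cd07b709f40cda0dda09dc0303005209db04380d8c05330e03055709ca001c078301750fd90e630eba09f50ada02da04ff08d3064505eb0004010b0c84016b0d5801930e73093a023c0d35000d0471017c0faf002701ec0d8e0bed05a90e0c058d0df40af600ba0e7e01f201760a5f0ad309e00853097d00d4088607f10226023a01600549075601900640053901c0027a02d805ee04d007d3088108ba004b0b2a044d0d8705ec09e40797017f0cf4081d02770033022f004808d60fa70b5407460ecf00be0c610fc10d46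08830e8a0e9308980a74007e0bd50caa01920ca9069d0147052902fd0d9f0e370e79027c0e2701d00ab709280fb9037c081205980f110fbd0051097e0ea104190659036e0d5b0b210e7c0da6022c002e07b30e75044f0ee706b601500f65042600010e9f0d6c09b102bd08b00a6d0113047f02d3070705930a3f059d0f2a0bc80a1c02d5052c07050b3f0857028c077804be09b8056500080d250b7a068705680f4e0d23060207270fd1097a0c520daa02e000a60adc03ef0f36084000460782019700d0032303880a9a0678066f0f460d090cf70d3e0cfa0d990ac203b80bda05e00e0a0d3108b5092406e50ddf046904fd0125086307250b6f04ce057b02c600bc0f5202df093501fc00cc04a808c008b60603043a0d3000730c570021034309d1050a071f03ee0868093108880a5002c203fc0a040c5102550db20e04048f03c20ae107cd02e10e8304c7011b040302130f3002140f720a7c0fa80b6109d8084505b90f050ea00104081400640ebe00220661044207b801b604b301550bb000910ce406090d1901ee0e660e190431071b03f40cec06b3095504d60f34068a024f0f990a35008b0ea900a006960490080b0078094e00df004a06fc0c2f095607dc01a603d50b9c07c00d7a09bc0a9e063c,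
  0xfff01b70de70e80080f02010bff0df0098a0a0b0622000b05440966051f0fa20ffe0ecb0165006d013e0a070c790030036c09ff0a4200a5083402fe03e3038b0ffd03f301de02480c530edf038709bf080209a309ed08a10b92002f00830c240ffc0983028c0ab30832039201310c340c99090f0b2e0cb00f260ca502c309f90ffb03590bed04d0009104c102d50d7a08bf0de2035d002503c607f304a20dc90ffa05e00a5008840416097a013b08200d2303fc005209680ed30b800bc807ad0ff90f8c0dbf0c82017d016c0e4d012d0d3904680910046206fd0420040303a30ff80137017a0bdb069306e60cd3052900770d2c020509f8034e01eb0d7c01c80ff70e6006d30b570f7d06c905cf01fe0ac5013a06b706c506ac0b7c077009b00ff60b2d03b60d8f05d8016a03c40a5f0d2d0ce206bc0c1f00340cf8040502cc0ff501770daf05f40e8b028f039b0581008d06f505e801570f7c0d6008bb05580ff40b4a02710c9b0f75000808a0064902df0d90056a0f0c0cc903b202db03e20ff301ab0cc1059d02d709c10e2402520bbe0a690c8c06d504f206b300f0009b0ff202b30ca901bc074a090e0e1d0d260de50f67097d0a6009180bbf0d500a980ff108e40ba80c4a02440bd00ce0048f06c60c6801f403a50fcb0a8f089b0ae50f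f00b210ac40a110d030eb800d704c50f3f075704db093409d3073402f60ece0fef079107090bc7068404950e6e021c0c47054b06580d1e01d2089702c20e8c0fee0e850d9800fe03500e090bd204550d5404290e530836022306ba02cd00af0fed01510e42076b054702160f5c0a44055701200a3103cd0d9a0264034c05820fec0330095403900f76010801bf04c30cf60ecc029208300c6305320a0d04710feb029509af0aba00790aa10b7404ec08e904be0b3b0eb90d44086a070809550fea09fe08ed00b0037e0615094e08ba035c0dcd07df04490646053d0676027a0fe902ca066a0b2609950d360b6703840cff0ae6025b08e704400129063800c10fe80a2a0e0f0c0e019904320fd0027300280c730c650a460340054d0d2b0c940fe702800b52022a057701e60c46062609a60d2f015b0f510af708240f58026d0fe60d0a0f540a34027c043306ea02d00c7609e20ded0e2b0ace0827045e0fbc0fe50f1e049a0c2502320c3a0fbe09350ea000c70efb07fe0eee01bd0fca0c7c0fe408590203023a050f03d00413089e04d60d810207040e07f50eb1018f0ed90fe30a2d023606590cdd025e070b0ec4030505bb0327073607b00cc408400e0e0fe202a00000080d0e64054c05050f080251056d0fcf006c084f0db40c6201350fe1074e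0f2b0c560cfa05b3037a03fd03b0069d0140045c01c906a80f0108b80fe00e8e053c0c5a028403ce09090ec008f8027f09dd0d6a07a80564070f0a510fdf046e06fc065e068b04ce0c9d07470c120f250a40010f00ee0a23049f038d0fde0b7d031e058a09740ce70fb7020a011106030f56003101a0019c0f4700900fdd0d80054506cb0018087c0b8b041c045f087600f4062e0dea0f6b09c3024f0fdc0ea40a9f07ba01230f62013d08ac0f420e44083108d502f90a4f0d3807f204f6051d015a0c9f01f003310db103560c7f07bd08d608170f980d6607e90bab07dc0937028e0bcb03120b3d098201b004350aca0e99026e0839085f0aad01a702a20a030caf0b3a09f20e5e01f60f35018a07ce087a0b1d09bc0ba60dba0d870c6e06290b1b058b01a40c70051c0761002b0c8a019306bd006901720ad109e705ad00ec0c7b0a3f041a015d001c051a0af30cbc02670f140a0a07a10e320d4206cd001e0c770e88058309d50281087f06a40867084709530a2b0ed50297037101dd08a702190e0009f50a7100bb0be70a7305bd0725005806000f17087e0f60082d0eb20a8405b10f4e086d000500c809a00d0b01ba07780e4607c50d64081506b50a4c08da0eb00d450c5e0dd70c0c0ede06dc0d8e0c1a095b04520f77004506e00f1b06f600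560b4b08ab011400160d13069401540ee7068007f6098d0b0b0d9b00ae07d50d0008af010c0020049209410cf50c7408f10aa70682070d086803ee05410573053e0f950e810e1a0c400dff06f308ee030a0f8f0df608120cce07a00d730e950ccf0b010a250ced005b063906ed04f104cf0c5b089503f5057f00e90e500cb606f00656089f09940af60bef086505d700a30ed0067e0dbd0f7909a80f7e012a0aae02c90ec207d60006097c040a0a1400220ecd06d70e4f00d20b8f0bdd096a0af20186064408430b5303250f4406920db90f3d048108b109ca03570a9c015e0f160f5902a4001f0b1703c30da20eab02c605f80b4e0dc3094d0c1104cc0e3801020bb3073b00c501d70896055500a204b4047a02780a87060c03cb05740f8b0bf503d6033b037305260c040d7f066008130618039e0aee0b9f076d00bf03f90e7a0c090c6d01160d2709a10a530fa4047d07220833081f0f6d06720b690a8b03d7068d0eac071408b40ab5062c014208a90f380c4c077f08810a8107a203d209b105800a8d0a5b06af0bcd0ec70af1027b043d0ba405380493082b09ee0d4d01d005160e340e7d0e1e0bdf079506420a1c075c000f06620d63082e0d150e5104010c95045a0089063b042603640ed204150508035f02b50b5f029c075b0b9c0acb03c7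0450056b03fe04900b990d5b071603420c580730094003bb04e60ee1037804d908d00be10cdc0bd9092f0ed1096702170acf08bd00330e7c016b08c00bc10c6a0aa90c4908e10db7005f026606b0059c07bb073304340e430cba0c6b0abc0bd70f9a0957064f047e006e05ac008f0ee0034409cd0be200c00ca003d80b5803aa0b08047c0eec02a80cac0d1d0a57076a085801aa092508df0d7b02fa0bda0f5f09110e2f0ad30bce096d0878094401df022001cf09010a6400fa006500fd035e07da0b9504a50fd40579039c0f6c0d3a05c70f55017c0b6c05ba0ceb01ee00540c6007260678010104e30534063a0e650cd60ab006f905f50d3500df02f10b0402600f4d05b70dde0b5a079806110d2e08dc02d2068305a70771028b0fad0b5c019a09a901640231077a0a3e0f0f0419052f068c03b702e702fc04240e5f085102dc020007e20b60051b0a5a0fba02aa01a50c1c0ccd0308090207e10ba207be0777060501f200cb06eb0eeb09d4037603fb00ab057e0cb40d75078d03480e04094b043b00230ed408530336032004b206e3020f03330c3905e207380668003c069801b40ba004d50c3c00800d1f08e608800d0f0ee2041e058f041b0b34016f04fa0e1c055e06f70de4057d0e0c0edb02e80b0c0238037d0a5c0bcc006103f60b5e09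cc0b2b068e0a3d0ca203790cf40cd209b60d0705fa03fa0191063c0de605c800be0181006a0f020427066e02af0f7f01b307810e470f0b05bc0c480fa8081807d405d20b4f01c3046c05300a86052b0b380cc00dc60c6601d403c1004004f90533099105a8047b06de085206c303a000de05f0005d04f808fc029e034a072008b507f808f70c3d054a02f5031808770b410e590c5200c60a9209be06ff08c90805064a0e1704660a9909e009ce04cd0d4e056e056c0806057c0b61095a0c23085e0c3505ef0c9a0da70b0207ed03450be5081c08e007150d550e560c5009320a010e580ea101460fc4080705e30baf030707550f0a0ed6060a067b0b660a940f07032804ef0abf0e1608210e9b0b7b0bc005240c5c0bee09f004070d1c0790085d0d050e2d0d9c0cb107ec0af50f240d650ba90ce501f90ba300930837021b0e970594069f05e6098e011e057b0eb50b130c510498048402420ac005150d8908f60b9d0b640e830ec80c67003706fa046a012405da044f0c900c080f100d9101c60cad0f2202e10b2f0d0200710bfe06270beb05d30a6a09e406500d22093000db0a78090708ae027d01120b0608c6059909720c8708cf0fc20182062b0585007e064c00630e930f860b6b03850411078c02130bbb00700da504eb076e0adb04fe09ef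071106860cee09a409f709f60cd706750cfc04e807510d7e095f0e6b01c20f40063001c002650ae4036f0d3d09ac063705880c71032c0c890bf401130dc805de0d3b023e0c8308aa0ddb049408ec072a01c50d740be300740c920c20037503e00a0905af04b707b9051908d30d5c0cb30d8b0ebd0fc6065c0f1c0dee065f00a60f31098b023901210f4806a90b910f5b025a0dcf08f3002c062308850b07029b0eb606a1011d010d018d091c02400d2406c807bc0cbe0b790e0a0b700ac80c4e0d9502b20de00d68067907540f660dfe07960f1a0c0f0d4609810b8205490e260b72074b07f70f6107c603320e3f0b81091709d701ea049c0c4f067a0fb8063f04bb0f8a02c702240c100c5908710ecf056f007f06ab012e081a08880aac065200c4074305ab0e2204f308c5021a057a096e026105f20f1d0617003201590a630c8502680eaf0921012f0c010a7d00940df2020c0ca40bc606910ccc0152021e04720ad202b600dc0d200cb80dbc0b750e1b0bb207270b560696004b01610f92095d0b350a4507b6064d0da3029d061c0ad90d490aeb03c00aff0a8a009d01b602b70bf00a610fa106730e02093a08f00dc1004a0c410370068f01a906530e9c05e40a72082c04970c81030605500dfb0d0409c0003e0753046d0add0fd6019b05be03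b10049098f0c720a6d023c0f6f05c607e50339083a0cde072b084a06ef0e2501fd08d209d004af0a040c540aab07a3055a0a8904c805b2073c04300bd10ac906540b4d0d1805560a670822046f056305660f840d0e0669083505e50c380156093608d4059b0b5507e70704050b062004470c21029a08c1032603740fc70b3e07870b360e76028d0fa30bc50b7605d90f2c09d604b3060906b402260a830e8d0a560cd006c0073209880db30bfb01840303075601b50b900e9f0192030f0c5d04ca08ce09e309ea075206810c3204a40dd004ab0cd5006f0c1e0b9b0c9e04d40a1e03b9072e0dd80e450cf70b540c970c980a410cdb0e360bc40bde0b9800b807b40e350e400bc9011b045b04e105040d090d06009a0afe04180c0002580e4a092407fc0a3b0237017f086f0866077d070507fa0721004100f8077307600e71040604610d4101ae0c30077509730f8303f40fa902bd0efa030c0d830fdb00d802d40abe0fb505a50d1109cf003f061d0eba0cbf08cd03d90b6507ff0d5200530e0609bd05ee0a120b7f0aa308080f060ae8092b04f00e41024a0b6f071205f7025703720513052d04a808380d6f0a15013001d1013301970ae704040efe0fb90ef805ec010502470a180cf1026f0222049d04820da4081b0cd90f3a03580a3608a50398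0d9606a50bb10d4f09eb0b0e0e2802c8035b0c3b036e08700b7e026a09fd0ee600c308010e9e02e205d002d8030d0f040b8c0bec0f27080005ed0f7a0dc204f4061f0b460b390b3f0f9301490d1607f407c904fb0f1901da09c2056206d9074806310003020e085b015300fb0d2a06a0020d0c4d07410bdc097f04480ad603880e7b01710e050a0c0d3308d1037c01cd07a607d8092002e602d305b4008401d30b2a0e9d0614069e05c10e8a0ca104b6012505bf065a0b1c075d090604de08160e3b099b0aa800550e230f3001db05c300570a330f0e09460d700e330fb106ae0a7a06970256080a073e0e3e02b403e70e790f650a1f004e04390e6a05c005420c44045d095c0afc02ef04ed0b0503ed0d780886083e0ef308ef0b850b42027007c00117040204dd029307d1017901e108c70a0207ca0fd104730d300cfd050000e8018704b9099706a601be041d04bc0b31066c0e1906e806190527017609b7096001e703c200270ddf0c3f058905fe03f004c6099f03f2059505a3093302f2098903b502ac02ee096b09c80706004d09790eaa042c02e0011c017b086e06e209860f8704d7093c05b6021d0e3001980d580c8e02e5025d0dad0a650f4a03290062069002e3066402760122085a020b0294071002d60a200f9e042e0de90af000360e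a20939099a0ad500ed0b9707b109c60ea8067007ef02a6055203f804dc0b9601d806550ab7060b077e0f820ce400e00c190291097b0faf05760903055f0666014300a8082f0b220daa0d140c2e0170032f03eb0db5035a056509a50e3c0ea30a160a9d07e80a210cea0e6f0cc2079905690a5805aa043f01060d940459005e0fbd090b0bb607820353081d099807cd07e408140431019f0a7e0602071b0cab05fb0ba70a280f6305670ee302540b8903bf02450f730b2c0bb50c6f0b6a09fc04830f2a0a4d0f110dc40a5e08ca096106c20f3403110b280f810f3706cf09140488014103100b860bbd0bba059a08b7010903d1028a03ca03090cae02f004c40229078e04ac0f780100070c0c36089206b108eb02dd02b1067d066f0d6c00f30893018e033d0f570850068700e204ad03350fa00e7802750f890a1903df0c1d02f409b904e509230593052c043a0a7b00e503cc0e69070e00760ea7009c0f280480064e0df4044e0e6d0cfe030b0e120230055d092808b309fb053605980126016e062d08480c170e6808f20841008101830a49003a0c0d018b02530fd504df04ae0060021f0d6e0144074604b50df3022f071a05b009c7079e08bc06d1044607f9099e05900f360b6e0f430b59081907f10864038f0066055b016600870a520443079d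00640df9054f096f03be04850263052207c709270bb7044b0bfc0a3c06d6089c0c07013c02ae01b9088d080c008a071800e307420f320f5e046006d20eed0a2f0bea0e7e0c2a0cf005f10b2507400a660ef703e4054e0362007d02a70f700723034d077409700321097e0fbb00f2024302da02770648030e0a4b03d40a550be40e18083c00680fbf09db0ec6026b0992014f06d000ce09c50afa0db607a406bb005c05e9031a0b3000cc0e9408cb0a350d5a09b304a1039f060605370ea902ea0d860cf90d92052507940c2b079c0cfb02c4025c0a2200ff04a7040d073109f30df10d010ee403a1042f02ce0a770fae0475045608d8047907cb044401030b27066709de0ce102ff0a5400b201fb0efd08fd0e730cb904510553064700ef0e840d5307a902fb088c04e40b500b6209ba04cb064009ad05350a430ca701270b7701680a39099903db0ab4002d0a4701a6094a09ae0e5d0ae900f70a8803660104045703380dfc0b2300c90095046b0a5d05d1022106e50f900c1504f509c9031b0ad70dd50d0d0d7d0e070a4e0a1004ee0fd20f1f011a0ad008b907490f2f0ead0b9a08ea026c09560edd0ce904540dd609d2065d05e70f460f3e0088039301690ec30e110a7402de0e9a0c4b02ed08f4074f0f9b0a750da103ec08ff0c26044a00f907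680b400f7406510be8014b0559027e049e023f0a080707013f09930107033e0eff0e820d610eea0234024907440ab80750000c043805060cb5092a011f0bc204990fcc08560f2e0e6601e40290074d038300d0071e0854071c0f3b0635037f06d40b1f0f0d04c000d5058d015c05180e57032a0bb801af05fc0d1a04d204630e7f0a7903610042003b0c860e910c14094201ed06ce00c2008603160b320210086c0bca0b88073d04ea0d5604b0063203ae0e9004670fac076505860eae0b18039a03910f030bd40bfd0f4100110b73078909260bf90c370e7400a708de02d1062a02ba0eb701b206dd07d00469050d030104bf069b0958035208820b4c0d430a17066504230317065b0d4707e60465058e0fa6031902890c310deb055c01450c1307ea01f300e10b4905920bd3048c06df0d3207dd0e54071905cb084506b6063d0f4f002e0fb404c706710717057005dd0b140f970597025f048e00dd027209d901600c06039403e60bcf08440cec0d210685072808fe0e6c0e0b0d5f01750f1507e30417089a032e04a30f85020609520e9604ff01c402140b930a1b0916042a040005540c330cf30da00eb300d1027405f30a9309d1031f00ad0ebc03c50d7902a30af9043709f10ec5018c0ef502be0ca6026202cf0dce0ac30f52051e06a20663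07c10f53042d06ad00f10d3c0b0a025008940dcc0a6e0d4b0674036b0d08099d05ff0e9207d70c1807cf0c7e0502008e05b9078601950c840d8a0e3d01a805070a5906010985041005eb04450e4b0a7c0b5b02f308900cb7076f06da0dec01470fb201c109000f640d5e02550d5709e50f7200970e9808290bd60dfd06b200aa09510408078b033f0edc06570ac201c7048d01180a97002a0c550ef404a906e903ab0dfa0e5b0c2700da0b150bf20174028805a100ca06f2038003670a9b014d0df7075a033c000e03dd06b80fab0f5a003502e90a2e089d0d850f6a0a2c06be0cd101780e550db00776017e0d0c0baa0713082603690a050b370b2907350c2206aa0dab02860c610ebe022d0bf803680a85051000a9056101150c8b08790c1b0396032d0a820dd30fa70bf70874082a02350ae002120abd0397016d079b0a680503047008460cda0017061e05a00f33096504280b870702022c09780b2400a40a260fc10f7b07cc02b90faa0875036a02c000bd0d6b03a60d310ec90211031c0ef20ba1097501e8024c053a098c007a07c40026067c03810f9907bf0b0302960d930cc30afb02fd0828096c04b809220b440b6802b807720e290889020408550298092c091f0b9e00bc0e3901ce099c05ca012c01a2061302830b47074503f100f607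3703a8080b03ea0dc70e4901480e0d09a20dae0d620cc80a80052e039d0d3e09080a4a01ca070a004c0a8e0db201f808d9038a01730523070100120f200df8073f0d990f2d050c0ee906f804420a6b084c05db03220ddd0d48031309380e270e7503a4088a061a0bc30e4e081e06120fcd07ae09150a0e0d8c08e307b2008c06990b12077900440c0a069c0f9407f007930bb000010dbb0700034703340b8e0cdf09c40c5f05cc08420eb405f6008b02f70e8701f50de30fa50f9d093e0bb90ab20724012b01f102ec08a605430e2107c803410f180809006b071d0078059e05df0b43040b08720ca30d29094f0f23073a0fce07b301fc09590b110bac0c9306950c8806100dbe06bf01630b510324010e0f450af405b50d4c06ca0a7f0d7102bf01b1001308b6098405110d4a004808e50f1304fc038c013200d30bf309b5042505c90b6d0aa00da90e620476036305400e37022508c2079a01900b4807db0ef90f5d08fa0a290a700a6f004706c400ba03af07fb00e602bc07660f500dd903a707e00d7705ce0c28043e019e033a024b08ad0c8d0e130bd50ada05d60d510da60e520861058c02f80fd704d109430246078f072d023d0b200d82091b007201bb09190521052001a106db0b8300a10389018809500f3c08f908be0365084b03da04b1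0ce6050a095e0f680cc501e004bd036d0e2a03de059f041f00b40acd079200240c7d038e0ac107d20f090f0507aa0ade0139022b0d370a9e0964029902a1087300d904ba062508910adf0a06022e08fb06f4042b09e608d700eb052a08c305a603b801ff06fb03a904e208dd0c2f001a04d80f8e03ff0b450477090a075e0b710624062f0e200a9100e700d401fa000202bb011003bc014e05c50c050a3a091d03ac0096094c09da0fb6059605460d12010a02270962053f02a90ef10aa4083f03cf072f062100430b8a0b10030408100df501cc0b9405910f6e04f70e86093f02e401ef05a909ab05d5088705dc075901850aa502410b0f03c9064b06b9040f02870cc70cef078806a7019d0ccb0eca09450436073901e20dac0dc0013800b90d280d84049100e400820a320d760f71032309e80efc0ad808a209df08e80fda0fc8009907ee01550f39083b08a40e31079f09e10ea503b30b0d068905120adc0c690b330aea0c75074c0c96060700f5012808250b1a001903c8093d0bbc0aa2051405e10d970e630cf206040e720e08000a0e2c05710ae202820dd406e4088b08a3076701500a8c0a9506f10a300ebf07a5090c0d67024d09b80fc300100cbb0f120e7701800464098004860d69081102c10dc504aa0ac703b407c2009e0afd015800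b3002906160acc06e1037b0d3f0ce3076401e308f50e3a042209a7010b0b3c009800b605c20dcb07620c2d0ed8076901d50f910382070306a30d1b08cc096909cb028503e90e8f03bd00a00c3e0c7a07af0e140b8d0c420aef08030343076304a0086b01cb066d0849034601ac060d0e5a014c09040e1f05840ac6080e0b190c9109d80ef0034b0a960bfa0b1e02180fb004140e150f69009f0f4b0bad08b20a0f09760ebb0c7802ab0c450d190db80d59077c06ec076c0aaa08c40729060e0fb3047800b10ab9049601e500fc03000be601670d3400ac067f0abb0eda0971053b06cc001d01a30860099003a20c030c6c0785087b088309050038091206330b78047405010862049b01b80d400cca0a1a0931091e00ea0dda01dc0f290bae003d0ed70dd102eb085c0c9c0def0caa050e03d301d60e8905720fc5048909ec0ad40be00f2105f9047f005105ae033704fd07d9094703ba0aed0ae1060f05600d6d0a6c072c09dc0412020901e90d9f02c50784007b07ab0ea601d905170bb40c570cd8048b044c0269056802b00409063607de0f9f016203e80641098704e90e700643063e0f88007500cf0f800857019401ad07ac0ee80d9e0e030de80b840645007c06fe06c705ea05a40cbd078300590b5d044109fa04c20780068a0c29040c0a9a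00920a130b630c02024e04e709130cc6005008a80d1705fd0a0004c907a703150dd208040073000d0ab103e5077b0215084d0aa604e009b40fd90da804a60ec100460453094806c100b5093b096303770ca807b706770c8000cd0c0b02ad05390a4807c308b0031404580f9c09490e6703990e4c0d5d03540c160be90a240d25001508c806340a3709960a62066b03ad05a2071f03e10eef05280ae30c6403950d100119092d015f0b160009084e0ddc01f7000403dc09aa075803f7031d061b09e9092e060802a5088f0f4902080f9600b70bd8043c0de1050909b2001b01ec0fd80e480ef60e61087d02280b00025908e20ba50ce80d8d018906e7078a0a1d0d72023b0085042105d4001407b8086906d802d90196069a0dca030204d30021035103600ee50af8004f09bb0fc900d6083d0bf1005a0aec0349013605b806ee0d880bf608990f8d0a760aaf05cd0b090007048a08980ab60202048708230d9d08db05c40cd4034f0b7a029f0fd30c4307eb054805750551044d014a07d3057807fd0e1005870a38013400670355090d05310e5c0c8f066109f402cb0f000863038607b5032b062802790c2c088e0a900039075f0e010fc003ef0797091a09770cb2068803d502330f4c0e2e04da0a270929,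
  0xfff05bf08610e5a00390b560dfb088d09b6054806b3061f0d9005d00d8300300ffe06c002dc04090e07091c0b3e08000af801e307b307c0015006de010a08530ffd0fc503000557070606e6035f0e14060302ac0b0b034a06470cd1061e0b030ffc0f1d0a8c0c4d0386037b042604530bfc00ca036c0be503ee0f4f08a40cce0ffb04de090900fd0a580ade0ec90613004f0e770187061708040ae508a609890ffa0e6a07bd000f0c3c087606e50d130b180906014a00cc069b076e0925003a0ff90be6088e00fa09d506ee0aba0e7a0299005c006e0fa808700d4106870e240ff8056d01d20d0702fc0082004c0e31087a0fd20628077a0ce304c0037f05300ff7064101520a3604710ba009bd066708ef0bb6086303c70b330f2a078101020ff6085f0da00fd50a9105c408f70be90fa601f207fb01b702f200c20da50dc30ff5027700af0d0e021f0699012b06c30a7101c005df08fa04a3047800fe02fe0ff40c350d540bbc0d4f09b10a1c099b09af090a00d201110544001b066b0b080ff3017b0462023002b905f80ded00da010e07910a800b9403d405990b0a0d3d0ff20cdd029d00c30c5309950e8908790b220e5d0a2806350de80615050c05aa0ff10592084603ea05c70d5d0c290ce70f840cee028901590c790eea04fd0b780f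f0069508ba0e8a09a10b2f06b0062c037502cb01ec08b20ce2061c0916087b0fef0fce05d20df50c2c0770056c0e9c0c0f08c70b160e2107db078f096009150fee0d85028d02a20ad00b8d025e0967035d0b55006a08ea04fb05870beb0ed70fed0ea2002909200fb80ccb07620a8b0cd20aae061a0a7a03c00f850d87087e0fec00f5055a094905b00e8b019802bf017d019e013b04e804980fb60efb0c800feb02940e3a0a95011b06c2045701bf0f670a67036a01b3067504e20ef109610fea0ba40da3071c02ad0d8b026109620d6805db01bc0f330d4c0e3b0310080b0fe903e005690bf30a5c044a0eb60bef0ac10acd0c920a2e0cfe03e7040300e60fe8004607260d1004020e33011a05930bee051002800c4e0dff0f3d0e290b440fe70a9b022d0bf80084067a084a04490a9409cc0c6e06c4047c02a40d5c0fc80fe6004801f5046c02a10ae10c110164058d03800f04084500ce05ad010803570fe500ac05670deb09a00da20f3f0f000daf0ecb089c0535011507c20df90f8f0fe40dd70ac40ce002130e7d04840b530c1e0188005d03cf0de609c001410ef40fe30546036805060ed4008d05500c9c05af03b50e090eec0d8a060402d105dd0fe20a4201670c8d0265025304c3003f082407590f20013e090e019b0924040d0fe10f47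0b71074d0d5202500fbd076d0e1507d20e6d0b9805640742075a0c570fe009e50f3505d40bac0eab0d9905220edd09320cca0c9d0f8d08db0f420c990fdf0d9e0276002b01cf0fc20ddc0b7c0caf0eda07f70f2f014805450e840e190fde0d8f01a90bf7021206bf072506830341088c08d30de10e160b2607750fae0fdd0ab205970c01026b089a01e50a880bea063701df0ebd05a7085c027f066f0fdc04d20ae40dee0a38035a0aa5068c0c5605b200e2076908df0db701d0059e00e80ba80b9e05a90cef07ca08cf056109c207320b9302f809c101dd03db020e0d9f01ab0a7903d60e300b280ad40c7f0dab0d050dc90c9e013a0424000b03b009970b370a0700ad0bf5049c034806eb031a0d38034b0c13073800f309ac020d04bf0ea60a640ae80ed00e7f049e09430f5002da041905f60f9f01c600cf0d1600eb0c7009170f65012707da04080bfb0f7a077b0cc50d5005330fab0d20094500120c46028804a80bc8024e0607034d0df407d904ed06f005a604950751071f0a050b3501e00f6b0b3a07850bdc0db20c4b006d043a01ef09cd00a70d4607cc02ba08e907b8002701b50fdb0020073b0e0e029209ec01570e1b03950ae701790de00190086a0f6103530a5a01990446045204cc0c0d03e403cb020f0e130f9304ad094103490b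360d1d0bc3054e0a900673039d0be005820edf0c330fb30d7f0d3705b900d10e6001fd0a890c7102670cfd0dc8015d093009330adf0788039e0bd001810ccd090000a10e260c930896020c07400c260e440dde0ce8081a05a80f770688055c0e2d0822066309d108a708b406220afc047609b70a7306d90f130e01057d0f570a610120013602200d22077700ba0dfe0b14060a03960c85063906c7004001c702290fbb0874081003e908f5007b036e0443068409480bf2034003340d4b037409a406600da10e2506ca0729077207ee049f05260957070d04eb0def050e034209df043002e2074f0d820d8002d4079506ec030e089b0be10c05082507dd07cd045c0e980a0d0aa60dae07ba0713098d03510f950f430db6098f08440bff086402a901ce0ba30fb403330c5a0f4a05c20fbc06a20efd0f74010c027a0bf60c610787091e008f064c03bb0570033909f10c6c05310cd600b7013d089d029e0b130e3e0ba7005107a302aa00c5075e0678038c0d6904d60221033d0dc0027b06a70b0201400f3802040a3a0cd3007a0dda0a32092f05840ab7040f07640da7036003250b8f0ce50b880d3a08c604a106e4000a0dca04660205002a02c10f9b0e520d6e052a084d09f201f0091b047d01750d7809c600e308d10f1201700d6a0f520d0b0ba9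012c067c0e8d069c06710aea06fa09f60b300b5403560cbe02af0a0c076a09290c8c02070e9503d90ecf0862043806e20d250df007030e1c070203240f3b075703d300e50ac50eb20b0e02e90db001bb0bf9092b0565067004ef069404100a06093f04bd0c3d012a05660c7e02680ee3047706920d1c083a07eb0d7d04580b790573053e0d210ecd0ca501230fc90a3306c908590b3409f3003b0619071401cb09bc097a0bc704a503890b11087202fd0abc03450ae3086d096b0eb007f80d11050b044d01490bde02c0099a02c5063809be028f04d80e6e074807fa0a030fd70a400a2206d20281029a017702a609eb0a970782011f0ace09560c2e099e0f480d930ab40b7d03da0a1a0f8c08b30c660f86096f035b04f20a6006430d7000440e6405000d3608ce03020fc3026f0c5d02d80c6506db06340de302550579052f04b308970f7d01630266058a05e80937088204170b6102960d550ac709de0b3d0ce10f7608500e8c01a6083f09700272017f03a50f5e08d80bb0088a038a09fe0aaf04e70903030804c80985063c04590ae00176097808520067071103760fa20e1d04970d640223010602f30f0f093e0f300cff016000aa0c580cf104670b06070c03e304390c8604c703b60af3067d09cb03190456074a025203590b8e030d0c6701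8603280c20098c0dce023905b700ae032303920e4a002d0107009f0c2a0eb506f700570c8e0adc0a830e82012d01960abd0dc50731021904b704f6055408af08750b6f02cd0f4b09a90f730e9b045002e8064e0d6f0ef20c47013502ea0e78006c04830f0a0d1f040a00f607a2086905da0a8d0ef50b9208420f8e0c4c03dc07460bb807df096801fb0507055f0d650a4f019205360318049103ba0952076c06c10dd90d190f82048d042c08300208032d01ad09a7019507d304be0a0a09660d060a9d06500cc6074505a00a4c0c22049304070ef308b900040e8e03ed09e105ca0c9b092d0f9c06640a6c008306a5057a047a029c011c01c30f0c01b904550d300ec00d790a1e0afe07740aab021e0eeb07d7088b08b704c10ba60ecc033c0a530fa300d70cc80f9205510a870d5e0e4601d90dd10cbb037d08f10343070809b408c907f10c09079706d608180bcd08e101170ab00849081901d500c70bca02600370030f04510cad02dd0c77007c015b0bf40d720b9a0bf105900ad20ae90a1b05b4047e0a740eae0b090eb4081d0475041c09bb09fb0d5f03a8009d0d63047b02450d31057f008a04bc071203cc0b820e050d23001d0f5f04c200c807de0aa804ab06cd0ca10c600a3b07bc00100a4302b10b6a04540cd4009105c6023f0fb20d77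05a305b809c5059f0c28029107ec0e47054f07280fbf0c7a06b1096e03320c960657034f04610c1403ad0c6d051d0dec0bbd04290a680dbb0d1204d10b2a070b01b20f1405fc05d703f60cf80b8000f80982044f07bf00f909d9098a0cdb0400044c0bc1055203d00a0006f80b4d0c9a012801a1070402a302340cde0b7204b6018b0076058f068109590eb30736046e033502d9074b0fcd0fb103b405bd015300d30f9a0f3e0f490b0d0bb408a801a30a7502ff0a9805ea07ef04b80e0d06020832071b0f0205710e9a073505de09720f4e0155043203af05530d9600db01b803fc02740be80fa509e9073c043401da02ef0c040f4104850aac071605a2046d0217095106200bdf05fe0355099c0914058b0a2b04720210022404bb04d00aa10a3d043e031709da00190f240a5709930c950f3a06970e920f550a2307e80bfa0fcf01cc0a2702bd09ed01c40383021b022f097c0a100bb909e8023302410f320503007000e70b470a13055806140dea020001e80d1407a80d320b7a0b5f00de0ad706910df70a960a55051c0d760f890dd80a4e038102a00939024b016200bb03a709f5024c03e106060ea9095e070a06330df10eff01a7008007e905750d3e000309a304b90469037e090207010dd50696080f0b32094a04050e41060908cc02620a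56020a03f2096306ce037c0bc2062902b70f220a8502690f8b07e7080508c40b5c06f901ed09ad06d50ee1041d07b70142072305e702b2009207c60470043309900b6801710e7203e2008b0e9303160adb0d91090f01e100490ad30c12052b04f40d0c06d302900bc00d4e00730e040501039c051200680e970fc404e303a2092202260fda046f0c5e0d0a0b870dd00c5c0f62010d03440747088806f504ba0f1901d800b1057701a00c3f0f5a09110a500b8907b000f701ac08f8018c048a052305f90e0306b4076606cc0514078906ff046a08f200620119085b005f077104fc0a6f0b4308bb0d0d0e40064802c409500db503270a1206360b3807fc0015085e0d4a0d6208e008ae005a00e0055e02e3024f08ac0a7e05ec0a8a0cfb07c5025104fe0d2608c50d2f0183037a0acb016e000700240f8000d50d3f08920fb5061d09080f0306b803010768062b0bdd02fa03900d33087f0edc02f500be05b509a80ea80ece05f1027307a40c7506890ea40193025a04d506cb00dd08f009650086092303c409960c940f630b4807d006fd00780a8e0f3c05fd06180023094603c80f6d00160dcd0413062703ab011d0653056e012e01c10abe0fa107d106a60ac600310282091d0e560df3048804a208a0014c0c420021000907cb016104420c8900ea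0311065e03040d6b07900c2d0b9b03520c15083b02e00b5209ae0ebc05210388083e09dd0e4c0425090b038401fe0fa906a0075202ab09e303990d860cf304aa0c48073e08cb0f9407d50a770cb00ce403b9070509bf0bb30d5702bb071a07e3011405940d090d9407ce0a7c074c013c0855032b03690ad507830cd5098409880998043108d501d60ca20b2303cd04cd0e5f079309b3083508480dcb036d02cf00a8007f0d2b0b2c0f3709f805880448020304e003b204790d880a0e087d094f0c3a09aa069e0bcc00870c7b0e58057e0ea50a2504f10ad60d340fd00d6c02b3017a00990b050720053a097400ab0d4d0a1507430e110a47008e0dbf0afa025f0e8509d804b50c430d3900a30dd20074015e0aa205ee00dc04a70c5b02060ef00b8b0c23038e0cb901ae02280e4b02780d7c028a0b590e1a06e30e1706c5019d001a089104f8000e0ad8072a05600d4800050eee0c3e05f200b5057b077e0cb2062d054d069a0c6f00e4068e077d09b50c2508fd0b1a05050c4f0d5a0346092a08210137039f01d306bc070e048e0fcc0773003807dc048c0a210f7901ca0056060c02d70ab303d70c0e09d7049d04b00dc40b490d24080305ba07fe0ed803f80c270cda0e2e0baa0b9f0c2b05a4051605370001033a078d0b1c01ba031b085a088f05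f409a500d80c680e610e3d07920e5b085809b200a00f4003b70f280e730cb402d608da093c08f609120263092703220a9e0c8b0378064b07be051e07aa08d60b0c026c0d61026e05b30cc707a904a601f80e69040105760eb80f4c003c0f1e0d350f5c0aaa04ee0a3708d70734011e06680aa305d60e57080c0cd90c170cd809d407ea0f87009507100f5d0248086e04f908ed07e202c80ee604da08e60910002e01030f2603d10f9d006f0d2908dd0ec100580cfa0d43009b0e0b00e1016d03ce027009350f9702840eac08730e8005410f2c06ed09d600410f06007e03310549012405cf06240d98079607a005f30f5609ca0e540ed90ba506d8046401af0a040cbf0831075800f40c7407c80169061b079b026a05250db40a52024a03c200bf0c8803610c5502c30bcf0c07038f09ba084f015405c10b0f0172076f0bd5020b009a012f0dac011005e40ea109380c060df8022b0d660a6b02e40676084e0d280a54073d0abf02a8065b0aec0b85019a06f10ca608540fd403aa062606fb0bd90c3600500b00070907b1085604860e480814063f0f210e88029807b504d9002c059c0b7b00d00cf903d80ce90dbc0b7507f304470b5a01290c980309060502c90bc40bd8071d0f910801043d0de900bc0dc207b900880a0100110ddb0f7b079a05cb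0cb80a51093b072b03a601a50bc606a10e7401fc0be20c2f0b90050d0dc10973013802df0e39030609440090098b007701560d42045e05ac0895050a0e450c0002930faa0a9304110ea3018505dc017e0c1909d2038b051704f703200e37015c07e60eaa09800ee00ee4026d0f530377017802fb014d0c4101050df208150c54082d0a46001c0a3e0d0303e80a2a0e4e0c380f15042801b60a2d0af708370be702950659042b025705d1003d0e2b044401840b5103660e0a0c7d0de20f340d45054c017c07180d51060e06490cea07e10a5e0a9201ee0a9f0a440dad03150f3606b20218003205a105020e860eaf08e2075b0eed05b102440d010b640f230cb60e23076108510a62054b05e20b1f049a0b2e0a6d03290b50064406f60151053c03470c4a05e10fc70e220aeb0556033f06f30126081f06d10a5f07190a3407b20f1f06010ca40d710707003300fc0db90d8407ff0b4106dc0fca0d9b0991021a00a4027501dc0eb10bf001180487062e02e10c7605890a7802e60a2901cd004d07ab0c3003f903eb075f0f29098708d90983025401d40f7800280e5c06ac08e800b30ef6065d0e650893005400b40bd101090f9606310b8606f20e6b08ca031d01740542064f055d00890fad01e7016f0bd3038d08a20d7e06450b4c081106580d530e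9e042e015a064a0ddd0ead09ef0f6e0f390b5b0fb7050902640c080b7e00ee04d304c504ff0806059a02f409f001b004820dcf0947014402f90c6907d4078b0ddf02a5018f01a2040607c40b3106bb075d09340e0207210ebe0f1a0b040cc008e40c1f0bba01e20f7f06be06fc094e06a400cb05950c5201e60bd4072209e70bdb065f03500bab0ebb0b1b0ede0d02097b04c60b250f0504f30ba100750f27099f039a06e00b1703050ca8080d036f01ea06ae08780d8e071509a202110018083d0ca00661063201310f2b0d44015f00590e340e1203580585043602160287010003130a260682098100260259023503ef01160dba0af4089809010d920489052c0ae20fa708a50ac308ad0d950d3c0e870d580a0f073302f60e66021406b901c20c5108bd0994079c016a09c70354030c032a06c601040b9d022506ab0dfd019c0f11082a0022096c0add04ae04990f46072c0afb0e2c0c64033b0d1b00350a5d053b0cf60d1a09d30f7107c303940e3600660f640a3f01f30b96096a005505ab03c10ab10e3802b0065506af0a1f0c8a07c10c7c028c0843020100a20372077c05e00d750bb202d2078a000c0c160158076503640d2c0079067e0eb70a65023e02310aed01de0eba0d470c32029f07ac078c04220b400586010104a008f400140942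08470f5801f90c1d098e05400e490600066a03360b1d0e6708ec033708890492000d0ced08fe0c6b02020a2c0b6006c80e7b050f0975072d0f0d0bd70839023a0a8f069d09550bbb0bc90dc60ec3091a0cab01820b6c0d6d065c08d000b8006b09b00f160af50085045b0de408600b3c03a101be0cd70a760a5b0e0007630b690d600cf0038508a9001701db05c9085d0bb709640904023603a409c40af00427062f07170aee060f0fa00aa703d5064d05c0063a00ef075400cd0e0f09b9033e048b05110a160ad902be046b031e0314089403ca04ac0330022c07a60fc104cf0c9705d908170e6f00000fd603ae09e4061100f209fc05ed03670bbf0e7902d506510b150a63023806aa056f07990093018d0b8a0ae60b120ec8041504e9068d00c903b80d0f0b6506b60aca0d9c0b190ce605f0053808c0068f00a906210ee70b3903ac0ed306df06a308fb061601e9041e01120ed608230b6202ed086503a90b5e05c307b4036b01a80bcb0eca084b08bf06bd0bfd0a3c09fa07370e3f07270f880fba0ee8058c0a690b07014306860ac903380aa902e707cf05bc0e500e900ef707ed0a700a0b0ee20b2d01300f45042f08260efe0edb041b0ac805d807240e0c056302c7050808f30e1803f30809048103870c390bd6041f00020f5407860b3f06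8b0d00077800d60b8c09fd07300857092105a505fb063e07e5078e07f00c0a059d0283078001c80ac00519070f0dbd0b760760075003dd040e034e0382081208eb0ea706e90cba05680c1a0b63027e003e0749096d08dc05f5043c0c5f097600430bad031c09920c1b0d97075604a90dfc00f00d04028e0237004202c2032603ff03ec005e05270a30009e0f2e0da8051304120f7e06d0092e052806250c820db8051b0ea00739051a068a0ba2006002470f0b0665086706ef0784030a08840a810816016b022e04800a82005200450b77018a0125010f02f103de0b6d0572092c069309400e6c0be40883034c08ab0d2709530e94091904d4058304c90acf0420059805ff0cbc095d0b7f0bec0c34066e04e60a4a0fc004f00798069807a109860ca30b970496066201320bed0acc0bb10c0b0e2008cd036204d700d404040c62051508a300ff0c180c8f077f0cf408b805bb05e508b105cc025c021d023c007d0da603fd09260cac06e1089e019705fa032c00610d1509c3076b0ccc00b006da0e420f830a240ef905240a990dbe084001c5094c0a48017302d0073a03f10f17086f005b072f049406b707c700bd049b0877083c0b66095f043f0f7501130aa406ba00960529025b0be304f50c7309e602970e7c01bd023b03c60f5101ff082f0165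0905047f0e9d0e2a00f105ce09f4030308200cb50e0605320a9c074100a605550f680139022200ed01f10e550610093601aa08b50b4f060b0c6308800a7d04a400250e4d024908f90cb3081b0f4d07e0040c067b090d0ccf056b0685086b0e63082902560c3b0b45044101450c370aad05e9005300d90b5804210db10bbe08d402320ec60cdf0d7a0ca902db0b2105eb0f810d2a0979027c04370f900e75099905be07ae04ec083309580b4b0037084108bc0435053906720dd4014b0b01001e0f6602790f99013f075508a10bda0285079d0bb506560ab6027d0d5607790b2b0e35094d0a860f01006301800a4b0f700c910c31007107670cc402460aef04630a2f0a200f0704db0fd1041a09690a9a0ab50bfe037302b8009c0e0808e7092804b20f590cc309db090c0243032e0e1e0db30de7095b03fa050403650094000804b40a1d0daa04ea0a490d6703e6093100a5043b065206080b7303f0080204df01c908710a180813035e0f7204400cb706540aff0f0e0af203790c2101890d8d0a3509ff0af9093a0e7005780c4400b6066d097e083609ee04cb06790cb1071e01f409770b6b0dd3019409cf089f02a70b8407a5080e0ab808660d8108c10286044b04680d400e1009b80faf047309710bd2014607440c81019f0b990fd80d74069f0c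7205e30e760c4507f200ec05e6020904ca0534056a0dc70dd605d306460d5b094b03c303fb066c0a840de504e508aa05c80ec7032f0fb9069001910f440d490a6a09c9077609a601470a7200c106dd0c4009180fbe00fb081e0d7b02de08be04af0612039103120f3102270a4508fc0dcc06ad04e40e28091f012206400cf704dc046509ea08ff06230eef0c100518001f00df0ca70bce02eb0ed1067f0a4100c4039b024005ef00e90cf2063b044e0a140c9003a00a1707a70cdc029b0ec20a190cfc0ac20f6c06e800690fcb0ceb00470df6046001d70b27045a00b20abb08870b950cc90a09024d0b29004e0a3907f5082e05b6004b03be0e990e91022a0215097d0c0c01a405cd008c082806690fb0080a03bc0562030b0dfa08de05430d9a0a7b0b8306fe04230e510f08048f0f10082701b101f707c90e7e06cf02ee0fd9097f089903df0954002f0393009803c9072e0e8f0f9e0a3103b303210c9f053f0b700e9606d40cc105d5018e0ab909e0086800640caa06740f1b09ab014f045d03bf03f7075c07af052d02b60b4603bd0072079f090704450c7802f708340bc50d0807940a4d0e43079e0398028b03fe0418082b0a5903f40e3c03b10680040b0c830ebf053d04c408c3035c07e405ae0b6e0f7c0af608b0087c059b051f059108d2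0a6e04900e4f09dc0c4902bc074e0d3b0d89025d081c07b6010b0d2d02b401660b3b004a04fa00c60b200d590cd003f508ee06a8054a0e810ec50da909f902ce0c870eb90a7f00650f5b0f8a0afd058109f708e50a080d1806f4031f02580f180f1c016c0397060d0b740ed503a3055909c80913047403e50d1e00b9058e03d20e2f04b10e830e530b910f6f063d0cec0bae0fac0b1e042d0c500e5e0b420b240e710b10067700c00ada0e1f07fd083806d7023d05200ef808810fd301f60c1c0753012101e402420f2508c807d60cf50b9c06e702ae01d10f09084c042a0d9d0e320ec40cbd0c030ed201eb02ec0886041603c5000601b4063003070c2408b60642027101340a6608080e680b4a0c6a07d80d7300970d1702e50c590f98001307f90ad1088509d00f6a08900a02041402d3065a0d8c02f0082c021c0b5d0efc014e0e59037106660fc60f6000810aa005c5052e0ee509e2073f045f0e2708c200340c0207ad0f2d016802cc0e9f086c04ce062a08070b810700054705960b4e04dd0af107f4057c09ce00360a1104e10fa40ee90da401fa055b02c60d2e095c0efa03630b6705f707f6058002ca0cae02b5095a0133093d0574099d0e620cc207bb06a90b570baf06ea08e30c840f6906b5,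
  0xfff04b203fd06160a5e053f0e7107bb01b407c308530a6d09d8038f009001770ffe071500530d47007e03c306a7072902f5078c0e1c0b910d240f4f01fe07770ffd0ec40aef08b90e57076d0c9b017b02360a300a23058b0bac0524024008fe0ffc0353088d04230c6f0dee03730fca09de0b2b06df045205e80669091304560ffb044d029e03da047e058d09620ab004eb0ced0503028009140092098e027b0ffa05e90d3609650bd5098105c203570bf005f503a808d600af0edc024206d60ff90c700cb808fc009f03d705fc0d9c0e480d660f2b0058051f0034053e0cb50ff80392092901e20832060104f905600f1e0ce10e6d0ab1011308c401350ca70ff70b1b0c2a0b1706a90562014808f70d2301c604dc0ea500fe057b04f20e0b0ff60ea301790d520b5800550afe0f560d6400c1050b0337095400240f6300860ff501ac06490531054b01ce0406039e013f06f50fa609890d430be2026408f10ff402aa01e409ad0a3600c60624013d0525009a054009ab0895092507970fd20ff30ceb00c90a8709ff0c300d0108490b7607c2094109b70d150bb308a602e20ff20ada099e003d033b083d09370b0b0c3c023204f50038092c09400f08033f0ff10f6d016f0570092100dc0e2e079f0e0c07c10b000aca0a0903ff09e80be90f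f00dce0dde0604059e07550b8b0f6909a2078009bd09150f1f00ea0c2b064c0fef07b80eed0e170f0200850a2204010ac0018305bf015f0ef60b10040804d40fee020b06880ab80ba60ef00b2504c8018709350d80088b0ddd00600ce40a0d0fed064702e0017a033205340d840a3b019b0f9807140e1505c708750d700f090fec02fc0e08010a0a4a0a8b08a5087e088a0a78092300a6035801260a4c0f1b0feb0e540237016b0198013708f808a10a43071e0c95034d02090167063b02d40fea0724048d01430aa003a405e3037a09e4063f079006e60fb102b200940c4a0fe904050a0f0b240f760a97005a0776081d042600d707810d200c2d0b990a280fe807260e2a09df010604da05a105900ac80b050c8704880959060b06d700f60fe701700b92031505ff0f20082e090601300d1904af02ea078406c502ad0d090fe6034707ce0d4901590810089d09c5040a032b097a03b303a0052f03c80e9a0fe5054d091f01e908ca099503b205b20cc30df10c0204b00d780f64006303910fe40d810fd807920acf0e750f490593062d0e4100bc0b3f04590c8a0b630ace0fe306780400002a081b043c01e70770090a0dcf0a370caa03e301a30df607850fe2067f076b043407fe0f2e0139087c091604250bb00c2406e009030652022d0fe10c83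0843030a064008450fb60f3307b907570b690a080c690fb20ebd00070fe007f002a20d510ea207ed0ac700180b120fb0025b0978003a0b3c0f8e0fd60fdf007608b4046a05b60da00d27036e0c5d09f909750c7c01ec05dc0d8603ca0fde0e90021200c20db8090d04c1004303890ce7095a000c07730851049509a30fdd07820a6303e90ed500e101690d39098500c4095c0ab506460a560f5f068e0fdc00d60f880c5f097200590a9204d603be019f0d0d083b03f60dd00c1306b603130ad2040b0c770c620660038e0bf6059509a404dd0b95081a05e40e7300d90d680a690c4b024c0ca60f160f520eeb088e06c209c406a200d503740e30066b0ed4089f05ea04ca0eda0dc300730912055e02f30cd701db001c0431007d035509c0036a036d0830028b0e7f02f10bfb036509ee024900cc0c92014900450fc405ca0ed2061405d70fa203860a2a008e028c052305d9018806410bff06f20efa0a58075b0ebb0bfe00b003f509d2062e0bf40f010cd100a102d20cba0ef402fa0bbe0fad05dd0360068c01e00f7c0e490210043b015d04f8012d02c402e30cfb08bd059f0b3b042b0f2a04b1065507300e0305ec03a20e000685073e03d60fc204ad056e05b80462065e09fa02820f0b07540873053500840e760bed0a950d55021903c600e90f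8c02e40bc308d1093203c90fc103e80c750dea01d40b2d08a4037f0c5e0155054c071c0a9b084709d60d2a000203d80322077f0fb50924018e023908540d890ba107f2008f05630efb08e10e1d0c9408390d140e7d09440c93034a092e02a4022b0afd0c9e0df800ce0f2103db06da0a5d0bb104a601520fba01730a930aee0d0e0ad4018d0c6a018106b30ccc0f9108f305570cfc052a096e0487002102c007ec064204cd0ba30b4b0067074408fb01240905023a0d6b05220f3602d60b4d000501ea0270064304de0719076f06a40b09096c05d001ad0f430c64086200810e3e0ebc02b708d9027102a504400f05032a0f6c046e06ed064e0cf9010400d106030684092f06be03450ed005f00c46059d0805004f03790f8004bd007502ac06ef01bb0ae1048e01f30f8b04a70361038006630a85081909940b4e0fbe01ff043301150763023c0e0602be0cb90dc404810a610c220650004706930d6a06360d100aaa015b037e0806043903700f9e07a4051d0b3a0a120ba8032d08fa03dd068f09b204940ab207ae05c504e0049a0c040ed706f4003e028902ab0c66062104be0415013805a00674007a007005810b6e0eb60ac4094b096d0cb303090b4208ec0f19031e0f990d730e7a002c03fb091e0a07090107f80bad0a890909012007980edb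0d5f02fb00a00e820faa0ca208ef09f60be008e402f700aa002205a302340e8005e5085f0b360c1605cf0ad309c80381088f017408170c55097e06ea0b9f0e0a07170f5d07400f6f0a4b003607fc0699000f0f3e062f002006ec0894013300ff07860de40dcd07610c8001610269063708c00daa04e5016e04c70ba20803061e05a502ee0eb907e704fe06af03200199001009ef08df0a860e310a46074b0c1908eb0c120f0e0a1306bd0ca4098001630d8e099a09fb09c20368022e054e0d69020106ca0bb601c209ca0dae025a00ca087800680abd020c044c0ec10d7606cb0d4c038202880b7f031404630d6e0fc602a8020402db07510c8e0870012909fe01230e8606bb04410c260e950e810c5107e40db101be0a2e03fe06a60ecc006f021f08a30f870b5007a9031f03d90118053905190c2104f70b930ae30e2d05b50e8f0a99014d097407710712044400140a2f044f04ab0f2f01ed04a20799070e0b0802b508e2026d0657055002770583047101b80a7606b0067a010006a807b20bd7036b0cd2012c08d50b5a000d0adc0ea00530059b005c04370c600e090fd40ac5088605df0eb00af10c140c72066405780c9a0e16034302970ba00d8b075d05db0d4e03f809a808070e5a05e1069a007704190689082a04f60d9d0c3d0dec06d109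100d720d8d0e2405ee02c7075f0ef90b7e09b40c3b00ee0aa200d806d90f71076c08e80bba0de60bf20b2c04420b3d04cf02ef03480de0015600f80d6f0c9f0d0f0e10008a0ef109040f6205a904e70c230c880a4408cd0bc90d370aac04d50a1e030709760fd10ade0bce093f0a0306fd058a03e2040d01e50352075c05cd06770ee507b00c9908aa00c00b600e1e02950b290b62055105b907df070b0e500dbb0dcb01d105ef0432001e0bc100a90ebe07a7045e090f0b02096a09ba0cf602590b040b8109a00fb806d5089601ae0d71002d0bdd060a010c0e5b06dd07db06860a170867058f00a2074d050a09e30e7b02b606c90ec30a9c00a50dff03cf01d909530509038b066704fb0d0a0c84066202b30ea702d909dd02170d870e2f046d03c70f9f03d5012b0b38083c06790aba00ab04120cd0069203620cbe0804056d0b6106650afa03b00f8d048601d60e6e00d403a300f2091d05490ba90ab905de0630047c0c8c09e5098f0e9b0fbb0dfa0e2b0c360e610f120b53033d03d30d960c4500120e47097b00080d6109a6029b0d79065f025503080cb20af60e6a0b2a08e003fa0bbb058c0fac0a8d043802530e8406fa07640f4608370e37022102bc08c90b430f070eb70e8b0484029c07a109110eea0fb90227016607d505c901a10762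0b4003b40958003c073b0b8d05ce06090e5103710f260c8b0d9000cd07450e6b0ebf0f7501ef0d38024406e30d110a1606c003ef0584005e078709b00a290bae002b0bb20e460cae0b3406e701d502520ab702c30b870e53095d0f7b0ee0096b08200ae8050d0bde039b0eb20424078b015a07420d410d560eaa070002200abe080f07e301f1002801b905f3093308dc02050acb061a08a90a40086a0898019d0d4b0f4d08e607bc082305c00a7e0e8a0760028a069e09c604300a150b1a086f00f5030e0fd902c80d1301250436078a03ed07cd0da30be40e420e91090008d40c59074307fa0d1f0f270882040c02a707830ee8009b0a3a06c40c29035c0f970ad000d00cd90df70e560066004907080f7708e706000a790571025c0b2602f60c1803120b35070a057c024a058e023f0ea60354045d0a01054f08790cab0fd00e680bdb0d02089305d408710ae00db4026a072d01420b07079b09d400bb0753035d0938090201500be30c74090c02c605da008908ba0fb70ce50f130ee207670df9022f08de0cd30f3d0e19086901aa01cb04b30ef800a4002703a601eb06ae07e50e340ae70ddb04f000030a000f1809e6009c0a4d0a710c860d45016504e90a3c0a49080c03230ede0b4a0b410cb0093b06b507b5097f05850d500a7405410d9a0c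2509f4082c0ee40e200e0e061f0de50d3d05580e1f0555030b077e0b6b0f7801a00aad0f930ed60b88050509be07d8062502b002cc001a0c5b0df304570d120e7c0a770d2f05fe0a9f076e0bcc01de0bd80d97069d08bf0304050e0f040216051101c304a809b10e880d8a07310f320a1901b705d10b660a5a0cfa0bf801ee01c0085702810d98049104c409c301a50d3b095b087206bf09f30228092200cb0c850d3e0d0b046b071d0c2007c009d303970b7503ba0da50970047000820dd90cf308b3037c03ad05a20c080dc801dc0aa901b20705033405440f6802650cd5035b03060d95042c0dbd08cb079d0ad50f3f07c80dd607de0a840318017c04040d06050004720d2d09f10dca06590f6a094d024f04cb07cb0d1805210c490a27021b006103d2047a0aeb00e40ec908b7077806980bf702dd045f00830f110f310bfa057f03210e320258077903500b7b02cf00f905be0064008b0305003905ad00800a6f0c1a05520e930e390aec0cce08c30d1a0bd209d7038509b60ccd0bf9049c00330edd09300a1a00f70bb70814020002dc0338049e087705f20df505770e3f08b104a40b8e0af40e5d0e1b0c78013e068d073801b00f390acc0ead0e250afc006e0a330f740e72094f0e270d990e44031603fc0054069008a80d5909cd061c0c89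07010f1d099c0a8307e00d750d830f42010e08ad0ec80deb098a07ef0cf40037053607250c73067600e80f8409490615096f0c3a001d081f09c70e05077b0825078d0631002e0ac30dfd0c4109830e620dc90ee7080b0e7902da0e4c05480d9e0a9805760d740dd7081104c6072109bb09510fbc07ee00a70dc5026601cf0e59022608c209670cc9022c0d9106ff043f0c340f2c02d802ba0dfb048a041e071f0c030f0f0f90069c04780d290b5403960b7d08c6095006aa0f100897075807c608ee04730114027308af03bd086005b40fa30ea400ae0cc50af0061d08ed07d40ef70a6b04ac0bc50f2902fd0d30011208d204a00e660d4d09430d6d099905a70e8506b1005d0aa1062600190f1a02bd0c4407ff06950dbc0cc40ae50ab3029108d80885015407c70cd60e83011d0ea10eae030303ce0157027c0023055c02de0e3b089104610dfe09ac0178003b006b073202f20de80e7e08b801b50ecd014a06ba0a0b033e07da08c70db301cc09b5085c07c901210d3c01da03d4067500c30d9b0d050349026b0e6f01960f450720016005910e600b1c0a3f0b6405a60d3103510c39042d06fb09550e7800160c0d08ae0a5b0b470d530ad1005f0fc500c50a3d0c4c071601e3093a0824005b033c0ddc0a670ec006c60d7e0e010a1800ad089001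fc09d909d5062c072b0b5509180d350507054a0ca90fc303f70aa306220aa600d3090e0bc009b800f10aa80d2b0996056b0035094a0b5f0575046f0e3c05f60388004c0f7e0b0105cc0513086e0b0f0ba4051208b603360a65092d08e90c000e8e0b0e099f008d037607a80c58006905290c7607e10285079e04110a2106730884082707bd0f030abb04d902f80302026c019405cb02240d330934092b03c20e4008ce080d0278070908bc0ddf08590be807cf0d1604470881093605ab09c9099109790e3d0a53067e0bf302ae01d209f7070f0e4e01a8083409e90e5e07030b80018f0cdc042f051e0b8f0eb802b40b7801c7021509af0a600dcc0f1400150f3409880b8402e706f10f2206a30842097d04fd06910ed90251049700ed01860d850c0506e507b30417009909420957005005f808cf0f860a730ce609070b2200bf05af0a54005706b20a6e03d104a10f53093d057908520bcf0947075904f409660eef0b5701c1044a0b5105820db20963001f000b0d2201270bbf0a8806ee0d6003280a0a040f015c00d20f2d0bd103f404c9070c0276093c054307f300e504f308fd0ef3085504aa043a0a200d5d0cb10b3204a30bea029d064504280a5007070c47086c0b5c000e03290454066804b50bd90a7a03bf0e6c0eec0c2f09ae0c53065c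0dab029a04a90b9a08330db707aa0d26087f045b0f3703e1067205f101e101f00d320b20038c0ea809c10b9b07680b7001160e5c0a11091c01190d3f0460087a0a310e9e0e870620020700060de70ccf0dd80574006c06bc01a40658014b0f9d0330076a010d0a81019a0da40b460a3909920af2035e0b680243074e0f9402c2062a023d012e036c0a2b0b3009600be1031b09f20f9b08400b9e0abc041f035a022209f0093903f10e69092a0df403ee0c4d0f1707e807d20f470e120b65069f07dc0db00eff09ed0427069b0b490d2c00be0f2309ec0ef50554049904e300620bb5082806e40e6705fa0fa405b001e6098d0f6e009106b4050805420aa5058602a00afb04d009690e640c3305aa08e3077a0bc207ab010309eb0414078f0efc014f09bf080e0072018501710c500b1f07560fbd06a50e2c0298080008630f480750018c00b60b9c056a013b0cf502d70d77010703110446034e07220b5901a20e2306020d67040909ce0caf0b6d01b30dbf0f28016203f0024d047b034f0bd40801084f07f407ad0eca0a6a0f570c1f0dd5085b05e204c00f44031d04130dac004109e108ac0f3a007400400f7008180f820c7b039505010cfe0e380cc60d4209e00f7907e60bb9032e0317083f09dc09a90e110d21048c088702c101f50fc9045806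7105ba03b8055a0774076508dd05d204b609aa08d7041c0b3302140469040703b70baf0fb30c35028408db00e00abf07ac0c1b0d1d048f0fa1065107d70cff09f8006a04430fc00f92060e000a020302310e3308120a7d0dc00ec60a260b6f0588074f095606110a620cb40b8c039d0369032f086d0a42085005d808210c6c077d013c0225037706d2053307a307c50d7c08800a9a04db047d00db0fab0f060ba70bef08da0d4f0af804bb0fbf03dc07ca0241041d0af70bbd03a906fc03400da20b5d05c30272085600310e5f0f5b0be7004e0e180b7403e002600826048b017d090b0a9d0aae079c08c1085e0a57065604b70cf806ac05470097050206830071053d0c61011b0815076906cd0ee1057d02a903ec03330c43038d06cc0f7203d00da708350004087603100cdf0e6500fc04ef0c480dd304e4062b079405c604c501320841074103640808057304d7027f08f6012a0c6703a1079a07b40c7a060d09640d280d7b02b10c1d071a03270633020d07910c17073307d903250a7b089a0e280b2e0c960b6c06700d93072804bf0fd3029608b008d007fb093e0cfd0cf207fd03e7046401ca0a3803df026f02e607d1052605d60bcb059a071107a0086b0b060cc7014c03000eb10b37041a05d30baa04790a0c01c9024e027406480e89082b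0096010f02f00eb50b0a07b10b850d62015e059403cb011a02a6039c057a07ea06b7066e0dfc0faf0813047f04ce0ce30889097709e200fb03560a8208a00c1c0629019501c809080bc40b480a240c0f03660bca072302e107e20b71042009d00cb7055b0f9a0c9c05f408440d0002f40def04fc0c910b270cea0e1a0e2606280dc2050f0fd70363010501d00993038a0dc60da80bd3045c046703b9049607c400650ae909870bc8020a0a750ac906db05200a3504100be5063905670042067d0f66084e030d009803ea0946066d0a51078e051c0510064f0aea011e094e04d80ae20ad6033105170e02096807130d9f0d0700da0bfd02d1050c0247059901df056405e006e805c8042204bc0bfc0d7d0816027d04e603c40029079601d801900f6101280f850a0409a102a1091b0d540af903ae08ff0aff07d30cf70f6b08f209fc080a03590a3e0db50b7c03b60b520a640a470bbc027e083e07f10a94037500b50246019104500267061205b705590dc103410b390ea90e9706100108006d002f0b7a0a3202cd07a5055d01fd00eb0cc80f1c03cd087d0fa8029306f70928092005bb0b5600ac064b04ff08650fb40a1c052b00ec00c70e450326004d01f8038405a80bd00ded01f40de20e290ce909e708d30db903e504c20514082d07a204550a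9e0e58083a0680021105f70c28099803c004ae05b30ae60ed106940cad0403060c084a04b40c0e091a0dd4079300e20c150aa70ce20b3e05380453056c00000a5908ea0d82077501f60f600ec20b0d0982017e0506089b044904ee037b086804890bf100b9072a03b50b2300b206960b03009e058702570ab601f70b670bee0b6a056906c109ea08640bda0b82053b0aed03c50eb40986028d02610a10011101a9023e038307d605680fdb00930d0403aa06dc02ed0f4c0d58030f0a6c02330cdb01360e130223046c0aaf0a45072f084b0b98063d016c0f3c00b806c70d8c0c3e0c110fa90e92047406b9027a0efe0537033a0e70020e08b2063207d006e103de0db603e404e809a50fda031c0d440e77063e0eaf021a081e00b10c570f670d1e03f90c5c0d340c7f089204df02f90b94026e02d301d702fe0dad06fe01af004a0e550d4a02eb0c2705fd07360a8a0b5e0eab0451059205fb0ca80d3a087b0ad8011f0fcb01b107460213089e0ca00d920cc10ca50d5a07bf04e205ae060f0ac60c3703f2011c04f104ed0a0e06f6084c0052095f03c101ba0ccb0e43028e065b02750f2500cf0d17063c033904fa06540c8f0230028f02e5087401cd06c809db0c1e0c710de9067b04a500e602bb0e36073403bc063a06ab0a8007370fa70c5607be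0e980cec0b2f004606eb02290fa002ff0748098c0c0c0b9d0d0c02af0cbc0268025407f60a4f0f240f9c008c0f51010204ea0a6605720a55025d0a7c074c049d02020b8a0319073d0b4c09970af501bc0c8d0cca03440749068b03ab051b0e520bd600de09cf03ac00fd07f9055302ec0d630078091901fa0f0c06a0097103a506270dd2039902620e8d0da60da90d5e0b7303720da10c6d08f509270ce80c090ee604850088024b01640c010b0c074a00440b9009b304350c6500c80c0b08bb028702380f1501a70e9d0a1d00f0070608f4011004290e3a0e4d0122098b063806d80d4607470b960ad702180f5c0d08034b0c310a0202560f4a06610eba0030073c080907af07950fa505960f7f025e075a06d30acd089c0ecb064a0d030d8f0b16083106d403e60917001701e802ce066f05450f730056007b08c8016a049f02cb01bf037d0f890fae07890aa4055604210727078807390a72019e0324020f0cb608660c3800250f7d0883096104d1065a0477014e067c0598064d0cdd0c3f01bd0ec701720f3b0a140a7f066a0b11084d0a410ad90d57065d05eb0b8900010b140cf00f9507dd0d6c0e4a0c320c4f0f5901ab0af30f3501c40d94016802e90527039301920cc0072c066c0b5b0a0502c50926050405e70f000c0a04660fc807e900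7f05280b1d057e06f008ab052e0346085a02d002c901f903940482025f05e6033505ac08be0c6b0b130a8f073f044e027902b904ba043d0e990d1b06810480053a0e4f039a0ac104450f8106230f4e0d880ce00561097c06060193015301750e9f007906cf00130adf04e101c50ee90e350fcf05320a480e0f02a30fd502080a340cbb044b040e01f2012f077c0c6300f4014501760b440a0603a70c5207020ee3095e0b790109039f0c100f4b01fb0e940c9008a7035f070d0ecf0cbd01410b8604480cde071b059707a608610e14099b05ed041b0ef20f5e0bdc06f308380c9802480bcd021c01580d4009f50bab073a02830984021e082f00090a1b03eb0294039803bb0634036f0515018006de0a900b4509900cf10c5a00510bdf0a5f0d7a05c40822011701840f55036706660c400492014609b9059c06180f8f06870c2c037806970de10eee0ae4099d08360cd808b50a4e054605bc0250009500870a7009cb06b80daf03b1094506c301820df00f0a0e740011021d05660c820048089904ec04d30cda0ca10fc708c50c060f96052d088c077201340e4b0f0d00b30fcc00b4023b071807f504b9061b07ba0ba504830c0709bc02990bc6032c04d20a2d0c7d01a60c970aab0a25076605c100ba0b31045a081c0f7a0f8a0c9d0c2e063504b8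01dd0301016d084607cc02630cc20b9708f00518009d02df00a802450eb305b10fce0cef02ca029007b60c7e046501010752085d014005f907b70b1e0bf50d65061708a20f3005650e21003f0b83003208cc053c018a02920a680f40049009da0a8e0f5806050476049801d306130b7703cc0d7f03af082906d00bec023506a10516068a088803900f5a06f807350a2c0952056f0b21020609310e070e630eac084801510cac085801890efd0b15071003f306190bb406e20f410cee051a09480e040e0d0b19001b05a40f500608030c04930dba04cc09cc02bf01b603420ed30e960ed80475010b0be6058906f90a520add0dd10e2200dd075e041806530e9c007c06e90147072e041606ad00e70b720ec5097300e30f38094c0c420682043e00df042e02e80d48031a0d25052c0dbe06ce049b0b4f0dc70f830c79019708e50bc70cbf0a1f014406440ece042a0d5c0a960d5b058007f70d1c013a0c4e00f3070402b8022a013100260c810c6e0adb055f0f5407eb00b70ac205bd029f034c0de304020ca300a30b18028609a70cd40ab400fa0e8c0a910b280edf09fd02d505d50fcd0c540d2e04c30bb800bd0f650a5c038700ef09d1060704680beb0df20a8c017f08f9019c08020dda004b0c68018b]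

private theorem tabL_eq : tabL = NL.map fun l => tabN l.reverse := by decide +kernel

/-- one letter -/
private noncomputable def stT (a i : ℕ) : ℕ :=
  List.rec (motive := fun _ => ℕ → ℕ) (fun _ => i)
    (fun T _ ih a => Nat.rec (motive := fun _ => ℕ) (lkN T i) (fun b _ => ih b) a) tabL a

private theorem stT_eq (a : ℕ) {i : ℕ} (hi : i < 4060) : stT a i = appK (nthL NL a) i ∧ stT a i < 4060 := by
  have key : ∀ (L : List (List (ℕ × ℕ))), (∀ l ∈ L, OkNet 4060 l) → ∀ a : ℕ,
      List.rec (motive := fun _ => ℕ → ℕ) (fun _ => i)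
        (fun T _ ih a => Nat.rec (motive := fun _ => ℕ) (lkN T i) (fun b _ => ih b) a)
        (L.map fun l => tabN l.reverse) a = app (nthL L a) i ∧ app (nthL L a) i < 4060 := by
    intro L
    induction L with
    | nil => exact fun _ _ => ⟨rfl, hi⟩
    | cons l L ih =>
      intro h a
      cases a with
      | zero => exact lkN_app (h l List.mem_cons_self) hi
      | succ a => exact ih (fun m hm => h m (List.mem_cons_of_mem _ hm)) a
  have hN : ∀ l ∈ NL, OkNet 4060 l :=
    List.forall_mem_cons.2 ⟨okNet_sound okT, List.forall_mem_cons.2 ⟨okNet_sound okS,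
    List.forall_mem_cons.2 ⟨okNet_sound okW, List.forall_mem_cons.2 ⟨okNet_sound okF,
    List.forall_mem_cons.2 ⟨okNet_sound okD, List.forall_mem_cons.2 ⟨okNet_sound okY,
    List.forall_mem_cons.2 ⟨BitNetSimple.okNet_reverse (okNet_sound okS),
    List.forall_mem_cons.2 ⟨BitNetSimple.okNet_reverse (okNet_sound okF),
    List.forall_mem_cons.2 ⟨BitNetSimple.okNet_reverse (okNet_sound okD), List.forall_mem_nil _⟩⟩⟩⟩⟩⟩⟩⟩⟩
  have h := key NL hN a
  rw [← tabL_eq] at h
  rw [appK_eq]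
  exact ⟨h.1, lt_of_eq_of_lt h.1 h.2⟩

/-- `evalK` on the tables -/
private noncomputable def evalT (w : List ℕ) (i : ℕ) : ℕ :=
  List.rec (motive := fun _ => ℕ) i (fun a _ ih => forceN ih (stT a)) w

private theorem evalT_eq (w : List ℕ) {i : ℕ} (hi : i < 4060) : evalT w i = evalK w i ∧ evalT w i < 4060 := by
  induction w with
  | nil => exact ⟨rfl, hi⟩
  | cons a w ih =>
    show forceN (evalT w i) (stT a) = forceN (evalK w i) (appK (nthL NL a)) ∧ forceN (evalT w i) (stT a) < 4060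
    rw [forceN_eq, forceN_eq, ← ih.1]
    exact stT_eq a ih.2

/-- `chkRel` on the tables -/
private noncomputable def chkT (rels : List (List ℕ)) : Bool :=
  allL (fun r => allL (fun b => Nat.beq (evalT r b) b) [0, 29, 580, 577]) rels

private theorem chk_of_T {rels : List (List ℕ)} (h : chkT rels = true) : chkRel rels = true := by
  refine (allL_iff _ _).2 fun r hr => (allL_iff _ _).2 fun b hb => ?_
  have h1 := (allL_iff _ _).1 ((allL_iff _ _).1 h r hr) b hb
  have h2 : b < 4060 := (by decide : ∀ b ∈ [0, 29, 580, 577], b < 4060) b hb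
  rw [(evalT_eq r h2).1] at h1
  exact h1

private theorem rel_of_T {rels : List (List ℕ)} (h : chkT rels = true) : ∀ r ∈ rels, wprod ml r = 1 :=
  rel_of_chk (chk_of_T h)

/-! ### pairs -/

section pairs

variable {A : Type*} [Group A] {N H : Subgroup A} {a b : A}

theorem PC.prod (h : PC N H a b) : ∀ l : List A, (∀ n ∈ l, n ∈ N ∧ n * a = a * n) →
    PC N H a (l.map fun n => n * b * n⁻¹).prod
  | [], _ => fun s _ => Or.inr (by simp)
  | n :: l, hl => by
    rw [List.map_cons, List.prod_cons]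
    exact (h.conj_right (hl n (by simp)).1 (hl n (by simp)).2).mul_right
      (PC.prod h l fun m hm => hl m (List.mem_cons_of_mem _ hm))

theorem dead_prod (hN : Nice N) (ha : a ≠ 1) (l : List A) (hl : ∀ n ∈ l, n ∈ N ∧ n * a = a * n) (k : ℕ)
    (h : (l.map fun n => n * b * n⁻¹).prod ^ k = a) : Dead N a b := by
  intro H hH hP
  have h1 := (PC.prod hP l hl).pow_right k
  rw [h] at h1
  exact hN.absurd hH ha h1

theorem dead_step {y : A} (l : List A) (hl : ∀ n ∈ l, n ∈ N ∧ n * a = a * n) (k : ℕ)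
    (h : (l.map fun n => n * b * n⁻¹).prod ^ k = y) (hD : Dead N a y) : Dead N a b := by
  intro H hH hP
  have h1 := (PC.prod hP l hl).pow_right k
  rw [h] at h1
  exact hD H hH h1

end pairs

/-! ### inverse words -/

/-- the letter of the inverse -/
def li (a : ℕ) : ℕ := [0, 6, 2, 7, 8, 5, 1, 3, 4].getD a a

/-- the inverse word -/
def winv : List ℕ → List ℕ
  | [] => []
  | a :: w => winv w ++ [li a]

theorem lv_inv_aux : chkT [[0, 0], [2, 2], [5, 5]] = true := by decide +kernel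

theorem lv_li (a : ℕ) : (lv ml (li a) : RuOrder.H) = (lv ml a)⁻¹ := by
  have h := rel_of_T lv_inv_aux
  have h0 := h [0, 0] (by simp)
  have h2 := h [2, 2] (by simp)
  have h5 := h [5, 5] (by simp)
  rw [wprod_cons, wprod_cons, wprod_nil, mul_one] at h0 h2 h5
  rcases lt_or_ge a 9 with h | h
  · interval_cases a
    · exact eq_inv_of_mul_eq_one_left h0
    · rfl
    · exact eq_inv_of_mul_eq_one_left h2
    · rfl
    · rfl
    · exact eq_inv_of_mul_eq_one_left h5
    · exact (inv_inv _).symm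
    · exact (inv_inv _).symm
    · exact (inv_inv _).symm
  · have e : li a = a := List.getD_eq_default _ _ h
    rw [e, lv_of_ge ml a h, inv_one]

theorem wprod_winv (w : List ℕ) : (wprod ml (winv w) : RuOrder.H) = (wprod ml w)⁻¹ := by
  induction w with
  | nil => exact inv_one.symm
  | cons a w ih => rw [winv, wprod_append, ih, wprod_cons, wprod_cons, wprod_nil, mul_one, lv_li, mul_inv_rev]

/-- the product of the conjugates `c y c⁻¹` -/
def cw (y : List ℕ) : List (List ℕ) → List ℕ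
  | [] => []
  | c :: l => c ++ (y ++ (winv c ++ cw y l))

theorem wprod_cw (y : List ℕ) (l : List (List ℕ)) : (wprod ml (cw y l) : RuOrder.H) =
    ((l.map (wprod ml)).map fun n => n * wprod ml y * n⁻¹).prod := by
  induction l with
  | nil => rfl
  | cons c l ih =>
    rw [cw, wprod_append, wprod_append, wprod_append, wprod_winv, ih, List.map_cons, List.map_cons, List.prod_cons]
    simp only [mul_assoc]

/-- the relators of a stage: the words of `l` commute with `x`, the product of the conjugates of `y` to the power `k` is `u` -/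
def stage (x y u : List ℕ) (l : List (List ℕ)) (k : ℕ) : List (List ℕ) :=
  (rpw (cw y l) k ++ winv u) :: l.map fun c => c ++ (x ++ (winv c ++ winv x))

theorem of_stage {x y u : List ℕ} {l : List (List ℕ)} {k : ℕ} (h : chkT (stage x y u l k) = true) :
    (∀ n ∈ l.map (wprod ml), n ∈ (⊤ : Subgroup RuOrder.H) ∧ n * wprod ml x = wprod ml x * n) ∧
    ((l.map (wprod ml)).map fun n => n * wprod ml y * n⁻¹).prod ^ k = wprod ml u := by
  have h1 := rel_of_T h
  refine ⟨fun n hn => ⟨trivial, ?_⟩, ?_⟩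
  · obtain ⟨c, hc, rfl⟩ := List.mem_map.1 hn
    have h2 := h1 (c ++ (x ++ (winv c ++ winv x))) (List.mem_cons_of_mem _ (List.mem_map.2 ⟨c, hc, rfl⟩))
    rw [wprod_append, wprod_append, wprod_append, wprod_winv, wprod_winv] at h2
    calc wprod ml c * wprod ml x = (wprod ml c * (wprod ml x * ((wprod ml c)⁻¹ * (wprod ml x)⁻¹))) *
        (wprod ml x * wprod ml c) := by group
      _ = wprod ml x * wprod ml c := by rw [h2, one_mul]
  · have h2 := h1 (rpw (cw y l) k ++ winv u) List.mem_cons_self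
    rw [wprod_append, wprod_winv, wprod_rpw, wprod_cw, mul_inv_eq_one] at h2
    exact h2

/-- the relators of the powers -/
def pws (w X Y : List ℕ) (m p q : ℕ) : List (List ℕ) :=
  [rpw w m, rpw w (m / p) ++ winv X, rpw w (m / q) ++ winv Y]

/-- a word moves one of the base points -/
noncomputable def mv (w : List ℕ) : Bool := !(allL (fun b => Nat.beq (evalK w b) b) [0, 29, 580, 577])

theorem ne_of_mv {w : List ℕ} (h : mv w = true) : (wprod ml w : RuOrder.H) ≠ 1 := by
  intro h1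
  have h2 : allL (fun b => Nat.beq (evalK w b) b) [0, 29, 580, 577] = true := by
    refine (allL_iff _ _).2 fun b hb => ?_
    have key : ∀ b : ℕ, b < 4060 → Nat.beq (evalK w b) b = true := by
      intro b hb
      have h3 := evalK_eq w ⟨b, hb⟩
      rw [h1] at h3
      have h4 : evalK w b = b := h3.symm
      rw [h4, Nat.beq_refl]
    simp only [List.mem_cons, List.not_mem_nil, or_false] at hb
    rcases hb with rfl | rfl | rfl | rfl
    · exact key _ (by norm_num)
    · exact key _ (by norm_num)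
    · exact key _ (by norm_num)
    · exact key _ (by norm_num)
  rw [mv, h2] at h
  exact absurd h (by decide)

/-! ### the two kinds of classes -/

theorem simple_H : IsSimpleGroup RuOrder.H := by
  have := Cfsg.Agent.RuLat.Main.main.2.2
  exact Cfsg.Agent.RuLat.Main.equiv.symm.isSimpleGroup

theorem ncomm_H : ¬ IsMulCommutative RuOrder.H := by
  intro h
  have := simple_H
  have h1 : (Nat.card RuOrder.H).Prime := by
    let _ : CommGroup RuOrder.H := { (inferInstance : Group RuOrder.H) with mul_comm := h.is_comm.comm }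
    exact IsSimpleGroup.prime_card
  rw [card_H] at h1
  norm_num at h1

/-- everything that is used about a class -/
def Ok (g : RuOrder.H) : Prop := RCe RuOrder.H (MulAut.conj g)

theorem Ok.of_isConj {g h : RuOrder.H} (hg : Ok g) (e : IsConj g h) : Ok h := by
  obtain ⟨c, rfl⟩ := isConj_iff.1 e
  have h1 := rce_conj (s := c) hg
  rw [← map_inv, ← map_mul, ← map_mul] at h1
  exact h1

theorem ok_pp {g : RuOrder.H} {r k : ℕ} (hr : r.Prime) (h : g ^ r ^ k = 1) : Ok g := by
  obtain ⟨j, -, hj⟩ := (Nat.dvd_prime_pow hr).1 (orderOf_dvd_of_pow_eq_one h)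
  refine rce_of_prime_pow simple_H _ hr (k := j) ?_
  rw [orderOf_injective _ (conj_injective simple_H ncomm_H), hj]

theorem ok_word {w : List ℕ} (n : ℕ) {r k : ℕ} (hr : r.Prime) (hn : n = r ^ k) (h : chkT [rpw w n] = true) :
    Ok (wprod ml w) := by
  refine ok_pp hr (k := k) ?_
  rw [← hn, ← wprod_rpw]
  exact rel_of_T h _ (by simp)

theorem ok_dead {w X Y : List ℕ} {m p q : ℕ} (hp : p.Prime) (hq : q.Prime) (hpm : p ∣ m) (hqm : q ∣ m) (hm0 : 0 < m)
    (hpr : ∀ r : ℕ, r.Prime → r ∣ m → r = p ∨ r = q) (h : chkT (pws w X Y m p q) = true) (hX : mv X = true)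
    (hY : mv Y = true) (hD : Dead (⊤ : Subgroup RuOrder.H) (wprod ml X) (wprod ml Y)) : Ok (wprod ml w) := by
  have h1 := rel_of_T h
  have e1 : (wprod ml w : RuOrder.H) ^ m = 1 := by
    rw [← wprod_rpw]
    exact h1 _ (by simp [pws])
  have e2 : (wprod ml w : RuOrder.H) ^ (m / p) = wprod ml X := by
    have h2 := h1 (rpw w (m / p) ++ winv X) (by simp [pws])
    rw [wprod_append, wprod_winv, wprod_rpw, mul_inv_eq_one] at h2
    exact h2
  have e3 : (wprod ml w : RuOrder.H) ^ (m / q) = wprod ml Y := by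
    have h2 := h1 (rpw w (m / q) ++ winv Y) (by simp [pws])
    rw [wprod_append, wprod_winv, wprod_rpw, mul_inv_eq_one] at h2
    exact h2
  have ho : orderOf (wprod ml w : RuOrder.H) = m := by
    refine orderOf_eq_of_pow_and_pow_div_prime hm0 e1 fun r hr hrm => ?_
    rcases hpr r hr hrm with rfl | rfl
    · rw [e2]; exact ne_of_mv hX
    · rw [e3]; exact ne_of_mv hY
  refine rce_of_inner simple_H ncomm_H ho hm0.ne' hpm hqm hpr ?_
  rw [e2, e3]
  exact hD

theorem ok_A {w X Y : List ℕ} {m p q k : ℕ} (l : List (List ℕ)) (hp : p.Prime) (hq : q.Prime) (hpm : p ∣ m) (hqm : q ∣ m)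
    (hm0 : 0 < m) (hpr : ∀ r : ℕ, r.Prime → r ∣ m → r = p ∨ r = q) (h : chkT (pws w X Y m p q) = true)
    (hX : mv X = true) (hY : mv Y = true) (hs : chkT (stage X Y X l k) = true) : Ok (wprod ml w) := by
  obtain ⟨h1, h2⟩ := of_stage hs
  exact ok_dead hp hq hpm hqm hm0 hpr h hX hY (dead_prod (nice_top simple_H ncomm_H) (ne_of_mv hX) _ h1 k h2)

theorem ok_B {w X Y U : List ℕ} {m p q k j : ℕ} (l l' : List (List ℕ)) (hp : p.Prime) (hq : q.Prime) (hpm : p ∣ m)
    (hqm : q ∣ m) (hm0 : 0 < m) (hpr : ∀ r : ℕ, r.Prime → r ∣ m → r = p ∨ r = q)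
    (h : chkT (pws w X Y m p q) = true) (hX : mv X = true) (hY : mv Y = true) (hU : mv U = true)
    (hs : chkT (stage X Y U l k) = true) (hs' : chkT (stage U X U l' j) = true) : Ok (wprod ml w) := by
  obtain ⟨h1, h2⟩ := of_stage hs
  obtain ⟨h3, h4⟩ := of_stage hs'
  exact ok_dead hp hq hpm hqm hm0 hpr h hX hY (dead_step _ h1 k h2
    (dead_prod (nice_top simple_H ncomm_H) (ne_of_mv hU) _ h3 j h4).symm)

theorem pr_of {m p q : ℕ} (a b : ℕ) (hp : p.Prime) (hq : q.Prime) (hm : m = p ^ a * q ^ b) :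
    ∀ r : ℕ, r.Prime → r ∣ m → r = p ∨ r = q := by
  intro r hr hrm
  rw [hm] at hrm
  rcases (Nat.Prime.dvd_mul hr).1 hrm with h | h
  · exact Or.inl ((Nat.prime_dvd_prime_iff_eq hr hp).1 (hr.dvd_of_dvd_pow h))
  · exact Or.inr ((Nat.prime_dvd_prime_iff_eq hr hq).1 (hr.dvd_of_dvd_pow h))

/-! ### the classes -/

def x_6a : List ℕ := [0, 5, 8, 6, 6, 7, 2, 3, 1, 1, 4, 5, 0]

def y_6a : List ℕ := [5, 0, 7, 0, 5, 3, 5, 0, 7, 0, 5, 3]

theorem ok_6a : Ok (wprod ml w_6a) :=
  ok_A (X := x_6a) (Y := y_6a) (m := 6) (p := 2) (q := 3) (k := 1)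
    [[5], [0, 2, 1, 3, 5, 7, 6, 3, 1, 3, 6, 0], [0, 7, 5, 0, 7, 1, 3, 5, 8, 6, 0]]
    (by norm_num) (by norm_num) (by norm_num) (by norm_num) (by norm_num)
    (pr_of 1 1 (by norm_num) (by norm_num) (by norm_num)) (by decide +kernel)
    (by decide +kernel) (by decide +kernel) (by decide +kernel)

def x_10a : List ℕ := [4, 0, 8]

def y_10a : List ℕ := [5, 2, 6, 2, 5, 1]

def u_10a : List ℕ := [6, 7, 6, 6, 7, 2, 3, 1, 1, 3, 1]

theorem ok_10a : Ok (wprod ml w_10a) :=
  ok_B (X := x_10a) (Y := y_10a) (U := u_10a) (m := 10) (p := 2) (q := 5) (k := 1) (j := 3)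
    [[1, 7], [2, 1, 7]]
    [[4, 6, 3, 6], [1, 3, 3, 5, 7, 5, 3, 3, 2, 6]]
    (by norm_num) (by norm_num) (by norm_num) (by norm_num) (by norm_num)
    (pr_of 1 1 (by norm_num) (by norm_num) (by norm_num)) (by decide +kernel)
    (by decide +kernel) (by decide +kernel) (by decide +kernel) (by decide +kernel) (by decide +kernel)

def x_10b : List ℕ := [0, 3, 6, 7, 4, 0, 5, 7, 1, 2, 6, 3, 5, 0, 8, 3, 1, 7, 0]

def y_10b : List ℕ := [5, 2, 3, 3, 2, 5, 7, 7, 5, 2, 3, 3, 2, 5, 7, 7]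

theorem ok_10b : Ok (wprod ml w_10b) :=
  ok_A (X := x_10b) (Y := y_10b) (m := 10) (p := 2) (q := 5) (k := 2)
    [[1, 2, 7, 4, 5, 3, 4, 0, 5, 7, 6], [6, 2, 1, 7, 6, 7, 1]]
    (by norm_num) (by norm_num) (by norm_num) (by norm_num) (by norm_num)
    (pr_of 1 1 (by norm_num) (by norm_num) (by norm_num)) (by decide +kernel)
    (by decide +kernel) (by decide +kernel) (by decide +kernel)

def x_12a : List ℕ := [4, 3, 5, 7, 5, 0, 4, 7, 5, 0, 1, 2, 6, 7, 1, 2, 6, 0, 3, 5, 3, 8, 0, 5, 3, 5, 7, 8]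

def y_12a : List ℕ := [0, 2, 7, 5, 4, 2, 0, 8, 5, 3, 0, 2, 7, 5, 4, 2, 0, 8, 5, 3, 0, 2, 7, 5, 4, 2, 0, 8, 5, 3,
  0, 2, 7, 5, 4, 2, 0, 8, 5, 3]

theorem ok_12a : Ok (wprod ml w_12a) :=
  ok_A (X := x_12a) (Y := y_12a) (m := 12) (p := 2) (q := 3) (k := 1)
    [[1, 7, 1, 7, 5, 0, 5, 8, 3, 1, 3, 0], [6, 3, 4, 5, 7, 1, 1, 3, 5, 3, 6, 0], []]
    (by norm_num) (by norm_num) (by norm_num) (by norm_num) (by norm_num)
    (pr_of 2 1 (by norm_num) (by norm_num) (by norm_num)) (by decide +kernel)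
    (by decide +kernel) (by decide +kernel) (by decide +kernel)

def x_12b : List ℕ := [3, 5, 7, 4, 5, 7, 5, 7, 7, 1, 2, 6, 3, 3, 5, 3, 5, 8, 3, 5, 7]

def y_12b : List ℕ := [0, 5, 7, 4, 5, 0, 8, 3, 0, 5, 7, 4, 5, 0, 8, 3, 0, 5, 7, 4, 5, 0, 8, 3, 0, 5, 7, 4, 5, 0,
  8, 3]

theorem ok_12b : Ok (wprod ml w_12b) :=
  ok_A (X := x_12b) (Y := y_12b) (m := 12) (p := 2) (q := 3) (k := 2)
    [[], [0, 6, 8, 7, 5, 3, 5, 7, 4, 2, 1, 0]]
    (by norm_num) (by norm_num) (by norm_num) (by norm_num) (by norm_num)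
    (pr_of 2 1 (by norm_num) (by norm_num) (by norm_num)) (by decide +kernel)
    (by decide +kernel) (by decide +kernel) (by decide +kernel)

def x_14a : List ℕ := [3, 5, 3, 1, 8, 0, 5, 7, 5, 8, 0, 4, 5, 3, 5, 0, 4, 6, 7, 5, 7]

def y_14a : List ℕ := [5, 2, 3, 1, 2, 5, 6, 7, 5, 2, 3, 1, 2, 5, 6, 7]

def u_14a : List ℕ := [4, 0, 7, 6, 3, 5, 7, 2, 3, 5, 7, 1, 3, 0, 8]

theorem ok_14a : Ok (wprod ml w_14a) :=
  ok_B (X := x_14a) (Y := y_14a) (U := u_14a) (m := 14) (p := 2) (q := 7) (k := 1) (j := 1)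
    [[], [0, 7, 1, 2, 1, 8, 5, 7, 2, 0]]
    [[2, 7, 5, 0, 6, 2, 3, 1, 5, 3, 2], [2, 4, 3, 5, 7, 1, 2, 1, 5, 3, 6]]
    (by norm_num) (by norm_num) (by norm_num) (by norm_num) (by norm_num)
    (pr_of 1 1 (by norm_num) (by norm_num) (by norm_num)) (by decide +kernel)
    (by decide +kernel) (by decide +kernel) (by decide +kernel) (by decide +kernel) (by decide +kernel)

def x_14b : List ℕ := [4, 0, 8]

def y_14b : List ℕ := [2, 0, 7, 0, 2, 3]

def u_14b : List ℕ := [7, 2, 1, 2, 6, 2, 3]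

theorem ok_14b : Ok (wprod ml w_14b) :=
  ok_B (X := x_14b) (Y := y_14b) (U := u_14b) (m := 14) (p := 2) (q := 7) (k := 1) (j := 2)
    [[], [1, 1, 2]]
    [[6, 7, 5, 4, 3], [0, 7, 5, 4, 3]]
    (by norm_num) (by norm_num) (by norm_num) (by norm_num) (by norm_num)
    (pr_of 1 1 (by norm_num) (by norm_num) (by norm_num)) (by decide +kernel)
    (by decide +kernel) (by decide +kernel) (by decide +kernel) (by decide +kernel) (by decide +kernel)

def x_14c : List ℕ := [4, 0, 8]

def y_14c : List ℕ := [4, 2, 0, 7, 0, 2, 3, 8]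

def u_14c : List ℕ := [7, 7, 2, 1, 2, 6, 2, 3, 3]

theorem ok_14c : Ok (wprod ml w_14c) :=
  ok_B (X := x_14c) (Y := y_14c) (U := u_14c) (m := 14) (p := 2) (q := 7) (k := 1) (j := 1)
    [[], [1, 1, 2]]
    [[], [5, 3, 6, 6, 7, 5]]
    (by norm_num) (by norm_num) (by norm_num) (by norm_num) (by norm_num)
    (pr_of 1 1 (by norm_num) (by norm_num) (by norm_num)) (by decide +kernel)
    (by decide +kernel) (by decide +kernel) (by decide +kernel) (by decide +kernel) (by decide +kernel)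

def x_15a : List ℕ := [0, 7, 8, 5, 4, 3, 0, 5, 0, 7, 8, 5, 4, 3, 0, 5, 0, 7, 8, 5, 4, 3, 0, 5, 0, 7, 8, 5, 4, 3,
  0, 5, 0, 7, 8, 5, 4, 3, 0, 5]

def y_15a : List ℕ := [0, 7, 8, 5, 4, 3, 0, 5, 0, 7, 8, 5, 4, 3, 0, 5, 0, 7, 8, 5, 4, 3, 0, 5]

theorem ok_15a : Ok (wprod ml w_15a) :=
  ok_A (X := x_15a) (Y := y_15a) (m := 15) (p := 3) (q := 5) (k := 2)
    [[], [0, 5, 4, 7, 6, 2, 1, 3, 8, 5, 0]]
    (by norm_num) (by norm_num) (by norm_num) (by norm_num) (by norm_num)
    (pr_of 1 1 (by norm_num) (by norm_num) (by norm_num)) (by decide +kernel)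
    (by decide +kernel) (by decide +kernel) (by decide +kernel)

def x_20a : List ℕ := [0, 3, 1, 8, 7, 5, 6, 7, 1, 7, 2, 3, 6, 3, 1, 5, 3, 4, 6, 7, 0]

def y_20a : List ℕ := [5, 3, 5, 7, 7, 6, 3, 5, 7, 5, 1, 3, 5, 3, 5, 7, 7, 6, 3, 5, 7, 5, 1, 3, 5, 3, 5, 7, 7, 6,
  3, 5, 7, 5, 1, 3, 5, 3, 5, 7, 7, 6, 3, 5, 7, 5, 1, 3]

theorem ok_20a : Ok (wprod ml w_20a) :=
  ok_A (X := x_20a) (Y := y_20a) (m := 20) (p := 2) (q := 5) (k := 2)
    [[], [1, 5, 3, 6, 3, 2, 1, 7, 5, 6]]
    (by norm_num) (by norm_num) (by norm_num) (by norm_num) (by norm_num)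
    (pr_of 2 1 (by norm_num) (by norm_num) (by norm_num)) (by decide +kernel)
    (by decide +kernel) (by decide +kernel) (by decide +kernel)

def x_20b : List ℕ := [2, 6, 3, 4, 1, 3, 5, 3, 2, 7, 5, 7, 6, 8, 7, 1, 2]

def y_20b : List ℕ := [5, 7, 5, 3, 6, 7, 7, 5, 3, 5, 3, 1, 5, 7, 5, 3, 6, 7, 7, 5, 3, 5, 3, 1, 5, 7, 5, 3, 6, 7,
  7, 5, 3, 5, 3, 1, 5, 7, 5, 3, 6, 7, 7, 5, 3, 5, 3, 1]

theorem ok_20b : Ok (wprod ml w_20b) :=
  ok_A (X := x_20b) (Y := y_20b) (m := 20) (p := 2) (q := 5) (k := 1)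
    [[3, 5, 0, 3, 1, 1, 7, 5, 7], [1, 5, 4, 7, 5, 7, 6, 3, 5, 8, 3], [0, 2, 1, 2, 5, 7, 5, 7, 1, 7, 2]]
    (by norm_num) (by norm_num) (by norm_num) (by norm_num) (by norm_num)
    (pr_of 2 1 (by norm_num) (by norm_num) (by norm_num)) (by decide +kernel)
    (by decide +kernel) (by decide +kernel) (by decide +kernel)

def x_20c : List ℕ := [0, 4, 5, 6, 3, 1, 3, 2, 7, 6, 7, 1, 5, 8, 0]

def y_20c : List ℕ := [0, 2, 5, 7, 1, 4, 1, 3, 0, 8, 0, 2, 8, 5, 2, 0, 5, 4, 4, 0, 7, 6, 8, 6, 3, 5, 2, 0]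

theorem ok_20c : Ok (wprod ml w_20c) :=
  ok_A (X := x_20c) (Y := y_20c) (m := 20) (p := 2) (q := 5) (k := 1)
    [[0, 5, 7, 4, 6, 7, 5, 8, 2, 0], [0, 5, 4, 7, 1, 5, 2, 6, 6, 0], [0, 2, 5, 7, 6, 3, 5, 6, 6, 0]]
    (by norm_num) (by norm_num) (by norm_num) (by norm_num) (by norm_num)
    (pr_of 2 1 (by norm_num) (by norm_num) (by norm_num)) (by decide +kernel)
    (by decide +kernel) (by decide +kernel) (by decide +kernel)

def x_24a : List ℕ := [7, 1, 3, 5, 3, 5, 7, 7, 1, 7, 2, 3, 6, 3, 3, 5, 7, 5, 7, 6, 3]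

def y_24a : List ℕ := [5, 0, 4, 7, 7, 0, 5, 3, 3, 8, 5, 0, 4, 7, 7, 0, 5, 3, 3, 8, 5, 0, 4, 7, 7, 0, 5, 3, 3, 8,
  5, 0, 4, 7, 7, 0, 5, 3, 3, 8, 5, 0, 4, 7, 7, 0, 5, 3, 3, 8, 5, 0, 4, 7, 7, 0, 5, 3, 3, 8, 5, 0, 4, 7, 7, 0, 5,
  3, 3, 8, 5, 0, 4, 7, 7, 0, 5, 3, 3, 8]

theorem ok_24a : Ok (wprod ml w_24a) :=
  ok_A (X := x_24a) (Y := y_24a) (m := 24) (p := 2) (q := 3) (k := 2)
    [[], [7, 4, 6, 7, 5, 0, 3, 5, 3, 5, 7, 7]]
    (by norm_num) (by norm_num) (by norm_num) (by norm_num) (by norm_num)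
    (pr_of 3 1 (by norm_num) (by norm_num) (by norm_num)) (by decide +kernel)
    (by decide +kernel) (by decide +kernel) (by decide +kernel)

def x_24b : List ℕ := [2, 1, 2, 6, 2]

def y_24b : List ℕ := [1, 8, 0, 7, 1, 3, 5, 7, 1, 3, 5, 2, 0, 2, 5, 0, 7, 6, 3, 5, 7, 6, 3, 0, 4, 6]

theorem ok_24b : Ok (wprod ml w_24b) :=
  ok_A (X := x_24b) (Y := y_24b) (m := 24) (p := 2) (q := 3) (k := 1)
    [[1], [1, 4, 7, 6, 3], [8, 3, 6, 7]]
    (by norm_num) (by norm_num) (by norm_num) (by norm_num) (by norm_num)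
    (pr_of 3 1 (by norm_num) (by norm_num) (by norm_num)) (by decide +kernel)
    (by decide +kernel) (by decide +kernel) (by decide +kernel)

def x_26a : List ℕ := [0, 5, 7, 5, 7, 7, 1, 7, 5, 7, 5, 3, 5, 3, 6, 3, 3, 5, 3, 5, 0]

def y_26a : List ℕ := [2, 0, 7, 1, 5, 0, 2, 5, 6, 3, 2, 0, 7, 1, 5, 0, 2, 5, 6, 3]

def u_26a : List ℕ := [4, 5, 7, 8, 0, 5, 3, 1, 3, 6, 0, 1, 2, 6, 7, 1, 2, 6, 0, 3, 1, 7, 6, 7, 5, 0, 4, 3, 5, 8]

theorem ok_26a : Ok (wprod ml w_26a) :=
  ok_B (X := x_26a) (Y := y_26a) (U := u_26a) (m := 26) (p := 2) (q := 13) (k := 1) (j := 1)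
    [[], [3, 6, 3, 1, 5, 3, 5, 2, 6, 7, 1, 7]]
    [[], [1, 1, 4, 5, 3, 5, 8, 2, 6, 6]]
    (by norm_num) (by norm_num) (by norm_num) (by norm_num) (by norm_num)
    (pr_of 1 1 (by norm_num) (by norm_num) (by norm_num)) (by decide +kernel)
    (by decide +kernel) (by decide +kernel) (by decide +kernel) (by decide +kernel) (by decide +kernel)

def x_26b : List ℕ := [1, 3, 1, 4, 5, 7, 1, 5, 7, 5, 0, 5, 3, 5, 6, 3, 5, 8, 6, 7, 6]

def y_26b : List ℕ := [5, 2, 0, 6, 3, 2, 5, 7, 1, 0, 5, 2, 0, 6, 3, 2, 5, 7, 1, 0]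

def u_26b : List ℕ := [1, 5, 7, 1, 5, 3, 3, 5, 7, 6, 0, 1, 2, 6, 7, 1, 2, 6, 0, 3, 1, 3, 5, 7, 7, 5, 6, 3, 5, 6]

theorem ok_26b : Ok (wprod ml w_26b) :=
  ok_B (X := x_26b) (Y := y_26b) (U := u_26b) (m := 26) (p := 2) (q := 13) (k := 1) (j := 1)
    [[0, 7, 1, 5, 3, 5, 7, 5, 6, 3, 0], [0, 7, 1, 3, 5, 0, 3, 8, 6, 7, 0]]
    [[5, 4, 3, 1, 3, 6, 2, 6, 7, 5, 7, 7], [6, 3, 6, 7, 5, 6, 7, 1, 0, 5]]
    (by norm_num) (by norm_num) (by norm_num) (by norm_num) (by norm_num)
    (pr_of 1 1 (by norm_num) (by norm_num) (by norm_num)) (by decide +kernel)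
    (by decide +kernel) (by decide +kernel) (by decide +kernel) (by decide +kernel) (by decide +kernel)

def x_26c : List ℕ := [4, 0, 8]

def y_26c : List ℕ := [3, 4, 1, 2, 0, 3, 1, 0, 2, 6, 7, 6, 8, 7]

def u_26c : List ℕ := [7, 8, 6, 6, 3, 2, 7, 1, 1, 4, 3]

theorem ok_26c : Ok (wprod ml w_26c) :=
  ok_B (X := x_26c) (Y := y_26c) (U := u_26c) (m := 26) (p := 2) (q := 13) (k := 1) (j := 3)
    [[], [1, 3, 3, 6]]
    [[], [2, 1, 5, 0, 7, 5, 7, 5, 6, 7], [3, 3, 8, 7, 6, 6], [2, 1, 5, 0, 7, 5, 7, 5, 6, 7]]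
    (by norm_num) (by norm_num) (by norm_num) (by norm_num) (by norm_num)
    (pr_of 1 1 (by norm_num) (by norm_num) (by norm_num)) (by decide +kernel)
    (by decide +kernel) (by decide +kernel) (by decide +kernel) (by decide +kernel) (by decide +kernel)

theorem cls_rc : ∀ r ∈ cls, Ok (wprod ml r.w) := by
  intro r hr
  simp only [cls, List.mem_cons, List.not_mem_nil, or_false] at hr
  rcases hr with rfl | rfl | rfl | rfl | rfl | rfl | rfl | rfl | rfl | rfl | rfl | rfl | rfl | rfl | rfl | rfl | rfl | rfl | rfl | rfl | rfl | rfl | rfl | rfl | rfl | rfl | rfl | rfl | rfl | rfl | rfl | rfl | rfl | rfl | rfl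
  · exact ok_word 1 (r := 2) (k := 0) (by norm_num) (by norm_num) (by decide +kernel)
  · exact ok_word 2 (r := 2) (k := 1) (by norm_num) (by norm_num) (by decide +kernel)
  · exact ok_word 2 (r := 2) (k := 1) (by norm_num) (by norm_num) (by decide +kernel)
  · exact ok_word 3 (r := 3) (k := 1) (by norm_num) (by norm_num) (by decide +kernel)
  · exact ok_word 4 (r := 2) (k := 2) (by norm_num) (by norm_num) (by decide +kernel)
  · exact ok_word 4 (r := 2) (k := 2) (by norm_num) (by norm_num) (by decide +kernel)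
  · exact ok_word 4 (r := 2) (k := 2) (by norm_num) (by norm_num) (by decide +kernel)
  · exact ok_word 4 (r := 2) (k := 2) (by norm_num) (by norm_num) (by decide +kernel)
  · exact ok_word 5 (r := 5) (k := 1) (by norm_num) (by norm_num) (by decide +kernel)
  · exact ok_word 5 (r := 5) (k := 1) (by norm_num) (by norm_num) (by decide +kernel)
  · exact ok_6a
  · exact ok_word 7 (r := 7) (k := 1) (by norm_num) (by norm_num) (by decide +kernel)
  · exact ok_word 8 (r := 2) (k := 3) (by norm_num) (by norm_num) (by decide +kernel)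
  · exact ok_word 8 (r := 2) (k := 3) (by norm_num) (by norm_num) (by decide +kernel)
  · exact ok_word 8 (r := 2) (k := 3) (by norm_num) (by norm_num) (by decide +kernel)
  · exact ok_10a
  · exact ok_10b
  · exact ok_12a
  · exact ok_12b
  · exact ok_word 13 (r := 13) (k := 1) (by norm_num) (by norm_num) (by decide +kernel)
  · exact ok_14a
  · exact ok_14b
  · exact ok_14c
  · exact ok_15a
  · exact ok_word 16 (r := 2) (k := 4) (by norm_num) (by norm_num) (by decide +kernel)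
  · exact ok_20a
  · exact ok_20b
  · exact ok_20c
  · exact ok_24a
  · exact ok_24b
  · exact ok_26a
  · exact ok_26b
  · exact ok_26c
  · exact ok_word 29 (r := 29) (k := 1) (by norm_num) (by norm_num) (by decide +kernel)
  · exact ok_word 29 (r := 29) (k := 1) (by norm_num) (by norm_num) (by decide +kernel)

theorem ok_all (g : RuOrder.H) : Ok g := by
  rcases cover g with ⟨r, hr, h⟩ | h
  · exact (cls_rc r hr).of_isConj h
  · refine Ok.of_isConj ?_ h
    refine ok_pp (r := 2) (k := 4) (by norm_num) ?_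
    have h1 : (wprod ml w_16a : RuOrder.H) ^ 16 = 1 := by
      rw [← wprod_rpw]
      exact rel_of_T (rels := [rpw w_16a 16]) (by decide +kernel) _ (List.mem_singleton_self _)
    rw [inv_pow, show 2 ^ 4 = 16 by norm_num, h1, inv_one]

theorem rc_H : RC RuOrder.H := by
  intro α
  obtain ⟨g, rfl⟩ := Cfsg.Agent.OddHalf.Table.OutRu.inner α
  exact ok_all g

/-- **S3509, the row Ru** -/
theorem rc_ru {S : Type*} [Group S] (h : Spor.IsoRu S) : RC S := by
  obtain ⟨e⟩ := h
  exact RC.congr (e.trans Cfsg.Agent.RuLat.Main.equiv).symm rc_H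

end Cfsg.Agent.H291.RG.Ru

private theorem dce_8c24acb00094 : _root_.True := by
  try have : _root_.True := by simp only [_root_.Cfsg.Agent.H291.RG.Ru.cw.eq_2]
  try have : _root_.True := by simp only [_root_.Cfsg.Agent.H291.RG.Ru.pws.eq_1]
  try have : _root_.True := by simp only [_root_.Cfsg.Agent.H291.RG.Ru.winv.eq_1]
  try have : _root_.True := by simp only [_root_.Cfsg.Agent.H291.RG.Ru.winv.eq_2]
  try have : _root_.True := by simp only [_root_.Cfsg.Agent.H291.RG.Ru.cw.eq_1]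
  try have : _root_.True := by simp only [_root_.Cfsg.Agent.H291.RG.Ru.mv.eq_1]
  try have : _root_.True := by simp only [_root_.Cfsg.Agent.H291.RG.Ru.winv.eq_def]
  try have : _root_.True := by simp only [_root_.Cfsg.Agent.H291.RG.Ru.cw.eq_def]
  exact _root_.True.intro
end

-- part: H202/G2/Gen
section
set_option linter.all false
open scoped Cfsg.Agent.FastGrp

/-!
# Generators of commuting families of different prime orders (helper202; after helper520)
-/

set_option autoImplicit false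

namespace Cfsg.Agent.H202.G2

/-- a generator of a commuting family of elements of different prime orders, all different from `p` -/
theorem exists_gen {G ι : Type*} [Group G] [Finite ι] {g : ι → G} {r : ι → ℕ} (hr : ∀ i, (r i).Prime)
    (hinj : Function.Injective r) (hpow : ∀ i, g i ^ r i = 1) (hc : ∀ i j, g i * g j = g j * g i) {p : ℕ}
    (hp : p.Prime) (hrp : ∀ i, r i ≠ p) :
    ∃ s ∈ Subgroup.closure (Set.range g), (∀ i, g i ∈ Subgroup.zpowers s) ∧ ∃ n : ℕ, ¬ p ∣ n ∧ s ^ n = 1 := by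
  classical
  have := Fintype.ofFinite ι
  have hcc : ∀ j, ∀ a ∈ Subgroup.closure (Set.range g), Commute a (g j) := by
    intro j a ha
    induction ha using Subgroup.closure_induction with
    | mem y hy => obtain ⟨i, rfl⟩ := hy; exact hc i j
    | one => exact Commute.one_left _
    | mul a b _ _ ha hb => exact Commute.mul_left ha hb
    | inv a _ ha => exact Commute.inv_left ha
  have key : ∀ S : Finset ι, ∃ s ∈ Subgroup.closure (Set.range g), (∀ i ∈ S, ∃ k : ℕ, g i = s ^ k) ∧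
      s ^ (∏ i ∈ S, r i) = 1 := by
    intro S
    induction S using Finset.induction_on with
    | empty => exact ⟨1, Subgroup.one_mem _, fun i hi => absurd hi (Finset.notMem_empty i), one_pow _⟩
    | insert j S hj ih =>
      obtain ⟨s, hs, h1, h2⟩ := ih
      have hcom : Commute s (g j) := hcc j s hs
      have hcop : Nat.Coprime (r j) (∏ i ∈ S, r i) := by
        rw [Nat.coprime_prod_right_iff]
        intro i hi
        rw [Nat.coprime_primes (hr j) (hr i)]
        exact fun h => hj (hinj h ▸ hi)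
      have hs1 : (s * g j) ^ r j = s ^ r j := by rw [hcom.mul_pow, hpow, mul_one]
      have hs2 : (s * g j) ^ (∏ i ∈ S, r i) = g j ^ (∏ i ∈ S, r i) := by rw [hcom.mul_pow, h2, one_mul]
      obtain ⟨m, hm⟩ := exists_pow_eq_self_of_coprime (x := s) (n := r j)
        (hcop.coprime_dvd_right (orderOf_dvd_of_pow_eq_one h2))
      obtain ⟨m', hm'⟩ := exists_pow_eq_self_of_coprime (x := g j) (n := ∏ i ∈ S, r i)
        (hcop.symm.coprime_dvd_right (orderOf_dvd_of_pow_eq_one (hpow j)))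
      refine ⟨s * g j, Subgroup.mul_mem _ hs (Subgroup.subset_closure ⟨j, rfl⟩), ?_, ?_⟩
      · intro i hi
        rcases Finset.mem_insert.1 hi with rfl | hi
        · exact ⟨(∏ i ∈ S, r i) * m', by rw [pow_mul, hs2, hm']⟩
        · obtain ⟨k, hk⟩ := h1 i hi
          exact ⟨r j * m * k, by rw [pow_mul, pow_mul, hs1, hm, hk]⟩
      · rw [Finset.prod_insert hj, pow_mul, hs1, ← pow_mul, mul_comm, pow_mul, h2, one_pow]
  obtain ⟨s, hs, h1, h2⟩ := key Finset.univ
  refine ⟨s, hs, fun i => ?_, _, ?_, h2⟩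
  · obtain ⟨k, hk⟩ := h1 i (Finset.mem_univ i)
    rw [hk]
    exact Subgroup.pow_mem _ (Subgroup.mem_zpowers s) k
  · intro hdvd
    obtain ⟨i, -, hi⟩ := (Nat.Prime.prime hp).exists_mem_finset_dvd hdvd
    exact hrp i ((Nat.prime_dvd_prime_iff_eq hp (hr i)).1 hi).symm

end Cfsg.Agent.H202.G2
end

-- part: H327/RG/StdAbs
section
set_option linter.all false
open scoped Cfsg.Agent.FastGrp

/-!
# S3509, outer automorphisms in standard form: abstract lemmas

* `Lw ι Ψ L` : `L ≤ K₀` the (derived) group of fixed points of `Ψ`, simple with `RC`, trivial centralizer;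
* `std_kill` : a cover with one member inducing `Ψ` (up to `InD`, a power), all other members inner-diagonal or not
  centralising `L`, is impossible;
* `none_killY` : the M-rule when no member centralises `L`;
* `tw_kill` : a cover with one member inducing `conj t * Ψ`, `Ψ t = t ≠ 1`, the centralizer of `conj t * Ψ` contained in the
  centralizer of `Ψ`, all other members inner-diagonal, is impossible.
-/

set_option autoImplicit false
set_option linter.unusedSectionVars false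

namespace Cfsg.Agent.H327.RG

open MulAction Subgroup Cfsg.Agent.H106.RC
open Cfsg.Agent.H28.GenF (InD)
open scoped commutatorElement

section none

variable {G Ω : Type*} [Group G] [MulAction G Ω] {Y : Type*} [Group Y] {N : Subgroup G}

/-- **The M-rule when no member centralises `L`.** -/
theorem none_killY [Nonempty Ω] {ι : Type*} [Finite ι] (hE : Env G Ω N) (e : N ≃* Y) {x : ι → G} {r : ι → ℕ}
    (hx : PF x r) (hcov : Cov Ω x) {L : Subgroup Y} (hLs : IsSimpleGroup L) (hLn : ¬ IsMulCommutative L) (hRC : RC L)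
    (hL : ∀ i, ∀ a ∈ L, act hE e (x i) a ∈ L)
    (hcen : ∀ j, ¬ ∀ a ∈ L, act hE e (x j) a = a) : False := by
  have hLp : ∀ i, ∀ n : ℕ, ∀ a ∈ L, act hE e (x i ^ n) a ∈ L := by
    intro i n
    induction n with
    | zero => intro a ha; rw [pow_zero, map_one]; exact ha
    | succ n ih => intro a ha; rw [pow_succ', map_mul, MulAut.mul_apply]; exact hL i _ (ih a ha)
  have hconj : ∀ (g : G) (y : Y), g * (e.symm y : G) * g⁻¹ = (e.symm (act hE e g y) : G) := fun g y =>
    (coe_act hE e g y).symm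
  have hMs : IsSimpleGroup (lift e L) := isSimple_cgr0 (liftEquiv e L).symm hLs
  have hMn : ¬ IsMulCommutative (lift e L) := fun hc => hLn ⟨⟨fun a b => by
    apply (liftEquiv e L).symm.injective
    rw [map_mul, map_mul]
    exact hc.is_comm.comm _ _⟩⟩
  have hnorm : ∀ i, x i ∈ Subgroup.normalizer (lift e L : Set G) := by
    intro i
    rw [Subgroup.mem_normalizer_iff]
    intro g
    constructor
    · intro hg
      obtain ⟨a, ha, rfl⟩ := mem_lift.1 hg
      rw [hconj]
      exact mem_lift.2 ⟨_, hL i a ha, rfl⟩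
    · intro hg
      obtain ⟨a, ha, h1⟩ := mem_lift.1 hg
      have h2 : (x i)⁻¹ = x i ^ (r i - 1) := by
        rw [inv_eq_iff_mul_eq_one, ← pow_succ', Nat.sub_add_cancel (hx.prime i).one_lt.le, hx.pow]
      have h3 : g = (x i) ^ (r i - 1) * (e.symm a : G) * ((x i) ^ (r i - 1))⁻¹ := by
        rw [← h2, h1]; group
      rw [h3, hconj]
      exact mem_lift.2 ⟨_, hLp i _ a ha, rfl⟩
  have hall : ∀ u ∈ lift e L, u = 1 := by
    intro u hu
    refine hE.single fun ω => ?_
    rcases mrule_RC hLs hLn x r hx.prime hx.inj hx.pow hx.comm (lift e L) (perfect_of_simple hMs hMn)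
      (liftEquiv e L).toMonoidHom (liftEquiv e L).surjective (by
        intro m hm
        have h1 : m = 1 := (liftEquiv e L).injective (by rw [map_one]; exact hm)
        rw [h1]
        exact Subgroup.one_mem _) hnorm hRC ω (fun m _ => by
        obtain ⟨i, hi⟩ := hcov (m • ω)
        exact ⟨i, hi⟩) with h | ⟨j, hj, -⟩
    · exact h hu
    · exfalso
      refine hcen j fun a ha => ?_
      have h1 := hj (e.symm a : G) (mem_lift.2 ⟨a, ha, rfl⟩)
      have h2 : x j * (e.symm a : G) * (x j)⁻¹ = (e.symm a : G) := by rw [h1, mul_inv_cancel_right]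
      rw [hconj] at h2
      exact e.symm.injective (Subtype.ext h2)
  refine hMn ⟨⟨fun a b => ?_⟩⟩
  apply Subtype.ext
  rw [hall _ (a * b).2, hall _ (b * a).2]

end none

section frame

variable {Y K₀ : Type*} [Group Y] [Group K₀]

/-- the level -/
structure Lw (ι : K₀ →* Y) (Ψ : MulAut Y) (L : Subgroup K₀) : Prop where
  fixL : ∀ a ∈ L, Ψ (ι a) = ι a
  charL : ∀ α : MulAut K₀, (∀ a, Ψ (ι a) = ι a → Ψ (ι (α a)) = ι (α a)) → ∀ a ∈ L, α a ∈ L
  centL : ∀ y, (∀ a ∈ L, y * ι a = ι a * y) → y = 1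
  simple : IsSimpleGroup ↥⁅L, L⁆
  ncomm : ¬ IsMulCommutative ↥⁅L, L⁆
  rc : RC ↥⁅L, L⁆

variable {ι : K₀ →* Y} {Ψ : MulAut Y} {L : Subgroup K₀}

/-- the centralizer of the derived group in `L` -/
theorem Lw.cent_der (h : Lw ι Ψ L) (hι : Function.Injective ι) {a : K₀} (ha : a ∈ L)
    (hc : ∀ b ∈ ⁅L, L⁆, a * b = b * a) : a = 1 := by
  have hcen : ∀ z ∈ ⁅L, L⁆, (∀ b ∈ ⁅L, L⁆, z * b = b * z) → z = 1 := by
    intro z hz hzc
    have h1 : (⟨z, hz⟩ : ↥⁅L, L⁆) ∈ center ↥⁅L, L⁆ := by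
      rw [mem_center_iff]
      intro b
      exact Subtype.ext (hzc b b.2).symm
    rcases h.simple.eq_bot_or_eq_top_of_normal (center ↥⁅L, L⁆) inferInstance with h' | h'
    · rw [h', mem_bot] at h1
      exact congrArg Subtype.val h1
    · exact (h.ncomm ⟨⟨fun b c => (mem_center_iff.1 (h' ▸ mem_top c) b)⟩⟩).elim
  have h1 : ∀ b ∈ L, a * b = b * a := by
    intro b hb
    have h2 : ⁅a, b⁆ = 1 := by
      refine hcen _ (commutator_mem_commutator ha hb) fun c hc' => ?_
      have h3 := hc _ (Lv.conj_der (inv_mem hb) hc')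
      rw [inv_inv] at h3
      have h4 := hc c hc'
      rw [commutatorElement_def]
      calc a * b * a⁻¹ * b⁻¹ * c = a * b * a⁻¹ * (b⁻¹ * c * b) * b⁻¹ := by group
        _ = a * b * (a⁻¹ * (a * (b⁻¹ * c * b) * a⁻¹)) * b⁻¹ := by
            rw [h3]; group
        _ = a * c * b * a⁻¹ * b⁻¹ := by group
        _ = c * (a * b * a⁻¹ * b⁻¹) := by rw [h4]; group
    rwa [commutatorElement_eq_one_iff_mul_comm] at h2
  have h2 : ι a = 1 := h.centL _ fun b hb => by rw [← map_mul, h1 b hb, map_mul]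
  exact hι (by rw [h2, map_one])

/-- an automorphism preserving `L` and trivial on the derived group is trivial on `L` -/
theorem Lw.triv (h : Lw ι Ψ L) (hι : Function.Injective ι) {α : MulAut K₀} (hα : ∀ a ∈ L, α a ∈ L)
    (hc : ∀ a ∈ ⁅L, L⁆, α a = a) {a : K₀} (ha : a ∈ L) : α a = a := by
  have h1 : a⁻¹ * α a = 1 := by
    refine h.cent_der hι (mul_mem (inv_mem ha) (hα a ha)) fun b hb => ?_
    have h3 := hc _ (Lv.conj_der ha hb)
    rw [map_mul, map_mul, map_inv, hc b hb] at h3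
    calc a⁻¹ * α a * b = a⁻¹ * (α a * b * (α a)⁻¹) * α a := by group
      _ = a⁻¹ * (a * b * a⁻¹) * α a := by rw [h3]
      _ = b * (a⁻¹ * α a) := by group
  exact (inv_mul_eq_one.1 h1).symm

theorem der_pres {α : MulAut K₀} (h1 : ∀ a ∈ L, α a ∈ L) : ∀ a ∈ ⁅L, L⁆, α a ∈ ⁅L, L⁆ := by
  intro a ha
  have h2 : (⁅L, L⁆).map α.toMonoidHom ≤ ⁅L, L⁆ := by
    rw [map_commutator]
    refine commutator_mono ?_ ?_ <;>
    · rintro _ ⟨b, hb, rfl⟩
      exact h1 b hb
  exact h2 ⟨a, ha, rfl⟩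

/-- **A cover with one member in standard form.** -/
theorem std_kill (hι : Function.Injective ι) (hL : Lw ι Ψ L)
    (fin : ∀ β : MulAut K₀, (∀ a, ι (β a) = Ψ (ι a)) → ∃ u ∈ ⁅L, L⁆, u ≠ 1 ∧ ∃ a b : K₀, a * u = u * a ∧ b * u = u * b ∧
      ⁅β a * a⁻¹, b⁆ = u)
    {G Ω κ : Type*} [Group G] [MulAction G Ω] [Nonempty Ω] [Finite κ] {N : Subgroup G} (hE : Env G Ω N)
    (e : N ≃* K₀) {x : κ → G} {q : κ → ℕ} (hx : PF x q) (hcov : Cov Ω x) {i₀ : κ}
    (hstd : ∃ γ : MulAut K₀, γ ∈ InD ι ∧ ∃ i : ℕ, ∀ a, ι (((γ * act hE e (x i₀) * γ⁻¹) ^ i) a) = Ψ (ι a))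
    (hT : ∀ j, j ≠ i₀ → act hE e (x j) ∈ InD ι ∨ ∃ Ψ' : MulAut Y, Fl ι (q j) Ψ' (act hE e (x j)) ∧
      ∀ y : Y, ¬ ∀ a ∈ L, y * Ψ' (ι a) * y⁻¹ = ι a) : False := by
  obtain ⟨γ, hγ, i, hγ'⟩ := hstd
  have hact : ∀ g, act hE (e.trans γ) g = γ * act hE e g * γ⁻¹ := act_conj hE e γ
  have hT' : ∀ j, j ≠ i₀ → act hE (e.trans γ) (x j) ∈ InD ι ∨ ∃ Ψ' : MulAut Y,
      Fl ι (q j) Ψ' (act hE (e.trans γ) (x j)) ∧ ∀ y : Y, ¬ ∀ a ∈ L, y * Ψ' (ι a) * y⁻¹ = ι a := fun j hj => by
    rw [hact]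
    rcases hT j hj with h | ⟨Ψ', h, h'⟩
    · exact Or.inl (mul_mem (mul_mem hγ h) (inv_mem hγ))
    · exact Or.inr ⟨Ψ', h.conj hγ, h'⟩
  obtain ⟨e', he'⟩ : ∃ e' : N ≃* K₀, e' = e.trans γ := ⟨_, rfl⟩
  rw [← he'] at hact hT'
  obtain ⟨β, hβ⟩ : ∃ β, β = act hE e' (x i₀) ^ i := ⟨_, rfl⟩
  have hβ' : ∀ a, ι (β a) = Ψ (ι a) := by
    intro a
    rw [hβ, hact, hγ']
  have hcomm : ∀ j, act hE e' (x j) * β = β * act hE e' (x j) := by
    intro j
    rw [hβ, ← map_pow, ← map_mul, ← map_mul]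
    congr 1
    have : Commute (x j) (x i₀) := hx.comm j i₀
    exact this.pow_right i
  have hpres : ∀ j, ∀ a ∈ L, act hE e' (x j) a ∈ L := by
    intro j
    refine hL.charL _ fun a ha => ?_
    have h1 : β a = a := hι (by rw [hβ', ha])
    rw [← hβ', ← MulAut.mul_apply, ← hcomm, MulAut.mul_apply, h1]
  obtain ⟨u, hu, hu1, a, b, ha, hb, hux⟩ := fin β hβ'
  refine out_killY hE e' hx hcov hL.simple hL.ncomm hL.rc (fun j => der_pres (hpres j)) (i₀ := i₀) ?_ hu hu1 ha hb (k := i)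
    (by rw [← hβ]; exact hux)
  intro j hj hc
  have htr : ∀ a ∈ L, act hE e' (x j) a = a := fun a ha => hL.triv hι (hpres j) hc ha
  rcases hT' j hj with ⟨y, hy⟩ | ⟨Ψ', ⟨i', y, -, hy⟩, h'⟩
  · refine act_ne_one hE e' (hx.ne j) ?_
    have h1 : y = 1 := by
      refine hL.centL y fun a ha => ?_
      have h2 := hy a
      rw [htr a ha] at h2
      exact (eq_mul_inv_iff_mul_eq.1 h2).symm
    subst h1
    refine MulEquiv.ext fun a => hι ?_
    rw [hy, one_mul, inv_one, mul_one]
    rfl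
  · refine h' y fun a ha => ?_
    have h2 := hy a
    rw [H28.GenF.apply_pow (htr a ha)] at h2
    exact h2.symm

/-- **A cover with one member `conj t * Ψ`, `t ≠ 1`.** -/
theorem tw_kill (hι : Function.Injective ι) (hcen : ∀ z, (∀ a, z * ι a = ι a * z) → z = 1) (hL : Lw ι Ψ L)
    {t : Y} (ht : Ψ t = t) (ht1 : t ≠ 1) (hC : ∀ w, w * t = t * Ψ w → Ψ w = w)
    {G Ω κ : Type*} [Group G] [MulAction G Ω] [Nonempty Ω] [Finite κ] {N : Subgroup G} (hE : Env G Ω N)
    (e : N ≃* K₀) {x : κ → G} {q : κ → ℕ} (hx : PF x q) (hcov : Cov Ω x) {i₀ : κ}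
    (hstd : ∃ γ : MulAut K₀, γ ∈ InD ι ∧ ∀ a, ι ((γ * act hE e (x i₀) * γ⁻¹) a) = t * Ψ (ι a) * t⁻¹)
    (hT : ∀ j, j ≠ i₀ → act hE e (x j) ∈ InD ι) : False := by
  obtain ⟨γ, hγ, hγ'⟩ := hstd
  have hact : ∀ g, act hE (e.trans γ) g = γ * act hE e g * γ⁻¹ := act_conj hE e γ
  have hT' : ∀ j, j ≠ i₀ → act hE (e.trans γ) (x j) ∈ InD ι := fun j hj => by
    rw [hact]
    exact mul_mem (mul_mem hγ (hT j hj)) (inv_mem hγ)
  obtain ⟨e', he'⟩ : ∃ e' : N ≃* K₀, e' = e.trans γ := ⟨_, rfl⟩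
  rw [← he'] at hact hT'
  have hβ : ∀ a, ι (act hE e' (x i₀) a) = t * Ψ (ι a) * t⁻¹ := by
    intro a
    rw [hact, hγ']
  have hpres : ∀ j, ∀ a ∈ L, act hE e' (x j) a ∈ L := by
    intro j
    refine hL.charL _ fun a ha => ?_
    by_cases hj : j = i₀
    · subst hj
      rw [hβ, ha, map_mul, map_mul, map_inv, ht, ha]
    · obtain ⟨w, hw⟩ := hT' j hj
      have hcomm : act hE e' (x j) * act hE e' (x i₀) = act hE e' (x i₀) * act hE e' (x j) := by
        rw [← map_mul, ← map_mul]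
        congr 1
        exact hx.comm j i₀
      have hΨw : w * t = t * Ψ w := by
        obtain ⟨c, hc⟩ : ∃ c, c = t⁻¹ * w⁻¹ * t := ⟨_, rfl⟩
        have h1 : (Ψ⁻¹ c * w) = 1 := by
          refine hcen _ fun a => ?_
          have h2 := congrArg ι (DFunLike.congr_fun hcomm a)
          rw [MulAut.mul_apply, MulAut.mul_apply, hw, hβ, hβ, hw, map_mul, map_mul, map_inv] at h2
          apply Ψ.injective
          rw [map_mul, map_mul, map_mul, map_mul, MulAut.apply_inv_self, hc]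
          calc t⁻¹ * w⁻¹ * t * Ψ w * Ψ (ι a) = t⁻¹ * w⁻¹ * (t * (Ψ w * Ψ (ι a) * (Ψ w)⁻¹) * t⁻¹) * t * Ψ w := by group
            _ = t⁻¹ * w⁻¹ * (w * (t * Ψ (ι a) * t⁻¹) * w⁻¹) * t * Ψ w := by rw [← h2]
            _ = Ψ (ι a) * (t⁻¹ * w⁻¹ * t * Ψ w) := by group
        have h4 := congrArg Ψ h1
        rw [map_mul, MulAut.apply_inv_self, map_one, hc] at h4
        calc w * t = w * t * (t⁻¹ * w⁻¹ * t * Ψ w) := by rw [h4, mul_one]
          _ = t * Ψ w := by group
      rw [hw, map_mul, map_mul, map_inv, hC w hΨw, ha]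
  refine none_killY hE e' hx hcov hL.simple hL.ncomm hL.rc (fun j => der_pres (hpres j)) ?_
  intro j hc
  have htr : ∀ a ∈ L, act hE e' (x j) a = a := fun a ha => hL.triv hι (hpres j) hc ha
  by_cases hj : j = i₀
  · subst hj
    refine ht1 (hL.centL t fun a ha => ?_)
    have h1 := hβ a
    rw [htr a ha, hL.fixL a ha] at h1
    exact (eq_mul_inv_iff_mul_eq.1 h1).symm
  · obtain ⟨y, hy⟩ := hT' j hj
    refine act_ne_one hE e' (hx.ne j) ?_
    have h1 : y = 1 := by
      refine hL.centL y fun a ha => ?_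
      have h2 := hy a
      rw [htr a ha] at h2
      exact (eq_mul_inv_iff_mul_eq.1 h2).symm
    subst h1
    refine MulEquiv.ext fun a => hι ?_
    rw [hy, one_mul, inv_one, mul_one]
    rfl

end frame

end Cfsg.Agent.H327.RG
end

-- part: H368/RG/Engine
section
prune_inst 0x4010000
set_option linter.all false
open scoped Cfsg.Agent.FastGrp

/-!
# S3509: the engine for covers by inner-diagonal elements of a group of Lie type (helper368)

`N` the socle, `D` the group of inner-diagonal elements (`N ≤ D`), `p` the characteristic.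

* `LRData` : long root elements `v` with a nilpotent `p`-group `U v` centralised by `v`, normalised by the elements of
  `D` commuting with `v`, and `v ∈ [U v, y]` for all `p'`-elements `1 ≠ y ∈ D` commuting with `v`;
* `Useful` : `y` centralises a quasisimple `M ≤ N`, not alternating modulo the centre, normalised by `C_D(y)`, containing
  a long root element;
* `kill_lr` : long root element together with commuting `p'`-elements commuting with it: no cover;
* `engine` : no cover by commuting elements of `D` of different prime orders, if `O_p(C_N(s)) = 1` for the `p'`-elements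
  `s ∈ D` and no family of not useful `p'`-elements covers.
-/

set_option autoImplicit false
open Cfsg

namespace Cfsg.Agent.H368.RG

open MulAction Cfsg.Agent.H106.RC Cfsg.Agent.H380.RC Cfsg.Agent.H873.RG

/-- long root data -/
structure LRData {G : Type*} [Group G] (D : Subgroup G) (p : ℕ) (V : G → Prop) (U : G → Subgroup G) : Prop where
  ne : ∀ v, V v → v ≠ 1
  comm : ∀ v, V v → ∀ u ∈ U v, u * v = v * u
  nil : ∀ v, V v → Group.IsNilpotent (U v)
  card : ∀ v, V v → ∀ r : ℕ, r.Prime → r ≠ p → r.Coprime (Nat.card (U v))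
  norm : ∀ v, V v → ∀ y ∈ D, y * v = v * y → ∀ u ∈ U v, y * u * y⁻¹ ∈ U v
  mem : ∀ v, V v → ∀ y ∈ D, y * v = v * y → y ≠ 1 → ∀ r : ℕ, r.Prime → r ≠ p → y ^ r = 1 → v ∈ cmm (U v) y

section abs

variable {G Ω : Type} [Group G] [Finite G] [MulAction G Ω] {N D : Subgroup G}

/-- **Kill by a long root element.** -/
theorem kill_lr {ι : Type*} [Finite ι] [Nonempty Ω] (hE : Env G Ω N) {p : ℕ} {V : G → Prop} {U : G → Subgroup G}
    (hL : LRData D p V U) {v : G} (hv : V v) {x : ι → G} {r : ι → ℕ} (hD : ∀ i, x i ∈ D) (h1 : ∀ i, x i ≠ 1)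
    (hr : ∀ i, (r i).Prime) (hrp : ∀ i, r i ≠ p) (hx : ∀ i, x i ^ r i = 1) (hc : ∀ i j, x i * x j = x j * x i)
    (hxv : ∀ i, x i * v = v * x i) (hcov : ∀ ω : Ω, v • ω = ω ∨ ∃ i, x i • ω = ω) : False :=
  not_cov_lr hE hr hx hc (U := U v) hcov (fun i u hu => hL.norm v hv (x i) (hD i) (hxv i) u hu) (hL.nil v hv)
    (fun i => hL.card v hv (r i) (hr i) (hrp i)) (hL.comm v hv) (hL.ne v hv)
    (fun i => hL.mem v hv (x i) (hD i) (hxv i) (h1 i) (r i) (hr i) (hrp i) (hx i))

/-- **M-rule with further members centralising `M`.** -/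
theorem mstep {S S' ι : Type} [Group S] [Finite S] [Group S'] [Finite S'] [Finite ι]
    (hIH : IHx (Nat.card S)) (e : N ≃* S) {M : Subgroup G} (hMN : M ≤ N)
    (hne : M ≠ N) (hperf : ⁅M, M⁆ = M) (π : M →* S') (hπ : Function.Surjective π)
    (hker : π.ker ≤ Subgroup.center M) (h : NSA S')
    {x : ι → G} {r : ι → ℕ} (hx : PF x r) (hnorm : ∀ i, x i ∈ Subgroup.normalizer (M : Set G))
    {P : Ω → Prop} (hP : ∀ m ∈ M, ∀ ω, P (m • ω) → P ω) (hcov : ∀ ω : Ω, P ω ∨ ∃ i, x i • ω = ω) (ω : Ω) :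
    P ω ∨ M ≤ stabilizer G ω ∨ ∃ j, (∀ m ∈ M, x j * m = m * x j) ∧ x j • ω = ω := by
  by_cases hω : P ω
  · exact Or.inl hω
  right
  refine mrule_RC h.simple h.ncomm x r hx.prime hx.inj hx.pow hx.comm M hperf π hπ hker hnorm
    (hIH.use e hMN hne π hπ h) ω (fun m hm => ?_)
  rcases hcov (m • ω) with h1 | h1
  · exact absurd (hP m hm ω h1) hω
  · exact h1

/-- a finite group without elements of prime order `≠ p` is a `p`-group -/
theorem isPGroup_of {K : Type*} [Group K] [Finite K] {p : ℕ}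
    (h : ∀ y : K, ∀ t : ℕ, t.Prime → t ≠ p → y ^ t = 1 → y = 1) : IsPGroup p K := by
  have h1 : ∀ t : ℕ, t.Prime → t ∣ Nat.card K → t = p := by
    intro t ht hd
    by_contra hne
    have : Fact t.Prime := ⟨ht⟩
    obtain ⟨y, hy⟩ := exists_prime_orderOf_dvd_card' t hd
    have h2 := h y t ht hne (by rw [← hy]; exact pow_orderOf_eq_one y)
    rw [h2, orderOf_one] at hy
    exact ht.one_lt.ne hy
  exact IsPGroup.of_card (n := (Nat.card K).primeFactorsList.length)
    (Nat.eq_prime_pow_of_unique_prime_dvd Nat.card_pos.ne' (fun {d} hd hdv => h1 d hd hdv))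

/-- a `q`-subgroup normal in a normal subgroup lies in `O_q(G)` -/
theorem le_pCore_of_normal_in_normal {C : Type*} [Group C] {q : ℕ} {R X : Subgroup C} (hX : X.Normal) (hRX : R ≤ X)
    (hn : X ≤ Subgroup.normalizer (R : Set C)) (hR : IsPGroup q R) : R ≤ pCore q C := by
  have hmap : (R.subgroupOf X).map X.subtype = R := by
    rw [Subgroup.subgroupOf_map_subtype, inf_eq_left.2 hRX]
  have h1 : (R.subgroupOf X).Normal := Subgroup.normal_subgroupOf_of_le_normalizer hn
  have h2 : R.subgroupOf X ≤ pCore q X := Cfsg.Agent.Lib.Cores.le_pCore h1 hR.comap_subtype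
  have h3 := Subgroup.map_mono (f := X.subtype) h2
  rw [hmap, Cfsg.Agent.Lib.Cores.map_subtype_pCore q hX] at h3
  exact h3.trans inf_le_right

/-- the normal closure of `u` in `F` -/
def nclo (F : Subgroup G) (u : G) : Subgroup G := Subgroup.closure {z | ∃ c ∈ F, z = c * u * c⁻¹}

omit [Finite G] in
theorem nclo_self (F : Subgroup G) (u : G) : u ∈ nclo F u := Subgroup.subset_closure ⟨1, F.one_mem, by simp⟩

omit [Finite G] in
theorem nclo_conj {F : Subgroup G} {u c z : G} (hc : c ∈ F) (hz : z ∈ nclo F u) : c * z * c⁻¹ ∈ nclo F u := by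
  have h : nclo F u ≤ (nclo F u).comap (MulAut.conj c).toMonoidHom := by
    conv_lhs => rw [nclo]
    rw [Subgroup.closure_le]
    rintro _ ⟨d, hd, rfl⟩
    refine Subgroup.subset_closure ⟨c * d, F.mul_mem hc hd, ?_⟩
    show c * (d * u * d⁻¹) * c⁻¹ = c * d * u * (c * d)⁻¹
    group
  exact h hz

omit [Finite G] in
theorem nclo_le {F : Subgroup G} {u : G} (hu : u ∈ F) : nclo F u ≤ F := by
  rw [nclo, Subgroup.closure_le]
  rintro _ ⟨c, hc, rfl⟩
  exact F.mul_mem (F.mul_mem hc hu) (F.inv_mem hc)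

omit [Finite G] in
/-- the points without `P`, where `P ∪ Fix(u)` is everything, are fixed by the normal closure of `u` -/
theorem nclo_fix {F : Subgroup G} {u : G} {P : Ω → Prop} (hP : ∀ c ∈ F, ∀ ω, P (c • ω) → P ω)
    (hcov : ∀ ω : Ω, P ω ∨ u • ω = ω) {z : G} (hz : z ∈ nclo F u) (ω : Ω) : P ω ∨ z • ω = ω := by
  by_cases hω : P ω
  · exact Or.inl hω
  right
  have h : nclo F u ≤ stabilizer G ω := by
    rw [nclo, Subgroup.closure_le]
    rintro _ ⟨c, hc, rfl⟩
    show (c * u * c⁻¹) • ω = ω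
    rcases hcov (c⁻¹ • ω) with h1 | h1
    · exact absurd (hP c⁻¹ (F.inv_mem hc) ω h1) hω
    · rw [mul_smul, mul_smul, h1, smul_inv_smul]
  exact h hz

omit [Finite G] in
/-- **A generator of the group generated by some of the members.** -/
theorem exists_s {ι : Type*} [Finite ι] {x : ι → G} {r : ι → ℕ} (hx : PF x r) {p : ℕ} (hp : p.Prime) (J : Set ι)
    (hJ : ∀ i ∈ J, r i ≠ p) (D : Subgroup G) (hD : ∀ i, x i ∈ D) :
    ∃ s ∈ D, (∃ m : ℕ, m.Coprime p ∧ s ^ m = 1) ∧ ∀ c : G, c * s = s * c ↔ ∀ i ∈ J, c * x i = x i * c := by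
  classical
  have := Fintype.ofFinite ↥J
  obtain ⟨s, hs, hs1⟩ := exists_gen (fun i : J => x i) (fun i => r i) (fun i => hx.prime i)
    (fun i j h => Subtype.ext (hx.inj h)) (fun i => hx.pow i) (fun i j => hx.comm i j)
  have hcc : ∀ a ∈ Subgroup.closure (Set.range fun i : J => x i), ∀ c : G, (∀ i ∈ J, c * x i = x i * c) → c * a = a * c := by
    intro a ha c hc
    have h1 : Subgroup.closure (Set.range fun i : J => x i) ≤ Subgroup.centralizer {c} := by
      rw [Subgroup.closure_le]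
      rintro _ ⟨i, rfl⟩
      rw [SetLike.mem_coe, Subgroup.mem_centralizer_singleton_iff]
      exact (hc i i.2).symm
    exact (Subgroup.mem_centralizer_singleton_iff.1 (h1 ha)).symm
  have hpw : ∀ a ∈ Subgroup.closure (Set.range fun i : J => x i), a ^ (∏ i : J, r i) = 1 := by
    intro a ha
    induction ha using Subgroup.closure_induction with
    | mem y hy =>
      obtain ⟨i, rfl⟩ := hy
      obtain ⟨k, hk⟩ := Finset.dvd_prod_of_mem (fun i : J => r i) (Finset.mem_univ i)
      show x i ^ _ = 1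
      rw [hk, pow_mul, hx.pow, one_pow]
    | one => exact one_pow _
    | mul a b ha hb iha ihb =>
      have h1 : Commute a b := hcc b hb a fun i hi => (hcc a ha (x i) fun j _ => hx.comm i j).symm
      rw [h1.mul_pow, iha, ihb, mul_one]
    | inv a _ iha => rw [inv_pow, iha, inv_one]
  refine ⟨s, ?_, ⟨∏ i : J, r i, ?_, hpw s hs⟩, fun c => ⟨fun h i hi => ?_, fun h => hcc s hs c h⟩⟩
  · have h1 : Subgroup.closure (Set.range fun i : J => x i) ≤ D := by
      rw [Subgroup.closure_le]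
      rintro _ ⟨i, rfl⟩
      exact hD i
    exact h1 hs
  · refine Nat.Coprime.prod_left fun i _ => ?_
    rw [Nat.coprime_primes (hx.prime i) hp]
    exact hJ i i.2
  · obtain ⟨k, hk⟩ := Subgroup.mem_zpowers_iff.1 (hs1 ⟨i, hi⟩)
    have h2 : Commute c (s ^ k) := (show Commute c s from h).zpow_right k
    have h3 : s ^ k = x i := hk
    rw [h3] at h2
    exact h2

/-- a normal subgroup (normal closure of `u`) is not a `p`-group if `O_p(C) = 1` -/
theorem exists_y {p : ℕ} {C F : Subgroup G} (hFC : F ≤ C) (hC : pCore p ↥C = ⊥)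
    (hn : ∀ c ∈ C, ∀ z ∈ F, c * z * c⁻¹ ∈ F) {u : G} (hu : u ∈ F) (hu1 : u ≠ 1) :
    ∃ y ∈ nclo F u, y ≠ 1 ∧ ∃ t : ℕ, t.Prime ∧ t ≠ p ∧ y ^ t = 1 := by
  by_contra hcon
  push Not at hcon
  have hP : IsPGroup p ↥(nclo F u) := by
    refine isPGroup_of fun y t ht htp hy => ?_
    by_contra hy1
    exact hcon y y.2 (fun h => hy1 (Subtype.ext h)) t ht htp (by rw [← Subgroup.coe_pow, hy, Subgroup.coe_one])
  have h1 : (nclo F u).subgroupOf C ≤ pCore p ↥C := by
    refine le_pCore_of_normal_in_normal (X := F.subgroupOf C) ⟨?_⟩ ?_ ?_ hP.comap_subtype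
    · intro z hz c
      rw [Subgroup.mem_subgroupOf] at hz ⊢
      rw [Subgroup.coe_mul, Subgroup.coe_mul, Subgroup.coe_inv]
      exact hn c c.2 z hz
    · exact fun z hz => nclo_le hu hz
    · intro f hf
      rw [Subgroup.mem_normalizer_iff]
      intro z
      constructor
      · intro hz
        exact nclo_conj (F := F) hf hz
      · intro hz
        have h2 := nclo_conj (F := F) (F.inv_mem hf) hz
        rw [Subgroup.mem_subgroupOf]
        have e : (z : G) = (f : G)⁻¹ * ((f * z * f⁻¹ : ↥C) : G) * ((f : G)⁻¹)⁻¹ := by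
          rw [Subgroup.coe_mul, Subgroup.coe_mul, Subgroup.coe_inv]; group
        rw [e]
        exact h2
  rw [hC] at h1
  have h2 : (⟨u, hFC hu⟩ : ↥C) ∈ (nclo F u).subgroupOf C := nclo_self F u
  exact hu1 (congrArg Subtype.val (Subgroup.mem_bot.1 (h1 h2)))

omit [Finite G] in
theorem normalizer_cent {M : Subgroup G} {c z : G} (hc : c ∈ Subgroup.normalizer (M : Set G))
    (hz : ∀ m ∈ M, z * m = m * z) : ∀ m ∈ M, (c * z * c⁻¹) * m = m * (c * z * c⁻¹) := by
  intro m hm
  have h1 : c⁻¹ * m * c ∈ M := by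
    have := (Subgroup.mem_normalizer_iff.1 ((Subgroup.normalizer (M : Set G)).inv_mem hc) m).1 hm
    rwa [inv_inv] at this
  have h2 := hz _ h1
  calc c * z * c⁻¹ * m = c * (z * (c⁻¹ * m * c)) * c⁻¹ := by group
    _ = c * ((c⁻¹ * m * c) * z) * c⁻¹ := by rw [h2]
    _ = m * (c * z * c⁻¹) := by group

end abs

end Cfsg.Agent.H368.RG

private theorem dce_ebe9addfb577 : _root_.True := by
  try have : _root_.True := by simp only [_root_.Cfsg.Agent.H368.RG.nclo.eq_1]
  exact _root_.True.intro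
end

-- part: H808/MD/Quad
section
set_option linter.all false
open scoped Cfsg.Agent.FastGrp

/-!
# Quadratic forms polarising to a given symplectic form of dimension 6 (helper808)

`F` a finite field of characteristic 2, `ψ` a nontrivial additive character. A nonempty set of
`((a₁, b₁), (a₂, b₂), (a₃, b₃))` closed under the affine transvections contains at least `(q ^ 6 - q ^ 3) / 2` elements.
-/

set_option autoImplicit false
set_option linter.unusedSectionVars false

namespace Cfsg.Agent.H808.MD.Quad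

open Finset

variable {F : Type*} [Field F] [CharP F 2]

theorem val (ψ : AddChar F ℂ) (x : F) : ψ x = 1 ∨ ψ x = -1 := by
  have h : ψ x * ψ x = 1 := by
    rw [← AddChar.map_add_eq_mul, CharTwo.add_self_eq_zero, AddChar.map_zero_eq_one]
  exact mul_self_eq_one_iff.1 h

theorem exists_neg {ψ : AddChar F ℂ} (hψ : ψ ≠ 0) : ∃ x, ψ x = -1 := by
  by_contra hc
  push Not at hc
  apply hψ
  ext x
  rcases val ψ x with h | h
  · rw [h, AddChar.zero_apply]
  · exact absurd h (hc x)

variable [Fintype F]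

theorem exists_gamma {ψ : AddChar F ℂ} (hψ : ψ ≠ 0) : ∃ γ : F, γ ≠ 0 ∧ ∀ t, ψ (t ^ 2) = ψ (γ * t) := by
  let χ : AddChar F ℂ := ψ.compAddMonoidHom (frobenius F 2).toAddMonoidHom
  obtain ⟨d, hd⟩ := Cfsg.Agent.H120.exists_mulShift hψ χ
  have h1 : ∀ t, ψ (t ^ 2) = ψ (d * t) := fun t => by
    have h := congrArg (fun f : AddChar F ℂ => f t) hd
    simp only [AddChar.mulShift_apply] at h
    rw [h]
    rfl
  refine ⟨d, ?_, h1⟩
  rintro rfl
  obtain ⟨x, hx⟩ := exists_neg hψ
  obtain ⟨y, rfl⟩ := ((Finite.injective_iff_surjective (α := F)).1 (frobenius_inj F 2)) x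
  have h2 := h1 y
  rw [zero_mul, AddChar.map_zero_eq_one] at h2
  rw [frobenius_def, h2] at hx
  norm_num at hx

variable {ψ : AddChar F ℂ} {γ : F}

/-- the transvections move the first coordinate -/
theorem pairA (hψ : ψ ≠ 0) (hγ0 : γ ≠ 0) (hγ : ∀ t, ψ (t ^ 2) = ψ (γ * t)) {a a' b : F} (hb : b ≠ 0)
    (h : ψ (a * b) = ψ (a' * b)) : ∃ d, a' = a + b * d ^ 2 + γ * d := by
  classical
  let L : F →+ F :=
    { toFun := fun d => b * d ^ 2 + γ * d
      map_zero' := by ring
      map_add' := fun x y => by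
        have : (x + y) ^ 2 = x ^ 2 + y ^ 2 := CharTwo.add_sq x y
        rw [this]; ring }
  let K : AddSubgroup F :=
    { carrier := {y | ψ (y * b) = 1}
      zero_mem' := by simp
      add_mem' := fun {x y} hx hy => by
        show ψ ((x + y) * b) = 1
        rw [add_mul, AddChar.map_add_eq_mul, show ψ (x * b) = 1 from hx, show ψ (y * b) = 1 from hy, one_mul]
      neg_mem' := fun {x} hx => by
        show ψ (-x * b) = 1
        rw [CharTwo.neg_eq]
        exact hx }
  have hle : L.range ≤ K := by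
    rintro _ ⟨d, rfl⟩
    show ψ ((b * d ^ 2 + γ * d) * b) = 1
    have e1 : (b * d ^ 2 + γ * d) * b = (b * d) ^ 2 + γ * (b * d) := by ring
    rw [e1, AddChar.map_add_eq_mul, hγ, ← AddChar.map_add_eq_mul, CharTwo.add_self_eq_zero, AddChar.map_zero_eq_one]
  have hK : K ≠ ⊤ := by
    intro hK
    obtain ⟨x, hx⟩ := exists_neg hψ
    have h1 : x / b ∈ K := by rw [hK]; exact AddSubgroup.mem_top _
    have h2 : ψ (x / b * b) = 1 := h1
    rw [div_mul_cancel₀ _ hb, hx] at h2
    norm_num at h2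
  have hker : Nat.card L.ker ≤ 2 := by
    have h1 : (L.ker : Set F) ⊆ ({0, γ / b} : Finset F) := by
      intro d hd
      have h2 : b * d ^ 2 + γ * d = 0 := hd
      have h3 : d * (b * d + γ) = 0 := by rw [← h2]; ring
      simp only [Finset.coe_insert, Finset.coe_singleton, Set.mem_insert_iff, Set.mem_singleton_iff]
      rcases mul_eq_zero.1 h3 with h4 | h4
      · exact Or.inl h4
      · right
        rw [eq_div_iff hb, mul_comm d b, ← sub_eq_zero, CharTwo.sub_eq_add, h4]
    have h2 : Nat.card L.ker ≤ Nat.card (({0, γ / b} : Finset F) : Set F) := Nat.card_mono (Set.toFinite _) h1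
    refine h2.trans ?_
    rw [Nat.card_coe_set_eq, Set.ncard_coe_finset]
    exact Finset.card_le_two
  have hcard : Nat.card L.ker * Nat.card L.range = Nat.card F := by
    rw [← AddSubgroup.index_ker, AddSubgroup.card_mul_index]
  have hcard2 : Nat.card K * K.index = Nat.card F := AddSubgroup.card_mul_index K
  have hidx : 2 ≤ K.index := by
    have h1 : K.index ≠ 1 := fun h => hK (AddSubgroup.index_eq_one.1 h)
    have h2 : K.index ≠ 0 := AddSubgroup.index_ne_zero_of_finite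
    omega
  have hge : Nat.card K ≤ Nat.card L.range := by
    have h1 : Nat.card K * 2 ≤ Nat.card F := by rw [← hcard2]; exact Nat.mul_le_mul_left _ hidx
    have h2 : Nat.card F ≤ 2 * Nat.card L.range := by rw [← hcard]; exact Nat.mul_le_mul_right _ hker
    omega
  have heq : L.range = K := AddSubgroup.eq_of_le_of_card_ge hle hge
  have hmem : a + a' ∈ K := by
    show ψ ((a + a') * b) = 1
    rw [add_mul, AddChar.map_add_eq_mul, h, ← AddChar.map_add_eq_mul, CharTwo.add_self_eq_zero,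
      AddChar.map_zero_eq_one]
  rw [← heq] at hmem
  obtain ⟨d, hd⟩ := hmem
  have hd' : b * d ^ 2 + γ * d = a + a' := hd
  refine ⟨d, ?_⟩
  rw [add_assoc, hd', ← add_assoc, CharTwo.add_self_eq_zero, zero_add]

/-- both characters take the value `-1` -/
theorem exists_both (hψ : ψ ≠ 0) {b b' : F} (hb : b ≠ 0) (hb' : b' ≠ 0) (h : b ≠ b') :
    ∃ a, ψ (a * b) = -1 ∧ ψ (a * b') = -1 := by
  classical
  by_contra hc
  push Not at hc
  have hp : ψ.IsPrimitive := AddChar.IsPrimitive.of_ne_one hψ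
  have hs : ∀ c : F, c ≠ 0 → ∑ x, ψ (x * c) = 0 := fun c hc => by rw [AddChar.sum_mulShift c hp, if_neg hc, Nat.cast_zero]
  have h0 : ∑ x : F, (1 - ψ (x * b)) * (1 - ψ (x * b')) = 0 := by
    refine Finset.sum_eq_zero fun x _ => ?_
    rcases val ψ (x * b) with h1 | h1
    · rw [h1, sub_self, zero_mul]
    · rcases val ψ (x * b') with h2 | h2
      · rw [h2, sub_self, mul_zero]
      · exact absurd h2 (hc x h1)
  have h1 : ∀ x : F, (1 - ψ (x * b)) * (1 - ψ (x * b')) = 1 - ψ (x * b) - ψ (x * b') + ψ (x * (b + b')) := by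
    intro x
    rw [mul_add, AddChar.map_add_eq_mul]
    ring
  rw [Finset.sum_congr rfl (fun x _ => h1 x), Finset.sum_add_distrib, Finset.sum_sub_distrib, Finset.sum_sub_distrib,
    hs b hb, hs b' hb', hs (b + b') (fun h2 => h (by rwa [← CharTwo.sub_eq_add, sub_eq_zero] at h2)), Finset.sum_const,
    Finset.card_univ, sub_zero, sub_zero, add_zero, nsmul_eq_mul, mul_one] at h0
  exact (Nat.cast_ne_zero.2 (Fintype.card_ne_zero (α := F))) h0

/-- `SL₂` is transitive on the pairs with a given value -/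
theorem pair (hψ : ψ ≠ 0) (hγ0 : γ ≠ 0) (hγ : ∀ t, ψ (t ^ 2) = ψ (γ * t)) {S : F × F → Prop}
    (hp : ∀ a b d, S (a, b) → S (a + b * d ^ 2 + γ * d, b)) (hm : ∀ a b d, S (a, b) → S (a, b + a * d ^ 2 + γ * d))
    {p p' : F × F} (hS : S p) (h : ψ (p.1 * p.2) = ψ (p'.1 * p'.2)) : S p' := by
  have A : ∀ a a' b, S (a, b) → ψ (a * b) = ψ (a' * b) → S (a', b) := by
    intro a a' b h1 h2
    by_cases hb : b = 0
    · subst hb
      have h3 := hp a 0 ((a + a') / γ) h1
      rw [zero_mul, add_zero, mul_div_cancel₀ _ hγ0, ← add_assoc, CharTwo.add_self_eq_zero, zero_add] at h3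
      exact h3
    · obtain ⟨d, rfl⟩ := pairA hψ hγ0 hγ hb h2
      exact hp a b d h1
  have B : ∀ a b b', S (a, b) → ψ (a * b) = ψ (a * b') → S (a, b') := by
    intro a b b' h1 h2
    by_cases ha : a = 0
    · subst ha
      have h3 := hm 0 b ((b + b') / γ) h1
      rw [zero_mul, add_zero, mul_div_cancel₀ _ hγ0, ← add_assoc, CharTwo.add_self_eq_zero, zero_add] at h3
      exact h3
    · obtain ⟨d, rfl⟩ := pairA hψ hγ0 hγ ha (by rwa [mul_comm b, mul_comm b'] : ψ (b * a) = ψ (b' * a))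
      exact hm a b d h1
  obtain ⟨a, b⟩ := p
  obtain ⟨a', b'⟩ := p'
  change ψ (a * b) = ψ (a' * b') at h
  rcases val ψ (a * b) with h1 | h1
  · have s1 := A a 0 b hS (by rw [h1, zero_mul, AddChar.map_zero_eq_one])
    have s2 := B 0 b b' s1 (by rw [zero_mul, zero_mul])
    exact A 0 a' b' s2 (by rw [← h, h1, zero_mul, AddChar.map_zero_eq_one])
  · by_cases hbb : b = b'
    · subst hbb
      exact A a a' b hS h
    · have hb : b ≠ 0 := by
        rintro rfl
        rw [mul_zero, AddChar.map_zero_eq_one] at h1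
        norm_num at h1
      have hb' : b' ≠ 0 := by
        rintro rfl
        rw [mul_zero, AddChar.map_zero_eq_one, h1] at h
        norm_num at h
      obtain ⟨c, hc, hc'⟩ := exists_both hψ hb hb' hbb
      have s1 := A a c b hS (by rw [h1, hc])
      have s2 := B c b b' s1 (by rw [hc, hc'])
      exact A c a' b' s2 (by rw [hc', ← h, h1])

/-- triples of pairs -/
abbrev P (F : Type*) := (F × F) × (F × F) × (F × F)

/-- the value -/
def B3 (p : P F) : F := p.1.1 * p.1.2 + (p.2.1.1 * p.2.1.2 + p.2.2.1 * p.2.2.2)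

/-- closed under the affine transvections -/
structure Closed (γ : F) (S : P F → Prop) : Prop where
  p1 : ∀ a b y z d, S ((a, b), y, z) → S ((a + b * d ^ 2 + γ * d, b), y, z)
  m1 : ∀ a b y z d, S ((a, b), y, z) → S ((a, b + a * d ^ 2 + γ * d), y, z)
  p2 : ∀ a b x z d, S (x, (a, b), z) → S (x, (a + b * d ^ 2 + γ * d, b), z)
  m2 : ∀ a b x z d, S (x, (a, b), z) → S (x, (a, b + a * d ^ 2 + γ * d), z)
  p3 : ∀ a b x y d, S (x, y, (a, b)) → S (x, y, (a + b * d ^ 2 + γ * d, b))
  m3 : ∀ a b x y d, S (x, y, (a, b)) → S (x, y, (a, b + a * d ^ 2 + γ * d))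
  r12 : ∀ a b a' b' z c, S ((a, b), (a', b'), z) → S ((a + b' * c, b), (a' + b * c, b'), z)
  r23 : ∀ a b a' b' x c, S (x, (a, b), (a', b')) → S (x, (a + b' * c, b), (a' + b * c, b'))

/-- a point with the second coordinate `1` -/
theorem exists_pt (hψ : ψ ≠ 0) {e : ℂ} (he : e = 1 ∨ e = -1) : ∃ x, ψ x = e := by
  rcases he with rfl | rfl
  · exact ⟨0, AddChar.map_zero_eq_one ψ⟩
  · exact exists_neg hψ

/-- the flip of two pairs -/
theorem flip (hψ : ψ ≠ 0) (hγ0 : γ ≠ 0) (hγ : ∀ t, ψ (t ^ 2) = ψ (γ * t)) {S : F × F → F × F → Prop}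
    (p1 : ∀ a b y d, S (a, b) y → S (a + b * d ^ 2 + γ * d, b) y)
    (m1 : ∀ a b y d, S (a, b) y → S (a, b + a * d ^ 2 + γ * d) y)
    (p2 : ∀ a b x d, S x (a, b) → S x (a + b * d ^ 2 + γ * d, b))
    (m2 : ∀ a b x d, S x (a, b) → S x (a, b + a * d ^ 2 + γ * d))
    (r : ∀ a b a' b' c, S (a, b) (a', b') → S (a + b' * c, b) (a' + b * c, b'))
    {x y x' y' : F × F} (hS : S x y)
    (h : ψ (x.1 * x.2) * ψ (y.1 * y.2) = ψ (x'.1 * x'.2) * ψ (y'.1 * y'.2)) : S x' y' := by
  have X1 : ∀ x x' y, S x y → ψ (x.1 * x.2) = ψ (x'.1 * x'.2) → S x' y := fun x x' y h1 h2 =>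
    pair hψ hγ0 hγ (S := fun x => S x y) (fun a b d => p1 a b y d) (fun a b d => m1 a b y d) h1 h2
  have X2 : ∀ x y y', S x y → ψ (y.1 * y.2) = ψ (y'.1 * y'.2) → S x y' := fun x y y' h1 h2 =>
    pair hψ hγ0 hγ (S := fun y => S x y) (fun a b d => p2 a b x d) (fun a b d => m2 a b x d) h1 h2
  by_cases h1 : ψ (x.1 * x.2) = ψ (x'.1 * x'.2)
  · have h2 : ψ (y.1 * y.2) = ψ (y'.1 * y'.2) := by
      rw [h1] at h
      refine mul_left_cancel₀ ?_ h
      rcases val ψ (x'.1 * x'.2) with h3 | h3 <;> rw [h3] <;> norm_num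
    exact X2 _ _ _ (X1 _ _ _ hS h1) h2
  · obtain ⟨α, hα⟩ := exists_pt hψ (val ψ (x.1 * x.2))
    obtain ⟨β, hβ⟩ := exists_pt hψ (val ψ (y.1 * y.2))
    obtain ⟨c, hc⟩ := exists_neg hψ
    have s1 := X1 _ (α, 1) _ hS (by simp only [mul_one]; exact hα.symm)
    have s2 := X2 _ _ (β, 1) s1 (by simp only [mul_one]; exact hβ.symm)
    have s3 := r _ _ _ _ c s2
    have e1 : ψ (x'.1 * x'.2) = - ψ (x.1 * x.2) := by
      rcases val ψ (x.1 * x.2) with h3 | h3 <;> rcases val ψ (x'.1 * x'.2) with h4 | h4 <;> rw [h3, h4] at h1 ⊢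
      · exact absurd rfl h1
      · rw [neg_neg]
      · exact absurd rfl h1
    have e2 : ψ (y'.1 * y'.2) = - ψ (y.1 * y.2) := by
      rw [e1] at h
      have h5 : ψ (x.1 * x.2) ≠ 0 := by
        rcases val ψ (x.1 * x.2) with h3 | h3 <;> rw [h3] <;> norm_num
      have h6 : ψ (x.1 * x.2) * ψ (y.1 * y.2) = ψ (x.1 * x.2) * (- ψ (y'.1 * y'.2)) := by rw [h]; ring
      rw [mul_left_cancel₀ h5 h6, neg_neg]
    have s4 := X1 _ x' _ s3 (by
      simp only [mul_one, one_mul]
      rw [AddChar.map_add_eq_mul, hα, hc, e1]; ring)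
    exact X2 _ _ y' s4 (by
      simp only [mul_one, one_mul]
      rw [AddChar.map_add_eq_mul, hβ, hc, e2]; ring)

/-- a nonempty closed set contains all points of one value -/
theorem orbit (hψ : ψ ≠ 0) (hγ0 : γ ≠ 0) (hγ : ∀ t, ψ (t ^ 2) = ψ (γ * t)) {S : P F → Prop} (H : Closed γ S)
    {p : P F} (hp : S p) (p' : P F) (h : ψ (B3 p') = ψ (B3 p)) : S p' := by
  obtain ⟨x, y, z⟩ := p
  obtain ⟨x', y', z'⟩ := p'
  simp only [B3, AddChar.map_add_eq_mul] at h
  have hv : ψ (x.1 * x.2) * ψ (y.1 * y.2) * ψ (x'.1 * x'.2) = 1 ∨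
      ψ (x.1 * x.2) * ψ (y.1 * y.2) * ψ (x'.1 * x'.2) = -1 := by
    rw [← AddChar.map_add_eq_mul, ← AddChar.map_add_eq_mul]
    exact val ψ _
  obtain ⟨α, hα⟩ := exists_pt hψ hv
  have hx' : ψ (x'.1 * x'.2) * ψ (x'.1 * x'.2) = 1 := by
    rcases val ψ (x'.1 * x'.2) with h3 | h3 <;> rw [h3] <;> norm_num
  have s1 : S (x', (α, 1), z) := by
    refine flip hψ hγ0 hγ (S := fun x y => S (x, y, z)) (fun a b y d => H.p1 a b y z d) (fun a b y d => H.m1 a b y z d)
      (fun a b x d => H.p2 a b x z d) (fun a b x d => H.m2 a b x z d) (fun a b a' b' c => H.r12 a b a' b' z c) hp ?_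
    simp only [mul_one]
    rw [hα]
    calc ψ (x.1 * x.2) * ψ (y.1 * y.2) = (ψ (x'.1 * x'.2) * ψ (x'.1 * x'.2)) * (ψ (x.1 * x.2) * ψ (y.1 * y.2)) := by
          rw [hx', one_mul]
      _ = _ := by ring
  refine flip hψ hγ0 hγ (S := fun y z => S (x', y, z)) (fun a b z d => H.p2 a b x' z d) (fun a b z d => H.m2 a b x' z d)
    (fun a b y d => H.p3 a b x' y d) (fun a b y d => H.m3 a b x' y d) (fun a b a' b' c => H.r23 a b a' b' x' c) s1 ?_
  simp only [mul_one]
  rw [hα]
  calc ψ (x.1 * x.2) * ψ (y.1 * y.2) * ψ (x'.1 * x'.2) * ψ (z.1 * z.2)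
      = ψ (x'.1 * x'.2) * (ψ (x.1 * x.2) * (ψ (y.1 * y.2) * ψ (z.1 * z.2))) := by ring
    _ = ψ (x'.1 * x'.2) * (ψ (x'.1 * x'.2) * (ψ (y'.1 * y'.2) * ψ (z'.1 * z'.2))) := by rw [← h]
    _ = (ψ (x'.1 * x'.2) * ψ (x'.1 * x'.2)) * (ψ (y'.1 * y'.2) * ψ (z'.1 * z'.2)) := by ring
    _ = _ := by rw [hx', one_mul]

theorem sum_pair (hψ : ψ ≠ 0) : ∑ p : F × F, ψ (p.1 * p.2) = Fintype.card F := by
  classical
  have hp : ψ.IsPrimitive := AddChar.IsPrimitive.of_ne_one hψ
  rw [Fintype.sum_prod_type_right]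
  rw [Finset.sum_congr rfl (fun y _ => AddChar.sum_mulShift (R := F) y hp)]
  simp

theorem sum_B3 (hψ : ψ ≠ 0) : ∑ p : P F, ψ (B3 p) = (Fintype.card F : ℂ) ^ 3 := by
  rw [Fintype.sum_prod_type]
  have h1 : ∀ x : F × F, ∑ y : (F × F) × (F × F), ψ (B3 (x, y)) = ψ (x.1 * x.2) * ((Fintype.card F : ℂ) * Fintype.card F) := by
    intro x
    rw [Fintype.sum_prod_type]
    have h2 : ∀ y : F × F, ∑ z : F × F, ψ (B3 (x, y, z)) = ψ (x.1 * x.2) * (ψ (y.1 * y.2) * Fintype.card F) := by
      intro y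
      rw [← sum_pair hψ, Finset.mul_sum, Finset.mul_sum]
      refine Finset.sum_congr rfl fun z _ => ?_
      simp only [B3, AddChar.map_add_eq_mul]
    rw [Finset.sum_congr rfl (fun y _ => h2 y), ← Finset.mul_sum, ← Finset.sum_mul, sum_pair hψ]
  rw [Finset.sum_congr rfl (fun x _ => h1 x), ← Finset.sum_mul, sum_pair hψ]
  ring

open scoped Classical in
/-- the number of points with a given value -/
theorem count (hψ : ψ ≠ 0) {e : ℂ} (he : e = 1 ∨ e = -1) :
    Fintype.card F ^ 6 ≤ 2 * (univ.filter fun p : P F => ψ (B3 p) = e).card + Fintype.card F ^ 3 := by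
  have h1 : ∑ p : P F, (1 + e * ψ (B3 p)) = 2 * ((univ.filter fun p : P F => ψ (B3 p) = e).card : ℂ) := by
    rw [← Finset.sum_filter_add_sum_filter_not univ (fun p : P F => ψ (B3 p) = e)]
    have h2 : ∑ p ∈ univ.filter (fun p : P F => ψ (B3 p) = e), (1 + e * ψ (B3 p)) =
        2 * ((univ.filter fun p : P F => ψ (B3 p) = e).card : ℂ) := by
      rw [Finset.sum_congr rfl (g := fun _ => (2 : ℂ)), Finset.sum_const, nsmul_eq_mul, mul_comm]
      intro p hp
      rw [(Finset.mem_filter.1 hp).2]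
      rcases he with rfl | rfl <;> norm_num
    have h3 : ∑ p ∈ univ.filter (fun p : P F => ¬ ψ (B3 p) = e), (1 + e * ψ (B3 p)) = 0 := by
      refine Finset.sum_eq_zero fun p hp => ?_
      have h4 := (Finset.mem_filter.1 hp).2
      rcases val ψ (B3 p) with h5 | h5 <;> rcases he with rfl | rfl <;> rw [h5] at h4 ⊢
      · exact absurd rfl h4
      · norm_num
      · norm_num
      · exact absurd rfl h4
    rw [h2, h3, add_zero]
  have hcard : Fintype.card (P F) = Fintype.card F ^ 6 := by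
    simp only [Fintype.card_prod]
    ring
  rw [Finset.sum_add_distrib, ← Finset.mul_sum, sum_B3 hψ, Finset.sum_const, Finset.card_univ, hcard, nsmul_eq_mul,
    mul_one] at h1
  rcases he with rfl | rfl
  · have h2 : ((Fintype.card F ^ 6 + Fintype.card F ^ 3 : ℕ) : ℂ) =
        ((2 * (univ.filter fun p : P F => ψ (B3 p) = 1).card : ℕ) : ℂ) := by
      push_cast
      rw [← h1]
      push_cast
      ring
    have h3 := Nat.cast_injective h2
    omega
  · have h2 : ((Fintype.card F ^ 6 : ℕ) : ℂ) =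
        ((2 * (univ.filter fun p : P F => ψ (B3 p) = -1).card + Fintype.card F ^ 3 : ℕ) : ℂ) := by
      push_cast
      rw [← h1]
      push_cast
      ring
    have h3 := Nat.cast_injective h2
    omega

open scoped Classical in
/-- **the count** -/
theorem card_closed (hψ : ψ ≠ 0) (hγ0 : γ ≠ 0) (hγ : ∀ t, ψ (t ^ 2) = ψ (γ * t)) {S : P F → Prop} (H : Closed γ S)
    {p : P F} (hp : S p) : Fintype.card F ^ 6 ≤ 2 * (univ.filter S).card + Fintype.card F ^ 3 := by
  refine (count hψ (val ψ (B3 p))).trans ?_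
  have h1 : (univ.filter fun p' : P F => ψ (B3 p') = ψ (B3 p)) ⊆ univ.filter S := by
    intro p' hp'
    rw [Finset.mem_filter] at hp' ⊢
    exact ⟨Finset.mem_univ _, orbit hψ hγ0 hγ H hp p' hp'.2⟩
  have h2 := Finset.card_le_card h1
  omega

end Cfsg.Agent.H808.MD.Quad

private theorem dce_5e4505005dfc : _root_.True := by
  try have : _root_.True := by simp only [_root_.Cfsg.Agent.H808.MD.Quad.B3.eq_1]
  exact _root_.True.intro
end

-- part: H911/TD/KillII
section
prune_inst 0x4345075050522000000048512f0001fc7b700019200288800c84407460680676205072920bc0014101822a2140038004813880060c22000000a000c00011c018010880600f189a008800006000000410000000000000000000000000000000000004010000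
set_option linter.all false
open scoped Cfsg.Agent.FastGrp

-- part: H911/TD/Exch
section
/-!
# S3509 (helper911): the exchange of an outer member of a cover for an inner one

`exchB`: `x₀ = x i₀` the outer member, `C` the elements of `K₀` fixed by the other members, `B = [C, x₀]`, generated by
the `c * (c ^ x₀)⁻¹`, `c ∈ C`. A prime divisor `l` of `|B|` is the order of one of the other members, given `InKD`.
-/

set_option autoImplicit false
open Cfsg

namespace Cfsg.Agent.H911.TD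

open MulAction Cfsg.Agent.H106.RC Cfsg.Agent.H873.RG Cfsg.Agent.H268.RX
open Cfsg.Agent.H327.RG (act coe_act)
open Cfsg.Agent.H28.GenF (InD)

variable {K₀ : Type} [Group K₀] {D₀ : Subgroup (MulAut K₀)} {G : Type} [Group G] {Ω : Type} [MulAction G Ω]
  {N : Subgroup G} {hE : Env G Ω N} {e : N ≃* K₀} {κ : Type} {x : κ → G} {r : κ → ℕ} {i₀ : κ}

/-- `[C, x₀]` -/
def BB (hE : Env G Ω N) (e : N ≃* K₀) (x : κ → G) (i₀ : κ) : Subgroup K₀ :=
  Subgroup.closure {d | ∃ c : K₀, (∀ i, i ≠ i₀ → act hE e (x i) c = c) ∧ d = c * (act hE e (x i₀) c)⁻¹}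

theorem conj_eq (g : G) (k : K₀) : g * (e.symm k : G) = (e.symm (act hE e g k) : G) * g := by
  rw [coe_act, inv_mul_cancel_right]

theorem BB_spec (hx : PF x r) (hcov : Cov Ω x) {b : K₀} (hb : b ∈ BB hE e x i₀) :
    (∀ ω : Ω, (∀ i, i ≠ i₀ → x i • ω ≠ ω) → (e.symm b : G) • ω = ω) ∧ ∀ i, i ≠ i₀ → act hE e (x i) b = b := by
  unfold BB at hb
  induction hb using Subgroup.closure_induction with
  | mem d hd =>
    obtain ⟨c, hc, rfl⟩ := hd
    have hfix : ∀ ω : Ω, (∀ i, i ≠ i₀ → x i • ω ≠ ω) → x i₀ • ω = ω := by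
      intro ω hω
      obtain ⟨i, hi⟩ := hcov ω
      by_cases h : i = i₀
      · rw [← h]; exact hi
      · exact absurd hi (hω i h)
    constructor
    · intro ω hω
      have hbad : ∀ i, i ≠ i₀ → x i • ((e.symm c : G)⁻¹ • ω) ≠ (e.symm c : G)⁻¹ • ω := by
        intro i hi h
        apply hω i hi
        have h1 := congrArg ((e.symm c : G) • ·) h
        simp only [smul_inv_smul] at h1
        rw [smul_smul, smul_smul] at h1
        have h2 : (e.symm c : G) * x i = x i * (e.symm c : G) := by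
          rw [conj_eq (hE := hE), hc i hi]
        rw [h2, mul_assoc, mul_inv_cancel, mul_one] at h1
        exact h1
      have h1 := hfix _ hbad
      have h0 := hfix ω hω
      have e1 : (e.symm (c * (act hE e (x i₀) c)⁻¹) : G) = (e.symm c : G) * (x i₀ * (e.symm c : G)⁻¹ * (x i₀)⁻¹) := by
        rw [map_mul, map_inv, Subgroup.coe_mul, Subgroup.coe_inv, coe_act]
        group
      rw [e1, mul_smul, mul_smul, mul_smul]
      have h2 : (x i₀)⁻¹ • ω = ω := by rw [inv_smul_eq_iff]; exact h0.symm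
      rw [h2, h1, smul_inv_smul]
    · intro i hi
      rw [map_mul, map_inv, hc i hi]
      have h3 : act hE e (x i) (act hE e (x i₀) c) = act hE e (x i₀) (act hE e (x i) c) := by
        rw [← MulAut.mul_apply, ← map_mul, hx.comm, map_mul, MulAut.mul_apply]
      rw [h3, hc i hi]
  | one =>
    refine ⟨fun ω _ => ?_, fun i _ => map_one _⟩
    rw [map_one, Subgroup.coe_one, one_smul]
  | mul a b _ _ ha hb =>
    refine ⟨fun ω hω => ?_, fun i hi => ?_⟩
    · rw [map_mul, Subgroup.coe_mul, mul_smul, hb.1 ω hω, ha.1 ω hω]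
    · rw [map_mul, ha.2 i hi, hb.2 i hi]
  | inv a _ ha =>
    refine ⟨fun ω hω => ?_, fun i hi => ?_⟩
    · rw [map_inv, Subgroup.coe_inv, inv_smul_eq_iff]
      exact (ha.1 ω hω).symm
    · rw [map_inv, ha.2 i hi]

theorem act_mem (hinn : ∀ k : K₀, MulAut.conj k ∈ D₀) (k : K₀) : act hE e (e.symm k : G) ∈ D₀ := by
  have h1 : act hE e (e.symm k : G) = MulAut.conj k := by
    ext a
    apply e.symm.injective
    apply Subtype.ext
    rw [coe_act, MulAut.conj_apply, map_mul, map_mul, map_inv]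
    rfl
  rw [h1]
  exact hinn k

/-- **exchange** -/
theorem exch [Finite G] [Finite Ω] [Nonempty Ω] [Finite κ] (hI : InKD D₀) (hIH : IHx (Nat.card K₀))
    (hinn : ∀ k : K₀, MulAut.conj k ∈ D₀) (hE : Env G Ω N) (e : N ≃* K₀) (hx : PF x r) (hcov : Cov Ω x)
    (hin : ∀ i, i ≠ i₀ → act hE e (x i) ∈ D₀) {l : ℕ} (hl : l.Prime) (hne : ∀ i, i ≠ i₀ → r i ≠ l) {b : K₀}
    (hb : b ∈ BB hE e x i₀) (hbl : b ^ l = 1) (hb1 : b ≠ 1) : False := by
  classical
  obtain ⟨h1, h2⟩ := BB_spec hx hcov hb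
  have hbc : ∀ i, i ≠ i₀ → x i * (e.symm b : G) = (e.symm b : G) * x i := by
    intro i hi
    rw [conj_eq (hE := hE), h2 i hi]
  refine hI hIH G Ω N hE e κ (fun i => if i = i₀ then (e.symm b : G) else x i) (fun i => if i = i₀ then l else r i)
    ⟨?_, ?_, ?_, ?_, ?_⟩ ?_ ?_
  · intro i
    by_cases hi : i = i₀
    · simp only [hi, if_true]; exact hl
    · simp only [hi, if_false]; exact hx.prime i
  · intro i j hij
    by_cases hi : i = i₀
    · by_cases hj : j = i₀
      · rw [hi, hj]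
      · simp only [hi, hj, if_true, if_false] at hij
        exact absurd hij.symm (hne j hj)
    · by_cases hj : j = i₀
      · simp only [hi, hj, if_true, if_false] at hij
        exact absurd hij (hne i hi)
      · simp only [hi, hj, if_false] at hij
        exact hx.inj hij
  · intro i
    by_cases hi : i = i₀
    · simp only [hi, if_true]
      rw [← Subgroup.coe_pow, ← map_pow, hbl, map_one, Subgroup.coe_one]
    · simp only [hi, if_false]; exact hx.pow i
  · intro i
    by_cases hi : i = i₀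
    · simp only [hi, if_true]
      intro h
      apply hb1
      apply e.symm.injective
      apply Subtype.ext
      rw [h, map_one, Subgroup.coe_one]
    · simp only [hi, if_false]; exact hx.ne i
  · intro i j
    by_cases hi : i = i₀
    · by_cases hj : j = i₀
      · rw [hi, hj]
      · simp only [hi, hj, if_true, if_false]
        exact (hbc j hj).symm
    · by_cases hj : j = i₀
      · simp only [hi, hj, if_true, if_false]
        exact hbc i hi
      · simp only [hi, hj, if_false]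
        exact hx.comm i j
  · intro ω
    by_cases h : ∃ i, i ≠ i₀ ∧ x i • ω = ω
    · obtain ⟨i, hi, h3⟩ := h
      exact ⟨i, by simp only [hi, if_false]; exact h3⟩
    · push Not at h
      exact ⟨i₀, by simp only [if_true]; exact h1 ω h⟩
  · intro i
    by_cases hi : i = i₀
    · simp only [hi, if_true]
      exact act_mem hinn b
    · simp only [hi, if_false]; exact hin i hi

end Cfsg.Agent.H911.TD
end

-- part: H911/TD/KillII
section
/-!
# S3509 (helper911): the kill for the second class of triality automorphisms, `r ≠ 3`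

`exists_inv_conj` : an element of order `3` of `SL₂(F)` is inverted by an element of `SL₂(F)`.
`MTwo x₀ Φ r` : the structure of the centralizer of `x₀`: a perfect group `M`, `M / Z(M)` `NSA`, centralized by `x₀`, normalized by the
fixed points of `x₀` and with trivial centralizer in them, with an element `u` of order `r` commuting with `Φ (SL₂(F))`.
`kill_two` : a cover with one member of order `3` acting as `x₀` and the other members inner is impossible.
-/

set_option autoImplicit false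
open Cfsg

namespace Cfsg.Agent.H911.TD

open MulAction Cfsg.Agent.H106.RC Cfsg.Agent.H873.RG Cfsg.Agent.H268.RX
open Cfsg.Agent.H327.RG (act coe_act act_ne_one act_conj act_injective lift mem_lift liftEquiv lift_le)

section inv

variable {F : Type*} [Field F]

theorem trace_of_three (h3 : (3 : F) ≠ 0) {a b c d : F} (hdet : a * d - b * c = 1)
    (h11 : a ^ 3 + 2 * a * b * c + b * c * d = 1) (h12 : b * (a ^ 2 + a * d + d ^ 2 + b * c) = 0)
    (h21 : c * (a ^ 2 + a * d + d ^ 2 + b * c) = 0) (h22 : d ^ 3 + 2 * b * c * d + a * b * c = 1)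
    (hne : ¬ (a = 1 ∧ b = 0 ∧ c = 0 ∧ d = 1)) : a + d = -1 := by
  have e1 : ((a + d) ^ 2 - 1) * a - (a + d) = 1 := by linear_combination h11 + (2 * a + d) * hdet
  have e2 : ((a + d) ^ 2 - 1) * d - (a + d) = 1 := by linear_combination h22 + (2 * d + a) * hdet
  have e3 : b * ((a + d) ^ 2 - 1) = 0 := by linear_combination h12 + b * hdet
  have e4 : c * ((a + d) ^ 2 - 1) = 0 := by linear_combination h21 + c * hdet
  have e5 : (a + d - 2) * (a + d + 1) ^ 2 = 0 := by linear_combination e1 + e2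
  rcases mul_eq_zero.1 e5 with h | h
  · exfalso
    have ht : a + d = 2 := by linear_combination h
    rw [ht] at e1 e2 e3 e4
    have h4 : (2 : F) ^ 2 - 1 = 3 := by norm_num
    rw [h4] at e1 e2 e3 e4
    refine hne ⟨?_, ?_, ?_, ?_⟩
    · exact mul_left_cancel₀ h3 (by linear_combination e1)
    · exact (mul_eq_zero.1 e3).resolve_right h3
    · exact (mul_eq_zero.1 e4).resolve_right h3
    · exact mul_left_cancel₀ h3 (by linear_combination e2)
  · have := (pow_eq_zero_iff (two_ne_zero)).1 h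
    linear_combination this

/-- an element of order three is inverted -/
theorem exists_inv_conj [Finite F] (h3 : (3 : F) ≠ 0) {A : Matrix.SpecialLinearGroup (Fin 2) F} (hA : A ^ 3 = 1) (hA1 : A ≠ 1) :
    ∃ n : Matrix.SpecialLinearGroup (Fin 2) F, n * A * n⁻¹ = A⁻¹ := by
  obtain ⟨a, ha⟩ : ∃ a, a = A.1 0 0 := ⟨_, rfl⟩
  obtain ⟨b, hb⟩ : ∃ b, b = A.1 0 1 := ⟨_, rfl⟩
  obtain ⟨c, hc⟩ : ∃ c, c = A.1 1 0 := ⟨_, rfl⟩
  obtain ⟨d, hd⟩ : ∃ d, d = A.1 1 1 := ⟨_, rfl⟩
  have hA' : A.1 = !![a, b; c, d] := by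
    rw [Matrix.eta_fin_two A.1, ha, hb, hc, hd]
  have hdet : a * d - b * c = 1 := by
    have := A.2
    rw [hA', Matrix.det_fin_two_of] at this
    exact this
  have hcube : (!![a, b; c, d] : Matrix (Fin 2) (Fin 2) F) * !![a, b; c, d] * !![a, b; c, d] = 1 := by
    have h := congrArg Subtype.val hA
    rw [pow_succ, pow_two] at h
    simpa only [Matrix.SpecialLinearGroup.coe_mul, hA', _root_.Matrix.cons_mul, _root_.Nat.succ_eq_add_one, _root_.Nat.reduceAdd, _root_.Matrix.vecMul_cons, _root_.Matrix.head_cons, _root_.Matrix.smul_cons, _root_.smul_eq_mul, _root_.Matrix.smul_empty, _root_.Matrix.tail_cons, _root_.Matrix.empty_vecMul, _root_.add_zero, _root_.Matrix.add_cons, _root_.Matrix.empty_add_empty, _root_.Matrix.empty_mul, _root_.Equiv.symm_apply_apply, _root_.Matrix.SpecialLinearGroup.coe_one] using h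
  rw [Matrix.mul_fin_two, Matrix.mul_fin_two, Matrix.one_fin_two] at hcube
  have h11 := congrFun (congrFun hcube 0) 0
  have h12 := congrFun (congrFun hcube 0) 1
  have h21 := congrFun (congrFun hcube 1) 0
  have h22 := congrFun (congrFun hcube 1) 1
  simp only [Matrix.of_apply, Matrix.cons_val', Matrix.cons_val_zero, Matrix.cons_val_one, Matrix.cons_val_fin_one] at h11 h12 h21 h22
  have ht : a + d = -1 := by
    refine trace_of_three h3 hdet (by linear_combination h11) (by linear_combination h12) (by linear_combination h21)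
      (by linear_combination h22) ?_
    rintro ⟨h1, h2, h3, h4⟩
    apply hA1
    apply Subtype.ext
    rw [hA', h1, h2, h3, h4, ← Matrix.one_fin_two]
    rfl
  have hd' : d = -1 - a := by linear_combination ht
  have hq : a ^ 2 + a + b * c = -1 := by rw [hd'] at hdet; linear_combination -hdet
  -- the parameters
  obtain ⟨p, q, s, e1, e2⟩ : ∃ p q s : F, (1 + 2 * a) * p + c * q + b * s = 0 ∧ -p ^ 2 - q * s = 1 := by
    by_cases hb0 : b = 0
    · rw [hb0] at hq ⊢
      have h5 : (1 + 2 * a) ≠ 0 := by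
        intro h
        apply h3
        have h6 : (1 + 2 * a) ^ 2 = -3 := by linear_combination 4 * hq
        rw [h] at h6
        linear_combination h6
      refine ⟨c, -(1 + 2 * a), (1 + c ^ 2) / (1 + 2 * a), by ring, ?_⟩
      field_simp
      ring
    · by_cases h2 : (2 : F) = 0
      · refine ⟨1, 0, -(1 + 2 * a) / b, ?_, ?_⟩
        · field_simp
          ring
        · linear_combination -h2
      · have : Fintype F := Fintype.ofFinite F
        have hodd : Fintype.card F % 2 = 1 := by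
          refine FiniteField.odd_card_of_char_ne_two fun h => h2 ?_
          have := (ringChar.spec F 2).2 (by rw [h])
          exact_mod_cast this
        obtain ⟨X, q, hX⟩ := FiniteField.exists_root_sum_quadratic (f := (Polynomial.X ^ 2 : Polynomial F))
          (g := Polynomial.C 3 * Polynomial.X ^ 2 + Polynomial.C (4 * b ^ 2)) (by simp only [_root_.Polynomial.degree_pow, _root_.Polynomial.degree_X, _root_.nsmul_eq_mul, _root_.Nat.cast_ofNat, _root_.mul_one]) (by
            rw [Polynomial.degree_add_C (by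
              rw [Polynomial.degree_C_mul_X_pow 2 h3]
              norm_num), Polynomial.degree_C_mul_X_pow 2 h3]
            rfl) hodd
        simp only [Polynomial.eval_add, Polynomial.eval_mul, Polynomial.eval_pow, Polynomial.eval_X, Polynomial.eval_C] at hX
        obtain ⟨p, hp⟩ : ∃ p, p = (X + (1 + 2 * a) * q) / (2 * b) := ⟨_, rfl⟩
        have hp' : X = 2 * b * p - (1 + 2 * a) * q := by
          rw [hp]
          field_simp
          ring
        refine ⟨p, q, -((1 + 2 * a) * p + c * q) / b, ?_, ?_⟩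
        · field_simp
          ring
        · rw [hp'] at hX
          have h7 : 4 * b * (b * p ^ 2 - (1 + 2 * a) * p * q - c * q ^ 2 + b) = 0 := by
            linear_combination hX - 4 * q ^ 2 * hq
          have h8 : b * p ^ 2 - (1 + 2 * a) * p * q - c * q ^ 2 + b = 0 := by
            rcases mul_eq_zero.1 h7 with h | h
            · exfalso
              rcases mul_eq_zero.1 h with h | h
              · have : (2 : F) * 2 = 0 := by linear_combination h
                exact h2 (mul_self_eq_zero.1 this)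
              · exact hb0 h
            · exact h
          field_simp
          linear_combination -h8
  have hn : (!![p, q; s, -p] : Matrix (Fin 2) (Fin 2) F).det = 1 := by
    rw [Matrix.det_fin_two_of]; linear_combination e2
  obtain ⟨n, hn'⟩ : ∃ n : Matrix.SpecialLinearGroup (Fin 2) F, n.1 = !![p, q; s, -p] := ⟨⟨_, hn⟩, rfl⟩
  refine ⟨n, mul_inv_eq_of_eq_mul ?_⟩
  apply Matrix.SpecialLinearGroup.ext
  intro i j
  rw [Matrix.SpecialLinearGroup.coe_mul, Matrix.SpecialLinearGroup.coe_mul, Matrix.SpecialLinearGroup.coe_inv, show (n : Matrix (Fin 2) (Fin 2) F) = _ from hn',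
    show (A : Matrix (Fin 2) (Fin 2) F) = _ from hA', Matrix.adjugate_fin_two_of]
  fin_cases i <;> fin_cases j
  · simp only [Matrix.mul_apply, Fin.sum_univ_two, _root_.Fin.zero_eta, _root_.Fin.isValue, _root_.Matrix.mul_apply, _root_.Matrix.of_apply, _root_.Matrix.cons_val', _root_.Matrix.cons_val_fin_one, _root_.Matrix.cons_val_zero, _root_.Fin.sum_univ_two, _root_.Matrix.cons_val_one, _root_.neg_mul]
    rw [hd']
    linear_combination e1
  · simp only [Matrix.mul_apply, Fin.sum_univ_two, _root_.Fin.zero_eta, _root_.Fin.isValue, _root_.Fin.mk_one, _root_.Matrix.mul_apply, _root_.Matrix.of_apply, _root_.Matrix.cons_val', _root_.Matrix.cons_val_fin_one, _root_.Matrix.cons_val_zero, _root_.Matrix.cons_val_one, _root_.Fin.sum_univ_two, _root_.mul_neg, _root_.neg_mul, _root_.neg_neg]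
    rw [hd']
    ring
  · simp only [Matrix.mul_apply, Fin.sum_univ_two, _root_.Fin.mk_one, _root_.Fin.isValue, _root_.Fin.zero_eta, _root_.Matrix.mul_apply, _root_.Matrix.of_apply, _root_.Matrix.cons_val', _root_.Matrix.cons_val_fin_one, _root_.Matrix.cons_val_one, _root_.Matrix.cons_val_zero, _root_.Fin.sum_univ_two, _root_.neg_mul]
    ring
  · simp only [Matrix.mul_apply, Fin.sum_univ_two, _root_.Fin.mk_one, _root_.Fin.isValue, _root_.Matrix.mul_apply, _root_.Matrix.of_apply, _root_.Matrix.cons_val', _root_.Matrix.cons_val_fin_one, _root_.Matrix.cons_val_one, _root_.Fin.sum_univ_two, _root_.Matrix.cons_val_zero, _root_.neg_mul, _root_.mul_neg]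
    rw [hd']
    linear_combination e1

end inv

section kill

variable {K₀ : Type} [Group K₀]

/-- the structure of the centralizer of `x₀` -/
def MTwo (x₀ : MulAut K₀) {F : Type} [Field F] (Φ : Matrix.SpecialLinearGroup (Fin 2) F →* K₀) (r : ℕ) : Prop :=
  ∃ M : Subgroup K₀, (∀ m ∈ M, x₀ m = m) ∧ (∀ y, x₀ y = y → ∀ m ∈ M, y * m * y⁻¹ ∈ M) ∧ ⁅M, M⁆ = M ∧
    NSA (↥M ⧸ Subgroup.center ↥M) ∧ (∀ y, x₀ y = y → (∀ m ∈ M, y * m = m * y) → y = 1) ∧
    ∃ u ∈ M, u ≠ 1 ∧ u ^ r = 1 ∧ ∀ B, u * Φ B = Φ B * u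

variable {D₀ : Subgroup (MulAut K₀)} {G : Type} [Group G] {Ω : Type} [MulAction G Ω] {N : Subgroup G} {κ : Type}
  {x : κ → G} {s : κ → ℕ} {i₀ : κ}

theorem act_symm (hE : Env G Ω N) (e : N ≃* K₀) (k : K₀) : act hE e (e.symm k : G) = MulAut.conj k := by
  ext a
  apply e.symm.injective
  apply Subtype.ext
  rw [coe_act, MulAut.conj_apply, map_mul, map_mul, map_inv]
  rfl

theorem lift_perfect (e : N ≃* K₀) {M : Subgroup K₀} (h : ⁅M, M⁆ = M) : ⁅lift e M, lift e M⁆ = lift e M := by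
  unfold lift
  rw [← Subgroup.map_commutator, ← Subgroup.map_commutator, h]

/-- **the M-rule: every point is fixed by `M` or by `x i₀`** -/
theorem fix_or [Finite K₀] [Finite G] [Finite κ] (hD : ∀ α ∈ D₀, ∃ y : K₀, α = MulAut.conj y)
    (hZ : ∀ z : K₀, (∀ g, z * g = g * z) → z = 1) (hIH : IHx (Nat.card K₀)) {x₀ : MulAut K₀} {M : Subgroup K₀}
    (h1 : ∀ m ∈ M, x₀ m = m) (h2 : ∀ y, x₀ y = y → ∀ m ∈ M, y * m * y⁻¹ ∈ M) (h3 : ⁅M, M⁆ = M)
    (h4 : NSA (↥M ⧸ Subgroup.center ↥M)) (h5 : ∀ y, x₀ y = y → (∀ m ∈ M, y * m = m * y) → y = 1)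
    (hE : Env G Ω N) (e : N ≃* K₀) (hx : PF x s) (hcov : Cov Ω x) (hx0 : act hE e (x i₀) = x₀)
    (hin : ∀ j, j ≠ i₀ → act hE e (x j) ∈ D₀) (ω : Ω) : (∀ m ∈ M, (e.symm m : G) • ω = ω) ∨ x i₀ • ω = ω := by
  have hy : ∀ j, j ≠ i₀ → ∃ y : K₀, act hE e (x j) = MulAut.conj y ∧ x₀ y = y := by
    intro j hj
    obtain ⟨y, hy⟩ := hD _ (hin j hj)
    refine ⟨y, hy, ?_⟩
    have hc : x₀ * MulAut.conj y = MulAut.conj y * x₀ := by
      rw [← hy, ← hx0, ← map_mul, ← map_mul, hx.comm]
    have h6 : y⁻¹ * x₀ y = 1 := by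
      refine hZ _ fun g => ?_
      obtain ⟨g', rfl⟩ := x₀.surjective g
      have h7 := DFunLike.congr_fun hc g'
      simp only [MulAut.mul_apply, MulAut.conj_apply, map_mul, map_inv] at h7
      calc y⁻¹ * x₀ y * x₀ g' = y⁻¹ * (x₀ y * x₀ g' * (x₀ y)⁻¹) * x₀ y := by group
        _ = y⁻¹ * (y * x₀ g' * y⁻¹) * x₀ y := by rw [h7]
        _ = x₀ g' * (y⁻¹ * x₀ y) := by group
    exact (inv_mul_eq_one.1 h6).symm
  have hL : ∀ i, ∀ a ∈ M, act hE e (x i) a ∈ M := by
    intro i a ha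
    by_cases hi : i = i₀
    · rw [hi, hx0, h1 a ha]; exact ha
    · obtain ⟨y, hy1, hy2⟩ := hy i hi
      rw [hy1, MulAut.conj_apply]
      exact h2 y hy2 a ha
  have hLp : ∀ i, ∀ n : ℕ, ∀ a ∈ M, act hE e (x i ^ n) a ∈ M := by
    intro i n
    induction n with
    | zero => intro a ha; rw [pow_zero, map_one]; exact ha
    | succ n ih => intro a ha; rw [pow_succ', map_mul, MulAut.mul_apply]; exact hL i _ (ih a ha)
  have hconj : ∀ (g : G) (y : K₀), g * (e.symm y : G) * g⁻¹ = (e.symm (act hE e g y) : G) := fun g y =>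
    (coe_act hE e g y).symm
  have hnorm : ∀ i, x i ∈ Subgroup.normalizer (lift e M : Set G) := by
    intro i
    rw [Subgroup.mem_normalizer_iff]
    intro g
    constructor
    · intro hg
      obtain ⟨a, ha, rfl⟩ := mem_lift.1 hg
      rw [hconj]
      exact mem_lift.2 ⟨_, hL i a ha, rfl⟩
    · intro hg
      obtain ⟨a, ha, h1⟩ := mem_lift.1 hg
      have h2 : (x i)⁻¹ = x i ^ (s i - 1) := by
        rw [inv_eq_iff_mul_eq_one, ← pow_succ', Nat.sub_add_cancel (hx.prime i).one_lt.le, hx.pow]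
      have h3 : g = (x i) ^ (s i - 1) * (e.symm a : G) * ((x i) ^ (s i - 1))⁻¹ := by
        rw [← h2, h1]; group
      rw [h3, hconj]
      exact mem_lift.2 ⟨_, hLp i _ a ha, rfl⟩
  have hne : lift e M ≠ N := by
    intro h
    refine act_ne_one hE e (hx.ne i₀) ?_
    rw [hx0]
    ext k
    refine h1 k ?_
    have h6 : (e.symm k : G) ∈ lift e M := by rw [h]; exact (e.symm k).2
    obtain ⟨a, ha, h7⟩ := mem_lift.1 h6
    have h8 : a = k := e.symm.injective (Subtype.ext h7)
    rw [← h8]; exact ha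
  obtain ⟨π, hπ⟩ : ∃ π : ↥(lift e M) →* ↥M ⧸ Subgroup.center ↥M,
      π = (QuotientGroup.mk' (Subgroup.center ↥M)).comp (liftEquiv e M).toMonoidHom := ⟨_, rfl⟩
  have hπs : Function.Surjective π := by
    rw [hπ]
    exact (QuotientGroup.mk'_surjective _).comp (liftEquiv e M).surjective
  have hπk : π.ker ≤ Subgroup.center ↥(lift e M) := by
    intro m hm
    rw [MonoidHom.mem_ker, hπ] at hm
    have h6 : liftEquiv e M m ∈ Subgroup.center ↥M := (QuotientGroup.eq_one_iff _).1 hm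
    rw [Subgroup.mem_center_iff] at h6 ⊢
    intro g
    apply (liftEquiv e M).injective
    rw [map_mul, map_mul]
    exact h6 _
  rcases mrule_IHx hIH e (lift_le e M) hne (lift_perfect e h3) π hπs hπk h4 hx hcov hnorm ω with h | ⟨j, hj, hjω⟩
  · left
    intro m hm
    exact h (mem_lift.2 ⟨m, hm, rfl⟩)
  · right
    by_cases hji : j = i₀
    · rw [← hji]; exact hjω
    · exfalso
      obtain ⟨y, hy1, hy2⟩ := hy j hji
      have h6 : y = 1 := by
        refine h5 y hy2 fun m hm => ?_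
        have h7 := hj (e.symm m : G) (mem_lift.2 ⟨m, hm, rfl⟩)
        have h8 := hconj (x j) m
        rw [h7, mul_inv_cancel_right, hy1, MulAut.conj_apply] at h8
        have h9 : m = y * m * y⁻¹ := e.symm.injective (Subtype.ext h8)
        exact (eq_mul_inv_iff_mul_eq.1 h9).symm
      refine act_ne_one hE e (hx.ne j) ?_
      rw [hy1, h6, map_one]

/-- **kill for the second class** -/
theorem kill_two [Finite K₀] [Finite G] [Finite Ω] [Nonempty Ω] [Finite κ] (hD : ∀ α ∈ D₀, ∃ y : K₀, α = MulAut.conj y)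
    (hinn : ∀ k : K₀, MulAut.conj k ∈ D₀) (hZ : ∀ z : K₀, (∀ g, z * g = g * z) → z = 1) (hI : InKD D₀)
    (hIH : IHx (Nat.card K₀)) {x₀ : MulAut K₀} {F : Type} [Field F] [Finite F]
    (Φ : Matrix.SpecialLinearGroup (Fin 2) F →* K₀) {A : Matrix.SpecialLinearGroup (Fin 2) F} (hA : A ^ 3 = 1)
    (hA1 : Φ A ≠ 1) (h3 : (3 : F) ≠ 0) (hΦ : ∀ B, x₀ (Φ B) = Φ (A * B * A⁻¹)) {r : ℕ} (hr : r.Prime) (hr3 : r ≠ 3)
    (hM : MTwo x₀ Φ r) (hE : Env G Ω N) (e : N ≃* K₀) (hx : PF x s) (hcov : Cov Ω x) (hs : s i₀ = 3)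
    (hx0 : ∃ γ ∈ D₀, γ * act hE e (x i₀) * γ⁻¹ = x₀) (hin : ∀ j, j ≠ i₀ → act hE e (x j) ∈ D₀) : False := by
  obtain ⟨γ, hγ, hγ0⟩ := hx0
  obtain ⟨e', he'⟩ : ∃ e' : N ≃* K₀, e' = e.trans γ := ⟨_, rfl⟩
  have hact : ∀ g, act hE e' g = γ * act hE e g * γ⁻¹ := fun g => by rw [he']; exact act_conj hE e γ g
  have hx0' : act hE e' (x i₀) = x₀ := by rw [hact]; exact hγ0
  have hin' : ∀ j, j ≠ i₀ → act hE e' (x j) ∈ D₀ := fun j hj => by
    rw [hact]
    exact mul_mem (mul_mem hγ (hin j hj)) (inv_mem hγ)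
  obtain ⟨M, m1, m2, m3, m4, m5, u, huM, hu1, hur, huΦ⟩ := hM
  have hfix := fix_or hD hZ hIH m1 m2 m3 m4 m5 hE e' hx hcov hx0' hin'
  obtain ⟨U, hU⟩ : ∃ U : G, U = (e'.symm u : G) := ⟨_, rfl⟩
  have hUact : act hE e' U = MulAut.conj u := by rw [hU]; exact act_symm hE e' u
  have hUx : U * x i₀ = x i₀ * U := by
    apply act_injective hE e'
    rw [map_mul, map_mul, hUact, hx0']
    ext k
    rw [MulAut.mul_apply, MulAut.mul_apply, MulAut.conj_apply, MulAut.conj_apply, map_mul, map_mul, map_inv, m1 u huM]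
  have hx' : PF (fun b : Bool => if b then x i₀ else U) (fun b : Bool => if b then 3 else r) := by
    refine ⟨?_, ?_, ?_, ?_, ?_⟩
    · intro b; cases b
      · exact hr
      · exact Nat.prime_three
    · intro b c h; cases b <;> cases c
      · rfl
      · exact absurd h hr3
      · exact absurd h.symm hr3
      · rfl
    · intro b; cases b
      · show U ^ r = 1
        rw [hU, ← Subgroup.coe_pow, ← map_pow, hur, map_one, Subgroup.coe_one]
      · show x i₀ ^ 3 = 1
        rw [← hs]; exact hx.pow i₀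
    · intro b; cases b
      · show U ≠ 1
        intro h
        apply hu1
        apply e'.symm.injective
        apply Subtype.ext
        rw [← hU, h, map_one, Subgroup.coe_one]
      · exact hx.ne i₀
    · intro b c; cases b <;> cases c
      · rfl
      · exact hUx
      · exact hUx.symm
      · rfl
  have hcov' : Cov Ω (fun b : Bool => if b then x i₀ else U) := by
    intro ω
    rcases hfix ω with h | h
    · exact ⟨false, by show U • ω = ω; rw [hU]; exact h u huM⟩
    · exact ⟨true, h⟩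
  have hA2 : A ≠ 1 := fun h => hA1 (by rw [h, map_one])
  obtain ⟨n, hn⟩ := exists_inv_conj h3 hA hA2
  refine exch (i₀ := true) hI hIH hinn hE e' hx' hcov' (fun b hb => ?_) Nat.prime_three (fun b hb => ?_) (b := Φ A)
    (Subgroup.subset_closure ⟨Φ n, fun b hb => ?_, ?_⟩) (by rw [← map_pow, hA, map_one]) hA1
  · cases b
    · show act hE e' U ∈ D₀
      rw [hUact]; exact hinn u
    · exact absurd rfl hb
  · cases b
    · exact hr3
    · exact absurd rfl hb
  · cases b
    · show act hE e' U (Φ n) = Φ n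
      rw [hUact, MulAut.conj_apply, huΦ, mul_inv_cancel_right]
    · exact absurd rfl hb
  · show Φ A = Φ n * (act hE e' (x i₀) (Φ n))⁻¹
    rw [hx0', hΦ, ← map_inv, ← map_mul]
    congr 1
    have h6 : n * (A * n * A⁻¹)⁻¹ = (n * A * n⁻¹) * A⁻¹ := by group
    rw [h6, hn]
    have h7 : A * A * A = 1 := by rw [← hA, pow_succ, pow_two]
    calc A = (A * A * A) * A⁻¹ * A⁻¹ := by group
      _ = A⁻¹ * A⁻¹ := by rw [h7, one_mul]

end kill

end Cfsg.Agent.H911.TD
end
end

-- part: H884/An/Base_mg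
section
prune_inst 0x146005010022020000048502f00023c75700059000230800d9440c440686ff2305006720f4801b001902a2240038004813980079c0100000200006004119008090aa7682f389a10ca6000f80b807590c00000000000000000000000000041000004010000
set_option linter.all false
open scoped Cfsg.Agent.FastGrp
private noncomputable def lq261867bb6c {T : Sort _} (f :
    type_of% (@_root_.List.cons.{0}) →
    type_of% (@_root_.List.nil.{0}) →
    type_of% (@_root_.Prod.mk.{0, 0}) →
    type_of% (@_root_.List.range) →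
    type_of% (@_root_.Decidable.decide) →
    type_of% (@_root_.Nat.lcm) →
    ((List (List Nat)) → (List (List Nat))) → T) : T :=
  f (@_root_.List.cons.{0}) (@_root_.List.nil.{0}) (@_root_.Prod.mk.{0, 0}) (@_root_.List.range) (@_root_.Decidable.decide) (@_root_.Nat.lcm) (fun x => x)

-- part: H884/An/Defs
section
/-!
# S3509, alternating socle: interface (helper884)

* `Fam R x` : commuting permutations `x r` of prime order `r`, `r ∈ R`;
* `Cov F H` : every `A_n`-conjugate of the set `F` meets `H`;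
* `N3 H` : the derived subgroup of `H` contains no 3-cycle;
* `Imprim` : (counting) block systems with blocks of size `≥ 3`;
* `TransReg` : every element has a regular point if the stabiliser is transitive.
-/

set_option autoImplicit false

namespace Cfsg.Agent.H884.An

open Equiv Equiv.Perm

/-- commuting permutations of prime order -/
structure Fam {α : Type*} (R : Finset ℕ) (x : ℕ → Perm α) : Prop where
  pr : ∀ r ∈ R, r.Prime
  ord : ∀ r ∈ R, orderOf (x r) = r
  comm : ∀ r ∈ R, ∀ s ∈ R, Commute (x r) (x s)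

/-- the derived subgroup has no 3-cycles -/
def N3 {α : Type*} [Fintype α] [DecidableEq α] (H : Subgroup (Perm α)) : Prop :=
  ∀ σ ∈ ⁅H, H⁆, ¬ σ.IsThreeCycle

end Cfsg.Agent.H884.An
end

-- part: H884/An/Base
section
/-!
# S3509, alternating socle: restriction lemmas (helper884)
-/

set_option autoImplicit false
set_option linter.unusedSectionVars false
set_option linter.style.haveILetI false

namespace Cfsg.Agent.H884.An

open Equiv Equiv.Perm
open scoped commutatorElement

variable {α : Type*} [Fintype α] [DecidableEq α]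

/-- conjugate subgroup `{u | t⁻¹ u t ∈ H}` -/
def cjg (t : Perm α) (H : Subgroup (Perm α)) : Subgroup (Perm α) := H.comap (MulAut.conj t⁻¹).toMonoidHom

theorem mem_cjg {t u : Perm α} {H : Subgroup (Perm α)} : u ∈ cjg t H ↔ t⁻¹ * u * t ∈ H := by
  rw [cjg, Subgroup.mem_comap]
  change t⁻¹ * u * t⁻¹⁻¹ ∈ H ↔ _
  rw [inv_inv]

theorem isThree_conj {σ : Perm α} (h : σ.IsThreeCycle) (t : Perm α) : (t * σ * t⁻¹).IsThreeCycle := by
  have h1 : (t * σ * t⁻¹).cycleType = σ.cycleType := cycleType_conj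
  exact h1.trans h

theorem n3_cjg {t : Perm α} {H : Subgroup (Perm α)} (h : N3 H) : N3 (cjg t H) := by
  intro σ hσ h3
  have h1 : (cjg t H).map (MulAut.conj t⁻¹).toMonoidHom ≤ H := Subgroup.map_comap_le _ _
  have h2 : (MulAut.conj t⁻¹).toMonoidHom σ ∈ (⁅H, H⁆ : Subgroup (Perm α)) := by
    have h4 : (MulAut.conj t⁻¹).toMonoidHom σ ∈ (⁅cjg t H, cjg t H⁆ : Subgroup (Perm α)).map
        (MulAut.conj t⁻¹).toMonoidHom := Subgroup.mem_map_of_mem _ hσ
    rw [Subgroup.map_commutator] at h4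
    exact Subgroup.commutator_mono h1 h1 h4
  exact h _ h2 (isThree_conj h3 t⁻¹)

/-- the alternating group has 3-cycles in its derived subgroup -/
theorem not_n3_of_le (h5 : 5 ≤ Fintype.card α) {H : Subgroup (Perm α)} (hA : alternatingGroup α ≤ H) : ¬ N3 H := by
  intro hN
  have h1 : 2 < (Finset.univ : Finset α).card := by rw [Finset.card_univ]; omega
  obtain ⟨a, b, c, -, -, -, hab, hac, hbc⟩ := Finset.two_lt_card_iff.1 h1
  have h3 : (swap b a * swap b c).IsThreeCycle := isThreeCycle_swap_mul_swap_same hab.symm hbc hac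
  have h2 : (⁅alternatingGroup α, alternatingGroup α⁆ : Subgroup (Perm α)) = alternatingGroup α :=
    commutator_alternatingGroup_eq_self (by rw [Nat.card_eq_fintype_card]; exact h5)
  refine hN _ (Subgroup.commutator_mono hA hA ?_) h3
  rw [h2]
  exact h3.mem_alternatingGroup

/-- **L0** -/
theorem exists_not_mem (h5 : 5 ≤ Fintype.card α) {x : Perm α} (hx : x ≠ 1) {H : Subgroup (Perm α)} (hN : N3 H) :
    ∃ t ∈ alternatingGroup α, t⁻¹ * x * t ∉ H := by
  by_contra hcon
  push Not at hcon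
  -- the normal subgroup
  let C : Subgroup (alternatingGroup α) :=
    { carrier := {y | ∀ t ∈ alternatingGroup α, t⁻¹ * (y : Perm α) * t ∈ H}
      one_mem' := by
        intro t _
        simp [H.one_mem]
      mul_mem' := by
        intro y z hy hz t ht
        have h1 := H.mul_mem (hy t ht) (hz t ht)
        have h2 : t⁻¹ * (y : Perm α) * t * (t⁻¹ * (z : Perm α) * t) = t⁻¹ * ((y * z : alternatingGroup α) : Perm α) * t := by
          rw [Subgroup.coe_mul]; group
        rwa [h2] at h1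
      inv_mem' := by
        intro y hy t ht
        have h1 := H.inv_mem (hy t ht)
        have h2 : (t⁻¹ * (y : Perm α) * t)⁻¹ = t⁻¹ * ((y⁻¹ : alternatingGroup α) : Perm α) * t := by
          rw [Subgroup.coe_inv]; group
        rwa [h2] at h1 }
  have hCn : C.Normal := by
    refine ⟨fun y hy g t ht => ?_⟩
    have h1 := hy ((g : Perm α)⁻¹ * t) (mul_mem (inv_mem g.2) ht)
    have h2 : ((g : Perm α)⁻¹ * t)⁻¹ * (y : Perm α) * ((g : Perm α)⁻¹ * t) =
        t⁻¹ * ((g * y * g⁻¹ : alternatingGroup α) : Perm α) * t := by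
      rw [Subgroup.coe_mul, Subgroup.coe_mul, Subgroup.coe_inv]; group
    rwa [h2] at h1
  haveI : IsSimpleGroup (alternatingGroup α) := alternatingGroup.isSimpleGroup (by
    rw [Nat.card_eq_fintype_card]; exact h5)
  rcases hCn.eq_bot_or_eq_top with hC | hC
  · -- a point moved by `x`
    obtain ⟨a, ha⟩ : ∃ a, x a ≠ a := by
      by_contra h
      push Not at h
      exact hx (Equiv.ext h)
    have h1 : 2 < (Finset.univ \ {a, x a} : Finset α).card := by
      rw [Finset.card_univ_sdiff]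
      have := Finset.card_le_two (a := a) (b := x a)
      omega
    obtain ⟨b, c, -, hb, hc, -, hbc, -, -⟩ := Finset.two_lt_card_iff.1 h1
    simp only [Finset.mem_sdiff, Finset.mem_univ, true_and, Finset.mem_insert, Finset.mem_singleton, not_or] at hb hc
    have h3 : (swap a b * swap a c).IsThreeCycle := isThreeCycle_swap_mul_swap_same (Ne.symm hb.1) (Ne.symm hc.1) hbc
    have ht := h3.mem_alternatingGroup
    set t := swap a b * swap a c with htd
    have hmem : (⟨x * t * x⁻¹ * t⁻¹, by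
        rw [mem_alternatingGroup] at ht ⊢
        simp [ht]⟩ : alternatingGroup α) ∈ C := by
      intro s hs
      change s⁻¹ * (x * t * x⁻¹ * t⁻¹) * s ∈ H
      have h4 := H.mul_mem (hcon s hs) (H.inv_mem (hcon (t⁻¹ * s) (mul_mem (inv_mem ht) hs)))
      have h5 : s⁻¹ * x * s * ((t⁻¹ * s)⁻¹ * x * (t⁻¹ * s))⁻¹ = s⁻¹ * (x * t * x⁻¹ * t⁻¹) * s := by group
      rwa [h5] at h4
    rw [hC, Subgroup.mem_bot] at hmem
    have h6 : x * t * x⁻¹ * t⁻¹ = 1 := congrArg Subtype.val hmem
    have h7 : x * t = t * x := by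
      have := congrArg (· * t * x) h6
      simpa [mul_assoc] using this
    have h8 : t (x a) = x a := by
      rw [htd, mul_apply, swap_apply_of_ne_of_ne ha (Ne.symm hc.2), swap_apply_of_ne_of_ne ha (Ne.symm hb.2)]
    have h9 : x (t a) = x a := by
      have h11 : (x * t) a = (t * x) a := by rw [h7]
      exact h11.trans h8
    have h10 : t a = c := by
      rw [htd, mul_apply, swap_apply_left, swap_apply_of_ne_of_ne hc.1 hbc.symm]
    rw [h10] at h9
    exact hc.1 (x.injective h9)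
  · refine not_n3_of_le h5 (H := H) (fun y hy => ?_) hN
    have h1 : (⟨y, hy⟩ : alternatingGroup α) ∈ C := by rw [hC]; exact Subgroup.mem_top _
    have h2 := h1 1 (one_mem _)
    simpa using h2

/-- `h` has a regular point for every `H` without 3-cycles in `[H, H]` -/
def RegAll (h : Perm α) : Prop :=
  ∀ H : Subgroup (Perm α), N3 H → ∃ t ∈ alternatingGroup α, ∀ z ∈ Subgroup.zpowers h, t⁻¹ * z * t ∈ H → z = 1

section restrict

variable {p : α → Prop} [DecidablePred p]

theorem subtypeCongr_eq (f : Perm α) (hf : ∀ a, p (f a) ↔ p a) :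
    subtypeCongrHom p (f.subtypePerm hf, f.subtypePerm (p := fun a => ¬ p a) (fun a => not_congr (hf a))) = f := by
  ext a
  change (Perm.subtypeCongr _ _) a = f a
  by_cases ha : p a
  · rw [Perm.subtypeCongr.left_apply _ _ ha]; rfl
  · rw [Perm.subtypeCongr.right_apply _ _ ha]; rfl

theorem subtypeCongr_one (s : Perm {a // p a}) : subtypeCongrHom p (s, 1) = ofSubtype s := by
  ext a
  change (Perm.subtypeCongr _ _) a = _
  by_cases ha : p a
  · rw [Perm.subtypeCongr.left_apply _ _ ha, ofSubtype_apply_of_mem _ ha]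
  · rw [Perm.subtypeCongr.right_apply _ _ ha, ofSubtype_apply_of_not_mem _ ha]; rfl

/-- **L1** restriction to an invariant set -/
theorem restrict (h : Perm α) (hp : ∀ a, p (h a) ↔ p a) (hP : RegAll (h.subtypePerm hp))
    {H : Subgroup (Perm α)} (hN : N3 H) (F : Set (Perm α)) (hF : ∀ y ∈ F, ∀ a, p a → y a = a)
    {t₀ : Perm α} (ht₀ : t₀ ∈ alternatingGroup α) (h₀ : ∀ y ∈ F, t₀⁻¹ * y * t₀ ∉ H) :
    ∃ t ∈ alternatingGroup α, (∀ y ∈ F, t⁻¹ * y * t ∉ H) ∧
      ∀ z ∈ Subgroup.zpowers h, t⁻¹ * z * t ∈ H → ∀ a, p a → z a = a := by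
  set h1 := h.subtypePerm hp with hh1
  set h2 := h.subtypePerm (p := fun a => ¬ p a) (fun a => not_congr (hp a)) with hh2
  have hh : subtypeCongrHom p (h1, h2) = h := subtypeCongr_eq h hp
  let K := cjg t₀ H
  have hK : N3 K := n3_cjg hN
  let L : Subgroup (Perm {a // p a} × Perm {a // ¬ p a}) :=
    K.comap (subtypeCongrHom p) ⊓ (Subgroup.zpowers h2).comap (MonoidHom.snd _ _)
  let K' : Subgroup (Perm {a // p a}) := L.map (MonoidHom.fst _ _)
  have hK' : N3 K' := by
    intro σ hσ h3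
    have e1 : (⁅K', K'⁆ : Subgroup (Perm {a // p a})) = (⁅L, L⁆ : Subgroup _).map (MonoidHom.fst _ _) :=
      (Subgroup.map_commutator _ _ _).symm
    rw [e1] at hσ
    obtain ⟨⟨u1, u2⟩, hu, rfl⟩ := hσ
    have e2 : u2 = 1 := by
      have h4 : (MonoidHom.snd (Perm {a // p a}) (Perm {a // ¬ p a})) (u1, u2) ∈
          (⁅L, L⁆ : Subgroup _).map (MonoidHom.snd _ _) := Subgroup.mem_map_of_mem _ hu
      rw [Subgroup.map_commutator] at h4
      have h5 : L.map (MonoidHom.snd _ _) ≤ Subgroup.zpowers h2 := by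
        rw [Subgroup.map_le_iff_le_comap]
        exact inf_le_right
      have h6 : (⁅Subgroup.zpowers h2, Subgroup.zpowers h2⁆ : Subgroup (Perm {a // ¬ p a})) = ⊥ := by
        rw [eq_bot_iff, Subgroup.commutator_le]
        rintro _ ⟨i, rfl⟩ _ ⟨j, rfl⟩
        rw [Subgroup.mem_bot, commutatorElement_eq_one_iff_mul_comm]
        change h2 ^ i * h2 ^ j = h2 ^ j * h2 ^ i
        rw [← zpow_add, ← zpow_add, add_comm]
      have h7 := Subgroup.commutator_mono h5 h5 h4
      rw [h6, Subgroup.mem_bot] at h7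
      exact h7
    subst e2
    have e3 : subtypeCongrHom p (u1, 1) ∈ (⁅K, K⁆ : Subgroup (Perm α)) := by
      have h4 : subtypeCongrHom p (u1, 1) ∈ (⁅L, L⁆ : Subgroup _).map (subtypeCongrHom p) :=
        Subgroup.mem_map_of_mem _ hu
      rw [Subgroup.map_commutator] at h4
      have h5 : L.map (subtypeCongrHom p) ≤ K := by
        rw [Subgroup.map_le_iff_le_comap]
        exact inf_le_left
      exact Subgroup.commutator_mono h5 h5 h4
    refine hK _ e3 ?_
    rw [subtypeCongr_one]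
    have h6 : (ofSubtype u1).cycleType = u1.cycleType := cycleType_ofSubtype
    exact h6.trans h3
  obtain ⟨s, hs, hsz⟩ := hP K' hK'
  have hs' : ofSubtype s ∈ alternatingGroup α := by
    rw [mem_alternatingGroup, sign_ofSubtype]; exact mem_alternatingGroup.1 hs
  refine ⟨ofSubtype s * t₀, mul_mem hs' ht₀, ?_, ?_⟩
  · intro y hy
    have e1 : (ofSubtype s * t₀)⁻¹ * y * (ofSubtype s * t₀) = t₀⁻¹ * y * t₀ := by
      have e2 : y * ofSubtype s = ofSubtype s * y := by
        ext a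
        rw [mul_apply, mul_apply]
        by_cases ha : p a
        · have h4 : p (ofSubtype s a) := by rw [ofSubtype_apply_of_mem _ ha]; exact (s ⟨a, ha⟩).2
          rw [hF y hy _ h4, hF y hy _ ha]
        · have h4 : ¬ p (y a) := by
            intro h5
            apply ha
            have h6 := hF y hy _ h5
            rw [← y.injective h6]; exact h5
          rw [ofSubtype_apply_of_not_mem _ ha, ofSubtype_apply_of_not_mem _ h4]
      calc (ofSubtype s * t₀)⁻¹ * y * (ofSubtype s * t₀) = t₀⁻¹ * (ofSubtype s)⁻¹ * (y * ofSubtype s) * t₀ := by group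
        _ = t₀⁻¹ * y * t₀ := by rw [e2]; group
    rw [e1]
    exact h₀ y hy
  · rintro _ ⟨j, rfl⟩ hz a ha
    change (ofSubtype s * t₀)⁻¹ * h ^ j * (ofSubtype s * t₀) ∈ H at hz
    change (h ^ j) a = a
    have e1 : (s⁻¹ * h1 ^ j * s, h2 ^ j) ∈ L := by
      refine ⟨?_, ?_⟩
      · change subtypeCongrHom p (s⁻¹ * h1 ^ j * s, h2 ^ j) ∈ K
        have e2 : ((s⁻¹ * h1 ^ j * s, h2 ^ j) : Perm {a // p a} × Perm {a // ¬ p a}) =
            (s, 1)⁻¹ * (h1, h2) ^ j * (s, 1) := by
          ext1 <;> simp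
        rw [e2, map_mul, map_mul, map_inv, map_zpow, hh, subtypeCongr_one, mem_cjg]
        have e3 : t₀⁻¹ * ((ofSubtype s)⁻¹ * h ^ j * ofSubtype s) * t₀ =
            (ofSubtype s * t₀)⁻¹ * h ^ j * (ofSubtype s * t₀) := by group
        rw [e3]; exact hz
      · exact ⟨j, rfl⟩
    have e4 : s⁻¹ * h1 ^ j * s ∈ K' := ⟨_, e1, rfl⟩
    have e5 := hsz _ ⟨j, rfl⟩ e4
    have e6 : h1 ^ j = (h ^ j).subtypePerm _ := subtypePerm_zpow h j hp
    have e7 : (h1 ^ j) ⟨a, ha⟩ = ⟨a, ha⟩ := by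
      change h1 ^ j = 1 at e5
      rw [e5]; rfl
    rw [e6] at e7
    exact congrArg Subtype.val e7

end restrict

end Cfsg.Agent.H884.An
end

-- part: H884/Ex/Code
section
/-!
# S3510, EXC: permutations as lists, tree certificates (helper884)
-/

set_option autoImplicit false

namespace Cfsg.Agent.H884.Ex

open Equiv Equiv.Perm

/-- composition of codes: first `b`, then `a` -/
def mulC (a b : List ℕ) : List ℕ := b.map fun x => a.getD x 0

/-- the code of a transposition -/
def swC (n a b : ℕ) : List ℕ := (List.range n).map fun i => if i = a then b else if i = b then a else i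

/-- `l` is the list of values of `σ` -/
def Rep {n : ℕ} (σ : Perm (Fin n)) (l : List ℕ) : Prop := ∀ i : Fin n, l[(i : ℕ)]? = some ((σ i : Fin n) : ℕ)

theorem Rep.ext {n : ℕ} {σ τ : Perm (Fin n)} {c : List ℕ} (h1 : Rep σ c) (h2 : Rep τ c) : σ = τ := by
  ext i
  have := h1 i
  rw [h2 i] at this
  exact (Option.some.inj this).symm

theorem Rep.mul {n : ℕ} {σ τ : Perm (Fin n)} {a b : List ℕ} (h1 : Rep σ a) (h2 : Rep τ b) :
    Rep (σ * τ) (mulC a b) := by
  intro i
  rw [mulC, List.getElem?_map, h2 i, Option.map_some, List.getD_eq_getElem?_getD, h1 (τ i)]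
  rfl

theorem Rep.one {n : ℕ} : Rep (1 : Perm (Fin n)) (List.range n) := by
  intro i
  rw [List.getElem?_range i.isLt]
  rfl

theorem Rep.sw {n : ℕ} (a b : Fin n) : Rep (swap a b) (swC n a b) := by
  intro i
  rw [swC, List.getElem?_map, List.getElem?_range i.isLt, Option.map_some]
  congr 1
  rw [swap_apply_def]
  by_cases h1 : i = a
  · subst h1; simp
  · have h1' : (i : ℕ) ≠ a := fun h => h1 (Fin.ext h)
    rw [if_neg h1', if_neg h1]
    by_cases h2 : i = b
    · subst h2; simp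
    · have h2' : (i : ℕ) ≠ b := fun h => h2 (Fin.ext h)
      rw [if_neg h2', if_neg h2]

/-- the product of a list of transpositions -/
def prodT {n : ℕ} : List (Fin n × Fin n) → Perm (Fin n)
  | [] => 1
  | p :: ts => swap p.1 p.2 * prodT ts

/-- the code of `(prodT ts)⁻¹ x (prodT ts)` -/
def cj (n : ℕ) : List ℕ → List (Fin n × Fin n) → List ℕ
  | x, [] => x
  | x, p :: ts => cj n (mulC (swC n p.1 p.2) (mulC x (swC n p.1 p.2))) ts

theorem Rep.cj {n : ℕ} : ∀ (ts : List (Fin n × Fin n)) {x : Perm (Fin n)} {c : List ℕ}, Rep x c →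
    Rep ((prodT ts)⁻¹ * x * prodT ts) (Ex.cj n c ts)
  | [], x, c, h => by
    simpa [prodT, Ex.cj] using h
  | p :: ts, x, c, h => by
    have h1 := Rep.cj ts ((Rep.sw p.1 p.2).mul (h.mul (Rep.sw p.1 p.2)))
    have h2 : (prodT ts)⁻¹ * (swap p.1 p.2 * (x * swap p.1 p.2)) * prodT ts =
        (prodT (p :: ts))⁻¹ * x * prodT (p :: ts) := by
      rw [prodT, mul_inv_rev, swap_inv]
      simp only [mul_assoc]
    rw [h2] at h1
    exact h1

theorem prodT_sign {n : ℕ} : ∀ ts : List (Fin n × Fin n), (∀ p ∈ ts, p.1 ≠ p.2) →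
    sign (prodT ts) = (-1) ^ ts.length
  | [], _ => by simp [prodT]
  | p :: ts, h => by
    rw [prodT, map_mul, sign_swap (h p (by simp)), prodT_sign ts (fun q hq => h q (by simp [hq])),
      List.length_cons, pow_succ']

/-- evaluation of a word -/
def evW (n : ℕ) (L : List (List ℕ)) : List ℕ → List ℕ
  | [] => List.range n
  | k :: w => mulC (L.getD k (List.range n)) (evW n L w)

theorem evW_sound {n : ℕ} {H : Subgroup (Perm (Fin n))} {L : List (List ℕ)}
    (hL : ∀ c ∈ L, ∃ σ ∈ H, Rep σ c) : ∀ w : List ℕ, ∃ σ ∈ H, Rep σ (evW n L w)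
  | [] => ⟨1, H.one_mem, Rep.one⟩
  | k :: w => by
    obtain ⟨τ, hτ, h1⟩ := evW_sound hL w
    have h2 : ∃ σ ∈ H, Rep σ (L.getD k (List.range n)) := by
      by_cases hk : k < L.length
      · rw [List.getD_eq_getElem _ _ hk]
        exact hL _ (List.getElem_mem hk)
      · rw [List.getD_eq_default _ _ (by omega)]
        exact ⟨1, H.one_mem, Rep.one⟩
    obtain ⟨σ, hσ, h3⟩ := h2
    exact ⟨σ * τ, H.mul_mem hσ hτ, h3.mul h1⟩

/-- certificates -/
inductive Tr (n : ℕ) where
  | leaf (i : ℕ) (w1 w2 : List ℕ) : Tr n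
  | node (ts : List (Fin n × Fin n)) (l r : Tr n) : Tr n

end Cfsg.Agent.H884.Ex
end

-- part: H884/Ex/Cert
section
/-!
# S3510, EXC: certificates (helper884)
-/

set_option autoImplicit false
set_option maxRecDepth 100000

namespace Cfsg.Agent.H884.Ex

open Equiv Equiv.Perm

end Cfsg.Agent.H884.Ex
end

-- part: H884/Ex/Types
section
/-!
# S3510, EXC: cycle types (helper884)
-/

set_option autoImplicit false
set_option maxRecDepth 100000

namespace Cfsg.Agent.H884.Ex

open Equiv Equiv.Perm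

/-- descending lists with entries in `2 .. k` and sum `s` -/
def allP : ℕ → ℕ → ℕ → List (List ℕ)
  | 0, _, s => if s = 0 then [[]] else []
  | f + 1, k, s => if s = 0 then [[]] else
      (List.range (s + 1)).flatMap fun j => if 2 ≤ j ∧ j ≤ k then (allP f j (s - j)).map (List.cons j) else []

theorem mem_allP : ∀ (l : List ℕ) (f k s : ℕ), l.Pairwise (fun a b => b ≤ a) → (∀ x ∈ l, 2 ≤ x ∧ x ≤ k) →
    l.sum = s → l.length ≤ f → l ∈ allP f k s
  | [], f, k, s, _, _, h3, _ => by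
    have : s = 0 := by simpa using h3.symm
    subst this
    cases f <;> simp [allP]
  | a :: l, 0, k, s, _, _, _, h4 => by simp at h4
  | a :: l, f + 1, k, s, h1, h2, h3, h4 => by
    have ha := h2 a (by simp)
    rw [List.sum_cons] at h3
    have hs : s ≠ 0 := by omega
    rw [allP, if_neg hs, List.mem_flatMap]
    refine ⟨a, List.mem_range.2 (by omega), ?_⟩
    rw [if_pos ha, List.mem_map]
    refine ⟨l, ?_, rfl⟩
    rw [List.pairwise_cons] at h1
    apply mem_allP l f a (s - a) h1.2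
    · intro x hx
      exact ⟨(h2 x (by simp [hx])).1, h1.1 x hx⟩
    · omega
    · simpa using h4

theorem enum {n : ℕ} (σ : Perm (Fin n)) : ∃ l : List ℕ, σ.cycleType = ↑l ∧
    ∃ s ∈ List.range (n + 1), l ∈ allP n n s := by
  refine ⟨σ.cycleType.sort (fun a b => b ≤ a), (Multiset.sort_eq _ _).symm, ?_⟩
  set l := σ.cycleType.sort (fun a b => b ≤ a) with hl
  have hc : (l : Multiset ℕ) = σ.cycleType := Multiset.sort_eq _ _
  have hsum : l.sum ≤ n := by
    have h1 : (l : Multiset ℕ).sum = σ.support.card := by rw [hc, sum_cycleType]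
    rw [Multiset.sum_coe] at h1
    rw [h1]
    simpa using Finset.card_le_univ σ.support
  have h2 : ∀ x ∈ l, 2 ≤ x := by
    intro x hx
    have : x ∈ σ.cycleType := by rw [← hc]; exact hx
    exact two_le_of_mem_cycleType this
  refine ⟨l.sum, List.mem_range.2 (by omega), mem_allP l n n _ ?_ ?_ rfl ?_⟩
  · exact Multiset.pairwise_sort _ _
  · intro x hx
    exact ⟨h2 x hx, (List.single_le_sum (by simp) x hx).trans hsum⟩
  · have h3 : l.length * 2 ≤ l.sum := by
      clear_value l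
      clear hl hc hsum
      induction l with
      | nil => simp
      | cons a l ih =>
        rw [List.length_cons, List.sum_cons]
        have := h2 a (by simp)
        have := ih (fun x hx => h2 x (by simp [hx]))
        omega
    omega

/-- numbers which are 1 or prime powers -/
def PP (m : ℕ) : Prop := ∃ p k : ℕ, p.Prime ∧ m = p ^ k

theorem pp_of_mem {m : ℕ} (h : m ∈ [1, 2, 3, 4, 5, 7, 8]) : PP m := by
  simp only [List.mem_cons, List.not_mem_nil, or_false] at h
  rcases h with rfl | rfl | rfl | rfl | rfl | rfl | rfl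
  · exact ⟨2, 0, Nat.prime_two, rfl⟩
  · exact ⟨2, 1, Nat.prime_two, rfl⟩
  · exact ⟨3, 1, Nat.prime_three, rfl⟩
  · exact ⟨2, 2, Nat.prime_two, rfl⟩
  · exact ⟨5, 1, Nat.prime_five, rfl⟩
  · exact ⟨7, 1, by norm_num, rfl⟩
  · exact ⟨2, 3, Nat.prime_two, rfl⟩

theorem lcm_coe (l : List ℕ) : (l : Multiset ℕ).lcm = l.foldr Nat.lcm 1 := by
  induction l with
  | nil => rfl
  | cons a l ih =>
    rw [← Multiset.cons_coe, Multiset.lcm_cons, ih]
    rfl

theorem orderOf_eq {n : ℕ} {σ : Perm (Fin n)} {l : List ℕ} (h : σ.cycleType = ↑l) :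
    orderOf σ = l.foldr Nat.lcm 1 := by
  rw [← lcm_cycleType, h, lcm_coe]

theorem cases_of {n : ℕ} (E : List (List ℕ))
    (hchk : ((List.range (n + 1)).all fun s => (allP n n s).all fun l =>
      decide (l.foldr Nat.lcm 1 ∈ [1, 2, 3, 4, 5, 7, 8]) || E.contains l) = true)
    (σ : Perm (Fin n)) : PP (orderOf σ) ∨ ∃ l ∈ E, σ.cycleType = ↑l := by
  obtain ⟨l, hl, s, hs, hm⟩ := enum σ
  rw [List.all_eq_true] at hchk
  have h1 := hchk s hs
  rw [List.all_eq_true] at h1
  have h2 := h1 l hm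
  rw [Bool.or_eq_true, decide_eq_true_eq, List.contains_iff_mem] at h2
  rcases h2 with h2 | h2
  · left
    rw [orderOf_eq hl]
    exact pp_of_mem h2
  · right; exact ⟨l, h2, hl⟩

theorem chkE5 : ((beta% delta% lq261867bb6c fun a b _ d e f g =>
 (d (5 + 1)).all fun s => (allP 5 5 s).all fun l =>
 e (l.foldr f 1 ∈ (a 1<|a 2<|a 3<|a 4<|a 5<|a 7<|a 8<|b)) || ((a (a 3<|a 2<|b)<|b) :type_of% (g _)).contains l :
 Bool)) = true := by
  decide +kernel

theorem chkE6 : ((beta% delta% lq261867bb6c fun a b _ d e f g =>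
 (d (6 + 1)).all fun s => (allP 6 6 s).all fun l =>
 e (l.foldr f 1 ∈ (a 1<|a 2<|a 3<|a 4<|a 5<|a 7<|a 8<|b)) || ((a (a 3<|a 2<|b)<|a (a 6<|b)<|b) :type_of% (g _)).contains l :
 Bool)) = true := by
  decide +kernel

theorem chkE8 : ((beta% delta% lq261867bb6c fun a b _ d e f g =>
 (d (8 + 1)).all fun s => (allP 8 8 s).all fun l =>
 e (l.foldr f 1 ∈ (a 1<|a 2<|a 3<|a 4<|a 5<|a 7<|a 8<|b)) || ((a (a 3<|a 2<|b)<|a (a 3<|a 2<|a 2<|b)<|a (a 3<|a 3<|a 2<|b)<|a (a 6<|b)<|a (a 6<|a 2<|b)<|a (a 5<|a 2<|b)<|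
 a (a 5<|a 3<|b)<|a (a 4<|a 3<|b)<|b) :type_of% (g _)).contains l :
 Bool)) = true := by
  decide +kernel

/-- the covering property of `σ`: conjugates of elements of prime order of `⟨σ⟩` -/
def Cov {n : ℕ} (H : Subgroup (Perm (Fin n))) (σ : Perm (Fin n)) : Prop :=
  ∀ t ∈ alternatingGroup (Fin n), ∃ r : ℕ, r.Prime ∧ r ∣ orderOf σ ∧ t⁻¹ * σ ^ (orderOf σ / r) * t ∈ H

theorem cov_conj {n : ℕ} {H : Subgroup (Perm (Fin n))} {σ g : Perm (Fin n)} (c : Perm (Fin n))
    (hc : c * g * c⁻¹ = σ) (h : Cov H σ) : Cov (H.comap (MulAut.conj c).toMonoidHom) g := by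
  have ho : orderOf g = orderOf σ := by
    rw [← hc]
    exact (orderOf_injective (MulAut.conj c).toMonoidHom (MulAut.conj c).injective g).symm
  intro t ht
  obtain ⟨r, h1, h2, h3⟩ := h (c * t * c⁻¹) (by
    rw [mem_alternatingGroup] at ht ⊢
    rw [map_mul, map_mul, ht, map_inv, mul_one, mul_inv_cancel])
  refine ⟨r, h1, by rwa [ho], ?_⟩
  rw [Subgroup.mem_comap, ho]
  have h4 : (MulAut.conj c).toMonoidHom (t⁻¹ * g ^ (orderOf σ / r) * t) =
      (c * t * c⁻¹)⁻¹ * σ ^ (orderOf σ / r) * (c * t * c⁻¹) := by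
    change c * (t⁻¹ * g ^ (orderOf σ / r) * t) * c⁻¹ = _
    rw [← hc, conj_pow]
    group
  rwa [h4]

/-- two primes -/
theorem two_of_cov {n : ℕ} {H : Subgroup (Perm (Fin n))} {g : Perm (Fin n)} {l : List ℕ}
    (hg : g.cycleType = ↑l) (m p q : ℕ) (hm : l.foldr Nat.lcm 1 = m)
    (hpq : ∀ r, r.Prime → r ∣ m → r = p ∨ r = q) (h : Cov H g) :
    ∀ t ∈ alternatingGroup (Fin n), t⁻¹ * g ^ (m / p) * t ∈ H ∨ t⁻¹ * g ^ (m / q) * t ∈ H := by
  intro t ht
  have ho : orderOf g = m := by rw [orderOf_eq hg, hm]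
  obtain ⟨r, h1, h2, h3⟩ := h t ht
  rw [ho] at h2 h3
  rcases hpq r h1 h2 with rfl | rfl
  · left; exact h3
  · right; exact h3

theorem pr6 : ∀ r : ℕ, r.Prime → r ∣ 6 → r = 2 ∨ r = 3 := by
  intro r hr h
  have h1 : r ≤ 6 := Nat.le_of_dvd (by norm_num) h
  interval_cases r <;> first | omega | (exfalso; revert hr; norm_num)

theorem pr10 : ∀ r : ℕ, r.Prime → r ∣ 10 → r = 2 ∨ r = 5 := by
  intro r hr h
  have h1 : r ≤ 10 := Nat.le_of_dvd (by norm_num) h
  interval_cases r <;> first | omega | (exfalso; revert hr; norm_num)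

theorem pr15 : ∀ r : ℕ, r.Prime → r ∣ 15 → r = 3 ∨ r = 5 := by
  intro r hr h
  have h1 : r ≤ 15 := Nat.le_of_dvd (by norm_num) h
  interval_cases r <;> first | omega | (exfalso; revert hr; norm_num)

theorem pr12 : ∀ r : ℕ, r.Prime → r ∣ 12 → r = 2 ∨ r = 3 := by
  intro r hr h
  have h1 : r ≤ 12 := Nat.le_of_dvd (by norm_num) h
  interval_cases r <;> first | omega | (exfalso; revert hr; norm_num)

end Cfsg.Agent.H884.Ex
end

-- part: H884/Ex/Red
section
/-!
# S3510, EXC: reduction to permutations (helper884)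
-/

set_option autoImplicit false
set_option linter.unusedSectionVars false

namespace Cfsg.Agent.H884.Ex

open Equiv Equiv.Perm

universe u v

/-- a nontrivial element of `⟨g⟩` generates an element `g ^ (m / r)` of prime order -/
theorem exists_prime_pow {G : Type u} [Group G] [Finite G] {g z : G} (hz : z ∈ Subgroup.zpowers g) (h1 : z ≠ 1) :
    ∃ r : ℕ, r.Prime ∧ r ∣ orderOf g ∧ g ^ (orderOf g / r) ∈ Subgroup.zpowers z := by
  rw [← mem_powers_iff_mem_zpowers] at hz
  obtain ⟨k, rfl⟩ := hz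
  have hm : 0 < orderOf g := orderOf_pos g
  obtain ⟨m, hmd⟩ : ∃ m, m = orderOf g := ⟨_, rfl⟩
  obtain ⟨e, he⟩ : ∃ e, e = Nat.gcd k m := ⟨_, rfl⟩
  have hne : e ≠ m := by
    intro h
    apply h1
    have : m ∣ k := by rw [← h, he]; exact Nat.gcd_dvd_left _ _
    exact orderOf_dvd_iff_pow_eq_one.1 (hmd ▸ this)
  obtain ⟨c, hcm⟩ : e ∣ m := he ▸ Nat.gcd_dvd_right _ _
  have hc1 : c ≠ 1 := by rintro rfl; rw [mul_one] at hcm; exact hne hcm.symm
  obtain ⟨r, hr, hrc⟩ := Nat.exists_prime_and_dvd hc1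
  obtain ⟨d, rfl⟩ := hrc
  have hmr : m = r * (e * d) := by rw [hcm]; ring
  have hdiv : m / r = e * d := by rw [hmr, Nat.mul_div_cancel_left _ hr.pos]
  refine ⟨r, hr, ⟨e * d, by rw [← hmd]; exact hmr⟩, ?_⟩
  rw [← hmd, hdiv, pow_mul]
  apply Subgroup.pow_mem
  -- Bezout
  have hb : ((e : ℕ) : ℤ) = k * Nat.gcdA k m + m * Nat.gcdB k m := by rw [he]; exact Nat.gcd_eq_gcd_ab k m
  rw [Subgroup.mem_zpowers_iff]
  refine ⟨Nat.gcdA k m, ?_⟩
  change (g ^ k) ^ Nat.gcdA k m = g ^ e
  rw [← zpow_natCast g e, hb, zpow_add, zpow_mul, zpow_mul, zpow_natCast, zpow_natCast, hmd, pow_orderOf_eq_one,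
    one_zpow, mul_one]

section cov

variable {G : Type u} [Group G] [Finite G] {Ω : Type v} [Fintype Ω] [MulAction G Ω] [FaithfulSMul G Ω]

/-- every point is fixed by an element of prime order -/
theorem exists_fix {g : G} (hg : ∀ ω : Ω, MulAction.stabilizer (Subgroup.zpowers g) ω ≠ ⊥) (ω : Ω) :
    ∃ r : ℕ, r.Prime ∧ r ∣ orderOf g ∧ g ^ (orderOf g / r) • ω = ω := by
  obtain ⟨z, hz1⟩ := Subgroup.ne_bot_iff_exists_ne_one.1 (hg ω)
  have h1 : (z : Subgroup.zpowers g) • ω = ω := z.2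
  have h2 : ((z : Subgroup.zpowers g) : G) • ω = ω := h1
  obtain ⟨r, hr, hrm, h3⟩ := exists_prime_pow (z : Subgroup.zpowers g).2 (fun h => hz1 (Subtype.ext (Subtype.ext h)))
  refine ⟨r, hr, hrm, ?_⟩
  have h4 : Subgroup.zpowers ((z : Subgroup.zpowers g) : G) ≤ MulAction.stabilizer G ω := by
    rw [Subgroup.zpowers_le]; exact h2
  exact h4 h3

/-- prime powers are impossible -/
theorem not_pp [Nonempty Ω] {g : G} (hg : ∀ ω : Ω, MulAction.stabilizer (Subgroup.zpowers g) ω ≠ ⊥)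
    (h : PP (orderOf g)) : False := by
  obtain ⟨p, k, hp, hk⟩ := h
  rcases Nat.eq_zero_or_pos k with rfl | hk0
  · rw [pow_zero] at hk
    obtain ⟨r, hr, hrm, _⟩ := exists_fix hg (Classical.arbitrary Ω)
    rw [hk] at hrm
    exact hr.one_lt.ne' (Nat.dvd_one.1 hrm)
  · have h1 : g ^ (orderOf g / p) = 1 := by
      apply eq_of_smul_eq_smul (α := Ω)
      intro ω
      obtain ⟨r, hr, hrm, h2⟩ := exists_fix hg ω
      have : r = p := by
        rw [hk] at hrm
        exact (Nat.prime_dvd_prime_iff_eq hr hp).1 (hr.dvd_of_dvd_pow hrm)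
      rw [this] at h2
      rw [h2, one_smul]
    have hpm : p ∣ orderOf g := by rw [hk]; exact dvd_pow_self p hk0.ne'
    have h2 := orderOf_dvd_of_pow_eq_one h1
    have h3 : orderOf g / p < orderOf g := Nat.div_lt_self (orderOf_pos g) hp.one_lt
    have h4 : 0 < orderOf g / p := Nat.div_pos (Nat.le_of_dvd (orderOf_pos g) hpm) hp.pos
    exact absurd (Nat.le_of_dvd h4 h2) (by omega)

end cov

section ind

variable {G : Type u} [Group G] {T : Subgroup G} [T.Normal] {n : ℕ} (e : T ≃* alternatingGroup (Fin n))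

/-- `x` induces `π` on `T` -/
def Ind (x : G) (π : Perm (Fin n)) : Prop :=
  ∀ t : T, ((e (MulAut.conjNormal x t) : alternatingGroup (Fin n)) : Perm (Fin n)) = π * (e t : Perm (Fin n)) * π⁻¹

variable {e}

theorem Ind.one : Ind e (1 : G) 1 := by
  intro t; simp

theorem Ind.mul {x y : G} {π ρ : Perm (Fin n)} (h1 : Ind e x π) (h2 : Ind e y ρ) : Ind e (x * y) (π * ρ) := by
  intro t
  rw [map_mul, MulAut.mul_apply, h1, h2]
  group

theorem Ind.inv {x : G} {π : Perm (Fin n)} (h1 : Ind e x π) : Ind e x⁻¹ π⁻¹ := by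
  intro t
  have h2 := h1 (MulAut.conjNormal x⁻¹ t)
  rw [← MulAut.mul_apply, ← map_mul, mul_inv_cancel, map_one, MulAut.one_apply] at h2
  rw [h2]; group

theorem Ind.pow {x : G} {π : Perm (Fin n)} (h1 : Ind e x π) : ∀ k : ℕ, Ind e (x ^ k) (π ^ k)
  | 0 => by rw [pow_zero, pow_zero]; exact Ind.one
  | k + 1 => by rw [pow_succ, pow_succ]; exact (Ind.pow h1 k).mul h1

theorem Ind.left_unique (hC : Subgroup.centralizer (T : Set G) = ⊥) {x y : G} {π : Perm (Fin n)}
    (h1 : Ind e x π) (h2 : Ind e y π) : x = y := by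
  have h3 : Ind e (y⁻¹ * x) 1 := by
    have := h2.inv.mul h1
    rwa [inv_mul_cancel] at this
  have h4 : y⁻¹ * x ∈ Subgroup.centralizer (T : Set G) := by
    rw [Subgroup.mem_centralizer_iff]
    intro t ht
    have h5 := h3 ⟨t, ht⟩
    rw [one_mul, inv_one, mul_one] at h5
    have h6 := congrArg Subtype.val (e.injective (Subtype.ext h5))
    rw [MulAut.conjNormal_apply] at h6
    have h7 : y⁻¹ * x * t = t * (y⁻¹ * x) := by
      calc y⁻¹ * x * t = (y⁻¹ * x * t * (y⁻¹ * x)⁻¹) * (y⁻¹ * x) := by group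
        _ = t * (y⁻¹ * x) := by rw [h6]
    exact h7.symm
  rw [hC] at h4
  have h5 : y⁻¹ * x = 1 := Subgroup.mem_bot.1 h4
  rw [inv_mul_eq_one] at h5
  exact h5.symm

theorem Ind.right_unique (hn : 4 ≤ n) {x : G} {π ρ : Perm (Fin n)} (h1 : Ind e x π) (h2 : Ind e x ρ) : π = ρ := by
  obtain ⟨m, rfl⟩ : ∃ m, n = m + 2 := ⟨n - 2, by omega⟩
  apply Cfsg.Agent.StandardComponent.AltAut.conj_unique (m := m) (by omega)
  intro y
  have h3 := h1 (e.symm y)
  rw [h2 (e.symm y), MulEquiv.apply_symm_apply] at h3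
  exact h3.symm

theorem Ind.orderOf_eq (hn : 4 ≤ n) (hC : Subgroup.centralizer (T : Set G) = ⊥) {x : G} {π : Perm (Fin n)}
    (h1 : Ind e x π) : orderOf x = orderOf π := by
  apply orderOf_eq_orderOf_iff.2
  intro k
  constructor
  · intro h
    have h2 := h1.pow k
    rw [h] at h2
    exact h2.right_unique hn Ind.one
  · intro h
    have h2 := h1.pow k
    rw [h] at h2
    exact h2.left_unique hC Ind.one

variable (e)

variable {Ω : Type v} [MulAction G Ω]

end ind

/-! ### the number of points -/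

section card

variable {G : Type u} [Group G] [Finite G] {Ω : Type v} [Fintype Ω] [MulAction G Ω] [FaithfulSMul G Ω]

end card

end Cfsg.Agent.H884.Ex
end

private theorem dce_f6b343be72dd : _root_.True := by
  try have : _root_.True := by simp only [_root_.Cfsg.Agent.H884.Ex.prodT.eq_def]
  try have : _root_.True := by simp only [_root_.Cfsg.Agent.H884.Ex.allP.eq_2]
  try have : _root_.True := by simp only [_root_.Cfsg.Agent.H884.Ex.allP.eq_def]
  try have : _root_.True := by simp only [_root_.Cfsg.Agent.H884.Ex.allP.eq_1]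
  try have : _root_.True := by simp only [_root_.Cfsg.Agent.H884.Ex.prodT.eq_2]
  try have : _root_.True := by simp only [_root_.Cfsg.Agent.H884.Ex.cj.eq_1]
  try have : _root_.True := by simp only [_root_.Cfsg.Agent.H884.Ex.cj.eq_2]
  try have : _root_.True := by simp only [_root_.Cfsg.Agent.H884.Ex.prodT.eq_1]
  try have : _root_.True := by simp only [_root_.Cfsg.Agent.H884.Ex.mulC.eq_1]
  try have : _root_.True := by simp only [_root_.Cfsg.Agent.H884.Ex.cj.eq_def]
  try have : _root_.True := by simp only [_root_.Cfsg.Agent.H884.Ex.swC.eq_1]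
  try have : _root_.True := by simp only [_root_.Cfsg.Agent.H884.An.cjg.eq_1]
  exact _root_.True.intro
end

-- part: H884/An/Prim
section
prune_inst 0x147035051022020000048502d000388757000590002b880198040e440286fb2205406f0064801902182222000030004002980070c01000002a0004004005000090aa50003300010426000f803007590c00000000000000000000000000041000004010000
set_option linter.all false
open scoped Cfsg.Agent.FastGrp

-- part: H884/An/Block
section
/-!
# S3509, alternating socle: the commutator step (helper884)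
-/

set_option autoImplicit false
set_option linter.unusedSectionVars false

namespace Cfsg.Agent.H884.An

open Equiv Equiv.Perm
open Cfsg.Agent.H884.Ex (exists_prime_pow)

variable {α : Type*} [Fintype α] [DecidableEq α]

theorem ias (f : Perm α) (a : α) : f⁻¹ (f a) = a := f.symm_apply_apply a

theorem ais (f : Perm α) (a : α) : f (f⁻¹ a) = a := f.apply_symm_apply a

/-- **L2** -/
theorem replace {x s : Perm α} {Z : Subgroup (Perm α)} {H : Subgroup (Perm α)} (hs : s ∈ alternatingGroup α)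
    (hsZ : ∀ z ∈ Z, Commute s z) {t : Perm α} (ht : t ∈ alternatingGroup α)
    (hy : t⁻¹ * (x⁻¹ * (s⁻¹ * x * s)) * t ∉ H) (hz : ∀ z ∈ Z, t⁻¹ * z * t ∈ H → z = 1) :
    ∃ t ∈ alternatingGroup α, t⁻¹ * x * t ∉ H ∧ ∀ z ∈ Z, t⁻¹ * z * t ∈ H → z = 1 := by
  by_cases hx : t⁻¹ * x * t ∈ H
  · refine ⟨s * t, mul_mem hs ht, ?_, ?_⟩
    · intro h1
      apply hy
      have h2 := H.mul_mem (H.inv_mem hx) h1
      have h3 : (t⁻¹ * x * t)⁻¹ * ((s * t)⁻¹ * x * (s * t)) = t⁻¹ * (x⁻¹ * (s⁻¹ * x * s)) * t := by group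
      rwa [h3] at h2
    · intro z hzZ h1
      apply hz z hzZ
      have h2 : (s * t)⁻¹ * z * (s * t) = t⁻¹ * (s⁻¹ * (z * s)) * t := by group
      rw [h2, ← (hsZ z hzZ).eq, inv_mul_cancel_left] at h1
      exact h1
  · exact ⟨t, ht, hx, hz⟩

theorem block_E {h' x : Perm α} {B : α → Prop} (hxh : Commute x h') (hB : ∀ a, B (h' a) ↔ B a) (a : α) :
    (¬ B (x⁻¹ (h' a)) ∧ ¬ B (x (h' a))) ↔ (¬ B (x⁻¹ a) ∧ ¬ B (x a)) := by
  have h1 : x (h' a) = h' (x a) := DFunLike.congr_fun hxh.eq a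
  have h2 : x⁻¹ (h' a) = h' (x⁻¹ a) := DFunLike.congr_fun hxh.inv_left.eq a
  rw [h1, h2, hB, hB]

/-- the commutator step -/
theorem block (h5 : 5 ≤ Fintype.card α) (h' x w : Perm α) (B : α → Prop) [DecidablePred B]
    (hxh : Commute x h') (hwh : Commute w h')
    (hB : ∀ a, B (h' a) ↔ B a) (hBw : ∀ a, B (w a) ↔ B a) (hwf : ∀ a, B a → w a ≠ a)
    (hd1 : ∀ a, B a → ¬ B (x a)) (hd2 : ∀ a, B a → ¬ B (x (x a))) (hne : ∃ b, B b)
    (hE : RegAll (h'.subtypePerm (p := fun a => ¬ B (x⁻¹ a) ∧ ¬ B (x a)) (block_E hxh hB)))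
    {H : Subgroup (Perm α)} (hN : N3 H) :
    ∃ t ∈ alternatingGroup α, t⁻¹ * x * t ∉ H ∧ ∀ z ∈ Subgroup.zpowers h', t⁻¹ * z * t ∈ H → z = 1 := by
  let u : Perm α := ofSubtype (w.subtypePerm hBw)
  have hu1 : ∀ a, B a → u a = w a := fun a ha => ofSubtype_subtypePerm_of_mem hBw ha
  have hu2 : ∀ a, ¬ B a → u a = a := fun a ha => ofSubtype_subtypePerm_of_not_mem hBw ha
  have hBu : ∀ a, B (u a) ↔ B a := by
    intro a
    by_cases ha : B a
    · rw [hu1 a ha]; exact hBw a
    · rw [hu2 a ha]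
  have huh : Commute u h' := by
    ext a
    rw [mul_apply, mul_apply]
    by_cases ha : B a
    · rw [hu1 _ ((hB a).2 ha), hu1 _ ha]
      exact DFunLike.congr_fun hwh.eq a
    · rw [hu2 _ (fun h => ha ((hB a).1 h)), hu2 _ ha]
  let s : Perm α := u * (x * u * x⁻¹)
  have hs : s ∈ alternatingGroup α := by
    rw [mem_alternatingGroup]
    have h1 : sign s = sign u * sign u := by
      change sign (u * (x * u * x⁻¹)) = _
      rw [map_mul, map_mul, map_mul, map_inv, mul_right_comm (sign x), mul_inv_cancel, one_mul]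
    rw [h1]
    exact Int.units_mul_self _
  have hsh : Commute s h' := by
    refine huh.mul_left ((hxh.mul_left huh).mul_left hxh.inv_left)
  -- the values of `s` on `x a`
  have hsx : ∀ a, s (x a) = u (x (u a)) := by
    intro a
    change u (x (u (x⁻¹ (x a)))) = _
    rw [ias]
  have hB1 : ∀ a, B a → ¬ B (x⁻¹ a) := by
    intro a ha h1
    have h2 := hd1 _ h1
    rw [ais] at h2
    exact h2 ha
  -- `y` is trivial on `E`
  have hyE : ∀ a, (¬ B (x⁻¹ a) ∧ ¬ B (x a)) → (x⁻¹ * (s⁻¹ * x * s)) a = a := by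
    rintro a ⟨h1, h2⟩
    have h3 : s a = u a := by
      change u (x (u (x⁻¹ a))) = u a
      rw [hu2 _ h1, ais]
    have h4 : s (x a) = x (s a) := by
      rw [hsx, h3]
      by_cases ha : B a
      · exact hu2 _ (hd1 _ ((hBu a).2 ha))
      · rw [hu2 a ha]; exact hu2 _ h2
    change x⁻¹ (s⁻¹ (x (s a))) = a
    rw [← h4, ias, ias]
  have hy1 : x⁻¹ * (s⁻¹ * x * s) ≠ 1 := by
    obtain ⟨b, hb⟩ := hne
    intro h1
    have h2 : x * s = s * x := by
      have h3 : s * x * (x⁻¹ * (s⁻¹ * x * s)) = s * x * 1 := by rw [h1]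
      rw [mul_one] at h3
      rw [← h3]; group
    have h3 : x (s (x b)) = s (x (x b)) := DFunLike.congr_fun h2 (x b)
    rw [hsx, hsx, hu1 b hb, hu2 _ (hd1 _ hb), hu2 _ (hd2 _ hb), hu2 _ (hd1 _ ((hBw b).2 hb))] at h3
    exact hwf b hb (x.injective (x.injective h3))
  obtain ⟨t₀, ht₀, hy₀⟩ := exists_not_mem h5 hy1 hN
  obtain ⟨t, ht, htF, htz⟩ := restrict h' (block_E hxh hB) hE hN {x⁻¹ * (s⁻¹ * x * s)} (by
      intro y hy a ha
      rw [Set.mem_singleton_iff.1 hy]
      exact hyE a ha) ht₀ (by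
      intro y hy
      rw [Set.mem_singleton_iff.1 hy]
      exact hy₀)
  refine replace hs ?_ ht (htF _ rfl) ?_
  · rintro _ ⟨j, rfl⟩
    exact hsh.zpow_right j
  · rintro z hz hzH
    have h1 := htz z hz hzH
    have hxz : Commute x z := by
      obtain ⟨j, rfl⟩ := hz
      exact hxh.zpow_right j
    have hzB : ∀ b, B b → z b = b := fun b hb => h1 b ⟨hB1 b hb, hd1 b hb⟩
    ext a
    rw [one_apply]
    by_cases ha : B (x⁻¹ a)
    · have h2 := hzB _ ha
      have h3 : x (z (x⁻¹ a)) = z (x (x⁻¹ a)) := DFunLike.congr_fun hxz.eq _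
      rw [h2, ais] at h3
      exact h3.symm
    · by_cases ha' : B (x a)
      · have h2 := hzB _ ha'
        have h3 : x (z a) = z (x a) := DFunLike.congr_fun hxz.eq _
        rw [h2] at h3
        exact x.injective h3
      · exact h1 a ⟨ha, ha'⟩

/-- restricting gives a divisor of the order -/
theorem orderOf_subtypePerm_dvd {p : α → Prop} (f : Perm α) (hf : ∀ a, p (f a) ↔ p a) :
    orderOf (f.subtypePerm hf) ∣ orderOf f := by
  apply orderOf_dvd_of_pow_eq_one
  rw [subtypePerm_pow]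
  ext a
  simp only [pow_orderOf_eq_one, subtypePerm_apply, one_apply]

end Cfsg.Agent.H884.An
end

-- part: H884/An/Cert
section
/-!
# S3509, alternating socle: small degrees (helper884)
-/

set_option autoImplicit false
set_option maxRecDepth 100000

namespace Cfsg.Agent.H884.An

open Equiv Equiv.Perm
open scoped commutatorElement
open Cfsg.Agent.H884.Ex (Rep mulC swC prodT cj evW evW_sound prodT_sign cases_of PP allP)

/-- certificates: the leaves are commutators which are three-cycles -/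
inductive Tc (n : ℕ) where
  | leaf (a b c : Fin n) (w1 w2 : List ℕ) : Tc n
  | node (ts : List (Fin n × Fin n)) (l r : Tc n) : Tc n

/-- the check -/
def chc (n : ℕ) (xp xq : List ℕ) : List (List ℕ) → Tc n → Bool
  | L, .leaf a b c w1 w2 => decide (a ≠ b ∧ a ≠ c ∧ b ≠ c) &&
      (mulC (evW n L w1) (evW n L w2) ==
        mulC (mulC (swC n a b) (swC n b c)) (mulC (evW n L w2) (evW n L w1)))
  | L, .node ts l r => (ts.length % 2 == 0) && (ts.all fun p => decide (p.1 ≠ p.2)) &&
      (chc n xp xq (L ++ [cj n xp ts]) l && chc n xp xq (L ++ [cj n xq ts]) r)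

theorem isThreeCycle_swap_mul {α : Type*} [Fintype α] [DecidableEq α] {a b c : α}
    (h1 : a ≠ b) (h2 : a ≠ c) (h3 : b ≠ c) : (swap a b * swap b c).IsThreeCycle := by
  rw [swap_comm a b]
  exact isThreeCycle_swap_mul_swap_same h1.symm h3 h2

theorem chc_sound {n : ℕ} {H : Subgroup (Perm (Fin n))} {p q : Perm (Fin n)} {xp xq : List ℕ}
    (hp : _root_.Cfsg.Agent.H884.Ex.Rep p xp) (hq : _root_.Cfsg.Agent.H884.Ex.Rep q xq)
    (hcov : ∀ t ∈ alternatingGroup (Fin n), t⁻¹ * p * t ∈ H ∨ t⁻¹ * q * t ∈ H) :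
    ∀ (T : Tc n) (L : List (List ℕ)), (∀ c ∈ L, ∃ σ ∈ H, _root_.Cfsg.Agent.H884.Ex.Rep σ c) → chc n xp xq L T = true → ¬ N3 H
  | .leaf a b c w1 w2, L, hL, h => by
    rw [chc, Bool.and_eq_true, decide_eq_true_eq, beq_iff_eq] at h
    obtain ⟨⟨h1, h2, h3⟩, h4⟩ := h
    obtain ⟨u, hu, hu'⟩ := evW_sound hL w1
    obtain ⟨v, hv, hv'⟩ := evW_sound hL w2
    intro hN
    have h5 := hu'.mul hv'
    rw [h4] at h5
    have h6 := h5.ext (((Rep.sw a b).mul (Rep.sw b c)).mul (hv'.mul hu'))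
    have h7 : (⁅u, v⁆ : Perm (Fin n)) = swap a b * swap b c := by
      rw [commutatorElement_def, h6]
      group
    exact hN _ (h7 ▸ Subgroup.commutator_mem_commutator hu hv) (isThreeCycle_swap_mul h1 h2 h3)
  | .node ts l r, L, hL, h => by
    rw [chc, Bool.and_eq_true, Bool.and_eq_true, Bool.and_eq_true, beq_iff_eq, List.all_eq_true] at h
    obtain ⟨⟨h1, h2⟩, h3, h4⟩ := h
    have hs : prodT ts ∈ alternatingGroup (Fin n) := by
      rw [mem_alternatingGroup, prodT_sign ts (fun p hp => by simpa using h2 p hp)]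
      exact (Nat.even_iff.2 h1).neg_one_pow
    rcases hcov _ hs with h5 | h5
    · refine chc_sound hp hq hcov l _ ?_ h3
      intro c hc
      rcases List.mem_append.1 hc with hc | hc
      · exact hL c hc
      · rw [List.mem_singleton.1 hc]
        exact ⟨_, h5, Rep.cj ts hp⟩
    · refine chc_sound hp hq hcov r _ ?_ h4
      intro c hc
      rcases List.mem_append.1 hc with hc | hc
      · exact hL c hc
      · rw [List.mem_singleton.1 hc]
        exact ⟨_, h5, Rep.cj ts hq⟩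

/-- representative -/
def g_u5_32 : Perm (Fin 5) := prodT [(0, 1), (1, 2), (3, 4)]

/-- certificate -/
def tr_u5_32 : Tc 5 :=
  .node []
 (.node [(0, 1), (2, 4)]
 (.leaf 2 4 3 [1] [0])
 (.leaf 0 3 4 [1] [0]))
 (.node [(0, 1), (1, 4), (4, 2), (2, 3)]
 (.leaf 0 2 1 [1] [0])
 (.leaf 0 3 2 [1] [0]))

theorem chk_u5_32 : chc 5 [0, 1, 2, 4, 3] [2, 0, 1, 3, 4] [] tr_u5_32 = true := by decide +kernel

theorem core_u5_32 {H : Subgroup (Perm (Fin 5))}
    (hcov : ∀ t ∈ alternatingGroup (Fin 5), t⁻¹ * g_u5_32 ^ 3 * t ∈ H ∨ t⁻¹ * g_u5_32 ^ 2 * t ∈ H) : ¬ N3 H :=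
  chc_sound (xp := [0, 1, 2, 4, 3]) (xq := [2, 0, 1, 3, 4]) (by unfold Ex.Rep; decide +kernel) (by unfold Ex.Rep; decide +kernel)
    hcov tr_u5_32 [] (by simp only [_root_.List.not_mem_nil, _root_.IsEmpty.forall_iff, _root_.implies_true]) chk_u5_32

/-- representative -/
def g_u6_32 : Perm (Fin 6) := prodT [(0, 1), (1, 2), (3, 4)]

/-- certificate -/
def tr_u6_32 : Tc 6 :=
  .node []
 (.node [(0, 1), (2, 5), (5, 4), (4, 3)]
 (.leaf 3 4 5 [1] [0])
 (.leaf 0 4 3 [1] [0]))
 (.node [(1, 3), (3, 4), (4, 2), (2, 5)]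
 (.leaf 0 1 3 [1] [0])
 (.leaf 0 4 2 [1] [0]))

theorem chk_u6_32 : chc 6 [0, 1, 2, 4, 3, 5] [2, 0, 1, 3, 4, 5] [] tr_u6_32 = true := by decide +kernel

theorem core_u6_32 {H : Subgroup (Perm (Fin 6))}
    (hcov : ∀ t ∈ alternatingGroup (Fin 6), t⁻¹ * g_u6_32 ^ 3 * t ∈ H ∨ t⁻¹ * g_u6_32 ^ 2 * t ∈ H) : ¬ N3 H :=
  chc_sound (xp := [0, 1, 2, 4, 3, 5]) (xq := [2, 0, 1, 3, 4, 5]) (by unfold Ex.Rep; decide +kernel) (by unfold Ex.Rep; decide +kernel)
    hcov tr_u6_32 [] (by simp only [_root_.List.not_mem_nil, _root_.IsEmpty.forall_iff, _root_.implies_true]) chk_u6_32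

/-- representative -/
def g_u8_32 : Perm (Fin 8) := prodT [(0, 1), (1, 2), (3, 4)]

/-- certificate -/
def tr_u8_32 : Tc 8 :=
  .node []
 (.node [(1, 6), (6, 3), (2, 7), (7, 5)]
 (.leaf 3 4 6 [1] [0])
 (.leaf 0 4 3 [1] [0]))
 (.node [(0, 2), (2, 5), (5, 6), (1, 3), (3, 4), (4, 7)]
 (.leaf 0 1 3 [1] [0])
 (.leaf 0 7 2 [1] [0]))

theorem chk_u8_32 : chc 8 [0, 1, 2, 4, 3, 5, 6, 7] [2, 0, 1, 3, 4, 5, 6, 7] [] tr_u8_32 = true := by decide +kernel

theorem core_u8_32 {H : Subgroup (Perm (Fin 8))}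
    (hcov : ∀ t ∈ alternatingGroup (Fin 8), t⁻¹ * g_u8_32 ^ 3 * t ∈ H ∨ t⁻¹ * g_u8_32 ^ 2 * t ∈ H) : ¬ N3 H :=
  chc_sound (xp := [0, 1, 2, 4, 3, 5, 6, 7]) (xq := [2, 0, 1, 3, 4, 5, 6, 7]) (by unfold Ex.Rep; decide +kernel) (by unfold Ex.Rep; decide +kernel)
    hcov tr_u8_32 [] (by simp only [_root_.List.not_mem_nil, _root_.IsEmpty.forall_iff, _root_.implies_true]) chk_u8_32

/-- representative -/
def g_u8_322 : Perm (Fin 8) := prodT [(0, 1), (1, 2), (3, 4), (5, 6)]

/-- certificate -/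
def tr_u8_322 : Tc 8 :=
  .node []
 (.node [(0, 4), (2, 5), (5, 3), (6, 7)]
 (.leaf 0 6 5 [1] [0])
 (.leaf 1 3 4 [1] [0]))
 (.node [(0, 2), (2, 5), (5, 6), (1, 3), (3, 4), (4, 7)]
 (.leaf 0 2 5 [0, 1, 0] [1])
 (.leaf 0 7 2 [1] [0]))

theorem chk_u8_322 : chc 8 [0, 1, 2, 4, 3, 6, 5, 7] [2, 0, 1, 3, 4, 5, 6, 7] [] tr_u8_322 = true := by decide +kernel

theorem core_u8_322 {H : Subgroup (Perm (Fin 8))}
    (hcov : ∀ t ∈ alternatingGroup (Fin 8), t⁻¹ * g_u8_322 ^ 3 * t ∈ H ∨ t⁻¹ * g_u8_322 ^ 2 * t ∈ H) : ¬ N3 H :=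
  chc_sound (xp := [0, 1, 2, 4, 3, 6, 5, 7]) (xq := [2, 0, 1, 3, 4, 5, 6, 7]) (by unfold Ex.Rep; decide +kernel) (by unfold Ex.Rep; decide +kernel)
    hcov tr_u8_322 [] (by simp only [_root_.List.not_mem_nil, _root_.IsEmpty.forall_iff, _root_.implies_true]) chk_u8_322

/-- representative -/
def g_u8_332 : Perm (Fin 8) := prodT [(0, 1), (1, 2), (3, 4), (4, 5), (6, 7)]

/-- certificate -/
def tr_u8_332 : Tc 8 :=
  .node []
 (.node [(0, 5), (5, 1), (1, 4), (2, 3), (3, 6), (6, 7)]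
 (.leaf 3 7 6 [1] [0])
 (.leaf 5 6 7 [1] [0]))
 (.node [(0, 7), (7, 6), (6, 1), (1, 3), (3, 4), (2, 5)]
 (.leaf 0 7 2 [1] [0])
 (.leaf 2 6 5 [0, 1, 1, 0] [1, 0, 1]))

theorem chk_u8_332 : chc 8 [0, 1, 2, 3, 4, 5, 7, 6] [2, 0, 1, 5, 3, 4, 6, 7] [] tr_u8_332 = true := by decide +kernel

theorem core_u8_332 {H : Subgroup (Perm (Fin 8))}
    (hcov : ∀ t ∈ alternatingGroup (Fin 8), t⁻¹ * g_u8_332 ^ 3 * t ∈ H ∨ t⁻¹ * g_u8_332 ^ 2 * t ∈ H) : ¬ N3 H :=
  chc_sound (xp := [0, 1, 2, 3, 4, 5, 7, 6]) (xq := [2, 0, 1, 5, 3, 4, 6, 7]) (by unfold Ex.Rep; decide +kernel) (by unfold Ex.Rep; decide +kernel)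
    hcov tr_u8_332 [] (by simp only [_root_.List.not_mem_nil, _root_.IsEmpty.forall_iff, _root_.implies_true]) chk_u8_332

/-- representative -/
def g_u8_6 : Perm (Fin 8) := prodT [(0, 1), (1, 2), (2, 3), (3, 4), (4, 5)]

/-- certificate -/
def tr_u8_6 : Tc 8 :=
  .node []
 (.node [(0, 4), (4, 2), (1, 5), (5, 3), (3, 6), (6, 7)]
 (.leaf 0 7 3 [1] [0])
 (.leaf 1 4 5 [0, 1, 0, 1, 0, 1, 0] [1, 0, 1, 1, 0, 1]))
 (.node [(0, 3), (1, 2), (2, 4), (4, 5), (5, 6), (6, 7)]
 (.leaf 0 1 3 [1, 0, 1, 0, 1, 0, 1] [0, 1, 0, 0, 1, 0])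
 (.leaf 1 7 4 [0, 1, 1, 0] [1, 0, 1]))

theorem chk_u8_6 : chc 8 [3, 4, 5, 0, 1, 2, 6, 7] [2, 3, 4, 5, 0, 1, 6, 7] [] tr_u8_6 = true := by decide +kernel

theorem core_u8_6 {H : Subgroup (Perm (Fin 8))}
    (hcov : ∀ t ∈ alternatingGroup (Fin 8), t⁻¹ * g_u8_6 ^ 3 * t ∈ H ∨ t⁻¹ * g_u8_6 ^ 2 * t ∈ H) : ¬ N3 H :=
  chc_sound (xp := [3, 4, 5, 0, 1, 2, 6, 7]) (xq := [2, 3, 4, 5, 0, 1, 6, 7]) (by unfold Ex.Rep; decide +kernel) (by unfold Ex.Rep; decide +kernel)
    hcov tr_u8_6 [] (by simp only [_root_.List.not_mem_nil, _root_.IsEmpty.forall_iff, _root_.implies_true]) chk_u8_6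

/-- representative -/
def g_u8_62 : Perm (Fin 8) := prodT [(0, 1), (1, 2), (2, 3), (3, 4), (4, 5), (6, 7)]

/-- certificate -/
def tr_u8_62 : Tc 8 :=
  .node []
 (.node [(0, 2), (2, 4), (4, 1), (1, 6), (6, 5), (5, 3)]
 (.node [(0, 4), (4, 3), (3, 6), (6, 1), (2, 5), (5, 7)]
 (.node [(0, 3), (3, 5), (5, 6), (6, 2), (2, 4), (1, 7)]
 (.leaf 0 6 2 [2, 1, 0] [3, 0])
 (.leaf 2 4 6 [3, 0, 2] [0, 3]))
 (.leaf 0 6 5 [2, 1, 2, 1] [0, 2]))
 (.node [(1, 5), (5, 6), (6, 4), (2, 7)]
 (.leaf 1 6 3 [1, 2, 1] [2, 0])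
 (.leaf 4 5 6 [0, 2] [1])))
 (.node [(0, 7), (7, 6), (6, 4), (4, 1), (1, 3), (2, 5)]
 (.node [(1, 7), (7, 4), (4, 2), (5, 6)]
 (.leaf 5 6 7 [0, 2] [1, 0])
 (.leaf 2 5 6 [2, 1, 0] [0, 1]))
 (.leaf 3 4 5 [0, 1, 1, 0] [1, 0, 1]))

theorem chk_u8_62 : chc 8 [3, 4, 5, 0, 1, 2, 7, 6] [2, 3, 4, 5, 0, 1, 6, 7] [] tr_u8_62 = true := by decide +kernel

theorem core_u8_62 {H : Subgroup (Perm (Fin 8))}
    (hcov : ∀ t ∈ alternatingGroup (Fin 8), t⁻¹ * g_u8_62 ^ 3 * t ∈ H ∨ t⁻¹ * g_u8_62 ^ 2 * t ∈ H) : ¬ N3 H :=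
  chc_sound (xp := [3, 4, 5, 0, 1, 2, 7, 6]) (xq := [2, 3, 4, 5, 0, 1, 6, 7]) (by unfold Ex.Rep; decide +kernel) (by unfold Ex.Rep; decide +kernel)
    hcov tr_u8_62 [] (by simp only [_root_.List.not_mem_nil, _root_.IsEmpty.forall_iff, _root_.implies_true]) chk_u8_62

/-- representative -/
def g_u8_52 : Perm (Fin 8) := prodT [(0, 1), (1, 2), (2, 3), (3, 4), (5, 6)]

/-- certificate -/
def tr_u8_52 : Tc 8 :=
  .node []
 (.node [(0, 3), (3, 2), (2, 1), (1, 7), (7, 4), (4, 6)]
 (.leaf 4 6 5 [1] [0])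
 (.leaf 3 5 6 [1] [0]))
 (.node [(0, 7), (7, 6), (6, 1), (1, 3), (3, 4), (2, 5)]
 (.leaf 2 7 4 [1] [0])
 (.leaf 2 5 3 [1, 0, 0, 1, 0] [0, 1]))

theorem chk_u8_52 : chc 8 [0, 1, 2, 3, 4, 6, 5, 7] [2, 3, 4, 0, 1, 5, 6, 7] [] tr_u8_52 = true := by decide +kernel

theorem core_u8_52 {H : Subgroup (Perm (Fin 8))}
    (hcov : ∀ t ∈ alternatingGroup (Fin 8), t⁻¹ * g_u8_52 ^ 5 * t ∈ H ∨ t⁻¹ * g_u8_52 ^ 2 * t ∈ H) : ¬ N3 H :=
  chc_sound (xp := [0, 1, 2, 3, 4, 6, 5, 7]) (xq := [2, 3, 4, 0, 1, 5, 6, 7]) (by unfold Ex.Rep; decide +kernel) (by unfold Ex.Rep; decide +kernel)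
    hcov tr_u8_52 [] (by simp only [_root_.List.not_mem_nil, _root_.IsEmpty.forall_iff, _root_.implies_true]) chk_u8_52

/-- representative -/
def g_u8_53 : Perm (Fin 8) := prodT [(0, 1), (1, 2), (2, 3), (3, 4), (5, 6), (6, 7)]

/-- certificate -/
def tr_u8_53 : Tc 8 :=
  .node []
 (.node [(0, 5), (5, 1), (1, 4), (2, 3), (3, 6), (6, 7)]
 (.leaf 3 5 6 [1] [0])
 (.leaf 2 7 4 [1, 1, 0] [0, 1]))
 (.node [(0, 2), (2, 5), (5, 6), (1, 3), (3, 4), (4, 7)]
 (.leaf 3 5 4 [0, 1, 1, 0] [1])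
 (.leaf 1 2 6 [1, 0, 0, 1, 0] [0, 1]))

theorem chk_u8_53 : chc 8 [0, 1, 2, 3, 4, 7, 5, 6] [3, 4, 0, 1, 2, 5, 6, 7] [] tr_u8_53 = true := by decide +kernel

theorem core_u8_53 {H : Subgroup (Perm (Fin 8))}
    (hcov : ∀ t ∈ alternatingGroup (Fin 8), t⁻¹ * g_u8_53 ^ 5 * t ∈ H ∨ t⁻¹ * g_u8_53 ^ 3 * t ∈ H) : ¬ N3 H :=
  chc_sound (xp := [0, 1, 2, 3, 4, 7, 5, 6]) (xq := [3, 4, 0, 1, 2, 5, 6, 7]) (by unfold Ex.Rep; decide +kernel) (by unfold Ex.Rep; decide +kernel)
    hcov tr_u8_53 [] (by simp only [_root_.List.not_mem_nil, _root_.IsEmpty.forall_iff, _root_.implies_true]) chk_u8_53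

/-- representative -/
def g_u8_43 : Perm (Fin 8) := prodT [(0, 1), (1, 2), (2, 3), (4, 5), (5, 6)]

/-- certificate -/
def tr_u8_43 : Tc 8 :=
  .node []
 (.node [(0, 2), (2, 7), (7, 1), (1, 4), (3, 6), (6, 5)]
 (.leaf 0 4 2 [1] [0])
 (.leaf 1 3 6 [1] [0]))
 (.node [(1, 3), (3, 7), (7, 4), (2, 6)]
 (.leaf 0 5 6 [0, 1, 0] [1])
 (.leaf 2 6 5 [1] [0]))

theorem chk_u8_43 : chc 8 [2, 3, 0, 1, 4, 5, 6, 7] [0, 1, 2, 3, 5, 6, 4, 7] [] tr_u8_43 = true := by decide +kernel

theorem core_u8_43 {H : Subgroup (Perm (Fin 8))}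
    (hcov : ∀ t ∈ alternatingGroup (Fin 8), t⁻¹ * g_u8_43 ^ 6 * t ∈ H ∨ t⁻¹ * g_u8_43 ^ 4 * t ∈ H) : ¬ N3 H :=
  chc_sound (xp := [2, 3, 0, 1, 4, 5, 6, 7]) (xq := [0, 1, 2, 3, 5, 6, 4, 7]) (by unfold Ex.Rep; decide +kernel) (by unfold Ex.Rep; decide +kernel)
    hcov tr_u8_43 [] (by simp only [_root_.List.not_mem_nil, _root_.IsEmpty.forall_iff, _root_.implies_true]) chk_u8_43

/-- representative -/
def g_u7_32 : Perm (Fin 7) := prodT [(0, 1), (1, 2), (3, 4)]

/-- certificate -/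
def tr_u7_32 : Tc 7 :=
  .node []
 (.node [(0, 1), (1, 6), (6, 5), (2, 4)]
 (.leaf 2 4 3 [1] [0])
 (.leaf 0 3 4 [1] [0]))
 (.node [(0, 1), (1, 4), (4, 2), (2, 6), (6, 5), (5, 3)]
 (.leaf 0 1 5 [1] [0])
 (.leaf 0 3 2 [1] [0]))

theorem chk_u7_32 : chc 7 [0, 1, 2, 4, 3, 5, 6] [2, 0, 1, 3, 4, 5, 6] [] tr_u7_32 = true := by decide +kernel

theorem core_u7_32 {H : Subgroup (Perm (Fin 7))}
    (hcov : ∀ t ∈ alternatingGroup (Fin 7), t⁻¹ * g_u7_32 ^ 3 * t ∈ H ∨ t⁻¹ * g_u7_32 ^ 2 * t ∈ H) : ¬ N3 H :=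
  chc_sound (xp := [0, 1, 2, 4, 3, 5, 6]) (xq := [2, 0, 1, 3, 4, 5, 6]) (by unfold Ex.Rep; decide +kernel) (by unfold Ex.Rep; decide +kernel)
    hcov tr_u7_32 [] (by simp only [_root_.List.not_mem_nil, _root_.IsEmpty.forall_iff, _root_.implies_true]) chk_u7_32

/-- representative -/
def g_u7_322 : Perm (Fin 7) := prodT [(0, 1), (1, 2), (3, 4), (5, 6)]

/-- certificate -/
def tr_u7_322 : Tc 7 :=
  .node []
 (.node [(2, 5), (5, 6)]
 (.leaf 2 6 5 [1] [0])
 (.leaf 1 5 6 [1] [0]))
 (.node [(0, 3), (3, 6), (6, 4), (4, 2), (2, 1), (1, 5)]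
 (.leaf 1 3 2 [0, 1, 0] [1])
 (.leaf 1 2 5 [1] [0]))

theorem chk_u7_322 : chc 7 [0, 1, 2, 4, 3, 6, 5] [2, 0, 1, 3, 4, 5, 6] [] tr_u7_322 = true := by decide +kernel

theorem core_u7_322 {H : Subgroup (Perm (Fin 7))}
    (hcov : ∀ t ∈ alternatingGroup (Fin 7), t⁻¹ * g_u7_322 ^ 3 * t ∈ H ∨ t⁻¹ * g_u7_322 ^ 2 * t ∈ H) : ¬ N3 H :=
  chc_sound (xp := [0, 1, 2, 4, 3, 6, 5]) (xq := [2, 0, 1, 3, 4, 5, 6]) (by unfold Ex.Rep; decide +kernel) (by unfold Ex.Rep; decide +kernel)
    hcov tr_u7_322 [] (by simp only [_root_.List.not_mem_nil, _root_.IsEmpty.forall_iff, _root_.implies_true]) chk_u7_322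

/-- representative -/
def g_u7_6 : Perm (Fin 7) := prodT [(0, 1), (1, 2), (2, 3), (3, 4), (4, 5)]

/-- certificate -/
def tr_u7_6 : Tc 7 :=
  .node []
 (.node [(1, 5), (5, 6), (6, 4), (4, 2)]
 (.leaf 2 6 5 [1] [0])
 (.leaf 0 4 1 [0, 1, 0, 1, 0, 1, 0] [1, 0, 1, 1, 0, 1]))
 (.node [(0, 1), (1, 5), (5, 6), (6, 4)]
 (.leaf 1 3 4 [1, 0, 1, 0, 1, 0, 1] [0, 1, 0, 0, 1, 0])
 (.leaf 1 6 2 [0, 1, 1, 0] [1, 0, 1]))

theorem chk_u7_6 : chc 7 [3, 4, 5, 0, 1, 2, 6] [2, 3, 4, 5, 0, 1, 6] [] tr_u7_6 = true := by decide +kernel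

theorem core_u7_6 {H : Subgroup (Perm (Fin 7))}
    (hcov : ∀ t ∈ alternatingGroup (Fin 7), t⁻¹ * g_u7_6 ^ 3 * t ∈ H ∨ t⁻¹ * g_u7_6 ^ 2 * t ∈ H) : ¬ N3 H :=
  chc_sound (xp := [3, 4, 5, 0, 1, 2, 6]) (xq := [2, 3, 4, 5, 0, 1, 6]) (by unfold Ex.Rep; decide +kernel) (by unfold Ex.Rep; decide +kernel)
    hcov tr_u7_6 [] (by simp only [_root_.List.not_mem_nil, _root_.IsEmpty.forall_iff, _root_.implies_true]) chk_u7_6

/-- representative -/
def g_u7_52 : Perm (Fin 7) := prodT [(0, 1), (1, 2), (2, 3), (3, 4), (5, 6)]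

/-- certificate -/
def tr_u7_52 : Tc 7 :=
  .node []
 (.node [(0, 4), (4, 5), (5, 3), (1, 2)]
 (.leaf 4 5 6 [1] [0])
 (.leaf 3 6 5 [1] [0]))
 (.node [(0, 1), (1, 4), (4, 2), (2, 6), (6, 5), (5, 3)]
 (.leaf 2 6 4 [1] [0])
 (.leaf 0 3 2 [1, 1, 0] [0, 1]))

theorem chk_u7_52 : chc 7 [0, 1, 2, 3, 4, 6, 5] [2, 3, 4, 0, 1, 5, 6] [] tr_u7_52 = true := by decide +kernel

theorem core_u7_52 {H : Subgroup (Perm (Fin 7))}
    (hcov : ∀ t ∈ alternatingGroup (Fin 7), t⁻¹ * g_u7_52 ^ 5 * t ∈ H ∨ t⁻¹ * g_u7_52 ^ 2 * t ∈ H) : ¬ N3 H :=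
  chc_sound (xp := [0, 1, 2, 3, 4, 6, 5]) (xq := [2, 3, 4, 0, 1, 5, 6]) (by unfold Ex.Rep; decide +kernel) (by unfold Ex.Rep; decide +kernel)
    hcov tr_u7_52 [] (by simp only [_root_.List.not_mem_nil, _root_.IsEmpty.forall_iff, _root_.implies_true]) chk_u7_52

/-- representative -/
def g_u7_43 : Perm (Fin 7) := prodT [(0, 1), (1, 2), (2, 3), (4, 5), (5, 6)]

/-- certificate -/
def tr_u7_43 : Tc 7 :=
  .node []
 (.node [(0, 4), (4, 5), (5, 3), (1, 2)]
 (.leaf 0 2 5 [1] [0])
 (.leaf 0 4 2 [1] [0]))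
 (.node [(0, 4), (4, 5), (5, 2), (2, 1), (1, 6), (6, 3)]
 (.leaf 3 4 5 [0, 1, 0] [1])
 (.leaf 1 5 4 [1] [0]))

theorem chk_u7_43 : chc 7 [2, 3, 0, 1, 4, 5, 6] [0, 1, 2, 3, 5, 6, 4] [] tr_u7_43 = true := by decide +kernel

theorem core_u7_43 {H : Subgroup (Perm (Fin 7))}
    (hcov : ∀ t ∈ alternatingGroup (Fin 7), t⁻¹ * g_u7_43 ^ 6 * t ∈ H ∨ t⁻¹ * g_u7_43 ^ 4 * t ∈ H) : ¬ N3 H :=
  chc_sound (xp := [2, 3, 0, 1, 4, 5, 6]) (xq := [0, 1, 2, 3, 5, 6, 4]) (by unfold Ex.Rep; decide +kernel) (by unfold Ex.Rep; decide +kernel)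
    hcov tr_u7_43 [] (by simp only [_root_.List.not_mem_nil, _root_.IsEmpty.forall_iff, _root_.implies_true]) chk_u7_43

theorem ct_u5_32 : g_u5_32.cycleType = ↑([3, 2] : List ℕ) := by decide +kernel
theorem ct_u6_32 : g_u6_32.cycleType = ↑([3, 2] : List ℕ) := by decide +kernel
theorem ct_u8_32 : g_u8_32.cycleType = ↑([3, 2] : List ℕ) := by decide +kernel
theorem ct_u8_322 : g_u8_322.cycleType = ↑([3, 2, 2] : List ℕ) := by decide +kernel
theorem ct_u8_332 : g_u8_332.cycleType = ↑([3, 3, 2] : List ℕ) := by decide +kernel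
theorem ct_u8_6 : g_u8_6.cycleType = ↑([6] : List ℕ) := by decide +kernel
theorem ct_u8_62 : g_u8_62.cycleType = ↑([6, 2] : List ℕ) := by decide +kernel
theorem ct_u8_52 : g_u8_52.cycleType = ↑([5, 2] : List ℕ) := by decide +kernel
theorem ct_u8_53 : g_u8_53.cycleType = ↑([5, 3] : List ℕ) := by decide +kernel
theorem ct_u8_43 : g_u8_43.cycleType = ↑([4, 3] : List ℕ) := by decide +kernel
theorem ct_u7_32 : g_u7_32.cycleType = ↑([3, 2] : List ℕ) := by decide +kernel
theorem ct_u7_322 : g_u7_322.cycleType = ↑([3, 2, 2] : List ℕ) := by decide +kernel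
theorem ct_u7_6 : g_u7_6.cycleType = ↑([6] : List ℕ) := by decide +kernel
theorem ct_u7_52 : g_u7_52.cycleType = ↑([5, 2] : List ℕ) := by decide +kernel
theorem ct_u7_43 : g_u7_43.cycleType = ↑([4, 3] : List ℕ) := by decide +kernel

theorem chkE7 : ((List.range (7 + 1)).all fun s => (allP 7 7 s).all fun l =>
      decide (l.foldr Nat.lcm 1 ∈ [1, 2, 3, 4, 5, 7, 8]) || ([[3, 2], [3, 2, 2], [6], [5, 2], [4, 3]] : List (List ℕ)).contains l) = true := by
  decide +kernel

end Cfsg.Agent.H884.An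
end

-- part: H884/An/Small
section
/-!
# S3509, alternating socle: degrees 5, 6, 7, 8 (helper884)
-/

set_option autoImplicit false
set_option linter.unusedSectionVars false

namespace Cfsg.Agent.H884.An

open Equiv Equiv.Perm
open scoped commutatorElement
open Cfsg.Agent.H884.Ex (PP cases_of cov_conj two_of_cov pr6 pr10 pr12 pr15 exists_prime_pow chkE5 chkE6 chkE8)

theorem n3_of_rep {n : ℕ} {H : Subgroup (Perm (Fin n))} {σ : Perm (Fin n)} (g : Perm (Fin n)) {l : List ℕ}
    (hg : g.cycleType = ↑l) (hσ : σ.cycleType = ↑l)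
    (hcore : ∀ H : Subgroup (Perm (Fin n)), Ex.Cov H g → ¬ N3 H) (h : Ex.Cov H σ) : ¬ N3 H := by
  intro hN
  have h1 : IsConj g σ := by rw [isConj_iff_cycleType_eq, hg, hσ]
  obtain ⟨c, hc⟩ := isConj_iff.1 h1
  have h2 : N3 (H.comap (MulAut.conj c).toMonoidHom) := by
    have h3 := n3_cjg (t := c⁻¹) hN
    rw [cjg, inv_inv] at h3
    exact h3
  exact hcore _ (cov_conj c hc h) h2

/-- prime powers -/
theorem not_pp {n : ℕ} (h5 : 5 ≤ n) {H : Subgroup (Perm (Fin n))} {σ : Perm (Fin n)} (h : Ex.Cov H σ)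
    (hN : N3 H) : ¬ PP (orderOf σ) := by
  rintro ⟨p, k, hp, hk⟩
  obtain ⟨r, hr, hrd, -⟩ := h 1 (one_mem _)
  have hrp : ∀ r : ℕ, r.Prime → r ∣ orderOf σ → r = p := by
    intro r hr hrd
    rw [hk] at hrd
    exact (Nat.prime_dvd_prime_iff_eq hr hp).1 (hr.dvd_of_dvd_pow hrd)
  obtain rfl := hrp r hr hrd
  have hne : σ ^ (orderOf σ / r) ≠ 1 := by
    intro h1
    have h2 := orderOf_dvd_of_pow_eq_one h1
    have h3 : 0 < orderOf σ := orderOf_pos σ
    have h4 := Nat.le_of_dvd (Nat.div_pos (Nat.le_of_dvd h3 hrd) hr.pos) h2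
    have h5 := Nat.div_lt_self h3 hr.one_lt
    omega
  obtain ⟨t, ht, htH⟩ := exists_not_mem (by rw [Fintype.card_fin]; exact h5) hne hN
  obtain ⟨s, hs, hsd, h1⟩ := h t ht
  obtain rfl := hrp s hs hsd
  exact htH h1

theorem fin5 {H : Subgroup (Perm (Fin 5))} {σ : Perm (Fin 5)} (h : Ex.Cov H σ) : ¬ N3 H := by
  intro hN
  rcases cases_of _ chkE5 σ with h1 | ⟨l, h1, h2⟩
  · exact not_pp (by norm_num) h hN h1
  · simp only [List.mem_cons, List.not_mem_nil, or_false] at h1
    subst h1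
    exact n3_of_rep g_u5_32 ct_u5_32 h2
      (fun H hH => core_u5_32 (two_of_cov ct_u5_32 6 2 3 (by decide) pr6 hH)) h hN

theorem fin6 {H : Subgroup (Perm (Fin 6))} {σ : Perm (Fin 6)} (h : Ex.Cov H σ) (hN : N3 H) :
    σ.cycleType = ↑([6] : List ℕ) := by
  rcases cases_of _ chkE6 σ with h1 | ⟨l, h1, h2⟩
  · exact absurd h1 (not_pp (by norm_num) h hN)
  · simp only [List.mem_cons, List.not_mem_nil, or_false] at h1
    rcases h1 with rfl | rfl
    · exact absurd hN (n3_of_rep g_u6_32 ct_u6_32 h2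
        (fun H hH => core_u6_32 (two_of_cov ct_u6_32 6 2 3 (by decide) pr6 hH)) h)
    · exact h2

theorem fin7 {H : Subgroup (Perm (Fin 7))} {σ : Perm (Fin 7)} (h : Ex.Cov H σ) : ¬ N3 H := by
  intro hN
  rcases cases_of _ chkE7 σ with h1 | ⟨l, h1, h2⟩
  · exact not_pp (by norm_num) h hN h1
  · simp only [List.mem_cons, List.not_mem_nil, or_false] at h1
    rcases h1 with rfl | rfl | rfl | rfl | rfl
    · exact n3_of_rep g_u7_32 ct_u7_32 h2
        (fun H hH => core_u7_32 (two_of_cov ct_u7_32 6 2 3 (by decide) pr6 hH)) h hN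
    · exact n3_of_rep g_u7_322 ct_u7_322 h2
        (fun H hH => core_u7_322 (two_of_cov ct_u7_322 6 2 3 (by decide) pr6 hH)) h hN
    · exact n3_of_rep g_u7_6 ct_u7_6 h2
        (fun H hH => core_u7_6 (two_of_cov ct_u7_6 6 2 3 (by decide) pr6 hH)) h hN
    · exact n3_of_rep g_u7_52 ct_u7_52 h2
        (fun H hH => core_u7_52 (two_of_cov ct_u7_52 10 2 5 (by decide) pr10 hH)) h hN
    · exact n3_of_rep g_u7_43 ct_u7_43 h2
        (fun H hH => core_u7_43 (two_of_cov ct_u7_43 12 2 3 (by decide) pr12 hH)) h hN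

theorem fin8 {H : Subgroup (Perm (Fin 8))} {σ : Perm (Fin 8)} (h : Ex.Cov H σ) : ¬ N3 H := by
  intro hN
  rcases cases_of _ chkE8 σ with h1 | ⟨l, h1, h2⟩
  · exact not_pp (by norm_num) h hN h1
  · simp only [List.mem_cons, List.not_mem_nil, or_false] at h1
    rcases h1 with rfl | rfl | rfl | rfl | rfl | rfl | rfl | rfl
    · exact n3_of_rep g_u8_32 ct_u8_32 h2 (fun H hH => core_u8_32 (two_of_cov ct_u8_32 6 2 3 (by decide) pr6 hH)) h hN
    · exact n3_of_rep g_u8_322 ct_u8_322 h2 (fun H hH => core_u8_322 (two_of_cov ct_u8_322 6 2 3 (by decide) pr6 hH)) h hN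
    · exact n3_of_rep g_u8_332 ct_u8_332 h2 (fun H hH => core_u8_332 (two_of_cov ct_u8_332 6 2 3 (by decide) pr6 hH)) h hN
    · exact n3_of_rep g_u8_6 ct_u8_6 h2 (fun H hH => core_u8_6 (two_of_cov ct_u8_6 6 2 3 (by decide) pr6 hH)) h hN
    · exact n3_of_rep g_u8_62 ct_u8_62 h2 (fun H hH => core_u8_62 (two_of_cov ct_u8_62 6 2 3 (by decide) pr6 hH)) h hN
    · exact n3_of_rep g_u8_52 ct_u8_52 h2 (fun H hH => core_u8_52 (two_of_cov ct_u8_52 10 2 5 (by decide) pr10 hH)) h hN
    · exact n3_of_rep g_u8_53 ct_u8_53 h2 (fun H hH => core_u8_53 (two_of_cov ct_u8_53 15 3 5 (by decide) pr15 hH)) h hN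
    · exact n3_of_rep g_u8_43 ct_u8_43 h2 (fun H hH => core_u8_43 (two_of_cov ct_u8_43 12 2 3 (by decide) pr12 hH)) h hN

/-- from `Ex.Cov` to `RegAll` -/
theorem regAll_of_cov {n : ℕ} {σ : Perm (Fin n)}
    (h : ∀ H : Subgroup (Perm (Fin n)), N3 H → ¬ Ex.Cov H σ) : RegAll σ := by
  intro H hN
  by_contra hcon
  push Not at hcon
  apply h H hN
  intro t ht
  obtain ⟨z, hz, hzH, hz1⟩ := hcon t ht
  obtain ⟨r, hr, hrd, hrz⟩ := exists_prime_pow hz hz1
  refine ⟨r, hr, hrd, ?_⟩
  have h1 : Subgroup.zpowers z ≤ cjg t H := by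
    rw [Subgroup.zpowers_le]; exact mem_cjg.2 hzH
  exact mem_cjg.1 (h1 hrz)

theorem trans_of_six {σ : Perm (Fin 6)} (h : σ.cycleType = ↑([6] : List ℕ)) : ∀ a b, σ.SameCycle a b := by
  have hc : σ.IsCycle := by
    rw [← card_cycleType_eq_one, h]; rfl
  have hs : σ.support = Finset.univ := by
    rw [← Finset.card_eq_iff_eq_univ, ← sum_cycleType, h]; rfl
  intro a b
  exact hc.sameCycle (mem_support.1 (by rw [hs]; exact Finset.mem_univ _))
    (mem_support.1 (by rw [hs]; exact Finset.mem_univ _))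

section transport

variable {α β : Type*} [Fintype α] [DecidableEq α] [Fintype β] [DecidableEq β]

theorem isThree_permCongr (e : α ≃ β) {σ : Perm α} (h : (e.permCongr σ).IsThreeCycle) : σ.IsThreeCycle := by
  rw [← card_support_eq_three_iff] at h ⊢
  rw [← h]
  have h1 : (e.permCongr σ).support = σ.support.map e.toEmbedding := by
    ext b
    rw [mem_support, Finset.mem_map, Equiv.permCongr_apply]
    constructor
    · intro hb
      refine ⟨e.symm b, ?_, e.apply_symm_apply b⟩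
      rw [mem_support]
      intro h2
      apply hb
      rw [h2, e.apply_symm_apply]
    · rintro ⟨a, ha, rfl⟩
      rw [mem_support] at ha
      change e (σ (e.symm (e a))) ≠ e a
      rw [e.symm_apply_apply]
      exact fun h2 => ha (e.injective h2)
  rw [h1, Finset.card_map]

theorem regAll_transport (e : α ≃ β) {h : Perm α} (hr : RegAll (e.permCongrHom h)) : RegAll h := by
  intro H hN
  have h1 : N3 (H.map e.permCongrHom.toMonoidHom) := by
    intro σ hσ h3
    rw [← Subgroup.map_commutator] at hσ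
    obtain ⟨u, hu, rfl⟩ := hσ
    exact hN u hu (isThree_permCongr e h3)
  obtain ⟨t, ht, htz⟩ := hr _ h1
  have ht' : e.permCongrHom (e.permCongrHom.symm t) = t := e.permCongrHom.apply_symm_apply t
  refine ⟨e.permCongrHom.symm t, ?_, ?_⟩
  · rw [mem_alternatingGroup] at ht ⊢
    rw [← ht, ← sign_permCongr e]
    exact congrArg sign ht'
  · intro z hz hzH
    have h2 : e.permCongrHom z ∈ Subgroup.zpowers (e.permCongrHom h) := by
      obtain ⟨j, rfl⟩ := hz
      exact ⟨j, (map_zpow e.permCongrHom h j).symm⟩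
    have h3 : t⁻¹ * e.permCongrHom z * t ∈ H.map e.permCongrHom.toMonoidHom := by
      refine ⟨_, hzH, ?_⟩
      change e.permCongrHom _ = _
      rw [map_mul, map_mul, map_inv, ht']
    have h4 := htz _ h2 h3
    exact e.permCongrHom.injective (h4.trans (map_one _).symm)

end transport

/-- **degrees 5, 6, 7, 8** -/
theorem small {α : Type*} [Fintype α] [DecidableEq α] (h5 : 5 ≤ Fintype.card α) (h8 : Fintype.card α ≤ 8)
    (h : Perm α) (hex : Fintype.card α = 6 → ¬ ∀ a b, h.SameCycle a b) : RegAll h := by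
  obtain ⟨n, hn⟩ : ∃ n, Fintype.card α = n := ⟨_, rfl⟩
  have e : α ≃ Fin n := Fintype.equivFinOfCardEq hn
  apply regAll_transport e
  rw [hn] at h5 h8 hex
  interval_cases n
  · exact regAll_of_cov fun H hN hc => fin5 hc hN
  · refine regAll_of_cov fun H hN hc => hex rfl fun a b => ?_
    obtain ⟨j, hj⟩ := trans_of_six (fin6 hc hN) (e a) (e b)
    refine ⟨j, ?_⟩
    rw [← map_zpow] at hj
    change e ((h ^ j) (e.symm (e a))) = e b at hj
    rw [e.symm_apply_apply] at hj
    exact e.injective hj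
  · exact regAll_of_cov fun H hN hc => fin7 hc hN
  · exact regAll_of_cov fun H hN hc => fin8 hc hN

end Cfsg.Agent.H884.An
end

-- part: H884/An/PN
section
/-!
# S3509, alternating socle: the induction (helper884)
-/

set_option autoImplicit false
set_option linter.unusedSectionVars false

namespace Cfsg.Agent.H884.An

open Equiv Equiv.Perm
open Cfsg.Agent.H884.Ex (exists_prime_pow)

universe u

/-- the induction hypothesis -/
def IHn (n : ℕ) : Prop :=
  ∀ (β : Type u) [Fintype β] [DecidableEq β], 5 ≤ Fintype.card β → Fintype.card β < n → ∀ f : Perm β,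
    Squarefree (orderOf f) → (Fintype.card β = 6 → ¬ ∀ a b, f.SameCycle a b) → RegAll f

variable {α : Type u} [Fintype α] [DecidableEq α]

theorem ndvd_div {m p : ℕ} (hm : Squarefree m) (hp : p.Prime) (hpm : p ∣ m) : ¬ p ∣ m / p := by
  intro h
  have h1 : p * p ∣ m := by
    have := Nat.mul_dvd_mul_left p h
    rwa [Nat.mul_div_cancel' hpm] at this
  exact hp.one_lt.ne' (Nat.isUnit_iff.1 (hm p h1))

theorem dvd_div_of_ne {m p q : ℕ} (hp : p.Prime) (hq : q.Prime) (hpq : p ≠ q) (hpm : p ∣ m) (hqm : q ∣ m) :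
    p ∣ m / q := by
  have h1 : p ∣ q * (m / q) := by rwa [Nat.mul_div_cancel' hqm]
  rcases hp.dvd_mul.1 h1 with h2 | h2
  · exact absurd ((Nat.prime_dvd_prime_iff_eq hp hq).1 h2) hpq
  · exact h2

/-- the block of `d` -/
def BB (h : Perm α) (p : ℕ) (d a : α) : Prop := (h ^ p).SameCycle d a

instance (h : Perm α) (p : ℕ) (d : α) : DecidablePred (BB h p d) := fun a => by
  unfold BB; infer_instance

section

variable {h : Perm α} {p : ℕ} {d : α}

theorem BB_exists {a : α} (ha : BB h p d a) : ∃ N : ℤ, (p : ℤ) ∣ N ∧ a = (h ^ N) d := by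
  obtain ⟨k, rfl⟩ := ha
  refine ⟨p * k, dvd_mul_right _ _, ?_⟩
  rw [zpow_mul, zpow_natCast]

theorem BB_zpow (hdp : ∀ N : ℤ, (h ^ N) d = d → (p : ℤ) ∣ N) (N : ℤ) : BB h p d ((h ^ N) d) ↔ (p : ℤ) ∣ N := by
  constructor
  · intro h1
    obtain ⟨M, hM, h2⟩ := BB_exists h1
    have h3 : (h ^ (N - M)) d = d := by
      rw [sub_eq_neg_add, zpow_add, mul_apply, h2, ← mul_apply, ← zpow_add, neg_add_cancel, zpow_zero, one_apply]
    have h4 := dvd_add (hdp _ h3) hM
    rwa [sub_add_cancel] at h4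
  · rintro ⟨k, rfl⟩
    refine ⟨k, ?_⟩
    rw [zpow_mul, zpow_natCast]

theorem x_zpow (k : ℕ) (N : ℤ) : (h ^ k) ((h ^ N) d) = (h ^ (N + k)) d := by
  rw [← mul_apply, ← zpow_natCast, ← zpow_add, add_comm]

theorem xinv_zpow (k : ℕ) (N : ℤ) : (h ^ k)⁻¹ ((h ^ N) d) = (h ^ (N - k)) d := by
  rw [← mul_apply, ← zpow_natCast, ← zpow_neg, ← zpow_add, neg_add_eq_sub]

theorem dvd_order {r : ℕ} (hd : ∀ N : ℤ, (h ^ N) d = d → (r : ℤ) ∣ N) : r ∣ orderOf h := by
  have h1 := hd (orderOf h) (by rw [zpow_natCast, pow_orderOf_eq_one, one_apply])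
  exact Int.natCast_dvd_natCast.1 h1

/-- **block lemma** -/
theorem block2 {n : ℕ} (hn : Fintype.card α = n) (h9 : 9 ≤ n) (IH : IHn.{u} n) (hsq : Squarefree (orderOf h))
    {q : ℕ} (hp : p.Prime) (hq : q.Prime) (hpq : p ≠ q) (h3 : 3 ≤ p)
    (hdp : ∀ N : ℤ, (h ^ N) d = d → (p : ℤ) ∣ N) (hdq : ∀ N : ℤ, (h ^ N) d = d → (q : ℤ) ∣ N)
    (hcard : 5 ≤ Fintype.card {a // ¬ BB h p d ((h ^ (orderOf h / p))⁻¹ a) ∧ ¬ BB h p d ((h ^ (orderOf h / p)) a)})
    (hout : ∃ e, ¬ BB h p d e ∧ ¬ BB h p d ((h ^ (orderOf h / p))⁻¹ e) ∧ ¬ BB h p d ((h ^ (orderOf h / p)) e)) :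
    RegAll h := by
  intro H hN
  have hpm : p ∣ orderOf h := dvd_order hdp
  have hqm : q ∣ orderOf h := dvd_order hdq
  have hm0 : 0 < orderOf h := orderOf_pos h
  obtain ⟨x, hx⟩ : ∃ x, x = h ^ (orderOf h / p) := ⟨_, rfl⟩
  obtain ⟨w, hw⟩ : ∃ w, w = h ^ (orderOf h / q) := ⟨_, rfl⟩
  rw [← hx] at hcard hout
  have hp1 : ¬ (p : ℤ) ∣ ((orderOf h / p : ℕ) : ℤ) := by
    rw [Int.natCast_dvd_natCast]; exact ndvd_div hsq hp hpm
  have hq1 : ¬ (q : ℤ) ∣ ((orderOf h / q : ℕ) : ℤ) := by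
    rw [Int.natCast_dvd_natCast]; exact ndvd_div hsq hq hqm
  have hpw : (p : ℤ) ∣ ((orderOf h / q : ℕ) : ℤ) := by
    rw [Int.natCast_dvd_natCast]; exact dvd_div_of_ne hp hq hpq hpm hqm
  have hB : ∀ a, BB h p d ((h ^ p) a) ↔ BB h p d a := fun a => sameCycle_apply_right
  have hBw : ∀ a, BB h p d (w a) ↔ BB h p d a := by
    intro a
    rw [Int.natCast_dvd_natCast] at hpw
    obtain ⟨k, hk⟩ := hpw
    rw [hw, hk, pow_mul]
    exact sameCycle_pow_right
  have hwf : ∀ a, BB h p d a → w a ≠ a := by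
    intro a ha h1
    obtain ⟨N, hN, rfl⟩ := BB_exists ha
    rw [hw, x_zpow] at h1
    apply hq1
    have h2 : (h ^ ((orderOf h / q : ℕ) : ℤ)) d = d := by
      have h3 : (h ^ (-N)) ((h ^ (N + ((orderOf h / q : ℕ) : ℤ))) d) = (h ^ (-N)) ((h ^ N) d) := by rw [h1]
      rwa [← mul_apply, ← mul_apply, ← zpow_add, ← zpow_add, neg_add_cancel_left, neg_add_cancel, zpow_zero,
        one_apply] at h3
    exact hdq _ h2
  have hd1 : ∀ a, BB h p d a → ¬ BB h p d (x a) := by
    intro a ha h1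
    obtain ⟨N, hN, rfl⟩ := BB_exists ha
    rw [hx, x_zpow, BB_zpow hdp] at h1
    exact hp1 ((dvd_add_right hN).1 h1)
  have hd2 : ∀ a, BB h p d a → ¬ BB h p d (x (x a)) := by
    intro a ha h1
    obtain ⟨N, hN, rfl⟩ := BB_exists ha
    rw [hx, x_zpow, x_zpow, BB_zpow hdp, add_assoc] at h1
    have h2 := (dvd_add_right hN).1 h1
    rw [← two_mul] at h2
    rcases (Nat.prime_iff_prime_int.1 hp).dvd_or_dvd h2 with h4 | h4
    · have h5 : p ∣ 2 := by exact_mod_cast h4
      have := Nat.le_of_dvd (by norm_num) h5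
      omega
    · exact hp1 h4
  have hBd : BB h p d d := SameCycle.refl _ _
  have hxh : Commute x (h ^ p) := by rw [hx]; exact (Commute.refl h).pow_pow _ _
  have hwh : Commute w (h ^ p) := by rw [hw]; exact (Commute.refl h).pow_pow _ _
  have hE : RegAll ((h ^ p).subtypePerm (p := fun a => ¬ BB h p d (x⁻¹ a) ∧ ¬ BB h p d (x a))
      (block_E hxh hB)) := by
    apply IH _ hcard
    · rw [← hn]
      refine Fintype.card_subtype_lt (x := x d) ?_
      rintro ⟨h1, -⟩
      rw [ias] at h1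
      exact h1 hBd
    · exact hsq.squarefree_of_dvd ((orderOf_subtypePerm_dvd _ _).trans (orderOf_pow_dvd _))
    · intro _ htr
      obtain ⟨e, he, he1, he2⟩ := hout
      have hdE : ¬ BB h p d (x⁻¹ d) ∧ ¬ BB h p d (x d) := by
        refine ⟨fun h1 => ?_, hd1 d hBd⟩
        have h2 := hd1 _ h1
        rw [ais] at h2
        exact h2 hBd
      obtain ⟨j, hj⟩ := htr ⟨d, hdE⟩ ⟨e, he1, he2⟩
      rw [subtypePerm_zpow] at hj
      have h1 : ((h ^ p) ^ j) d = e := congrArg Subtype.val hj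
      exact he ⟨j, h1⟩
  obtain ⟨t, ht, htx, htz⟩ := block (by omega) (h ^ p) x w (BB h p d) hxh hwh hB hBw hwf hd1 hd2 ⟨d, hBd⟩ hE hN
  refine ⟨t, ht, fun z hz hzH => ?_⟩
  by_contra hz1
  obtain ⟨r, hr, hrd, hrz⟩ := exists_prime_pow hz hz1
  have hrH : t⁻¹ * h ^ (orderOf h / r) * t ∈ H := by
    have h1 : Subgroup.zpowers z ≤ cjg t H := by
      rw [Subgroup.zpowers_le]; exact mem_cjg.2 hzH
    exact mem_cjg.1 (h1 hrz)
  by_cases hrp : r = p
  · subst hrp
    rw [hx] at htx
    exact htx hrH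
  · obtain ⟨k, hk⟩ := dvd_div_of_ne hp hr (Ne.symm hrp) hpm hrd
    have h1 : h ^ (orderOf h / r) ∈ Subgroup.zpowers (h ^ p) := by
      rw [hk, pow_mul]
      exact Subgroup.npow_mem_zpowers _ _
    have h2 := htz _ h1 hrH
    have h3 := orderOf_dvd_of_pow_eq_one h2
    have h4 := Nat.le_of_dvd (Nat.div_pos (Nat.le_of_dvd hm0 hrd) hr.pos) h3
    have h5 := Nat.div_lt_self hm0 hr.one_lt
    omega

end

/-- transitive permutations -/
theorem dvd_of_trans {f : Perm α} (hf : ∀ a b, f.SameCycle a b) {N : ℤ} {b : α} (hb : (f ^ N) b = b) :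
    f ^ N = 1 := by
  ext a
  obtain ⟨j, rfl⟩ := hf b a
  rw [one_apply, ← mul_apply, ← zpow_add, add_comm, zpow_add, mul_apply, hb]

theorem order_of_trans {f : Perm α} (hf : ∀ a b, f.SameCycle a b) (h2 : 2 ≤ Fintype.card α) :
    orderOf f = Fintype.card α := by
  have hne : ∀ a, f a ≠ a := by
    intro a ha
    obtain ⟨b, hb⟩ : ∃ b, b ≠ a := Fintype.exists_ne_of_one_lt_card (by omega) a
    obtain ⟨j, hj⟩ := hf a b
    rw [zpow_apply_eq_self_of_apply_eq_self ha] at hj
    exact hb hj.symm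
  obtain ⟨a, -⟩ : ∃ a : α, a ∈ (Finset.univ : Finset α) := Finset.card_pos.1 (by rw [Finset.card_univ]; omega)
  have hc : f.IsCycle := ⟨a, hne a, fun b _ => hf a b⟩
  rw [hc.orderOf, ← Finset.card_univ]
  congr 1
  ext b
  simp only [hne b, _root_.Equiv.Perm.mem_support, _root_.ne_eq, _root_.not_false_eq_true, _root_.Finset.mem_univ]

/-- elements of prime order -/
theorem regAll_prime (h5 : 5 ≤ Fintype.card α) {h : Perm α} (hp : (orderOf h).Prime) : RegAll h := by
  intro H hN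
  have h1 : h ≠ 1 := by
    rintro rfl
    rw [orderOf_one] at hp
    exact Nat.not_prime_one hp
  obtain ⟨t, ht, htH⟩ := exists_not_mem h5 h1 hN
  refine ⟨t, ht, fun z hz hzH => ?_⟩
  by_contra hz1
  obtain ⟨r, hr, hrd, hrz⟩ := exists_prime_pow hz hz1
  have h2 : r = orderOf h := (Nat.prime_dvd_prime_iff_eq hr hp).1 hrd
  rw [h2, Nat.div_self hp.pos, pow_one] at hrz
  have h3 : Subgroup.zpowers z ≤ cjg t H := by
    rw [Subgroup.zpowers_le]; exact mem_cjg.2 hzH
  exact htH (mem_cjg.1 (h3 hrz))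

/-- arithmetic: two prime divisors -/
theorem two_primes {n : ℕ} (h9 : 9 ≤ n) (hsq : Squarefree n) (hn : ¬ n.Prime) :
    ∃ p q : ℕ, p.Prime ∧ q.Prime ∧ p ≠ q ∧ 5 ≤ p ∧ p ∣ n ∧ q ∣ n := by
  obtain ⟨p, hp, h5, hpn⟩ : ∃ p : ℕ, p.Prime ∧ 5 ≤ p ∧ p ∣ n := by
    by_contra hcon
    push Not at hcon
    have h1 : n.primeFactors ⊆ {2, 3} := by
      intro p hp
      have h2 := Nat.prime_of_mem_primeFactors hp
      have h3 : p < 5 := by
        by_contra h
        exact hcon p h2 (by omega) (Nat.dvd_of_mem_primeFactors hp)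
      have h4 := h2.two_le
      interval_cases p
      · simp
      · simp
      · exact absurd h2 (by norm_num)
    have h2 := Nat.prod_primeFactors_of_squarefree hsq
    have h3 : ∏ p ∈ n.primeFactors, p ∣ ∏ p ∈ ({2, 3} : Finset ℕ), p := Finset.prod_dvd_prod_of_subset _ _ _ h1
    rw [h2] at h3
    have h4 : ∏ p ∈ ({2, 3} : Finset ℕ), p = 6 := by decide
    rw [h4] at h3
    have := Nat.le_of_dvd (by norm_num) h3
    omega
  have h1 : n / p ≠ 1 := by
    intro h
    apply hn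
    have := Nat.div_mul_cancel hpn
    rw [h, one_mul] at this
    rwa [← this]
  obtain ⟨q, hq, hqn⟩ := Nat.exists_prime_and_dvd h1
  refine ⟨p, q, hp, hq, ?_, h5, hpn, hqn.trans (Nat.div_dvd_of_dvd hpn)⟩
  rintro rfl
  exact ndvd_div hsq hp hpn hqn

end Cfsg.Agent.H884.An
end

-- part: H884/An/PN2
section
/-!
# S3509, alternating socle: the main theorem (helper884)
-/

set_option autoImplicit false
set_option linter.unusedSectionVars false

namespace Cfsg.Agent.H884.An

open Equiv Equiv.Perm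
open Cfsg.Agent.H884.Ex (exists_prime_pow)

universe u

variable {α : Type u} [Fintype α] [DecidableEq α]

/-- five points -/
def cc : Fin 5 → ℤ × ℤ := ![(0, 0), (0, 1), (2, 0), (2, 1), (3, 0)]

theorem cc_inj : Function.Injective cc := by decide

theorem cc_fst (k : Fin 5) : 0 ≤ (cc k).1 ∧ (cc k).1 ≤ 3 ∧ (cc k).1 ≠ 1 := by
  revert k; decide

theorem cc_snd (k : Fin 5) : 0 ≤ (cc k).2 ∧ (cc k).2 ≤ 1 := by
  revert k; decide

theorem not_dvd_small {p : ℕ} {i : ℤ} (h0 : i ≠ 0) (h1 : -(p : ℤ) < i) (h2 : i < p) : ¬ (p : ℤ) ∣ i := by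
  intro h
  apply h0
  apply Int.eq_zero_of_abs_lt_dvd h
  rw [abs_lt]
  exact ⟨h1, h2⟩

section

variable {h : Perm α} {d : α}

theorem mem_E {p : ℕ} (hdp : ∀ N : ℤ, (h ^ N) d = d → (p : ℤ) ∣ N) (N : ℤ) :
    (¬ BB h p d ((h ^ (orderOf h / p))⁻¹ ((h ^ N) d)) ∧ ¬ BB h p d ((h ^ (orderOf h / p)) ((h ^ N) d))) ↔
      (¬ (p : ℤ) ∣ N - ((orderOf h / p : ℕ) : ℤ)) ∧ ¬ (p : ℤ) ∣ N + ((orderOf h / p : ℕ) : ℤ) := by
  rw [xinv_zpow, x_zpow, BB_zpow hdp, BB_zpow hdp]

theorem dvd_of_eq {p : ℕ} (hdp : ∀ N : ℤ, (h ^ N) d = d → (p : ℤ) ∣ N) {N M : ℤ} (hNM : (h ^ N) d = (h ^ M) d) :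
    (p : ℤ) ∣ N - M := by
  apply hdp
  rw [sub_eq_neg_add, zpow_add, mul_apply, hNM, ← mul_apply, ← zpow_add, neg_add_cancel, zpow_zero, one_apply]

/-- transitive case -/
theorem case_trans {n : ℕ} (hn : Fintype.card α = n) (h9 : 9 ≤ n) (IH : IHn.{u} n) (hsq : Squarefree (orderOf h))
    (htr : ∀ a b, h.SameCycle a b) : RegAll h := by
  have hm : orderOf h = n := by rw [order_of_trans htr (by omega), hn]
  by_cases hpr : n.Prime
  · exact regAll_prime (by omega) (by rw [hm]; exact hpr)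
  obtain ⟨p, q, hp, hq, hpq, hp5, hpn, hqn⟩ := two_primes h9 (hm ▸ hsq) hpr
  obtain ⟨d, -⟩ : ∃ a : α, a ∈ (Finset.univ : Finset α) := Finset.card_pos.1 (by rw [Finset.card_univ]; omega)
  have hd : ∀ N : ℤ, (h ^ N) d = d → (n : ℤ) ∣ N := by
    intro N hN
    rw [← hm, orderOf_dvd_iff_zpow_eq_one]
    exact dvd_of_trans htr hN
  have hdp : ∀ N : ℤ, (h ^ N) d = d → (p : ℤ) ∣ N := fun N hN =>
    (Int.natCast_dvd_natCast.2 hpn).trans (hd N hN)
  have hdq : ∀ N : ℤ, (h ^ N) d = d → (q : ℤ) ∣ N := fun N hN =>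
    (Int.natCast_dvd_natCast.2 hqn).trans (hd N hN)
  have hpm : p ∣ orderOf h := dvd_order hdp
  have hqm : q ∣ orderOf h := dvd_order hdq
  have hp1 : ¬ (p : ℤ) ∣ ((orderOf h / p : ℕ) : ℤ) := by
    rw [Int.natCast_dvd_natCast]; exact ndvd_div hsq hp hpm
  have hq1 : ¬ (q : ℤ) ∣ ((orderOf h / q : ℕ) : ℤ) := by
    rw [Int.natCast_dvd_natCast]; exact ndvd_div hsq hq hqm
  have hpw : (p : ℤ) ∣ ((orderOf h / q : ℕ) : ℤ) := by
    rw [Int.natCast_dvd_natCast]; exact dvd_div_of_ne hp hq hpq hpm hqm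
  have hqw : (q : ℤ) ∣ ((orderOf h / p : ℕ) : ℤ) := by
    rw [Int.natCast_dvd_natCast]; exact dvd_div_of_ne hq hp hpq.symm hqm hpm
  have hpP := Nat.prime_iff_prime_int.1 hp
  have hqP := Nat.prime_iff_prime_int.1 hq
  obtain ⟨P, hP⟩ : ∃ P : ℤ, P = ((orderOf h / p : ℕ) : ℤ) := ⟨_, rfl⟩
  obtain ⟨Q, hQ⟩ : ∃ Q : ℤ, Q = ((orderOf h / q : ℕ) : ℤ) := ⟨_, rfl⟩
  rw [← hP] at hp1 hqw
  rw [← hQ] at hq1 hpw
  have key : ∀ i j : ℤ, (p : ℤ) ∣ i * P + j * Q → (p : ℤ) ∣ i := by
    intro i j h1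
    have h2 := (dvd_add_left (dvd_mul_of_dvd_right hpw j)).1 h1
    exact (hpP.dvd_or_dvd h2).resolve_right hp1
  have keyq : ∀ i j : ℤ, (q : ℤ) ∣ i * P + j * Q → (q : ℤ) ∣ j := by
    intro i j h1
    have h2 := (dvd_add_right (dvd_mul_of_dvd_right hqw i)).1 h1
    exact (hqP.dvd_or_dvd h2).resolve_right hq1
  have hp5' : (5 : ℤ) ≤ p := by exact_mod_cast hp5
  have hq2' : (2 : ℤ) ≤ q := by exact_mod_cast hq.two_le
  have hE : ∀ k : Fin 5, ¬ BB h p d ((h ^ (orderOf h / p))⁻¹ ((h ^ ((cc k).1 * P + (cc k).2 * Q)) d)) ∧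
      ¬ BB h p d ((h ^ (orderOf h / p)) ((h ^ ((cc k).1 * P + (cc k).2 * Q)) d)) := by
    intro k
    rw [mem_E hdp, ← hP]
    obtain ⟨h1, h2, h3⟩ := cc_fst k
    constructor
    · intro h4
      have h5 : (cc k).1 * P + (cc k).2 * Q - P = ((cc k).1 - 1) * P + (cc k).2 * Q := by ring
      rw [h5] at h4
      exact not_dvd_small (by omega) (by omega) (by omega) (key _ _ h4)
    · intro h4
      have h5 : (cc k).1 * P + (cc k).2 * Q + P = ((cc k).1 + 1) * P + (cc k).2 * Q := by ring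
      rw [h5] at h4
      exact not_dvd_small (by omega) (by omega) (by omega) (key _ _ h4)
  refine block2 hn h9 IH hsq hp hq hpq (by omega) hdp hdq ?_ ?_
  · let f : Fin 5 → {a // ¬ BB h p d ((h ^ (orderOf h / p))⁻¹ a) ∧ ¬ BB h p d ((h ^ (orderOf h / p)) a)} :=
      fun k => ⟨(h ^ ((cc k).1 * P + (cc k).2 * Q)) d, hE k⟩
    have hf : Function.Injective f := by
      intro k l hkl
      have h1 : (h ^ ((cc k).1 * P + (cc k).2 * Q)) d = (h ^ ((cc l).1 * P + (cc l).2 * Q)) d :=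
        congrArg Subtype.val hkl
      have h2 := dvd_of_eq hdp h1
      have h3 := dvd_of_eq hdq h1
      have h4 : (cc k).1 * P + (cc k).2 * Q - ((cc l).1 * P + (cc l).2 * Q) =
          ((cc k).1 - (cc l).1) * P + ((cc k).2 - (cc l).2) * Q := by ring
      rw [h4] at h2 h3
      have h5 := key _ _ h2
      have h6 := keyq _ _ h3
      have a1 := cc_fst k
      have a2 := cc_fst l
      have a3 := cc_snd k
      have a4 := cc_snd l
      apply cc_inj
      apply Prod.ext
      · by_contra hne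
        exact not_dvd_small (by omega) (by omega) (by omega) h5
      · by_contra hne
        exact not_dvd_small (by omega) (by omega) (by omega) h6
    simpa only [_root_.Equiv.Perm.coe_inv, _root_.ge_iff_le, _root_.Fintype.card_fin] using Fintype.card_le_of_injective f hf
  · refine ⟨(h ^ ((cc 2).1 * P + (cc 2).2 * Q)) d, ?_, hE 2⟩
    rw [BB_zpow hdp]
    intro h1
    have h2 := key _ _ h1
    have h3 : (cc 2).1 = 2 := rfl
    rw [h3] at h2
    exact not_dvd_small (by omega) (by omega) (by omega) h2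

/-- an invariant set of six points with a transitive action -/
theorem case_six {n : ℕ} (hn : Fintype.card α = n) (h9 : 9 ≤ n) (IH : IHn.{u} n) (hsq : Squarefree (orderOf h))
    {D : α → Prop} [DecidablePred D] (hD : ∀ a, D (h a) ↔ D a) (h6 : Fintype.card {a // D a} = 6)
    (htr : ∀ a b, (h.subtypePerm hD).SameCycle a b) : RegAll h := by
  have hm : orderOf (h.subtypePerm hD) = 6 := by rw [order_of_trans htr (by omega), h6]
  obtain ⟨⟨d, hd0⟩, -⟩ : ∃ a : {a // D a}, a ∈ (Finset.univ : Finset {a // D a}) :=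
    Finset.card_pos.1 (by rw [Finset.card_univ]; omega)
  have hDz : ∀ (N : ℤ) (a : α), D a → D ((h ^ N) a) := by
    intro N a ha
    have h1 := ((h.subtypePerm hD ^ N) ⟨a, ha⟩).2
    rw [subtypePerm_zpow] at h1
    exact h1
  have hd : ∀ N : ℤ, (h ^ N) d = d → (6 : ℤ) ∣ N := by
    intro N hN
    have h1 : ((orderOf (h.subtypePerm hD) : ℕ) : ℤ) ∣ N := by
      rw [orderOf_dvd_iff_zpow_eq_one]
      apply dvd_of_trans htr (b := ⟨d, hd0⟩)
      rw [subtypePerm_zpow]
      exact Subtype.ext hN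
    rw [hm] at h1
    exact h1
  have hdp : ∀ N : ℤ, (h ^ N) d = d → ((3 : ℕ) : ℤ) ∣ N := fun N hN => by
    have := hd N hN
    push_cast
    omega
  have hdq : ∀ N : ℤ, (h ^ N) d = d → ((2 : ℕ) : ℤ) ∣ N := fun N hN => by
    have := hd N hN
    push_cast
    omega
  have hBD : ∀ a, BB h 3 d a → D a := by
    intro a ha
    obtain ⟨N, -, rfl⟩ := BB_exists ha
    exact hDz N d hd0
  have hBD1 : ∀ a, BB h 3 d ((h ^ (orderOf h / 3))⁻¹ a) → D a := by
    intro a ha
    have h1 := hDz ((orderOf h / 3 : ℕ) : ℤ) _ (hBD _ ha)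
    rw [zpow_natCast, ais] at h1
    exact h1
  have hBD2 : ∀ a, BB h 3 d ((h ^ (orderOf h / 3)) a) → D a := by
    intro a ha
    have h1 := hDz (-((orderOf h / 3 : ℕ) : ℤ)) _ (hBD _ ha)
    rw [zpow_neg, zpow_natCast, ias] at h1
    exact h1
  have hpm : 3 ∣ orderOf h := dvd_order hdp
  have hqm : 2 ∣ orderOf h := dvd_order hdq
  have hp1 : ¬ ((3 : ℕ) : ℤ) ∣ ((orderOf h / 3 : ℕ) : ℤ) := by
    rw [Int.natCast_dvd_natCast]; exact ndvd_div hsq Nat.prime_three hpm
  have hq1 : ¬ ((2 : ℕ) : ℤ) ∣ ((orderOf h / 2 : ℕ) : ℤ) := by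
    rw [Int.natCast_dvd_natCast]; exact ndvd_div hsq Nat.prime_two hqm
  have hpw : ((3 : ℕ) : ℤ) ∣ ((orderOf h / 2 : ℕ) : ℤ) := by
    rw [Int.natCast_dvd_natCast]; exact dvd_div_of_ne Nat.prime_three Nat.prime_two (by norm_num) hpm hqm
  refine block2 hn h9 IH hsq Nat.prime_three Nat.prime_two (by norm_num) le_rfl hdp hdq ?_ ?_
  · rw [Fintype.card_subtype]
    have h1 := Finset.card_filter_add_card_filter_not (s := (Finset.univ : Finset α))
      (fun a => ¬ BB h 3 d ((h ^ (orderOf h / 3))⁻¹ a) ∧ ¬ BB h 3 d ((h ^ (orderOf h / 3)) a))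
    rw [Finset.card_univ, hn] at h1
    have hE : ∀ N : ℤ, ((3 : ℕ) : ℤ) ∣ N →
        (¬ BB h 3 d ((h ^ (orderOf h / 3))⁻¹ ((h ^ N) d)) ∧ ¬ BB h 3 d ((h ^ (orderOf h / 3)) ((h ^ N) d))) := by
      intro N hN
      rw [mem_E hdp]
      constructor <;> intro h2 <;> (clear * - hp1 hN h2; omega)
    have h2 : (Finset.univ.filter fun a => ¬ (¬ BB h 3 d ((h ^ (orderOf h / 3))⁻¹ a) ∧
        ¬ BB h 3 d ((h ^ (orderOf h / 3)) a))) ⊆
        (Finset.univ.filter D) \ {d, (h ^ ((orderOf h / 2 : ℕ) : ℤ)) d} := by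
      intro a ha
      rw [Finset.mem_filter] at ha
      rw [Finset.mem_sdiff, Finset.mem_filter]
      refine ⟨⟨Finset.mem_univ _, ?_⟩, ?_⟩
      · by_contra hDa
        exact ha.2 ⟨fun h3 => hDa (hBD1 a h3), fun h3 => hDa (hBD2 a h3)⟩
      · intro h3
        rw [Finset.mem_insert, Finset.mem_singleton] at h3
        rcases h3 with rfl | rfl
        · exact ha.2 (hE 0 (dvd_zero _))
        · exact ha.2 (hE _ hpw)
    have h3 := Finset.card_le_card h2
    have h4 : ({d, (h ^ ((orderOf h / 2 : ℕ) : ℤ)) d} : Finset α) ⊆ Finset.univ.filter D := by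
      intro a ha
      rw [Finset.mem_insert, Finset.mem_singleton] at ha
      rw [Finset.mem_filter]
      refine ⟨Finset.mem_univ _, ?_⟩
      rcases ha with rfl | rfl
      · exact hd0
      · exact hDz _ _ hd0
    have h7 : (Finset.univ.filter D).card = 6 := by rw [← Fintype.card_subtype]; exact h6
    rw [Finset.card_sdiff_of_subset h4, h7, Finset.card_pair] at h3
    · omega
    · intro h5
      exact hq1 (hdq _ h5.symm)
  · obtain ⟨e, he⟩ : ∃ e, ¬ D e := by
      by_contra hcon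
      push Not at hcon
      have h1 : Fintype.card {a // D a} = Fintype.card α := Fintype.card_congr
        (Equiv.subtypeUnivEquiv hcon)
      omega
    exact ⟨e, fun h1 => he (hBD _ h1), fun h1 => he (hBD1 _ h1), fun h1 => he (hBD2 _ h1)⟩

/-- a good invariant set -/
theorem case_inv {n : ℕ} (hn : Fintype.card α = n) (h9 : 9 ≤ n) (IH : IHn.{u} n) (hsq : Squarefree (orderOf h))
    {D : α → Prop} [DecidablePred D] (hD : ∀ a, D (h a) ↔ D a) (h5 : 5 ≤ Fintype.card {a // D a})
    (hlt : Fintype.card {a // D a} < n)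
    (hex : Fintype.card {a // D a} = 6 → ¬ ∀ a b, (h.subtypePerm hD).SameCycle a b) : RegAll h := by
  intro H hN
  obtain ⟨⟨d, hd0⟩, -⟩ : ∃ a : {a // D a}, a ∈ (Finset.univ : Finset {a // D a}) :=
    Finset.card_pos.1 (by rw [Finset.card_univ]; omega)
  have hsq1 : Squarefree (orderOf (h.subtypePerm hD)) := hsq.squarefree_of_dvd (orderOf_subtypePerm_dvd h hD)
  have hR1 : RegAll (h.subtypePerm hD) := IH _ h5 hlt _ hsq1 hex
  obtain ⟨k, hk⟩ : ∃ k, k = h ^ orderOf (h.subtypePerm hD) := ⟨_, rfl⟩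
  have hkD : ∀ a, D a → k a = a := by
    intro a ha
    have h1 : (h.subtypePerm hD ^ orderOf (h.subtypePerm hD)) ⟨a, ha⟩ = ⟨a, ha⟩ := by
      rw [pow_orderOf_eq_one]; rfl
    rw [subtypePerm_pow] at h1
    rw [hk]
    exact congrArg Subtype.val h1
  have hk2 : ∀ a, k a ≠ d ↔ a ≠ d := by
    intro a
    constructor
    · rintro h1 rfl; exact h1 (hkD _ hd0)
    · intro h1 h2
      exact h1 (k.injective (h2.trans (hkD _ hd0).symm))
  have hc2 : Fintype.card {a // a ≠ d} = n - 1 := by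
    rw [Fintype.card_subtype_compl, Fintype.card_subtype_eq, hn]
  have hR2 : RegAll (k.subtypePerm (p := fun a => a ≠ d) hk2) := by
    refine IH _ (by omega) (by omega) _ ?_ (fun h1 => by omega)
    refine hsq.squarefree_of_dvd ((orderOf_subtypePerm_dvd _ _).trans ?_)
    rw [hk]
    exact orderOf_pow_dvd _
  obtain ⟨t₁, ht₁, -, hz₁⟩ := restrict k hk2 hR2 hN ∅ (by simp only [_root_.Set.mem_empty_iff_false, _root_.ne_eq, _root_.IsEmpty.forall_iff, _root_.implies_true]) (one_mem (alternatingGroup α)) (by simp)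
  have hz₁' : ∀ z ∈ Subgroup.zpowers k, t₁⁻¹ * z * t₁ ∈ H → z = 1 := by
    intro z hz hzH
    have h1 := hz₁ z hz hzH
    ext a
    by_cases ha : a = d
    · subst ha
      obtain ⟨j, rfl⟩ := hz
      exact zpow_apply_eq_self_of_apply_eq_self (hkD _ hd0) j
    · exact h1 a ha
  obtain ⟨t, ht, htF, htz⟩ := restrict h hD hR1 hN {z | z ∈ Subgroup.zpowers k ∧ z ≠ 1} (by
      rintro z ⟨⟨j, rfl⟩, -⟩ a ha
      exact zpow_apply_eq_self_of_apply_eq_self (hkD a ha) j) ht₁ (by
      rintro z ⟨hz, hz1⟩ hzH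
      exact hz1 (hz₁' z hz hzH))
  refine ⟨t, ht, fun z hz hzH => ?_⟩
  by_contra hz1
  have h1 := htz z hz hzH
  refine htF z ⟨?_, hz1⟩ hzH
  obtain ⟨j, rfl⟩ := hz
  have h2 : h.subtypePerm hD ^ j = 1 := by
    rw [subtypePerm_zpow]
    ext a
    exact h1 a a.2
  obtain ⟨i, rfl⟩ := orderOf_dvd_iff_zpow_eq_one.2 h2
  change h ^ ((orderOf (h.subtypePerm hD) : ℤ) * i) ∈ _
  rw [zpow_mul, zpow_natCast, ← hk]
  exact ⟨i, rfl⟩

end

/-- the induction step -/
theorem step {n : ℕ} (hn : Fintype.card α = n) (h9 : 9 ≤ n) (IH : IHn.{u} n) (h : Perm α)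
    (hsq : Squarefree (orderOf h)) : RegAll h := by
  by_cases htr : ∀ a b, h.SameCycle a b
  · exact case_trans hn h9 IH hsq htr
  push Not at htr
  obtain ⟨a, b, hab⟩ := htr
  have main : ∀ (D : α → Prop) [DecidablePred D] (hD : ∀ a, D (h a) ↔ D a), (∃ a, ¬ D a) →
      5 ≤ Fintype.card {a // D a} → RegAll h := by
    intro D _ hD hne h5
    by_cases hex : Fintype.card {a // D a} = 6 ∧ ∀ a b, (h.subtypePerm hD).SameCycle a b
    · exact case_six hn h9 IH hsq hD hex.1 hex.2
    · push Not at hex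
      refine case_inv hn h9 IH hsq hD h5 ?_ (fun h6 => ?_)
      · obtain ⟨a, ha⟩ := hne
        rw [← hn]
        exact Fintype.card_subtype_lt ha
      · have := hex h6
        push Not
        exact this
  have h1 := Fintype.card_subtype_compl (fun c => h.SameCycle a c)
  have h2 := Fintype.card_subtype_le (fun c => h.SameCycle a c)
  by_cases h5 : 5 ≤ Fintype.card {c // h.SameCycle a c}
  · exact main _ (fun c => sameCycle_apply_right) ⟨b, hab⟩ h5
  · refine main (fun c => ¬ h.SameCycle a c) (fun c => not_congr sameCycle_apply_right) ⟨a, fun h => h (SameCycle.refl _ _)⟩ ?_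
    omega

/-- **main theorem P_N** -/
theorem regAll : ∀ (n : ℕ) (α : Type u) [Fintype α] [DecidableEq α], Fintype.card α = n → 5 ≤ n →
    ∀ h : Perm α, Squarefree (orderOf h) → (n = 6 → ¬ ∀ a b, h.SameCycle a b) → RegAll h := by
  intro n
  induction n using Nat.strong_induction_on with
  | _ n ih =>
    intro α _ _ hn h5 h hsq hex
    by_cases h8 : n ≤ 8
    · exact small (by omega) (by omega) h (by rw [hn]; exact hex)
    · refine step hn (by omega) ?_ h hsq
      intro β _ _ hβ5 hβn f hf hfe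
      exact ih _ hβn β rfl hβ5 f hf hfe

end Cfsg.Agent.H884.An
end

-- part: H884/An/Prim
section
/-!
# S3509, alternating socle: primitive stabilisers (helper884)
-/

set_option autoImplicit false
set_option linter.unusedSectionVars false

namespace Cfsg.Agent.H884.An

open Equiv Equiv.Perm
open Cfsg.Agent.H884.Ex (exists_prime_pow)

universe u

variable {α : Type u} [Fintype α] [DecidableEq α]

/-- subgroups without 3-cycles in the derived subgroup: every element has a regular point -/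
theorem reg_n3 (h5 : 5 ≤ Fintype.card α) (h6 : Fintype.card α ≠ 6) (L : Subgroup (Perm α)) (hN : N3 L)
    (g : Perm α) : ∃ s ∈ alternatingGroup α, ∀ z ∈ Subgroup.zpowers g, s * z * s⁻¹ ∈ L → z = 1 := by
  have ho : 0 < orderOf g := orderOf_pos g
  obtain ⟨m, hm⟩ : ∃ m, m = ∏ p ∈ (orderOf g).primeFactors, p := ⟨_, rfl⟩
  have hmd : m ∣ orderOf g := hm ▸ Nat.prod_primeFactors_dvd _
  have hm0 : 0 < m := Nat.pos_of_dvd_of_pos hmd ho
  obtain ⟨h, hh⟩ : ∃ h, h = g ^ (orderOf g / m) := ⟨_, rfl⟩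
  have hoh : orderOf h = m := by
    rw [hh, orderOf_pow_of_dvd (Nat.div_pos (Nat.le_of_dvd ho hmd) hm0).ne' (Nat.div_dvd_of_dvd hmd),
      Nat.div_div_self hmd ho.ne']
  have hsq : Squarefree (orderOf h) := by
    rw [hoh, hm]
    refine Finset.squarefree_prod_of_pairwise_isCoprime ?_ ?_
    · intro p hp q hq hpq
      rw [Finset.mem_coe] at hp hq
      exact Nat.coprime_iff_isRelPrime.1 ((Nat.coprime_primes (Nat.prime_of_mem_primeFactors hp)
        (Nat.prime_of_mem_primeFactors hq)).2 hpq)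
    · intro p hp
      exact (Nat.prime_of_mem_primeFactors hp).prime.squarefree
  obtain ⟨t, ht, htz⟩ := regAll _ α rfl h5 h hsq (fun h => absurd h h6) L hN
  refine ⟨t⁻¹, inv_mem ht, fun z hz hzL => ?_⟩
  rw [inv_inv] at hzL
  by_contra hz1
  obtain ⟨r, hr, hrd, hrz⟩ := exists_prime_pow hz hz1
  have hrH : t⁻¹ * g ^ (orderOf g / r) * t ∈ L := by
    have h1 : Subgroup.zpowers z ≤ cjg t L := by
      rw [Subgroup.zpowers_le]; exact mem_cjg.2 hzL
    exact mem_cjg.1 (h1 hrz)
  have hrm : r ∣ m := by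
    rw [hm]
    exact Finset.dvd_prod_of_mem _ (Nat.mem_primeFactors.2 ⟨hr, hrd, ho.ne'⟩)
  have h1 : g ^ (orderOf g / r) ∈ Subgroup.zpowers h := by
    obtain ⟨k, hk⟩ := hrm
    obtain ⟨c, hc⟩ := hmd
    have hc1 : orderOf g / m = c := by rw [hc]; exact Nat.mul_div_cancel_left _ hm0
    have hc2 : orderOf g / r = c * k := by
      rw [hc, hk, mul_assoc, Nat.mul_div_cancel_left _ hr.pos, mul_comm]
    rw [hc2, pow_mul, hh, hc1]
    exact Subgroup.npow_mem_zpowers _ _
  have h2 := htz _ h1 hrH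
  have h3 := orderOf_dvd_of_pow_eq_one h2
  have h4 := Nat.le_of_dvd (Nat.div_pos (Nat.le_of_dvd ho hrd) hr.pos) h3
  have h5 := Nat.div_lt_self ho hr.one_lt
  omega

/-- Jordan -/
theorem n3_of_prim {L : Subgroup (Perm α)} (hL : MulAction.IsPreprimitive L α) (hA : ¬ alternatingGroup α ≤ L) :
    N3 L := by
  intro σ hσ h3
  have h1 : (⁅L, L⁆ : Subgroup (Perm α)) ≤ L := 
    Subgroup.commutator_le.2 fun a ha b hb => mul_mem (mul_mem (mul_mem ha hb) (inv_mem ha)) (inv_mem hb)
  exact hA (alternatingGroup_le_of_isPreprimitive_of_isThreeCycle_mem hL h3 (h1 hσ))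

/-- **primitive stabilisers**, all degrees `≥ 5`, `≠ 6` -/
theorem reg_prim5 (h5 : 5 ≤ Fintype.card α) (h6 : Fintype.card α ≠ 6) (L : Subgroup (Equiv.Perm α))
    (hL : MulAction.IsPreprimitive L α) (hA : ¬ alternatingGroup α ≤ L) (g : Equiv.Perm α) :
    ∃ s ∈ alternatingGroup α, ∀ z ∈ Subgroup.zpowers g, s * z * s⁻¹ ∈ L → z = 1 :=
  reg_n3 h5 h6 L (n3_of_prim hL hA) g

/-- **primitive stabilisers** (interface of helper711 / helper390) -/
theorem reg_prim (h9 : 9 ≤ Fintype.card α) (L : Subgroup (Equiv.Perm α)) (hL : MulAction.IsPreprimitive L α)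
    (hA : ¬ alternatingGroup α ≤ L) (g : Equiv.Perm α) :
    ∃ s ∈ alternatingGroup α, ∀ z ∈ Subgroup.zpowers g, s * z * s⁻¹ ∈ L → z = 1 :=
  reg_prim5 (by omega) (by omega) L hL hA g

end Cfsg.Agent.H884.An
end

private theorem dce_8b61a01b6db1 : _root_.True := by
  try have : _root_.True := by simp only [_root_.Cfsg.Agent.H884.An.chc.eq_1]
  try have : _root_.True := by simp only [_root_.Cfsg.Agent.H884.An.chc.eq_2]
  try have : _root_.True := by simp only [_root_.Cfsg.Agent.H884.An.chc.eq_def]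
  exact _root_.True.intro
end

-- part: H867/RG/SporOf
section
set_option linter.all false

/-!
# S3509: the sporadic row from the rows of the 26 groups (helper867)

`row_spor (R : Rows) : RowX (fun S _ => IsSporadicGroup S)`; a row may use the classification (`hK`), the induction hypothesis
`IHx`, simplicity (`NSA`). `RowX.of_rc` : a row from `Iso.. S → RC S`.
-/

set_option autoImplicit false
open Cfsg

namespace Cfsg.Agent.H867.RG

open Cfsg.Agent.H106.RC Cfsg.Agent.H873.RG

/-- a row without the induction hypothesis -/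
theorem RowX.of_rc {P : ∀ (S : Type) [Group S], Prop} (h : ∀ (S : Type) [Group S] [Finite S], P S → RC S) : RowX P :=
  fun S _ _ _ hP _ => h S hP

/-- a row without the induction hypothesis, with simplicity -/
theorem RowX.of_simple {P : ∀ (S : Type) [Group S], Prop}
    (h : ∀ (S : Type) [Group S] [Finite S], IsSimpleGroup S → ¬ IsMulCommutative S → P S → RC S) : RowX P :=
  fun S _ _ hS hP _ => h S hS.simple hS.ncomm hP

/-- the 26 rows -/
structure Rows : Prop where
  m11 : RowX (fun S _ => Spor.IsoM11 S)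
  m12 : RowX (fun S _ => Spor.IsoM12 S)
  m22 : RowX (fun S _ => Spor.IsoM22 S)
  m23 : RowX (fun S _ => Spor.IsoM23 S)
  m24 : RowX (fun S _ => Spor.IsoM24 S)
  j1 : RowX (fun S _ => Spor.IsoJ1 S)
  j2 : RowX (fun S _ => Spor.IsoJ2 S)
  j3 : RowX (fun S _ => Spor.IsoJ3 S)
  j4 : RowX (fun S _ => Spor.IsoJ4 S)
  co1 : RowX (fun S _ => Spor.IsoCo1 S)
  co2 : RowX (fun S _ => Spor.IsoCo2 S)
  co3 : RowX (fun S _ => Spor.IsoCo3 S)
  mcl : RowX (fun S _ => Spor.IsoMcL S)
  hs : RowX (fun S _ => Spor.IsoHS S)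
  suz : RowX (fun S _ => Spor.IsoSuz S)
  he : RowX (fun S _ => Spor.IsoHe S)
  ru : RowX (fun S _ => Spor.IsoRu S)
  on : RowX (fun S _ => Spor.IsoON S)
  ly : RowX (fun S _ => Spor.IsoLy S)
  fi22 : RowX (fun S _ => Spor.IsoFi22 S)
  fi23 : RowX (fun S _ => Spor.IsoFi23 S)
  fi24 : RowX (fun S _ => Spor.IsoFi24' S)
  hn : RowX (fun S _ => Spor.IsoHN S)
  th : RowX (fun S _ => Spor.IsoTh S)
  b : RowX (fun S _ => Spor.IsoB S)
  m : RowX (fun S _ => Spor.IsoM S)

/-- **the sporadic row** -/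
theorem row_spor (R : Rows) : RowX (fun S _ => IsSporadicGroup S) := by
  intro S _ _ hS h ih
  rcases h with h | h | h | h | h | h | h | h | h | h | h | h | h | h | h | h | h | h | h | h | h | h | h | h | h | h
  · exact R.m11 S hS h ih
  · exact R.m12 S hS h ih
  · exact R.m22 S hS h ih
  · exact R.m23 S hS h ih
  · exact R.m24 S hS h ih
  · exact R.j1 S hS h ih
  · exact R.j2 S hS h ih
  · exact R.j3 S hS h ih
  · exact R.j4 S hS h ih
  · exact R.co1 S hS h ih
  · exact R.co2 S hS h ih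
  · exact R.co3 S hS h ih
  · exact R.mcl S hS h ih
  · exact R.hs S hS h ih
  · exact R.suz S hS h ih
  · exact R.he S hS h ih
  · exact R.ru S hS h ih
  · exact R.on S hS h ih
  · exact R.ly S hS h ih
  · exact R.fi22 S hS h ih
  · exact R.fi23 S hS h ih
  · exact R.fi24 S hS h ih
  · exact R.hn S hS h ih
  · exact R.th S hS h ih
  · exact R.b S hS h ih
  · exact R.m S hS h ih

end Cfsg.Agent.H867.RG
end

-- part: H344/RR/FixT
section
prune_inst 0x4010000
set_option linter.all false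
open scoped Cfsg.Agent.FastGrp

/-!
# Regular cycles (S3509): counting fixed points on an orbit without structure (helper344)

`Fo N ω x` : the number of fixed points of `x` in the orbit `N ω` (`N` normal).

* `fo_frob` : `x y x⁻¹ = y ^ m`, `y ^ r = 1`, `r` prime, `r` does not divide `m - 1`: `r F(x) ≤ n + (r - 1) F(y)`;
* `fo_pair` : `2 F(x) ≤ n + F(w)` if `w` fixes all common fixed points of `x` and `c x c⁻¹`, `c ∈ N`;
* `fo_le_cent` : `F(x) ≤ |C_N(x)|`;
* `cov_le` : a cover: `n ≤ ∑ F(x i)`.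
-/

set_option autoImplicit false
set_option linter.unusedSectionVars false
set_option linter.unusedVariables false
open Cfsg

namespace Cfsg.Agent.H344.RR

open MulAction Subgroup Cfsg.Agent.H106.RC

variable {G Ω : Type*} [Group G] [MulAction G Ω] [Finite Ω] (N : Subgroup G)

/-- the fixed points of `x` in the orbit `N ω` -/
def Fs (ω : Ω) (x : G) : Set Ω := {w | w ∈ orbit N ω ∧ x • w = w}

/-- their number -/
noncomputable def Fo (ω : Ω) (x : G) : ℕ := (Fs N ω x).ncard

/-- the length of the orbit -/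
noncomputable def No (ω : Ω) : ℕ := (orbit N ω).ncard

theorem zpow_mem_orbit {ω w : Ω} {y : G} (hy : y ∈ N) (hw : w ∈ orbit N ω) : y • w ∈ orbit N ω := by
  obtain ⟨n, rfl⟩ := hw
  exact ⟨⟨y, hy⟩ * n, mul_smul (⟨y, hy⟩ : N) n ω⟩

/-- **Frobenius** -/
theorem fo_frob (ω : Ω) {x y : G} (hy : y ∈ N) {r m : ℕ} (hr : r.Prime) (hyr : y ^ r = 1) (hxy : x * y * x⁻¹ = y ^ m)
    (hm : (m : ZMod r) ≠ 1) : r * Fo N ω x ≤ No N ω + (r - 1) * Fo N ω y := by
  classical
  have : Fact r.Prime := ⟨hr⟩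
  set A : Set Ω := Fs N ω x \ Fs N ω y with hA
  have hpow : ∀ (k : ℕ) (w : Ω), x • w = w → x • (y ^ k • w) = y ^ (m * k) • w := by
    intro k w hw
    have h1 : x * y ^ k = y ^ (m * k) * x := by
      have h2 : x * y ^ k * x⁻¹ = y ^ (m * k) := by rw [← conj_pow, hxy, pow_mul]
      rw [← h2]; group
    rw [smul_smul, h1, mul_smul, hw]
  -- if `x` fixes `w` and `y ^ k w` then `y` fixes `w`, or `r` divides `k`
  have key : ∀ (k : ℕ) (w : Ω), x • w = w → x • (y ^ k • w) = y ^ k • w → ¬ r ∣ k → y • w = w := by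
    intro k w hw hk hrk
    rw [hpow k w hw] at hk
    -- the stabiliser of `w` in `⟨y⟩`
    have h1 : y ^ ((m * k : ℤ) - k) • w = w := by
      rw [sub_eq_neg_add, zpow_add, zpow_neg, mul_smul]
      have e1 : y ^ ((m : ℤ) * k) • w = y ^ (k : ℤ) • w := by
        have := hk
        rw [← zpow_natCast, ← zpow_natCast] at this
        push_cast at this
        exact this
      rw [e1, inv_smul_smul]
    have h2 : IsCoprime ((m * k : ℤ) - k) (r : ℤ) := by
      rw [isCoprime_comm, Prime.coprime_iff_not_dvd (Nat.prime_iff_prime_int.1 hr)]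
      intro h3
      have h4 : ((m : ℤ) - 1) * k = (m * k : ℤ) - k := by ring
      rw [← h4] at h3
      rcases (Nat.prime_iff_prime_int.1 hr).dvd_or_dvd h3 with h5 | h5
      · apply hm
        have h6 := (ZMod.intCast_zmod_eq_zero_iff_dvd ((m : ℤ) - 1) r).2 h5
        push_cast at h6
        exact sub_eq_zero.1 h6
      · exact hrk (by exact_mod_cast h5)
    obtain ⟨a, b, hab⟩ := h2
    have h3 : y ∈ stabilizer G w := by
      have h4 : y ^ (a * ((m * k : ℤ) - k) + b * r) ∈ stabilizer G w := by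
        rw [zpow_add, mul_comm a, zpow_mul, mul_comm b, zpow_mul, zpow_natCast, hyr, one_zpow, mul_one]
        exact zpow_mem (show y ^ ((m * k : ℤ) - k) ∈ stabilizer G w from h1) a
      rwa [hab, zpow_one] at h4
    exact h3
  -- the map `(k, w) ↦ y ^ k w`
  let f : Fin r × A → Ω := fun q => y ^ (q.1 : ℕ) • (q.2 : Ω)
  have hymem : ∀ (k : ℕ) {w : Ω}, w ∈ orbit N ω → y ^ k • w ∈ orbit N ω := fun k w hw =>
    zpow_mem_orbit N (pow_mem hy k) hw
  have hkey : ∀ (a b : ℕ) (u v : Ω), u ∈ A → v ∈ A → b ≤ a → a < r → y ^ a • u = y ^ b • v → a = b ∧ u = v := by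
    intro a b u v hu hv hba har h
    have h1 : v = y ^ (a - b) • u := by
      have h2 : y ^ b • (y ^ (a - b) • u) = y ^ b • v := by
        rw [smul_smul, ← pow_add, Nat.add_sub_cancel' hba, h]
      exact (smul_left_cancel _ h2).symm
    have h3 : r ∣ a - b := by
      by_contra hno
      have h4 : x • (y ^ (a - b) • u) = y ^ (a - b) • u := by rw [← h1]; exact hv.1.2
      exact hu.2 ⟨hu.1.1, key _ u hu.1.2 h4 hno⟩
    have h5 : a - b = 0 := Nat.eq_zero_of_dvd_of_lt h3 (by omega)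
    refine ⟨by omega, ?_⟩
    rw [h1, h5, pow_zero, one_smul]
  have hf : Function.Injective f := by
    rintro ⟨a, u⟩ ⟨b, v⟩ h
    rcases le_total (b : ℕ) a with hab | hab
    · obtain ⟨h1, h2⟩ := hkey a b u v u.2 v.2 hab a.2 h
      exact Prod.ext (Fin.ext h1) (Subtype.ext h2)
    · obtain ⟨h1, h2⟩ := hkey b a v u v.2 u.2 hab b.2 h.symm
      exact Prod.ext (Fin.ext h1.symm) (Subtype.ext h2.symm)
  have hyinv : ∀ (k : ℕ) (w : Ω), y • (y ^ k • w) = y ^ k • w → y • w = w := by
    intro k w h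
    rw [smul_smul, ← pow_succ', pow_succ, mul_smul] at h
    exact smul_left_cancel _ h
  have hsub : Set.range f ⊆ orbit N ω \ Fs N ω y := by
    rintro _ ⟨⟨k, w⟩, rfl⟩
    exact ⟨hymem k w.2.1.1, fun h => w.2.2 ⟨w.2.1.1, hyinv k w h.2⟩⟩
  have h1 : r * A.ncard ≤ (orbit N ω \ Fs N ω y).ncard := by
    have h2 : (Set.range f).ncard = r * A.ncard := by
      rw [← Set.image_univ, Set.ncard_image_of_injective _ hf, Set.ncard_univ, Nat.card_prod, Nat.card_eq_fintype_card,
        Fintype.card_fin, Nat.card_coe_set_eq]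
    rw [← h2]
    exact Set.ncard_le_ncard hsub (Set.toFinite _)
  have h2 : (orbit N ω \ Fs N ω y).ncard + Fo N ω y = No N ω :=
    Set.ncard_sdiff_add_ncard_of_subset (fun _ h => h.1) (Set.toFinite _)
  have h3 : Fo N ω x ≤ A.ncard + Fo N ω y := by
    have h4 : Fs N ω x ⊆ A ∪ Fs N ω y := by
      intro w hw
      by_cases h : w ∈ Fs N ω y
      · exact Or.inr h
      · exact Or.inl ⟨hw, h⟩
    exact (Set.ncard_le_ncard h4 (Set.toFinite _)).trans (Set.ncard_union_le _ _)
  obtain ⟨s, hs⟩ : ∃ s, r = s + 1 := ⟨r - 1, by have := hr.pos; omega⟩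
  rw [hs] at h1 ⊢
  simp only [Nat.add_sub_cancel]
  nlinarith

/-- **two conjugates** -/
theorem fo_pair [hN : N.Normal] (ω : Ω) {x c w : G} (hc : c ∈ N) (hw : ∀ u : Ω, x • u = u → (c * x * c⁻¹) • u = u → w • u = u) :
    2 * Fo N ω x ≤ No N ω + Fo N ω w := by
  classical
  have h1 : (Fs N ω x ∪ Fs N ω (c * x * c⁻¹)).ncard + (Fs N ω x ∩ Fs N ω (c * x * c⁻¹)).ncard =
      (Fs N ω x).ncard + (Fs N ω (c * x * c⁻¹)).ncard :=
    Set.ncard_union_add_ncard_inter _ _ (Set.toFinite _) (Set.toFinite _)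
  have h2 : (Fs N ω (c * x * c⁻¹)).ncard = (Fs N ω x).ncard := by
    have h3 : Fs N ω (c * x * c⁻¹) = (fun u => c • u) '' Fs N ω x := by
      ext u
      constructor
      · rintro ⟨h4, h5⟩
        refine ⟨c⁻¹ • u, ⟨zpow_mem_orbit N (inv_mem hc) h4, ?_⟩, smul_inv_smul c u⟩
        rw [mul_smul, mul_smul] at h5
        exact (eq_inv_smul_iff.2 h5)
      · rintro ⟨v, ⟨h4, h5⟩, rfl⟩
        refine ⟨zpow_mem_orbit N hc h4, ?_⟩
        change (c * x * c⁻¹) • c • v = c • v
        rw [mul_smul, inv_smul_smul, mul_smul, h5]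
    rw [h3, Set.ncard_image_of_injective _ (MulAction.injective c)]
  have h3 : (Fs N ω x ∪ Fs N ω (c * x * c⁻¹)).ncard ≤ No N ω :=
    Set.ncard_le_ncard (by rintro u (h | h) <;> exact h.1) (Set.toFinite _)
  have h4 : (Fs N ω x ∩ Fs N ω (c * x * c⁻¹)).ncard ≤ Fo N ω w :=
    Set.ncard_le_ncard (fun u h => ⟨h.1.1, hw u h.1.2 h.2.2⟩) (Set.toFinite _)
  unfold Fo at *
  omega

/-- the same with the product `x c x c⁻¹` -/
theorem fo_mul [hN : N.Normal] (ω : Ω) {x c : G} (hc : c ∈ N) :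
    2 * Fo N ω x ≤ No N ω + Fo N ω (x * (c * x * c⁻¹)) :=
  fo_pair N ω hc fun u h1 h2 => by rw [mul_smul, h2, h1]

/-- **covers** -/
theorem cov_le {ι : Type*} [Fintype ι] {x : ι → G} (hc : Cov Ω x) (ω : Ω) : No N ω ≤ ∑ i, Fo N ω (x i) := by
  classical
  have h1 : orbit N ω ⊆ ⋃ i ∈ (Finset.univ : Finset ι), Fs N ω (x i) := by
    intro u hu
    obtain ⟨i, hi⟩ := hc u
    simp only [Finset.mem_univ, Set.iUnion_true, Set.mem_iUnion]
    exact ⟨i, hu, hi⟩
  refine (Set.ncard_le_ncard h1 (Set.toFinite _)).trans ?_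
  exact Finset.set_ncard_biUnion_le _ _

end Cfsg.Agent.H344.RR
end

-- part: H171/RG/Fix
section
prune_inst 0x4010000
set_option linter.all false
open scoped Cfsg.Agent.FastGrp

/-!
# Fixed point ratios: one more rule (helper171, S3509 sporadic block)

* `F4` : `x` normalises `K`, `C_K(x) = 1`, and every subgroup containing `x` and a nontrivial element of `K` contains `a`; then
  `fpr x ≤ fpr a + 1 / |K|`;
* `FB.A4` : the case `⟨x, a⟩ ≅ A₄`;
* `FB.inv_mul` : `x`, `x'` conjugate involutions, `x x'` of order `r k`: `fpr x ≤ fpr ((x x') ^ k) + 1 / r`;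
* `noCov_of_split` : no covers, from a rule for the covers with an element of a set `A` and bounds for the other elements.
-/

set_option autoImplicit false

namespace Cfsg.Agent.H171.RG

open MulAction Cfsg.Agent.H106.RC Cfsg.Agent.H345.RG

section fpr

variable {G Ω : Type*} [Group G] [MulAction G Ω]

/-- **F4** -/
theorem F4 [Finite Ω] {x a : G} (K : Subgroup G) [Finite K] (hn : ∀ k ∈ K, x * k * x⁻¹ ∈ K)
    (hf : ∀ k ∈ K, x * k * x⁻¹ = k → k = 1)
    (ha : ∀ k ∈ K, k ≠ 1 → ∀ H : Subgroup G, x ∈ H → k ∈ H → a ∈ H) :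
    fpr Ω x ≤ fpr Ω a + 1 / Nat.card K := by
  classical
  rcases isEmpty_or_nonempty Ω with h0 | h0
  · rw [fpr, fpr, Nat.card_of_isEmpty (α := Ω), Nat.cast_zero, div_zero, div_zero]
    positivity
  have hn' : (0 : ℚ) < Nat.card Ω := by exact_mod_cast (Nat.card_pos : 0 < Nat.card Ω)
  have hK : (0 : ℚ) < Nat.card K := by exact_mod_cast (Nat.card_pos : 0 < Nat.card K)
  let D := {w : Ω // x • w = w ∧ ¬ a • w = w}
  have hst : ∀ w : D, ∀ k ∈ K, k • w.1 = w.1 → k = 1 := by
    intro w k hk hkw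
    by_contra hk1
    exact w.2.2 (ha k hk hk1 (stabilizer G w.1) w.2.1 hkw)
  have hinj : Nat.card K * Nat.card D ≤ Nat.card Ω := by
    rw [← Nat.card_prod]
    refine Nat.card_le_card_of_injective (fun q : K × D => (q.1 : G) • q.2.1) ?_
    rintro ⟨⟨k, hk⟩, w⟩ ⟨⟨k', hk'⟩, w'⟩ hq
    have hq' : k • w.1 = k' • w'.1 := hq
    have hu : (k'⁻¹ * k) • w.1 = w'.1 := by rw [mul_smul, hq', inv_smul_smul]
    have huK : k'⁻¹ * k ∈ K := mul_mem (inv_mem hk') hk
    have h1 : x • (k'⁻¹ * k) • w.1 = (k'⁻¹ * k) • w.1 := by rw [hu]; exact w'.2.1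
    have h2 : ((k'⁻¹ * k)⁻¹ * (x * (k'⁻¹ * k) * x⁻¹)) • w.1 = w.1 := by
      have h3 : x⁻¹ • w.1 = w.1 := by rw [inv_smul_eq_iff, w.2.1]
      rw [mul_smul, mul_smul, h3, mul_smul, h1, inv_smul_smul]
    have h3 := hst w _ (mul_mem (inv_mem huK) (hn _ huK)) h2
    have h4 : k'⁻¹ * k = 1 := hf _ huK (inv_mul_eq_one.1 h3).symm
    have h5 : k = k' := (inv_mul_eq_one.1 h4).symm
    subst h5
    have h6 : w = w' := by
      apply Subtype.ext
      rw [h4, one_smul] at hu
      exact hu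
    rw [h6]
  have hsplit : Nat.card (fixedBy Ω x) ≤ Nat.card (fixedBy Ω a) + Nat.card D := by
    rw [← Nat.card_sum]
    refine Nat.card_le_card_of_injective (fun w : fixedBy Ω x =>
      if h : a • w.1 = w.1 then (Sum.inl ⟨w.1, h⟩ : fixedBy Ω a ⊕ D) else Sum.inr ⟨w.1, w.2, h⟩) ?_
    intro u v huv
    by_cases hu : a • u.1 = u.1 <;> by_cases hv : a • v.1 = v.1
    · simp only [hu, hv, dite_true] at huv
      injection huv with huv
      exact Subtype.ext (congrArg (fun q : fixedBy Ω a => (q : Ω)) huv)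
    · simp only [hu, hv, dite_true, dite_false, reduceCtorEq] at huv
    · simp only [hu, hv, dite_true, dite_false, reduceCtorEq] at huv
    · simp only [hu, hv, dite_false] at huv
      injection huv with huv
      exact Subtype.ext (congrArg (fun q : D => (q : Ω)) huv)
  have h1 : (Nat.card K : ℚ) * Nat.card D ≤ Nat.card Ω := by exact_mod_cast hinj
  have h2 : (Nat.card (fixedBy Ω x) : ℚ) ≤ Nat.card (fixedBy Ω a) + Nat.card D := by exact_mod_cast hsplit
  have h3 : (Nat.card D : ℚ) / Nat.card Ω ≤ 1 / Nat.card K := by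
    rw [div_le_div_iff₀ hn' hK]
    linarith
  calc fpr Ω x ≤ ((Nat.card (fixedBy Ω a) : ℚ) + Nat.card D) / Nat.card Ω := div_le_div_of_nonneg_right h2 hn'.le
    _ = fpr Ω a + (Nat.card D : ℚ) / Nat.card Ω := add_div _ _ _
    _ ≤ fpr Ω a + 1 / Nat.card K := by linarith

end fpr

section FB

variable {S : Type} [Group S] {x a : S} {b : ℚ}

/-- **`A₄`** : `x³ = a² = (a x)³ = 1` -/
theorem FB.A4 (hx : x ^ 3 = 1) (ha : a * a = 1) (ha1 : a ≠ 1) (hax : (a * x) ^ 3 = 1) (hb : FB S a b) :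
    FB S x (b + 1 / 4) := by
  intro Ω _ _ _ hE
  have hx' : x * x * x = 1 := by rw [← hx, pow_succ, pow_two]
  have hxi : x⁻¹ = x * x := by
    rw [inv_eq_iff_mul_eq_one, ← mul_assoc]; exact hx'
  have hai : a⁻¹ = a := by rw [inv_eq_iff_mul_eq_one]; exact ha
  set c : S := x * a * x⁻¹ with hc
  set d : S := x * c * x⁻¹ with hd
  have hcc : c * c = 1 := by
    calc c * c = x * (a * a) * x⁻¹ := by rw [hc]; group
      _ = 1 := by rw [ha]; group
  have hdd : d * d = 1 := by
    calc d * d = x * (c * c) * x⁻¹ := by rw [hd]; group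
      _ = 1 := by rw [hcc]; group
  have hxd : x * d * x⁻¹ = a := by
    calc x * d * x⁻¹ = (x * x * x) * a * (x * x * x)⁻¹ := by rw [hd, hc]; group
      _ = a := by rw [hx']; group
  have hacd : a * c * d = 1 := by
    have h1 : a * c * d = (a * x) ^ 3 * (x * x * x)⁻¹ := by
      rw [hd, hc]; simp only [pow_succ, pow_zero, one_mul]; group
    rw [h1, hax, hx', inv_one, one_mul]
  have hd' : d = c * a := by
    have h1 : d = (a * c)⁻¹ := (inv_eq_of_mul_eq_one_right hacd).symm
    have hci : c⁻¹ = c := by rw [inv_eq_iff_mul_eq_one]; exact hcc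
    rw [h1, mul_inv_rev, hai, hci]
  have hci : c⁻¹ = c := by rw [inv_eq_iff_mul_eq_one]; exact hcc
  have hcomm : c * a = a * c := by
    have h1 : (c * a) * (c * a) = 1 := by rw [← hd']; exact hdd
    calc c * a = (c * a)⁻¹ := (inv_eq_of_mul_eq_one_left h1).symm
      _ = a * c := by rw [mul_inv_rev, hai, hci]
  -- distinctness
  have hc1 : c ≠ 1 := by
    intro h
    apply ha1
    calc a = x⁻¹ * (x * a * x⁻¹) * x := by group
      _ = 1 := by rw [← hc, h]; group
  have hd1 : d ≠ 1 := by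
    intro h
    apply ha1
    rw [← hxd, h]; group
  have hac : a ≠ c := by
    intro h
    apply hd1
    rw [hd', ← h, ha]
  have had : a ≠ d := by
    intro h
    apply hc1
    rw [hd'] at h
    exact (mul_eq_right.1 h.symm)
  have hcd : c ≠ d := by
    intro h
    apply ha1
    rw [hd'] at h
    exact (mul_eq_left.1 h.symm)
  have e1 : a * d = c := by rw [hd', hcomm, ← mul_assoc, ha, one_mul]
  have e2 : d * a = c := by rw [hd', mul_assoc, ha, mul_one]
  have e3 : c * d = a := by rw [hd', ← mul_assoc, hcc, one_mul]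
  have e4 : d * c = a := by rw [hd', hcomm, mul_assoc, hcc, mul_one]
  have hdi : d⁻¹ = d := by rw [inv_eq_iff_mul_eq_one]; exact hdd
  let K : Subgroup S :=
    { carrier := {1, a, c, d}
      one_mem' := Or.inl rfl
      mul_mem' := by
        rintro u v (rfl | rfl | rfl | rfl) (rfl | rfl | rfl | rfl)
        · simp
        · simp
        · simp
        · simp
        · simp
        · simp [ha]
        · right; right; right; rw [← hcomm]; exact hd'.symm
        · right; right; left; exact e1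
        · simp
        · right; right; right; exact hd'.symm
        · simp [hcc]
        · right; left; exact e3
        · simp
        · right; right; left; exact e2
        · right; left; exact e4
        · left; exact hdd
      inv_mem' := by
        rintro u (rfl | rfl | rfl | rfl)
        · simp
        · right; left; exact hai
        · right; right; left; exact hci
        · right; right; right; exact hdi }
  have hKm : ∀ k ∈ K, k = 1 ∨ k = a ∨ k = c ∨ k = d := fun k hk => hk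
  have m1 : (1 : S) ∈ K := Or.inl rfl
  have ma : a ∈ K := Or.inr (Or.inl rfl)
  have mc : c ∈ K := Or.inr (Or.inr (Or.inl rfl))
  have md : d ∈ K := Or.inr (Or.inr (Or.inr rfl))
  have hKf : Finite K := (Set.toFinite ({1, a, c, d} : Set S)).to_subtype
  have h4 : 4 ≤ Nat.card K := by
    have h : Function.Injective (![⟨1, m1⟩, ⟨a, ma⟩, ⟨c, mc⟩, ⟨d, md⟩] : Fin 4 → K) := by
      intro i j hij
      have hij' := congrArg (fun q : K => (q : S)) hij
      fin_cases i <;> fin_cases j <;> simp at hij' <;> (first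
        | rfl
        | exact absurd hij' ha1
        | exact absurd hij'.symm ha1
        | exact absurd hij' hc1
        | exact absurd hij'.symm hc1
        | exact absurd hij' hd1
        | exact absurd hij'.symm hd1
        | exact absurd hij' hac
        | exact absurd hij'.symm hac
        | exact absurd hij' had
        | exact absurd hij'.symm had
        | exact absurd hij' hcd
        | exact absurd hij'.symm hcd)
    have := Nat.card_le_card_of_injective _ h
    rwa [Nat.card_fin] at this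
  have h5 := F4 (Ω := Ω) (x := x) (a := a) K (by
    intro k hk
    rcases hKm k hk with rfl | rfl | rfl | rfl
    · rw [mul_one, mul_inv_cancel]; exact m1
    · exact mc
    · exact md
    · rw [hxd]; exact ma) (by
    intro k hk h
    rcases hKm k hk with rfl | rfl | rfl | rfl
    · rfl
    · exact absurd h.symm hac
    · exact absurd h.symm hcd
    · rw [hxd] at h; exact absurd h had) (by
    intro k hk hk1 H hxH hkH
    rcases hKm k hk with rfl | rfl | rfl | rfl
    · exact absurd rfl hk1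
    · exact hkH
    · rw [← hxd]
      exact mul_mem (mul_mem hxH (mul_mem (mul_mem hxH hkH) (inv_mem hxH))) (inv_mem hxH)
    · rw [← hxd]
      exact mul_mem (mul_mem hxH hkH) (inv_mem hxH))
  have h6 := hb Ω hE
  have h7 : (1 : ℚ) / Nat.card K ≤ 1 / 4 := by
    have : (4 : ℚ) ≤ Nat.card K := by exact_mod_cast h4
    exact one_div_le_one_div_of_le (by norm_num) this
  linarith

/-- **inversion** : `x² = 1`, `x'` with `x'² = 1`, `y = (x x') ^ k` of prime order `r` -/
theorem FB.inv {x' : S} {k r : ℕ} (hr : r.Prime) (hr2 : 2 < r) (hx : x * x = 1) (hx' : x' * x' = 1)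
    (hy : (x * x') ^ (k * r) = 1) (hb : FB S ((x * x') ^ k) b) : FB S x (b + 1 / r) := by
  have hxi : x⁻¹ = x := by rw [inv_eq_iff_mul_eq_one]; exact hx
  have hxi' : x'⁻¹ = x' := by rw [inv_eq_iff_mul_eq_one]; exact hx'
  have h1 : x * (x * x') * x⁻¹ = (x * x')⁻¹ := by
    rw [mul_inv_rev, hxi, hxi']
    calc x * (x * x') * x = (x * x) * x' * x := by group
      _ = x' * x := by rw [hx, one_mul]
  have h2 : ((x * x') ^ k) ^ r = 1 := by rw [← pow_mul, hy]
  refine FB.F3 (a := r - 1) hr h2 ?_ ?_ hb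
  · have h3 : x * (x * x') ^ k * x⁻¹ = ((x * x') ^ k)⁻¹ := by
      rw [← conj_pow, h1, inv_pow]
    rw [h3, inv_eq_iff_mul_eq_one, ← pow_succ', Nat.sub_add_cancel hr.one_lt.le, h2]
  · intro h
    have h3 : (r - 1) % r = 1 % r := h
    rw [Nat.mod_eq_of_lt (by omega), Nat.mod_eq_of_lt (by omega)] at h3
    omega

/-- two conjugates -/
theorem FB.two [Finite S] {m p : ℕ} (hm : 0 < m) (hI : MinIx S m) (hp : p.Prime) (hx : x ^ p = 1) (hx1 : x ≠ 1) {g : S}
    (h : Subgroup.closure {x, g * x * g⁻¹} = ⊤) : FB S x (1 - p * (1 - 1 / m) / (2 * (p - 1))) := by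
  have h1 := FB.F2 hm hI hp hx hx1 [1, g] (by simp) (by
    rw [Gen, ← h]
    congr 1
    ext y
    simp only [List.mem_cons, List.not_mem_nil, or_false, exists_eq_or_imp, exists_eq_left, Set.mem_insert_iff,
      Set.mem_singleton_iff]
    simp only [one_mul, inv_one, mul_one]
    rfl)
  simpa using h1

/-- **no covers** : a rule for the covers with an element in `A`, bounds for the other elements -/
theorem noCov_of_split [Finite S] (hin : ∀ α : MulAut S, ∃ s, α = MulAut.conj s) (A : S → Prop) (β : ℕ → ℚ)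
    (hA : ∀ (Ω : Type) [Finite Ω] [Nonempty Ω] [MulAction S Ω], Env S Ω (⊤ : Subgroup S) →
      ∀ (ι : Type) [Finite ι] (x : ι → S) (r : ι → ℕ), PF x r → Cov Ω x → ∀ i, A (x i) → False)
    (hβ : ∀ (p : ℕ) (x : S), p.Prime → x ^ p = 1 → x ≠ 1 → A x ∨ FB S x (β p))
    (hs : ∀ s : Finset ℕ, (∀ p ∈ s, p.Prime) → 2 ≤ s.card → (∃ g : S, orderOf g = ∏ p ∈ s, p) →
      ∑ p ∈ s, β p < 1) : NoCov S := by
  classical
  refine Cfsg.Agent.H867.RC.noCov_of_inner hin fun Ω _ _ _ hE ι _ x r hx hc _ => ?_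
  by_cases hA' : ∃ i, A (x i)
  · obtain ⟨i, hi⟩ := hA'
    exact hA Ω hE ι x r hx hc i hi
  push Not at hA'
  have : Fintype ι := Fintype.ofFinite ι
  by_cases hι : 2 ≤ Fintype.card ι
  · refine dead_of_sum hc (fun i => β (r i)) (fun i =>
      ((hβ _ _ (hx.prime i) (hx.pow i) (hx.ne i)).resolve_left (hA' i)) Ω hE) ?_
    obtain ⟨g, hg, -⟩ := exists_prod hx
    have h1 := hs (Finset.univ.image r) (by
      intro p hp
      obtain ⟨i, -, rfl⟩ := Finset.mem_image.1 hp
      exact hx.prime i) (by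
      rw [Finset.card_image_of_injective _ hx.inj, Finset.card_univ]
      exact hι) ⟨g, by rw [hg, Finset.prod_image fun a _ b _ h => hx.inj h]⟩
    rwa [Finset.sum_image fun a _ b _ h => hx.inj h] at h1
  · obtain ⟨ω₀⟩ := (inferInstance : Nonempty Ω)
    obtain ⟨i, hi⟩ := hc ω₀
    have hsub : ∀ j, j = i := by
      have : Fintype.card ι ≤ 1 := by omega
      exact fun j => Fintype.card_le_one_iff.1 this j i
    apply hx.ne i
    have : Nonempty Ω := ⟨ω₀⟩
    refine hE.single fun ω => ?_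
    obtain ⟨j, hj⟩ := hc ω
    rwa [hsub j] at hj

end FB

end Cfsg.Agent.H171.RG
end

-- part: H86/RG/Prm
section
prune_inst 0x4010000
set_option linter.all false
open scoped Cfsg.Agent.FastGrp

/-!
# S3509, rows `Fi23` and `Fi24'`: permutations (helper86)

* `inv_swap` : an involution commutes with a swap;
* `comm_or` : an element of odd order of `Perm (Fin n)`, `n ≥ 5`, commutes with a swap, or there is a swap `c` commuting
  with the involution `[c, x]`;
* `six` : commuting elements of orders 3 and 2 of `Perm (Fin 7)` commute with a swap or are conjugate to the powers of a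
  6-cycle.
-/

set_option autoImplicit false

namespace Cfsg.Agent.H86.RG.Prm

open Equiv Equiv.Perm

variable {n : ℕ}

theorem swap_conj (g : Perm (Fin n)) (a b : Fin n) : g * swap a b * g⁻¹ = swap (g a) (g b) := by
  rw [Equiv.mul_swap_eq_swap_mul, mul_inv_cancel_right]

theorem comm_swap_of_fix {x : Perm (Fin n)} {a b : Fin n} (ha : x a = a) (hb : x b = b) :
    swap a b * x = x * swap a b := by
  rw [Equiv.mul_swap_eq_swap_mul, ha, hb]

theorem comm_or (hn : 5 ≤ n) {x : Perm (Fin n)} :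
    (∃ a b : Fin n, a ≠ b ∧ swap a b * x = x * swap a b) ∨
    ∃ a b : Fin n, a ≠ b ∧ (swap a b * x * (swap a b)⁻¹ * x⁻¹) ^ 2 = 1 ∧ swap a b * x * (swap a b)⁻¹ * x⁻¹ ≠ 1 ∧
      swap a b * (swap a b * x * (swap a b)⁻¹ * x⁻¹) = swap a b * x * (swap a b)⁻¹ * x⁻¹ * swap a b := by
  by_cases hf : ∃ a b : Fin n, a ≠ b ∧ x a = a ∧ x b = b
  · obtain ⟨a, b, hab, ha, hb⟩ := hf
    exact Or.inl ⟨a, b, hab, comm_swap_of_fix ha hb⟩
  right
  push Not at hf
  have hsup : n ≤ x.support.card + 1 := by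
    have h1 : (x.supportᶜ).card ≤ 1 := by
      rw [Finset.card_le_one]
      intro a ha b hb
      by_contra hab
      rw [Finset.mem_compl, mem_support, not_not] at ha hb
      exact hf a b hab ha hb
    have h2 := Finset.card_add_card_compl x.support
    rw [Fintype.card_fin] at h2
    omega
  obtain ⟨a, ha⟩ : x.support.Nonempty := by
    rw [← Finset.card_pos]; omega
  obtain ⟨b, hb⟩ : (x.support \ {a, x a, x⁻¹ a}).Nonempty := by
    rw [← Finset.card_pos]
    have h1 := Finset.le_card_sdiff ({a, x a, x⁻¹ a} : Finset (Fin n)) x.support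
    have h2 : ({a, x a, x⁻¹ a} : Finset (Fin n)).card ≤ 3 := Finset.card_le_three
    omega
  rw [Finset.mem_sdiff, mem_support] at hb
  simp only [Finset.mem_insert, Finset.mem_singleton, not_or] at hb
  obtain ⟨hb1, hb2, hb3, hb4⟩ := hb
  rw [mem_support] at ha
  have hxb : x b ≠ a := fun h => hb4 (by rw [← h]; simp)
  have key : swap a b * x * (swap a b)⁻¹ * x⁻¹ = swap a b * swap (x a) (x b) := by
    rw [swap_inv, mul_assoc (swap a b) x, mul_assoc, swap_conj]
  have hdis : Disjoint (swap a b) (swap (x a) (x b)) := by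
    rw [Equiv.Perm.disjoint_iff_disjoint_support, support_swap (Ne.symm hb2), support_swap (fun h => hb2 (x.injective h).symm)]
    rw [Finset.disjoint_left]
    intro c hc
    simp only [Finset.mem_insert, Finset.mem_singleton] at hc ⊢
    rcases hc with rfl | rfl
    · rintro (h | h)
      · exact ha h.symm
      · exact hxb h.symm
    · rintro (h | h)
      · exact hb3 h
      · exact hb1 h.symm
  have hcm := hdis.commute
  refine ⟨a, b, Ne.symm hb2, ?_, ?_, ?_⟩
  · rw [key, hcm.mul_pow, pow_two, swap_mul_self, pow_two, swap_mul_self, mul_one]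
  · rw [key]
    intro h
    have h1 := congrArg (fun f : Perm (Fin n) => f (x a)) h
    simp only [mul_apply, swap_apply_left, one_apply] at h1
    rw [swap_apply_of_ne_of_ne hxb hb1] at h1
    exact hb2 (x.injective h1)
  · rw [key, mul_assoc, hcm.eq]

/-- the standard 6-cycle -/
def c6 : Perm (Fin 7) := swap (0 : Fin 7) 1 * swap (1 : Fin 7) 2 * swap (2 : Fin 7) 3 * swap (3 : Fin 7) 4 * swap (4 : Fin 7) 5

theorem six {ξ τ : Perm (Fin 7)} (h3 : ξ ^ 3 = 1) (h2 : τ ^ 2 = 1) (h1 : τ ≠ 1) (hc : ξ * τ = τ * ξ) :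
    (∃ a b : Fin 7, a ≠ b ∧ swap a b * ξ = ξ * swap a b ∧ swap a b * τ = τ * swap a b) ∨
    ∃ g : Perm (Fin 7), ξ = g * c6 ^ 4 * g⁻¹ ∧ τ = g * c6 ^ 3 * g⁻¹ := by
  obtain ⟨a, ha⟩ : ∃ a, τ a ≠ a := by
    by_contra h
    push Not at h
    exact h1 (Equiv.ext h)
  have htt : ∀ x, τ (τ x) = x := fun x => by
    have := congrArg (fun f : Perm (Fin 7) => f x) h2
    simpa [pow_two] using this
  have hxt : ∀ x, ξ (τ x) = τ (ξ x) := fun x => congrArg (fun f : Perm (Fin 7) => f x) hc
  have hxxx : ∀ x, ξ (ξ (ξ x)) = x := fun x => by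
    have := congrArg (fun f : Perm (Fin 7) => f x) h3
    simpa [pow_succ, pow_two] using this
  by_cases hxa : ξ a = a
  · left
    refine ⟨a, τ a, ha.symm, comm_swap_of_fix hxa (by rw [hxt, hxa]), ?_⟩
    rw [Equiv.mul_swap_eq_swap_mul, htt, swap_comm]
  right
  -- the 6 points
  let π : Perm (Fin 7) := ξ * τ
  let f : Fin 6 → Fin 7 := fun i => (π ^ (i : ℕ)) a
  have hcm : Commute ξ τ := hc
  have hπ6 : π ^ 6 = 1 := by
    show (ξ * τ) ^ 6 = 1
    rw [hcm.mul_pow, show 6 = 3 * 2 from rfl, pow_mul, h3, one_pow, mul_comm 3 2, pow_mul, h2, one_pow, mul_one]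
  have hπ2 : π ^ 2 = ξ ^ 2 := by
    show (ξ * τ) ^ 2 = _
    rw [hcm.mul_pow, h2, mul_one]
  have hπ3 : π ^ 3 = τ := by
    show (ξ * τ) ^ 3 = _
    rw [hcm.mul_pow, h3, one_mul, pow_succ, h2, one_mul]
  have hπ4 : π ^ 4 = ξ := by
    rw [show 4 = 3 + 1 from rfl, pow_succ, hπ3]
    show τ * (ξ * τ) = ξ
    rw [hc, ← mul_assoc, ← pow_two, h2, one_mul]
  have hst : ∀ k : ℕ, k < 6 → (π ^ k) a = a → k = 0 := by
    intro k hk hka
    have e2 : (π ^ 2) a ≠ a := by
      rw [hπ2]
      intro h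
      apply hxa
      have : ξ (ξ a) = a := by simpa [pow_two] using h
      calc ξ a = ξ (ξ (ξ a)) := by rw [this]
        _ = a := hxxx a
    have e3 : (π ^ 3) a ≠ a := by rw [hπ3]; exact ha
    have e4 : (π ^ 4) a ≠ a := by rw [hπ4]; exact hxa
    have h6 : (π ^ 6) a = a := by rw [hπ6]; rfl
    have h1' : (π ^ 1) a ≠ a := by
      intro h
      apply e2
      rw [pow_one] at h
      rw [pow_two, mul_apply, h, h]
    have h5 : (π ^ 5) a ≠ a := by
      intro h
      apply h1'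
      have : (π ^ 6) a = π ((π ^ 5) a) := by rw [pow_succ' π 5, mul_apply]
      rw [this, h] at h6
      rw [pow_one]; exact h6
    interval_cases k
    · rfl
    · exact absurd hka h1'
    · exact absurd hka e2
    · exact absurd hka e3
    · exact absurd hka e4
    · exact absurd hka h5
  have hinj : Function.Injective f := by
    have key : ∀ i j : Fin 6, (i : ℕ) ≤ j → f i = f j → i = j := by
      intro i j hij h
      have h' : (π ^ (i : ℕ)) a = (π ^ (j : ℕ)) a := h
      have h7 : (π ^ ((j : ℕ) - i)) a = a := by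
        apply (π ^ (i : ℕ)).injective
        rw [← mul_apply, ← pow_add, h']
        congr 2
        omega
      have := hst _ (by omega) h7
      exact Fin.ext (by omega)
    intro i j h
    rcases le_total (i : ℕ) j with hij | hij
    · exact key i j hij h
    · exact (key j i hij h.symm).symm
  -- the seventh point
  obtain ⟨p, hp⟩ : ∃ p, p ∉ Finset.univ.image f := by
    by_contra h
    push Not at h
    have h8 : (Finset.univ : Finset (Fin 7)) ⊆ Finset.univ.image f := fun x _ => h x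
    have h9 := Finset.card_le_card h8
    rw [Finset.card_image_of_injective _ hinj] at h9
    simp at h9
  have hp' : ∀ i, f i ≠ p := fun i h => hp (Finset.mem_image.2 ⟨i, Finset.mem_univ _, h⟩)
  let gf : Fin 7 → Fin 7 := fun i => if h : (i : ℕ) < 6 then f ⟨i, h⟩ else p
  have hgf : Function.Injective gf := by
    intro i j h
    by_cases hi : (i : ℕ) < 6 <;> by_cases hj : (j : ℕ) < 6
    · simp only [gf, hi, hj, dif_pos] at h
      have := congrArg Fin.val (hinj h)
      exact Fin.ext this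
    · simp only [gf, hi, hj, dif_pos, dif_neg, not_false_iff] at h
      exact absurd h (hp' _)
    · simp only [gf, hi, hj, dif_pos, dif_neg, not_false_iff] at h
      exact absurd h.symm (hp' _)
    · exact Fin.ext (by omega)
  let g : Perm (Fin 7) := Equiv.ofBijective gf (Finite.injective_iff_bijective.1 hgf)
  have hg : ∀ i, g i = gf i := fun i => rfl
  have hπp : π p = p := by
    by_contra h
    have h8 : π p ∈ Finset.univ.image f := by
      by_contra h9
      -- p and π p are outside of the image, of 6 elements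
      have h10 : (insert p (insert (π p) (Finset.univ.image f))).card ≤ 7 := by
        have := Finset.card_le_univ (insert p (insert (π p) (Finset.univ.image f)))
        simpa using this
      rw [Finset.card_insert_of_notMem, Finset.card_insert_of_notMem h9, Finset.card_image_of_injective _ hinj] at h10
      · simp at h10
      · rw [Finset.mem_insert, not_or]
        exact ⟨fun h11 => h h11.symm, hp⟩
    obtain ⟨i, -, hi⟩ := Finset.mem_image.1 h8
    -- p = π⁻¹ (f i) in the image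
    apply hp
    have h12 : p = (π ^ ((i : ℕ) + 5)) a := by
      apply π.injective
      rw [← hi, ← mul_apply, ← pow_succ', show (i : ℕ) + 5 + 1 = 6 + i by omega, pow_add, hπ6, one_mul]
    rw [Finset.mem_image]
    refine ⟨⟨((i : ℕ) + 5) % 6, Nat.mod_lt _ (by norm_num)⟩, Finset.mem_univ _, ?_⟩
    rw [h12]
    show (π ^ (((i : ℕ) + 5) % 6)) a = _
    conv_rhs => rw [← Nat.mod_add_div ((i : ℕ) + 5) 6, pow_add, pow_mul, hπ6, one_pow, mul_one]
  have hconj : π = g * c6 * g⁻¹ := by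
    rw [eq_mul_inv_iff_mul_eq]
    ext i : 1
    show π (gf i) = gf (c6 i)
    have e : ∀ k : ℕ, π ((π ^ k) a) = (π ^ (k + 1)) a := fun k => by rw [pow_succ']; rfl
    fin_cases i
    · exact e 0
    · exact e 1
    · exact e 2
    · exact e 3
    · exact e 4
    · show π ((π ^ 5) a) = (π ^ 0) a
      rw [e 5, show 5 + 1 = 6 from rfl, hπ6, pow_zero]
    · exact hπp
  refine ⟨g, ?_, ?_⟩
  · rw [← hπ4, hconj, conj_pow]
  · rw [← hπ3, hconj, conj_pow]

/-- the replacement in the 6-cycle case -/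
theorem c6_fact : ∃ c b : Perm (Fin 7), (∃ i j, i ≠ j ∧ c = swap i j) ∧ (∃ i j, i ≠ j ∧ b = swap i j) ∧
    c * c6 ^ 3 = c6 ^ 3 * c ∧
    b * (c * c6 ^ 4 * c⁻¹ * (c6 ^ 4)⁻¹) = (c * c6 ^ 4 * c⁻¹ * (c6 ^ 4)⁻¹) * b ∧
    (c * c6 ^ 4 * c⁻¹ * (c6 ^ 4)⁻¹) ^ 2 = 1 ∧ (c * c6 ^ 4 * c⁻¹ * (c6 ^ 4)⁻¹) ≠ 1 ∧
    (b * c6 ^ 3 * b⁻¹ * (c6 ^ 3)⁻¹) ^ 3 = 1 ∧ (b * c6 ^ 3 * b⁻¹ * (c6 ^ 3)⁻¹) ≠ 1 ∧
    (b * c6 ^ 3 * b⁻¹ * (c6 ^ 3)⁻¹) * (c * c6 ^ 4 * c⁻¹ * (c6 ^ 4)⁻¹) =
      (c * c6 ^ 4 * c⁻¹ * (c6 ^ 4)⁻¹) * (b * c6 ^ 3 * b⁻¹ * (c6 ^ 3)⁻¹) ∧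
    c * (c * c6 ^ 4 * c⁻¹ * (c6 ^ 4)⁻¹) = (c * c6 ^ 4 * c⁻¹ * (c6 ^ 4)⁻¹) * c ∧
    c * (b * c6 ^ 3 * b⁻¹ * (c6 ^ 3)⁻¹) = (b * c6 ^ 3 * b⁻¹ * (c6 ^ 3)⁻¹) * c :=
  ⟨swap (0 : Fin 7) 3, swap (2 : Fin 7) 6, ⟨0, 3, by decide, rfl⟩, ⟨2, 6, by decide, rfl⟩, by decide +kernel, by decide +kernel,
    by decide +kernel, by decide +kernel, by decide +kernel, by decide +kernel, by decide +kernel, by decide +kernel,
    by decide +kernel⟩

/-- two elements of orders 3 and 2 of `Perm (Fin 7)` -/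
theorem six_repl {ξ τ : Perm (Fin 7)} (h3 : ξ ^ 3 = 1) (h2 : τ ^ 2 = 1) (h1 : τ ≠ 1) (hc : ξ * τ = τ * ξ) :
    (∃ a b : Fin 7, a ≠ b ∧ swap a b * ξ = ξ * swap a b ∧ swap a b * τ = τ * swap a b) ∨
    ∃ c b y s : Perm (Fin 7), (∃ i j, i ≠ j ∧ c = swap i j) ∧ y = c * ξ * c⁻¹ * ξ⁻¹ ∧ s = b * τ * b⁻¹ * τ⁻¹ ∧
      c * τ = τ * c ∧ b * y = y * b ∧ y ^ 2 = 1 ∧ y ≠ 1 ∧ s ^ 3 = 1 ∧ s ≠ 1 ∧ s * y = y * s ∧ c * y = y * c ∧
      c * s = s * c := by
  rcases six h3 h2 h1 hc with h | ⟨g, hg1, hg2⟩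
  · exact Or.inl h
  right
  obtain ⟨c, b, ⟨i, j, hij, hcs⟩, -, f1, f2, f3, f4, f5, f6, f7, f8, f9⟩ := c6_fact
  let φ : Perm (Fin 7) ≃* Perm (Fin 7) := MulAut.conj g
  have hφ : ∀ x, φ x = g * x * g⁻¹ := fun x => rfl
  rw [← hφ] at hg1 hg2
  refine ⟨φ c, φ b, _, _, ⟨g i, g j, fun h => hij (g.injective h), by rw [hφ, hcs, swap_conj]⟩, rfl, rfl, ?_⟩
  rw [hg1, hg2]
  simp only [← map_mul, ← map_inv, ← map_pow, EmbeddingLike.apply_eq_iff_eq, EmbeddingLike.map_eq_one_iff, ne_eq]
  exact ⟨f1, f2, f3, f4, f5, f6, f7, f8, f9⟩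

end Cfsg.Agent.H86.RG.Prm
end

-- part: H398/RG/Base
section
prune_inst 0x43460310565000200001c8512f0003fe7d7000592002b8801d9440f46068fff2225036f21cea01f121832ae4400300048110000708010000000000c00411901a090aa5602f389a10ca6000f80b007590c00000000000000000000000000041000004010000
set_option linter.all false
open scoped Cfsg.Agent.FastGrp

-- part: H398/RG/Comp
section
/-!
# S3509: the component lemma (helper398)

`L` a finite group with `O_p(L) = 1`, `R` an `L`-invariant set of nontrivial `p`-subgroups, such that two members `X`, `Y`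
generate a `p`-group or satisfy: `X ≤ N` for every normal subgroup `N` of `L` with `Y ≤ X N` (e.g. `⟨X, Y⟩` perfect).

* `Rts.le_or_comm` : `X ≤ N` or `[X, N] = 1`, for every normal subgroup `N` and `X ∈ R`;
* `Rts.quasi` : `M = ⟨X ^ L⟩` is perfect, a normal subgroup of `M` is `M` or central, `L = M C_L(M)` if `R` generates `L`;
* `Rts.simple` : `M / Z(M)` is simple and not commutative.
-/

set_option autoImplicit false
set_option linter.unusedSectionVars false

namespace Cfsg.Agent.H398.RG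

open Cfsg Cfsg.Agent.Lib.Cores

variable {L : Type*} [Group L]

/-- the conjugate `g X g⁻¹` -/
def cj (g : L) (X : Subgroup L) : Subgroup L := X.map (MulAut.conj g).toMonoidHom

theorem mem_cj {g : L} {X : Subgroup L} {y : L} : y ∈ cj g X ↔ g⁻¹ * y * g ∈ X := by
  constructor
  · rintro ⟨x, hx, rfl⟩
    have h1 : g⁻¹ * ((MulAut.conj g).toMonoidHom x) * g = x := by
      change g⁻¹ * (g * x * g⁻¹) * g = x
      group
    rw [h1]
    exact hx
  · intro h
    refine ⟨_, h, ?_⟩
    change g * (g⁻¹ * y * g) * g⁻¹ = y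
    group

theorem cj_mul (g k : L) (X : Subgroup L) : cj (g * k) X = cj g (cj k X) := by
  ext y
  rw [mem_cj, mem_cj, mem_cj]
  have h1 : (g * k)⁻¹ * y * (g * k) = k⁻¹ * (g⁻¹ * y * g) * k := by group
  rw [h1]

theorem cj_of_mem {x : L} {X : Subgroup L} (hx : x ∈ X) : cj x X = X := by
  ext y
  rw [mem_cj]
  constructor
  · intro h
    have h1 : y = x * (x⁻¹ * y * x) * x⁻¹ := by group
    rw [h1]
    exact X.mul_mem (X.mul_mem hx h) (X.inv_mem hx)
  · intro h
    exact X.mul_mem (X.mul_mem (X.inv_mem hx) h) hx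

/-- a class of root subgroups -/
structure Rts (p : ℕ) (R : Set (Subgroup L)) : Prop where
  conj : ∀ X ∈ R, ∀ g : L, cj g X ∈ R
  pgrp : ∀ X ∈ R, IsPGroup p X
  ne : ∀ X ∈ R, X ≠ ⊥
  pair : ∀ X ∈ R, ∀ Y ∈ R, IsPGroup p (X ⊔ Y : Subgroup L) ∨ ∀ N : Subgroup L, N.Normal → Y ≤ X ⊔ N → X ≤ N
  core : pCore p L = ⊥

/-- a perfect group `⟨X, Y⟩` is as required -/
theorem pair_of_perfect {p : ℕ} [Fact p.Prime] [Finite L] {X Y : Subgroup L} (hX : IsPGroup p X)
    (hD : ⁅X ⊔ Y, X ⊔ Y⁆ = X ⊔ Y) {N : Subgroup L} (hN : N.Normal) (hY : Y ≤ X ⊔ N) : X ≤ N := by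
  have h1 : (X ⊔ Y).map (QuotientGroup.mk' N) = X.map (QuotientGroup.mk' N) := by
    apply le_antisymm
    · rintro _ ⟨d, hd, rfl⟩
      have hd' : d ∈ X ⊔ N := (sup_le le_sup_left hY : X ⊔ Y ≤ X ⊔ N) hd
      obtain ⟨x, hx, m, hm, rfl⟩ := Subgroup.mem_sup_of_normal_right.1 hd'
      refine ⟨x, hx, ?_⟩
      rw [map_mul, show QuotientGroup.mk' N m = 1 from (QuotientGroup.eq_one_iff m).2 hm, mul_one]
    · exact Subgroup.map_mono le_sup_left
  have h2 : IsPGroup p ((X ⊔ Y).map (QuotientGroup.mk' N)) := by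
    rw [h1]
    exact hX.map _
  have h3 : ⁅(X ⊔ Y).map (QuotientGroup.mk' N), (X ⊔ Y).map (QuotientGroup.mk' N)⁆ =
      (X ⊔ Y).map (QuotientGroup.mk' N) := by
    rw [← Subgroup.map_commutator, hD]
  have h4 : (X ⊔ Y).map (QuotientGroup.mk' N) = ⊥ := by
    by_contra hne
    have hnt : Nontrivial ↥((X ⊔ Y).map (QuotientGroup.mk' N)) := (Subgroup.nontrivial_iff_ne_bot _).2 hne
    have hsol : Group.IsSolvable ↥((X ⊔ Y).map (QuotientGroup.mk' N)) := by
      have := h2.isNilpotent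
      infer_instance
    have h5 := Group.IsSolvable.commutator_lt_top_of_nontrivial ↥((X ⊔ Y).map (QuotientGroup.mk' N))
    apply h5.ne
    rw [eq_top_iff]
    rintro ⟨d, hd⟩ -
    have h6 : d ∈ ⁅(X ⊔ Y).map (QuotientGroup.mk' N), (X ⊔ Y).map (QuotientGroup.mk' N)⁆ := by rw [h3]; exact hd
    have h7 : (commutator ↥((X ⊔ Y).map (QuotientGroup.mk' N))).map (Subgroup.subtype _) =
        ⁅(X ⊔ Y).map (QuotientGroup.mk' N), (X ⊔ Y).map (QuotientGroup.mk' N)⁆ := by
      rw [commutator_def, Subgroup.map_commutator, ← MonoidHom.range_eq_map, Subgroup.range_subtype]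
    rw [← h7] at h6
    obtain ⟨e, he, hed⟩ := h6
    have h8 : e = ⟨d, hd⟩ := Subtype.ext hed
    rwa [← h8]
  intro x hx
  have h5 : QuotientGroup.mk' N x ∈ (X ⊔ Y).map (QuotientGroup.mk' N) := ⟨x, (le_sup_left : X ≤ X ⊔ Y) hx, rfl⟩
  rw [h4, Subgroup.mem_bot] at h5
  exact (QuotientGroup.eq_one_iff x).1 h5

section main

variable [Finite L] {p : ℕ} [Fact p.Prime] {R : Set (Subgroup L)}

theorem Rts.le_or_comm (h : Rts p R) {N : Subgroup L} (hN : N.Normal) {X : Subgroup L} (hX : X ∈ R) :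
    X ≤ N ∨ ∀ x ∈ X, ∀ n ∈ N, x * n = n * x := by
  by_cases hc : ∃ n ∈ N, ¬ IsPGroup p (X ⊔ cj n X : Subgroup L)
  · obtain ⟨n, hn, hc⟩ := hc
    left
    rcases h.pair X hX (cj n X) (h.conj X hX n) with h1 | h1
    · exact absurd h1 hc
    · apply h1 N hN
      rintro _ ⟨x, hx, rfl⟩
      change n * x * n⁻¹ ∈ X ⊔ N
      have h2 : n * x * n⁻¹ = x * ((x⁻¹ * n * x) * n⁻¹) := by group
      rw [h2]
      have h3 : x⁻¹ * n * x ∈ N := by
        have := hN.conj_mem n hn x⁻¹
        rwa [inv_inv] at this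
      exact Subgroup.mul_mem _ (Subgroup.mem_sup_left hx) (Subgroup.mem_sup_right (N.mul_mem h3 (N.inv_mem hn)))
  · push Not at hc
    right
    let K : Subgroup L := X ⊔ N
    have hXK : X ≤ K := le_sup_left
    have hNK : N ≤ K := le_sup_right
    have hBS := Cfsg.Agent.Involutions.BaerSuzuki.baer_suzuki_subgroup (p := p) (X.subgroupOf K) (by
      rintro ⟨g, hg⟩
      obtain ⟨n, hn, x, hx, rfl⟩ := Subgroup.mem_sup_of_normal_left.1 (show g ∈ N ⊔ X by rwa [sup_comm])
      have h1 : cj (n * x) X = cj n X := by rw [cj_mul, cj_of_mem hx]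
      have h2 := hc n hn
      rw [← h1] at h2
      refine (h2.comap_subtype (K := K)).to_le ?_
      refine sup_le ?_ ?_
      · intro y hy
        exact Subgroup.mem_sup_left hy
      · rintro _ ⟨y, hy, rfl⟩
        exact Subgroup.mem_sup_right ⟨(y : L), hy, rfl⟩)
    set P : Subgroup K := Subgroup.normalClosure ((X.subgroupOf K : Subgroup K) : Set K) with hP
    have hPn : P.Normal := Subgroup.normalClosure_normal
    have hXP : ∀ x (hx : x ∈ X), (⟨x, hXK hx⟩ : K) ∈ P := fun x hx => Subgroup.subset_normalClosure hx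
    -- the intersection with `N`
    have hT : IsPGroup p ((P ⊓ N.subgroupOf K : Subgroup K).map K.subtype : Subgroup L) := (hBS.to_le inf_le_left).map _
    obtain ⟨T, hTd⟩ : ∃ T : Subgroup L, T = (P ⊓ N.subgroupOf K : Subgroup K).map K.subtype := ⟨_, rfl⟩
    rw [← hTd] at hT
    have hTN : T ≤ N := by
      rw [hTd]
      rintro _ ⟨y, hy, rfl⟩
      exact hy.2
    have hTn : (T.subgroupOf N).Normal := by
      constructor
      rintro ⟨t, ht⟩ hty ⟨n, hn⟩
      rw [Subgroup.mem_subgroupOf] at hty ⊢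
      change t ∈ T at hty
      change n * t * n⁻¹ ∈ T
      rw [hTd] at hty ⊢
      obtain ⟨y, hy, rfl⟩ := hty
      refine ⟨(⟨n, hNK hn⟩ * y * ⟨n, hNK hn⟩⁻¹ :), ⟨hPn.conj_mem _ hy.1 _, ?_⟩, rfl⟩
      exact N.mul_mem (N.mul_mem hn hy.2) (N.inv_mem hn)
    have hTp : T.subgroupOf N ≤ pCore p N := le_pCore hTn hT.comap_subtype
    have hT1 : T = ⊥ := by
      rw [eq_bot_iff]
      intro t ht
      have h1 : t ∈ (pCore p N).map N.subtype := ⟨⟨t, hTN ht⟩, hTp ht, rfl⟩
      rw [map_subtype_pCore p hN, h.core] at h1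
      exact h1.2
    intro x hx n hn
    have h1 : x * n * x⁻¹ * n⁻¹ ∈ T := by
      rw [hTd]
      refine ⟨⟨x, hXK hx⟩ * (⟨n, hNK hn⟩ * ⟨x, hXK hx⟩⁻¹ * ⟨n, hNK hn⟩⁻¹), ⟨?_, ?_⟩, ?_⟩
      · exact P.mul_mem (hXP x hx) (hPn.conj_mem _ (P.inv_mem (hXP x hx)) _)
      · change x * (n * x⁻¹ * n⁻¹) ∈ N
        have h2 : x * (n * x⁻¹ * n⁻¹) = (x * n * x⁻¹) * n⁻¹ := by group
        rw [h2]
        exact N.mul_mem (hN.conj_mem n hn x) (N.inv_mem hn)
      · change x * (n * x⁻¹ * n⁻¹) = _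
        group
    rw [hT1, Subgroup.mem_bot] at h1
    calc x * n = (x * n * x⁻¹ * n⁻¹) * (n * x) := by group
      _ = n * x := by rw [h1, one_mul]

/-- the normal closure of a member -/
def Mc (X : Subgroup L) : Subgroup L := Subgroup.normalClosure (X : Set L)

theorem le_Mc (X : Subgroup L) : X ≤ Mc X := Subgroup.le_normalClosure

theorem Mc_normal (X : Subgroup L) : (Mc X).Normal := Subgroup.normalClosure_normal

theorem Mc_le {X N : Subgroup L} (hN : N.Normal) (h : X ≤ N) : Mc X ≤ N := Subgroup.normalClosure_le_normal h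

omit [Finite L] in
theorem centralizer_normal {N : Subgroup L} (hN : N.Normal) : (Subgroup.centralizer (N : Set L)).Normal := by
  constructor
  intro c hc g
  rw [Subgroup.mem_centralizer_iff] at hc ⊢
  intro n hn
  have h1 := hc (g⁻¹ * n * g) (by
    have := hN.conj_mem n hn g⁻¹
    rwa [inv_inv] at this)
  calc n * (g * c * g⁻¹) = g * ((g⁻¹ * n * g) * c) * g⁻¹ := by group
    _ = g * (c * (g⁻¹ * n * g)) * g⁻¹ := by rw [h1]
    _ = g * c * g⁻¹ * n := by group

/-- a normal subgroup contains or centralises `⟨X ^ L⟩` -/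
theorem Rts.Mc_le_or_comm (h : Rts p R) {N : Subgroup L} (hN : N.Normal) {X : Subgroup L} (hX : X ∈ R) :
    Mc X ≤ N ∨ Mc X ≤ Subgroup.centralizer (N : Set L) := by
  rcases h.le_or_comm hN hX with h1 | h1
  · exact Or.inl (Mc_le hN h1)
  · refine Or.inr (Mc_le (centralizer_normal hN) fun x hx => ?_)
    rw [Subgroup.mem_centralizer_iff]
    intro n hn
    exact (h1 x hx n hn).symm

/-- `L = M C_L(M)` if `R` generates `L` -/
theorem Rts.sup_eq_top (h : Rts p R) (hgen : sSup R = ⊤) {X : Subgroup L} :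
    Mc X ⊔ Subgroup.centralizer (Mc X : Set L) = ⊤ := by
  rw [eq_top_iff, ← hgen]
  refine sSup_le fun Y hY => ?_
  rcases h.Mc_le_or_comm (Mc_normal X) hY with h1 | h1
  · exact ((le_Mc Y).trans h1).trans le_sup_left
  · exact ((le_Mc Y).trans h1).trans le_sup_right

/-- two components are equal or commute -/
theorem Rts.eq_or_comm (h : Rts p R) {X Y : Subgroup L} (hX : X ∈ R) (hY : Y ∈ R) :
    Mc X = Mc Y ∨ Mc X ≤ Subgroup.centralizer (Mc Y : Set L) := by
  rcases h.Mc_le_or_comm (Mc_normal Y) hX with h1 | h1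
  · rcases h.Mc_le_or_comm (Mc_normal X) hY with h2 | h2
    · exact Or.inl (le_antisymm h1 h2)
    · right
      intro x hx
      rw [Subgroup.mem_centralizer_iff]
      intro y hy
      have h3 := Subgroup.mem_centralizer_iff.1 (h2 hy) x hx
      exact h3.symm
  · exact Or.inr h1

/-- `X` is not normal -/
theorem Rts.exists_not_pgroup (h : Rts p R) {X : Subgroup L} (hX : X ∈ R) :
    ∃ g : L, ¬ IsPGroup p (X ⊔ cj g X : Subgroup L) := by
  by_contra hc
  push Not at hc
  have h1 := Cfsg.Agent.Involutions.BaerSuzuki.baer_suzuki_subgroup (p := p) X hc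
  have h2 : Mc X ≤ pCore p L := le_pCore (Mc_normal X) h1
  rw [h.core] at h2
  exact h.ne X hX (le_bot_iff.1 ((le_Mc X).trans h2))

/-- **the component lemma** -/
theorem Rts.quasi (h : Rts p R) (hgen : sSup R = ⊤) {X : Subgroup L} (hX : X ∈ R) :
    ⁅Mc X, Mc X⁆ = Mc X ∧ ∀ N : Subgroup L, N ≤ Mc X → (∀ m ∈ Mc X, ∀ n ∈ N, m * n * m⁻¹ ∈ N) →
      N = Mc X ∨ ∀ m ∈ Mc X, ∀ n ∈ N, m * n = n * m := by
  have hM := Mc_normal X
  have htop := h.sup_eq_top hgen (X := X)
  have hnorm : ∀ N : Subgroup L, N ≤ Mc X → (∀ m ∈ Mc X, ∀ n ∈ N, m * n * m⁻¹ ∈ N) → N.Normal := by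
    intro N hN hMN
    constructor
    intro n hn g
    have hg : g ∈ Mc X ⊔ Subgroup.centralizer (Mc X : Set L) := by rw [htop]; trivial
    obtain ⟨m, hm, c, hc, rfl⟩ := Subgroup.mem_sup_of_normal_left.1 hg
    have h1 : c * n * c⁻¹ = n := by
      rw [← Subgroup.mem_centralizer_iff.1 hc n (hN hn), mul_assoc, mul_inv_cancel, mul_one]
    have h2 : m * c * n * (m * c)⁻¹ = m * (c * n * c⁻¹) * m⁻¹ := by group
    rw [h2, h1]
    exact hMN m hm n hn
  refine ⟨?_, fun N hN hMN => ?_⟩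
  · apply le_antisymm
    · exact Subgroup.commutator_le_right _ _
    · have hC : (⁅Mc X, Mc X⁆ : Subgroup L).Normal := Subgroup.commutator_normal _ _
      apply Mc_le hC
      obtain ⟨g, hg⟩ := h.exists_not_pgroup hX
      have hg' : g ∈ Mc X ⊔ Subgroup.centralizer (Mc X : Set L) := by rw [htop]; trivial
      obtain ⟨m, hm, c, hc, rfl⟩ := Subgroup.mem_sup_of_normal_left.1 hg'
      have h1 : cj c X = X := by
        ext y
        rw [mem_cj]
        constructor
        · intro hy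
          have h3 := Subgroup.mem_centralizer_iff.1 hc _ (le_Mc X hy)
          have h4 : y = c⁻¹ * y * c := by
            have h5 : c⁻¹ * y * c * c = y * c := by
              rw [h3]
              group
            have h6 := mul_right_cancel h5
            exact h6.symm
          rw [h4]
          exact hy
        · intro hy
          have h3 := Subgroup.mem_centralizer_iff.1 hc _ (le_Mc X hy)
          have h4 : c⁻¹ * y * c = y := by rw [mul_assoc, h3, inv_mul_cancel_left]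
          rw [h4]
          exact hy
      rw [cj_mul, h1] at hg
      rcases h.pair X hX (cj m X) (h.conj X hX m) with h2 | h2
      · exact absurd h2 hg
      · apply h2 _ hC
        rintro _ ⟨x, hx, rfl⟩
        change m * x * m⁻¹ ∈ _
        have h3 : m * x * m⁻¹ = (m * x * m⁻¹ * x⁻¹) * x := by group
        rw [h3]
        exact Subgroup.mul_mem _ (Subgroup.mem_sup_right (Subgroup.commutator_mem_commutator hm (le_Mc X hx)))
          (Subgroup.mem_sup_left hx)
  · rcases h.Mc_le_or_comm (hnorm N hN hMN) hX with h1 | h1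
    · exact Or.inl (le_antisymm hN h1)
    · refine Or.inr fun m hm n hn => ?_
      exact (Subgroup.mem_centralizer_iff.1 (h1 hm) n hn).symm

/-- `M / Z(M)` is simple -/
theorem Rts.simple (h : Rts p R) (hgen : sSup R = ⊤) {X : Subgroup L} (hX : X ∈ R) :
    IsSimpleGroup (Mc X ⧸ Subgroup.center (Mc X)) ∧ ¬ IsMulCommutative (Mc X ⧸ Subgroup.center (Mc X)) := by
  obtain ⟨hperf, hq⟩ := h.quasi hgen hX
  set M := Mc X with hM
  have hperf' : commutator M = ⊤ := by
    rw [eq_top_iff]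
    rintro ⟨d, hd⟩ -
    have h6 : d ∈ ⁅M, M⁆ := by rw [hperf]; exact hd
    have h7 : (commutator M).map M.subtype = ⁅M, M⁆ := by
      rw [commutator_def, Subgroup.map_commutator, ← MonoidHom.range_eq_map, Subgroup.range_subtype]
    rw [← h7] at h6
    obtain ⟨e, he, hed⟩ := h6
    have h8 : e = ⟨d, hd⟩ := Subtype.ext hed
    rwa [← h8]
  -- `M` is not commutative
  have hZ : Subgroup.center M ≠ ⊤ := by
    intro hZ
    have h1 : commutator M = ⊥ := by
      rw [commutator_def, Subgroup.commutator_eq_bot_iff_le_centralizer]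
      intro m _
      rw [Subgroup.mem_centralizer_iff]
      intro n _
      have h2 : n ∈ Subgroup.center M := by rw [hZ]; trivial
      exact (Subgroup.mem_center_iff.1 h2 m).symm
    rw [hperf'] at h1
    have h2 : X ≤ ⊥ := by
      intro x hx
      have h3 : (⟨x, le_Mc X hx⟩ : M) ∈ (⊤ : Subgroup M) := trivial
      rw [h1, Subgroup.mem_bot] at h3
      exact congrArg Subtype.val h3
    exact h.ne X hX (le_bot_iff.1 h2)
  have hnt : Nontrivial (M ⧸ Subgroup.center M) := QuotientGroup.nontrivial_iff.2 hZ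
  refine ⟨⟨fun K hK => ?_⟩, ?_⟩
  · -- the preimage
    let N : Subgroup M := K.comap (QuotientGroup.mk' (Subgroup.center M))
    have hN : N.Normal := hK.comap _
    have h1 := hq (N.map M.subtype) (by
      rintro _ ⟨n, hn, rfl⟩
      exact n.2) (by
      rintro m hm _ ⟨n, hn, rfl⟩
      exact ⟨(⟨m, hm⟩ * n * ⟨m, hm⟩⁻¹ :), hN.conj_mem n hn ⟨m, hm⟩, rfl⟩)
    rcases h1 with h1 | h1
    · right
      rw [eq_top_iff]
      intro y _
      obtain ⟨m, rfl⟩ := QuotientGroup.mk'_surjective (Subgroup.center M) y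
      have h2 : (m : L) ∈ N.map M.subtype := by rw [h1]; exact m.2
      obtain ⟨n, hn, hnm⟩ := h2
      have h3 : n = m := Subtype.ext hnm
      rw [← h3]
      exact hn
    · left
      rw [eq_bot_iff]
      intro y hy
      obtain ⟨m, rfl⟩ := QuotientGroup.mk'_surjective (Subgroup.center M) y
      rw [Subgroup.mem_bot]
      apply (QuotientGroup.eq_one_iff m).2
      rw [Subgroup.mem_center_iff]
      intro k
      exact Subtype.ext (h1 k k.2 m ⟨m, hy, rfl⟩)
  · intro hc
    have h1 : commutator (M ⧸ Subgroup.center M) = ⊤ := by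
      have h2 : (commutator M).map (QuotientGroup.mk' (Subgroup.center M)) = commutator (M ⧸ Subgroup.center M) := by
        rw [commutator_def, Subgroup.map_commutator, ← MonoidHom.range_eq_map,
          MonoidHom.range_eq_top.2 (QuotientGroup.mk'_surjective _), commutator_def]
      rw [← h2, hperf', ← MonoidHom.range_eq_map, MonoidHom.range_eq_top.2 (QuotientGroup.mk'_surjective _)]
    have h3 : commutator (M ⧸ Subgroup.center M) = ⊥ := by
      rw [commutator_def, Subgroup.commutator_eq_bot_iff_le_centralizer]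
      intro m _
      rw [Subgroup.mem_centralizer_iff]
      intro n _
      exact hc.is_comm.comm n m
    rw [h1] at h3
    obtain ⟨a, ha⟩ := exists_ne (1 : M ⧸ Subgroup.center M)
    have h4 : a ∈ (⊤ : Subgroup (M ⧸ Subgroup.center M)) := trivial
    rw [h3, Subgroup.mem_bot] at h4
    exact ha h4

end main

end Cfsg.Agent.H398.RG
end

-- part: H398/RG/Base
section
/-!
# S3509: the component of a long root group from a base pair (helper398)

`K` a finite subgroup of `G` with `O_p(K) = 1`, `X, Y, P, Q, T ≤ K`, `K = ⟨P, Q, T⟩`, `P` and `T` normalise `X`, `Q` normalises `Y`,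
`Y` is conjugate to `X`, `⟨X, Y⟩` is not a `p`-group and every pair `(X, k X k⁻¹)` generates a `p`-group or is conjugate to
`(X, Y)` in `K`; `M = MK K X = ⟨X ^ K⟩`.

* `Base.main` : `M` is perfect, every normal subgroup of `M` is `M` or central, if `cond` holds: `X ≤ N` for every normal
  subgroup `N` of `M` with `Y ≤ X N`;
* `cond_of_perfect` : `⟨X, Y⟩` perfect;
* `cond_of_prime` : `|X| = p`, `ρ ∈ ⟨X, Y⟩` of order prime to `p`, the normal closure of `ρ` meets an `M`-conjugate of `X`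
  nontrivially;
* `simple_of` : `M / Z(M)` is simple and not commutative.
-/

set_option autoImplicit false
set_option linter.unusedSectionVars false

namespace Cfsg.Agent.H398.RG

open Cfsg Cfsg.Agent.Lib.Cores
open scoped commutatorElement

variable {G : Type*} [Group G]

theorem cj_one (X : Subgroup G) : cj (1 : G) X = X := by
  ext y
  rw [mem_cj]
  simp

theorem cj_mono {g : G} {X Z : Subgroup G} (h : X ≤ Z) : cj g X ≤ cj g Z := Subgroup.map_mono h

theorem conj_mem_cj' {g : G} {X : Subgroup G} {x : G} (hx : x ∈ X) : g * x * g⁻¹ ∈ cj g X := ⟨x, hx, rfl⟩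

/-- the subgroup generated by the `K`-conjugates of `X` -/
def MK (K X : Subgroup G) : Subgroup G := Subgroup.closure {z | ∃ k ∈ K, ∃ x ∈ X, z = k * x * k⁻¹}

theorem cj_le_MK {K X : Subgroup G} {k : G} (hk : k ∈ K) : cj k X ≤ MK K X := by
  rintro _ ⟨x, hx, rfl⟩
  exact Subgroup.subset_closure ⟨k, hk, x, hx, rfl⟩

theorem le_MK (K X : Subgroup G) : X ≤ MK K X := by
  have h := cj_le_MK (X := X) K.one_mem
  rwa [cj_one] at h

theorem MK_le {K X Z : Subgroup G} (h : ∀ k ∈ K, ∀ x ∈ X, k * x * k⁻¹ ∈ Z) : MK K X ≤ Z := by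
  refine (Subgroup.closure_le _).2 ?_
  rintro _ ⟨k, hk, x, hx, rfl⟩
  exact h k hk x hx

theorem MK_le_self {K X : Subgroup G} (hX : X ≤ K) : MK K X ≤ K :=
  MK_le fun _ hk _ hx => K.mul_mem (K.mul_mem hk (hX hx)) (K.inv_mem hk)

theorem conj_MK {K X : Subgroup G} {k m : G} (hk : k ∈ K) (hm : m ∈ MK K X) : k * m * k⁻¹ ∈ MK K X := by
  have h1 : MK K X ≤ (MK K X).comap (MulAut.conj k).toMonoidHom := by
    refine MK_le fun c hc x hx => ?_
    change k * (c * x * c⁻¹) * k⁻¹ ∈ MK K X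
    have h2 : k * (c * x * c⁻¹) * k⁻¹ = (k * c) * x * (k * c)⁻¹ := by group
    rw [h2]
    exact Subgroup.subset_closure ⟨k * c, K.mul_mem hk hc, x, hx, rfl⟩
  exact h1 hm

theorem le_normalizer_MK (K X : Subgroup G) : K ≤ Subgroup.normalizer (MK K X : Set G) := by
  intro k hk
  rw [Subgroup.mem_normalizer_iff]
  intro m
  constructor
  · exact conj_MK hk
  · intro h
    have h1 := conj_MK (K.inv_mem hk) h
    have h2 : k⁻¹ * (k * m * k⁻¹) * k⁻¹⁻¹ = m := by group
    rwa [h2] at h1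

/-- the base pair -/
structure Base (p : ℕ) (K X Y P Q T : Subgroup G) : Prop where
  leX : X ≤ K
  leP : P ≤ K
  leQ : Q ≤ K
  leT : T ≤ K
  gen : K ≤ P ⊔ Q ⊔ T
  hP : ∀ g ∈ P, ∀ x ∈ X, g * x * g⁻¹ ∈ X
  hQ : ∀ g ∈ Q, ∀ y ∈ Y, g * y * g⁻¹ ∈ Y
  hT : ∀ g ∈ T, ∀ x ∈ X, g * x * g⁻¹ ∈ X
  pgrp : IsPGroup p X
  ne : X ≠ ⊥
  npg : ¬ IsPGroup p ↥(X ⊔ Y : Subgroup G)
  conjY : ∃ k ∈ K, cj k X = Y
  pair : ∀ g ∈ K, IsPGroup p ↥(X ⊔ cj g X : Subgroup G) ∨ ∃ u ∈ K, cj u X = X ∧ cj u (cj g X) = Y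
  core : pCore p ↥K = ⊥

/-- the condition on the base pair -/
def Cond (K X Y : Subgroup G) : Prop :=
  ∀ N : Subgroup G, N ≤ MK K X → (∀ m ∈ MK K X, ∀ n ∈ N, m * n * m⁻¹ ∈ N) → (∀ y ∈ Y, ∃ x ∈ X, ∃ n ∈ N, y = x * n) → X ≤ N

theorem subgroupOf_cj {M : Subgroup G} (g : M) (Z : Subgroup G) : cj g (Z.subgroupOf M) = (cj (g : G) Z).subgroupOf M := by
  ext y
  rw [mem_cj, Subgroup.mem_subgroupOf, Subgroup.mem_subgroupOf, mem_cj]
  rfl

theorem isPGroup_cj {p : ℕ} {g : G} {Z : Subgroup G} (h : IsPGroup p Z) : IsPGroup p (cj g Z) := h.map _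

theorem cj_sup (g : G) (X Z : Subgroup G) : cj g (X ⊔ Z) = cj g X ⊔ cj g Z := Subgroup.map_sup _ _ _

/-- `M / Z(M)` is simple -/
theorem simple_of {M : Subgroup G} (hM : M ≠ ⊥) (hperf : ⁅M, M⁆ = M)
    (hq : ∀ N : Subgroup G, N ≤ M → (∀ m ∈ M, ∀ n ∈ N, m * n * m⁻¹ ∈ N) → N = M ∨ ∀ m ∈ M, ∀ n ∈ N, m * n = n * m) :
    IsSimpleGroup (M ⧸ Subgroup.center M) ∧ ¬ IsMulCommutative (M ⧸ Subgroup.center M) := by
  have hperf' : commutator M = ⊤ := by
    rw [eq_top_iff]
    rintro ⟨d, hd⟩ -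
    have h6 : d ∈ ⁅M, M⁆ := by rw [hperf]; exact hd
    have h7 : (commutator M).map M.subtype = ⁅M, M⁆ := by
      rw [commutator_def, Subgroup.map_commutator, ← MonoidHom.range_eq_map, Subgroup.range_subtype]
    rw [← h7] at h6
    obtain ⟨e, he, hed⟩ := h6
    have h8 : e = ⟨d, hd⟩ := Subtype.ext hed
    rwa [← h8]
  have hZ : Subgroup.center M ≠ ⊤ := by
    intro hZ
    have h1 : commutator M = ⊥ := by
      rw [commutator_def, Subgroup.commutator_eq_bot_iff_le_centralizer]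
      intro m _
      rw [Subgroup.mem_centralizer_iff]
      intro n _
      have h2 : n ∈ Subgroup.center M := by rw [hZ]; trivial
      exact (Subgroup.mem_center_iff.1 h2 m).symm
    rw [hperf'] at h1
    apply hM
    rw [eq_bot_iff]
    intro x hx
    have h3 : (⟨x, hx⟩ : M) ∈ (⊤ : Subgroup M) := trivial
    rw [h1, Subgroup.mem_bot] at h3
    exact congrArg Subtype.val h3
  have hnt : Nontrivial (M ⧸ Subgroup.center M) := QuotientGroup.nontrivial_iff.2 hZ
  refine ⟨⟨fun K hK => ?_⟩, ?_⟩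
  · let N : Subgroup M := K.comap (QuotientGroup.mk' (Subgroup.center M))
    have hN : N.Normal := hK.comap _
    have h1 := hq (N.map M.subtype) (by
      rintro _ ⟨n, hn, rfl⟩
      exact n.2) (by
      rintro m hm _ ⟨n, hn, rfl⟩
      exact ⟨(⟨m, hm⟩ * n * ⟨m, hm⟩⁻¹ :), hN.conj_mem n hn ⟨m, hm⟩, rfl⟩)
    rcases h1 with h1 | h1
    · right
      rw [eq_top_iff]
      intro y _
      obtain ⟨m, rfl⟩ := QuotientGroup.mk'_surjective (Subgroup.center M) y
      have h2 : (m : G) ∈ N.map M.subtype := by rw [h1]; exact m.2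
      obtain ⟨n, hn, hnm⟩ := h2
      have h3 : n = m := Subtype.ext hnm
      rw [← h3]
      exact hn
    · left
      rw [eq_bot_iff]
      intro y hy
      obtain ⟨m, rfl⟩ := QuotientGroup.mk'_surjective (Subgroup.center M) y
      rw [Subgroup.mem_bot]
      refine (QuotientGroup.eq_one_iff m).2 (Subgroup.mem_center_iff.2 fun g => ?_)
      exact Subtype.ext (h1 g g.2 m ⟨m, hy, rfl⟩)
  · intro hcom
    have h1 : commutator M ≤ Subgroup.center M := by
      rw [commutator_def, Subgroup.commutator_le]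
      intro a _ b _
      refine (QuotientGroup.eq_one_iff _).1 ?_
      have h2 : (QuotientGroup.mk' (Subgroup.center M)) ⁅a, b⁆ = 1 := by
        rw [map_commutatorElement, commutatorElement_eq_one_iff_commute]
        exact hcom.is_comm.comm _ _
      exact h2
    rw [hperf'] at h1
    exact hZ (eq_top_iff.2 h1)

section main

variable {p : ℕ} [Fact p.Prime] {K X Y P Q T : Subgroup G}

/-- **the component of a long root group** -/
theorem Base.main [Finite K] (h : Base p K X Y P Q T) (hc : Cond K X Y) :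
    ⁅MK K X, MK K X⁆ = MK K X ∧ ∀ N : Subgroup G, N ≤ MK K X → (∀ m ∈ MK K X, ∀ n ∈ N, m * n * m⁻¹ ∈ N) →
      N = MK K X ∨ ∀ m ∈ MK K X, ∀ n ∈ N, m * n = n * m := by
  obtain ⟨M, hMd⟩ : ∃ M, M = MK K X := ⟨_, rfl⟩
  have hMK : M ≤ K := hMd ▸ MK_le_self h.leX
  have hMn : ∀ k ∈ K, ∀ m ∈ M, k * m * k⁻¹ ∈ M := fun k hk m hm => by
    rw [hMd] at hm ⊢
    exact conj_MK hk hm
  have hfin : Finite M := Finite.of_injective _ (Subgroup.inclusion_injective hMK)
  have hXM : X ≤ M := hMd ▸ le_MK K X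
  have hcM : ∀ k ∈ K, cj k X ≤ M := fun k hk => hMd ▸ cj_le_MK hk
  let R : Set (Subgroup M) := {Z | ∃ k ∈ K, Z = (cj k X).subgroupOf M}
  have hXR : X.subgroupOf M ∈ R := ⟨1, K.one_mem, by rw [cj_one]⟩
  obtain ⟨k0, hk0, hY⟩ := h.conjY
  have hYM : Y ≤ M := hY ▸ hcM k0 hk0
  have hYR : Y.subgroupOf M ∈ R := ⟨k0, hk0, by rw [hY]⟩
  -- transport of normal subgroups
  have hR : Rts p R := by
    refine ⟨?_, ?_, ?_, ?_, ?_⟩
    · rintro _ ⟨k, hk, rfl⟩ g
      exact ⟨g * k, K.mul_mem (hMK g.2) hk, by rw [subgroupOf_cj, ← cj_mul]⟩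
    · rintro _ ⟨k, hk, rfl⟩
      exact (isPGroup_cj h.pgrp).comap_subtype (K := M)
    · rintro _ ⟨k, hk, rfl⟩ hbot
      rw [Subgroup.subgroupOf_eq_bot] at hbot
      apply h.ne
      rw [eq_bot_iff]
      intro x hx
      have h1 : k * x * k⁻¹ ∈ cj k X := conj_mem_cj' hx
      have h2 := Subgroup.disjoint_def.1 hbot h1 (hcM k hk h1)
      rw [Subgroup.mem_bot]
      have h3 : x = k⁻¹ * (k * x * k⁻¹) * k := by group
      rw [h3, h2]
      group
    · rintro _ ⟨k1, hk1, rfl⟩ _ ⟨k2, hk2, rfl⟩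
      rcases h.pair (k1⁻¹ * k2) (K.mul_mem (K.inv_mem hk1) hk2) with h1 | ⟨u, hu, hu1, hu2⟩
      · left
        have h2 : IsPGroup p ↥(cj k1 X ⊔ cj k2 X : Subgroup G) := by
          have h3 := isPGroup_cj (g := k1) h1
          rwa [cj_sup, ← cj_mul, mul_inv_cancel_left] at h3
        refine (h2.comap_subtype (K := M)).to_le (sup_le ?_ ?_)
        · intro y hy
          exact Subgroup.mem_sup_left (Subgroup.mem_subgroupOf.1 hy)
        · intro y hy
          exact Subgroup.mem_sup_right (Subgroup.mem_subgroupOf.1 hy)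
      · right
        intro N hN hle
        let w : G := u * k1⁻¹
        have hw : w ∈ K := K.mul_mem hu (K.inv_mem hk1)
        have hw1 : cj w (cj k1 X) = X := by
          rw [← cj_mul, inv_mul_cancel_right, hu1]
        have hw2 : cj w (cj k2 X) = Y := by
          rw [← cj_mul, show w * k2 = u * (k1⁻¹ * k2) by simp only [w]; group, cj_mul, hu2]
        have hN2 : ∀ m ∈ M, ∀ n ∈ N.map M.subtype, m * n * m⁻¹ ∈ N.map M.subtype := by
          rintro m hm _ ⟨n, hn, rfl⟩
          exact ⟨⟨m, hm⟩ * n * ⟨m, hm⟩⁻¹, hN.conj_mem n hn ⟨m, hm⟩, rfl⟩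
        have h3 := hc (cj w (N.map M.subtype)) (by
            rintro _ ⟨_, ⟨n, hn, rfl⟩, rfl⟩
            rw [← hMd]
            exact hMn w hw n n.2) (by
            rw [← hMd]
            rintro m hm n hn
            rw [mem_cj] at hn ⊢
            have h4 := hN2 (w⁻¹ * m * w) (by
              have := hMn w⁻¹ (K.inv_mem hw) m hm
              rwa [inv_inv] at this) _ hn
            have h5 : w⁻¹ * m * w * (w⁻¹ * n * w) * (w⁻¹ * m * w)⁻¹ = w⁻¹ * (m * n * m⁻¹) * w := by group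
            rwa [h5] at h4) (by
            intro y hy
            rw [← hw2, mem_cj] at hy
            have hyM : w⁻¹ * y * w ∈ M := hcM k2 hk2 hy
            have h4 : (⟨w⁻¹ * y * w, hyM⟩ : M) ∈ (cj k1 X).subgroupOf M ⊔ N := hle (Subgroup.mem_subgroupOf.2 hy)
            obtain ⟨z, hz, n, hn, hzn⟩ := Subgroup.mem_sup_of_normal_right.1 h4
            have h5 : (z : G) * n = w⁻¹ * y * w := congrArg Subtype.val hzn
            refine ⟨w * z * w⁻¹, ?_, w * n * w⁻¹, ⟨n, ⟨n, hn, rfl⟩, rfl⟩, ?_⟩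
            · rw [← hw1]
              exact conj_mem_cj' (Subgroup.mem_subgroupOf.1 hz)
            · have h6 : w * z * w⁻¹ * (w * n * w⁻¹) = w * (z * n) * w⁻¹ := by group
              rw [h6, h5]
              group)
        intro z hz
        have hz' := Subgroup.mem_subgroupOf.1 hz
        have h4 : w * z * w⁻¹ ∈ X := by rw [← hw1]; exact conj_mem_cj' hz'
        have h5 := h3 h4
        rw [mem_cj] at h5
        have h6 : w⁻¹ * (w * z * w⁻¹) * w = z := by group
        rw [h6] at h5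
        obtain ⟨n, hn, hnz⟩ := h5
        have h7 : n = z := Subtype.ext hnz
        rw [← h7]
        exact hn
    · -- `O_p(M) = 1`
      rw [eq_bot_iff]
      intro z hz
      have hn : ((pCore p ↥M).map (Subgroup.inclusion hMK)).Normal := by
        constructor
        rintro _ ⟨n, hn, rfl⟩ g
        have hMnorm : (M.subgroupOf K).Normal := by
          constructor
          intro m hm g
          exact Subgroup.mem_subgroupOf.2 (hMn g g.2 m (Subgroup.mem_subgroupOf.1 hm))
        have hchar : (pCore p ↥M).Characteristic := pCore_characteristic p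
        let φ : MulAut M :=
          { toFun := fun m => ⟨(g : G) * m * (g : G)⁻¹, hMn g g.2 m m.2⟩
            invFun := fun m => ⟨(g : G)⁻¹ * m * (g : G), by
              have := hMn (g : G)⁻¹ (K.inv_mem g.2) m m.2
              rwa [inv_inv] at this⟩
            left_inv := fun m => Subtype.ext (by simp only; group)
            right_inv := fun m => Subtype.ext (by simp only; group)
            map_mul' := fun a b => Subtype.ext (by simp only [Subgroup.coe_mul]; group) }
        have h1 : φ n ∈ pCore p ↥M := by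
          have h2 := Subgroup.characteristic_iff_map_eq.1 hchar φ
          rw [← h2]
          exact ⟨n, hn, rfl⟩
        exact ⟨φ n, h1, Subtype.ext rfl⟩
      have hpg : IsPGroup p ((pCore p ↥M).map (Subgroup.inclusion hMK)) := (pCore_isPGroup p).map _
      have h1 := le_pCore hn hpg
      rw [h.core] at h1
      have h2 : Subgroup.inclusion hMK z = 1 := Subgroup.mem_bot.1 (h1 ⟨z, hz, rfl⟩)
      rw [Subgroup.mem_bot]
      exact Subgroup.inclusion_injective hMK (by rw [h2, map_one])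
  -- generation
  have hgen : sSup R = ⊤ := by
    rw [eq_top_iff]
    rintro ⟨m, hm⟩ -
    have h1 : M ≤ (sSup R).map M.subtype := by
      conv_lhs => rw [hMd]
      refine MK_le fun k hk x hx => ?_
      refine ⟨⟨k * x * k⁻¹, hcM k hk (conj_mem_cj' hx)⟩, ?_, rfl⟩
      exact Subgroup.mem_sSup_of_mem (show (cj k X).subgroupOf M ∈ R from ⟨k, hk, rfl⟩)
        (Subgroup.mem_subgroupOf.2 (conj_mem_cj' hx))
    obtain ⟨n, hn, hnm⟩ := h1 hm
    have h2 : n = ⟨m, hm⟩ := Subtype.ext hnm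
    rwa [← h2]
  obtain ⟨hperf, hq⟩ := hR.quasi hgen hXR
  -- `M1`
  have hM1 : Mc (X.subgroupOf M) = ⊤ := by
    have hXY : Mc (X.subgroupOf M) = Mc (Y.subgroupOf M) := by
      rcases hR.eq_or_comm hXR hYR with h1 | h1
      · exact h1
      · exfalso
        apply h.npg
        have h2 : ∀ x ∈ X, ∀ y ∈ Y, x * y = y * x := by
          intro x hx y hy
          have h3 : (⟨x, hXM hx⟩ : M) ∈ Mc (X.subgroupOf M) := le_Mc _ (Subgroup.mem_subgroupOf.2 hx)
          have h4 : (⟨y, hYM hy⟩ : M) ∈ Mc (Y.subgroupOf M) := le_Mc _ (Subgroup.mem_subgroupOf.2 hy)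
          have h5 := Subgroup.mem_centralizer_iff.1 (h1 h3) _ h4
          exact (congrArg Subtype.val h5).symm
        have hYp : IsPGroup p Y := hY ▸ isPGroup_cj h.pgrp
        refine IsPGroup.to_sup_of_normal_right' (H := X) (K := Y) h.pgrp hYp fun x hx => ?_
        rw [Subgroup.mem_normalizer_iff]
        intro y
        constructor
        · intro hy
          rw [h2 x hx y hy, mul_inv_cancel_right]
          exact hy
        · intro hy
          have h3 := h2 x⁻¹ (X.inv_mem hx) _ hy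
          have h4 : y = x⁻¹ * (x * y * x⁻¹) * x := by group
          rw [h4, h3]
          simpa using hy
    -- the image is normalised by `K`
    have key : ∀ (Z : Subgroup G) (g : G), g ∈ K → (∀ z ∈ Z, g * z * g⁻¹ ∈ Z) →
        ∀ m ∈ (Mc (Z.subgroupOf M)).map M.subtype, g * m * g⁻¹ ∈ (Mc (Z.subgroupOf M)).map M.subtype := by
      intro Z g hg hZ
      have h1 : Mc (Z.subgroupOf M) ≤ ((Mc (Z.subgroupOf M)).map M.subtype).comap
          ((MulAut.conj g).toMonoidHom.comp M.subtype) := by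
        unfold Mc
        rw [Subgroup.normalClosure]
        refine (Subgroup.closure_le _).2 ?_
        intro y hy
        obtain ⟨z, hz, hzy⟩ := Group.mem_conjugatesOfSet_iff.1 hy
        obtain ⟨c, rfl⟩ := isConj_iff.1 hzy
        refine ⟨⟨g * (c * z * c⁻¹ : M) * g⁻¹, hMn g hg _ (c * z * c⁻¹ : M).2⟩, ?_, rfl⟩
        have h2 : (⟨g * (c * z * c⁻¹ : M) * g⁻¹, hMn g hg _ (c * z * c⁻¹ : M).2⟩ : M) =
            ⟨g * c * g⁻¹, hMn g hg _ c.2⟩ * ⟨g * z * g⁻¹, hMn g hg _ z.2⟩ * (⟨g * c * g⁻¹, hMn g hg _ c.2⟩ : M)⁻¹ :=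
          Subtype.ext (by
            change g * (c * z * (c : G)⁻¹) * g⁻¹ = g * c * g⁻¹ * (g * z * g⁻¹) * (g * c * g⁻¹)⁻¹
            group)
        rw [h2]
        refine Subgroup.normalClosure_normal.conj_mem _ ?_ _
        exact Subgroup.subset_normalClosure (Subgroup.mem_subgroupOf.2 (hZ _ (Subgroup.mem_subgroupOf.1 hz)))
      rintro _ ⟨m, hm, rfl⟩
      exact h1 hm
    have hnorm : ∀ g ∈ K, ∀ m ∈ (Mc (X.subgroupOf M)).map M.subtype, g * m * g⁻¹ ∈ (Mc (X.subgroupOf M)).map M.subtype := by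
      intro g hg
      have h1 : (P ⊔ Q ⊔ T : Subgroup G) ≤ Subgroup.normalizer ((Mc (X.subgroupOf M)).map M.subtype : Set G) := by
        have h2 : ∀ (Z A : Subgroup G), A ≤ K → Mc (X.subgroupOf M) = Mc (Z.subgroupOf M) →
            (∀ g ∈ A, ∀ z ∈ Z, g * z * g⁻¹ ∈ Z) →
            A ≤ Subgroup.normalizer ((Mc (X.subgroupOf M)).map M.subtype : Set G) := by
          intro Z A hA he hZ a ha
          rw [he, Subgroup.mem_normalizer_iff]
          intro m
          constructor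
          · exact key Z a (hA ha) (hZ a ha) m
          · intro hm
            have h3 := key Z a⁻¹ (K.inv_mem (hA ha)) (hZ a⁻¹ (A.inv_mem ha)) _ hm
            have h4 : a⁻¹ * (a * m * a⁻¹) * a⁻¹⁻¹ = m := by group
            rwa [h4] at h3
        exact sup_le (sup_le (h2 X P h.leP rfl h.hP) (h2 Y Q h.leQ hXY h.hQ)) (h2 X T h.leT rfl h.hT)
      intro m hm
      exact (Subgroup.mem_normalizer_iff.1 (h1 (h.gen hg)) m).1 hm
    rw [eq_top_iff]
    rintro ⟨m, hm⟩ -
    have h1 : M ≤ (Mc (X.subgroupOf M)).map M.subtype := by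
      conv_lhs => rw [hMd]
      refine MK_le fun k hk x hx => ?_
      exact hnorm k hk x ⟨⟨x, hXM hx⟩, le_Mc _ (Subgroup.mem_subgroupOf.2 hx), rfl⟩
    obtain ⟨n, hn, hnm⟩ := h1 hm
    have h2 : n = ⟨m, hm⟩ := Subtype.ext hnm
    rwa [← h2]
  rw [hM1] at hperf hq
  rw [← hMd]
  refine ⟨?_, fun N hN hMN => ?_⟩
  · have h1 : (⁅(⊤ : Subgroup M), (⊤ : Subgroup M)⁆ : Subgroup M).map M.subtype = ⁅M, M⁆ := by
      rw [Subgroup.map_commutator, ← MonoidHom.range_eq_map, Subgroup.range_subtype]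
    rw [← h1, hperf, ← MonoidHom.range_eq_map, Subgroup.range_subtype]
  · rcases hq (N.subgroupOf M) le_top (by
        intro m _ n hn
        exact Subgroup.mem_subgroupOf.2 (hMN m m.2 n (Subgroup.mem_subgroupOf.1 hn))) with h1 | h1
    · left
      exact le_antisymm hN (Subgroup.subgroupOf_eq_top.1 h1)
    · right
      intro m hm n hn
      exact congrArg Subtype.val (h1 ⟨m, hm⟩ trivial ⟨n, hN hn⟩ (Subgroup.mem_subgroupOf.2 hn))

/-- the component: all properties -/
theorem Base.all [Finite K] (h : Base p K X Y P Q T) (hc : Cond K X Y) :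
    X ≤ MK K X ∧ Y ≤ MK K X ∧ MK K X ≤ K ∧ K ≤ Subgroup.normalizer (MK K X : Set G) ∧ ⁅MK K X, MK K X⁆ = MK K X ∧
      IsSimpleGroup (MK K X ⧸ Subgroup.center (MK K X)) ∧ ¬ IsMulCommutative (MK K X ⧸ Subgroup.center (MK K X)) := by
  obtain ⟨h1, h2⟩ := h.main hc
  obtain ⟨k, hk, hY⟩ := h.conjY
  have hne : MK K X ≠ ⊥ := fun hb => h.ne (le_bot_iff.1 ((le_MK K X).trans hb.le))
  obtain ⟨h3, h4⟩ := simple_of hne h1 h2
  exact ⟨le_MK K X, hY ▸ cj_le_MK hk, MK_le_self h.leX, le_normalizer_MK K X, h1, h3, h4⟩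

/-- `⟨X, Y⟩` perfect -/
theorem cond_of_perfect [Finite K] (hXK : X ≤ K) (hYK : Y ≤ MK K X) (hX : IsPGroup p X)
    (hD : ⁅X ⊔ Y, X ⊔ Y⁆ = X ⊔ Y) : Cond K X Y := by
  intro N hN hMN hY
  obtain ⟨M, hMd⟩ : ∃ M, M = MK K X := ⟨_, rfl⟩
  rw [← hMd] at hN hMN hYK
  have hMK : M ≤ K := hMd ▸ MK_le_self hXK
  have hfin : Finite M := Finite.of_injective _ (Subgroup.inclusion_injective hMK)
  have hXM : X ≤ M := hMd ▸ le_MK K X
  have h1 : (N.subgroupOf M).Normal := by
    constructor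
    intro n hn m
    exact Subgroup.mem_subgroupOf.2 (hMN m m.2 n (Subgroup.mem_subgroupOf.1 hn))
  have hmap : (X.subgroupOf M ⊔ Y.subgroupOf M).map M.subtype = X ⊔ Y := by
    rw [Subgroup.map_sup, Subgroup.map_subgroupOf_eq_of_le hXM, Subgroup.map_subgroupOf_eq_of_le hYK]
  have h2 : ⁅X.subgroupOf M ⊔ Y.subgroupOf M, X.subgroupOf M ⊔ Y.subgroupOf M⁆ = X.subgroupOf M ⊔ Y.subgroupOf M := by
    apply Subgroup.map_injective M.subtype_injective
    rw [Subgroup.map_commutator, hmap, hD]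
  have h3 := pair_of_perfect (p := p) (hX.comap_subtype (K := M)) h2 h1 (by
    intro y hy
    obtain ⟨x, hx, n, hn, hxn⟩ := hY y (Subgroup.mem_subgroupOf.1 hy)
    have h4 : y = (⟨x, hXM hx⟩ : M) * ⟨n, hN hn⟩ := Subtype.ext hxn
    rw [h4]
    exact Subgroup.mul_mem _ (Subgroup.mem_sup_left (Subgroup.mem_subgroupOf.2 hx))
      (Subgroup.mem_sup_right (Subgroup.mem_subgroupOf.2 hn)))
  intro x hx
  exact Subgroup.mem_subgroupOf.1 (h3 (show (⟨x, hXM hx⟩ : M) ∈ X.subgroupOf M from Subgroup.mem_subgroupOf.2 hx))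

end main

end Cfsg.Agent.H398.RG
end
end

-- part: H884/NA/Main
section
prune_inst 0x101001015422000000040000c0001b836700059000008800000408440088682005406800288004021820000000300000029800108000000000000400000501001080040061810008000006000000410000000000000000000000000000000000004010000
set_option linter.all false
open scoped Cfsg.Agent.FastGrp

-- part: H884/NA/SL2
section
/-!
# S3509, exceptional row: root-like classes in alternating groups (helper884)

Forbidden configurations in quotients of `SL₂(F)` by central subgroups.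
-/

set_option autoImplicit false

namespace Cfsg.Agent.H884.NA

open Matrix

/-- pair property: a `p`-group or a central quotient of `SL₂(F)` -/
def PairP (p : ℕ) (F : Type*) [Field F] {G : Type*} [Group G] (Y : Subgroup G) : Prop :=
  IsPGroup p Y ∨ ∃ φ : _root_.Matrix.SpecialLinearGroup (Fin 2) F →* G, φ.range = Y ∧ φ.ker ≤ Subgroup.center _

section mat

variable {F : Type*} [Field F]

theorem ch2 (N : Matrix (Fin 2) (Fin 2) F) : N * N = N.trace • N - N.det • (1 : Matrix (Fin 2) (Fin 2) F) := by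
  ext i j
  (revert i j; simp only [Matrix.mul_apply, Matrix.trace, Matrix.det_fin_two, Fin.sum_univ_two, _root_.Fin.forall_fin_succ, Fin.isValue, _root_.Matrix.diag_apply, _root_.Matrix.sub_apply, _root_.Matrix.smul_apply, _root_.smul_eq_mul, _root_.Fin.succ_zero_eq_one, _root_.IsEmpty.forall_iff, _root_.and_true, _root_.Matrix.one_apply_eq, _root_.mul_one, Nat.reduceAdd, _root_.ne_eq, _root_.zero_ne_one, _root_.not_false_eq_true, _root_.Matrix.one_apply_ne, _root_.MulZeroClass.mul_zero, _root_.sub_zero, _root_.Fin.succ_ne_zero]) <;> (repeat' with_reducible apply And.intro) <;> ring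

theorem sq_zero_of_pow {N : Matrix (Fin 2) (Fin 2) F} {k : ℕ} (hk : k ≠ 0) (h : N ^ k = 0) : N * N = 0 := by
  have hd : N.det = 0 := by
    have h1 := congrArg Matrix.det h
    rw [Matrix.det_pow, Matrix.det_zero] at h1
    exact pow_eq_zero_iff hk |>.1 h1
  have h1 : N * N = N.trace • N := by rw [ch2, hd, zero_smul, sub_zero]
  have h2 : ∀ j : ℕ, N ^ (j + 1) = N.trace ^ j • N := by
    intro j
    induction j with
    | zero => simp
    | succ j ih => rw [pow_succ, ih, smul_mul_assoc, h1, smul_smul, pow_succ]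
  obtain ⟨j, rfl⟩ : ∃ j, k = j + 1 := ⟨k - 1, by omega⟩
  rw [h2, smul_eq_zero] at h
  rcases h with h | h
  · have h3 : N.trace = 0 := by
      by_contra h4
      exact pow_ne_zero j h4 h
    rw [h1, h3, zero_smul]
  · rw [h, mul_zero]

theorem tr_det_of_sq {N : Matrix (Fin 2) (Fin 2) F} (h : N * N = 0) : N.trace = 0 ∧ N.det = 0 := by
  have hd : N.det = 0 := by
    have h1 := congrArg Matrix.det h
    rw [Matrix.det_mul, Matrix.det_zero] at h1
    exact mul_self_eq_zero.1 h1
  refine ⟨?_, hd⟩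
  have h1 := ch2 N
  rw [h, hd, zero_smul, sub_zero] at h1
  rcases smul_eq_zero.1 h1.symm with h2 | h2
  · exact h2
  · rw [h2, Matrix.trace_zero]

/-- the centraliser of a non-scalar matrix -/
theorem comm2 {A B : Matrix (Fin 2) (Fin 2) F} (h : A * B = B * A)
    (hA : ¬ (A 0 1 = 0 ∧ A 1 0 = 0 ∧ A 0 0 = A 1 1)) :
    ∃ α β : F, B = α • (1 : Matrix (Fin 2) (Fin 2) F) + β • A := by
  have e00 := congrFun (congrFun h 0) 0
  have e01 := congrFun (congrFun h 0) 1
  have e10 := congrFun (congrFun h 1) 0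
  have e11 := congrFun (congrFun h 1) 1
  simp only [Matrix.mul_apply, Fin.sum_univ_two] at e00 e01 e10 e11
  by_cases h1 : A 0 1 = 0
  · by_cases h2 : A 1 0 = 0
    · have h3 : A 0 0 - A 1 1 ≠ 0 := fun h3 => hA ⟨h1, h2, sub_eq_zero.1 h3⟩
      have b01 : B 0 1 = 0 := by
        have : (A 0 0 - A 1 1) * B 0 1 = 0 := by rw [h1] at e01; linear_combination e01
        exact (mul_eq_zero.1 this).resolve_left h3
      have b10 : B 1 0 = 0 := by
        have : (A 0 0 - A 1 1) * B 1 0 = 0 := by rw [h2] at e10; linear_combination -e10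
        exact (mul_eq_zero.1 this).resolve_left h3
      refine ⟨B 0 0 - (B 0 0 - B 1 1) / (A 0 0 - A 1 1) * A 0 0, (B 0 0 - B 1 1) / (A 0 0 - A 1 1), ?_⟩
      ext i j
      fin_cases i <;> fin_cases j
      · simp
      · simp [h1, b01]
      · simp [h2, b10]
      · simp
        field_simp
        ring
    · refine ⟨B 0 0 - B 1 0 / A 1 0 * A 0 0, B 1 0 / A 1 0, ?_⟩
      ext i j
      fin_cases i <;> fin_cases j
      · simp
      · simp
        field_simp
        linear_combination e11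
      · simp [h2]
      · simp
        field_simp
        linear_combination -e10
  · refine ⟨B 0 0 - B 0 1 / A 0 1 * A 0 0, B 0 1 / A 0 1, ?_⟩
    ext i j
    fin_cases i <;> fin_cases j
    · simp
    · simp [h1]
    · simp
      field_simp
      linear_combination e00
    · simp
      field_simp
      linear_combination e01

theorem one_add_pow {N : Matrix (Fin 2) (Fin 2) F} (h : N * N = 0) (γ : F) (k : ℕ) :
    (1 + γ • N) ^ k = 1 + ((k : F) * γ) • N := by
  induction k with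
  | zero => simp only [_root_.pow_zero, _root_.Nat.cast_zero, _root_.MulZeroClass.zero_mul, _root_.zero_smul, _root_.add_zero]
  | succ k ih =>
    rw [pow_succ, ih, add_mul, mul_add, mul_add, one_mul, mul_one, one_mul, smul_mul_smul_comm, h, smul_zero,
      add_zero, Nat.cast_succ, add_assoc, ← add_smul]
    congr 2
    ring

end mat

section center

variable {F : Type*} [Field F]

theorem center_scalar {c : _root_.Matrix.SpecialLinearGroup (Fin 2) F} (hc : c ∈ Subgroup.center (_root_.Matrix.SpecialLinearGroup (Fin 2) F)) :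
    ∃ r : F, r * r = 1 ∧ (c : Matrix (Fin 2) (Fin 2) F) = r • 1 := by
  obtain ⟨r, h1, h2⟩ := Matrix.SpecialLinearGroup.mem_center_iff.1 hc
  refine ⟨r, by simpa only [pow_two, _root_.Fintype.card_fin] using h1, ?_⟩
  rw [← h2, Matrix.scalar_apply, Matrix.smul_one_eq_diagonal]

theorem center_of_scalar {c : _root_.Matrix.SpecialLinearGroup (Fin 2) F} {r : F} (h : (c : Matrix (Fin 2) (Fin 2) F) = r • 1) :
    c ∈ Subgroup.center (_root_.Matrix.SpecialLinearGroup (Fin 2) F) := by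
  rw [Subgroup.mem_center_iff]
  intro g
  apply Subtype.ext
  change (g : Matrix (Fin 2) (Fin 2) F) * c = c * g
  rw [h, mul_smul_comm, smul_mul_assoc, one_mul, mul_one]

theorem center_sq {c : _root_.Matrix.SpecialLinearGroup (Fin 2) F} (hc : c ∈ Subgroup.center (_root_.Matrix.SpecialLinearGroup (Fin 2) F)) :
    c * c = 1 := by
  obtain ⟨r, h1, h2⟩ := center_scalar hc
  apply Subtype.ext
  change (c : Matrix (Fin 2) (Fin 2) F) * c = 1
  rw [h2, smul_mul_smul_comm, h1, one_smul, one_mul]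

theorem center_two [CharP F 2] {c : _root_.Matrix.SpecialLinearGroup (Fin 2) F}
    (hc : c ∈ Subgroup.center (_root_.Matrix.SpecialLinearGroup (Fin 2) F)) : c = 1 := by
  obtain ⟨r, h1, h2⟩ := center_scalar hc
  have h3 : (r - 1) * (r - 1) = 0 := by
    have h4 : (2 : F) = 0 := CharTwo.two_eq_zero
    linear_combination h1 + (1 - r) * h4
  have h4 : r = 1 := sub_eq_zero.1 (mul_self_eq_zero.1 h3)
  apply Subtype.ext
  rw [h2, h4, one_smul]
  rfl

end center

end Cfsg.Agent.H884.NA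
end

-- part: H884/NA/Forb
section
/-!
# S3509, exceptional row: forbidden configurations (helper884)
-/

set_option autoImplicit false
set_option linter.unusedSectionVars false
set_option linter.style.haveILetI false

namespace Cfsg.Agent.H884.NA

open Matrix

variable {p : ℕ} [Fact p.Prime] {F : Type*} [Field F] [CharP F p] {G : Type*} [Group G]

theorem eq_one_of_coprime {Y : Subgroup G} (hY : IsPGroup p Y) {u : G} (hu : u ∈ Y) {k : ℕ} (hk : u ^ k = 1)
    (hkp : k.Coprime p) : u = 1 := by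
  obtain ⟨n, hn⟩ := hY ⟨u, hu⟩
  have h1 : u ^ p ^ n = 1 := by
    have := congrArg Subtype.val hn
    simpa only [_root_.SubmonoidClass.mk_pow, _root_.OneMemClass.coe_one] using this
  have h2 : orderOf u ∣ 1 := by
    have h3 := Nat.dvd_gcd (orderOf_dvd_of_pow_eq_one hk) (orderOf_dvd_of_pow_eq_one h1)
    rwa [Nat.Coprime.pow_right n hkp] at h3
  rw [Nat.dvd_one] at h2
  exact orderOf_eq_one_iff.1 h2

/-- in `SL₂(F)`: `a ^ p = 1`, `a ≠ 1`, `b` commutes with `a`, `b ^ k` central, `k` prime to `p`: `b` is central -/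
theorem central_of_comm {a b : _root_.Matrix.SpecialLinearGroup (Fin 2) F} (hap : a ^ p = 1) (ha1 : a ≠ 1) (hab : a * b = b * a)
    {k : ℕ} (hbk : b ^ k ∈ Subgroup.center (_root_.Matrix.SpecialLinearGroup (Fin 2) F)) (hkp : k.Coprime p) :
    b ∈ Subgroup.center (_root_.Matrix.SpecialLinearGroup (Fin 2) F) := by
  have hp : p.Prime := Fact.out
  obtain ⟨A, hA⟩ : ∃ A : Matrix (Fin 2) (Fin 2) F, A = a := ⟨_, rfl⟩
  obtain ⟨B, hB⟩ : ∃ B : Matrix (Fin 2) (Fin 2) F, B = b := ⟨_, rfl⟩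
  have hAp : A ^ p = 1 := by
    rw [hA]
    exact (Matrix.SpecialLinearGroup.coe_pow a p).symm.trans (congrArg Subtype.val hap)
  have hA1 : A ≠ 1 := by
    intro h
    apply ha1
    apply Subtype.ext
    rw [← hA, h]; rfl
  have hAB : A * B = B * A := by
    have := congrArg Subtype.val hab
    rw [hA, hB]
    exact this
  have hBd : B.det = 1 := by rw [hB]; exact b.2
  have hN2 : (A - 1) * (A - 1) = 0 := by
    apply sq_zero_of_pow (k := p) hp.ne_zero
    have h1 : Commute A (1 : Matrix (Fin 2) (Fin 2) F) := Commute.one_right A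
    rw [sub_pow_char_of_commute p h1, hAp, one_pow, sub_self]
  obtain ⟨N, hN⟩ : ∃ N, N = A - 1 := ⟨_, rfl⟩
  rw [← hN] at hN2
  have hN0 : N ≠ 0 := by
    intro h
    apply hA1
    rw [hN] at h
    exact sub_eq_zero.1 h
  obtain ⟨htr, hdet⟩ := tr_det_of_sq hN2
  have hNB : N * B = B * N := by
    rw [hN, sub_mul, mul_sub, hAB, one_mul, mul_one]
  have hns : ¬ (N 0 1 = 0 ∧ N 1 0 = 0 ∧ N 0 0 = N 1 1) := by
    rintro ⟨h1, h2, h3⟩
    apply hN0
    rw [Matrix.det_fin_two, h1, h3] at hdet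
    have h4 : N 1 1 = 0 := by
      have : N 1 1 * N 1 1 = 0 := by linear_combination hdet
      exact mul_self_eq_zero.1 this
    ext i j
    fin_cases i <;> fin_cases j
    · simp [h3, h4]
    · simp [h1]
    · simp [h2]
    · simp [h4]
  obtain ⟨α, β, hBe⟩ := comm2 hNB hns
  have hα : α * α = 1 := by
    have h1 : B.det = α * α := by
      rw [hBe, Matrix.det_fin_two]
      rw [Matrix.det_fin_two] at hdet
      rw [Matrix.trace_fin_two] at htr
      simp
      linear_combination α * β * htr + β * β * hdet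
    rw [← h1, hBd]
  have hB2 : B * B = 1 + (2 * α * β) • N := by
    rw [hBe, add_mul, mul_add, mul_add, smul_mul_smul_comm, smul_mul_smul_comm, smul_mul_smul_comm,
      smul_mul_smul_comm, hN2, smul_zero, add_zero, hα, one_smul, one_mul, one_mul, mul_one, add_assoc, ← add_smul]
    congr 2
    ring
  have hBk : (B * B) ^ k = 1 := by
    have h1 := center_sq hbk
    have h2 : (b * b) ^ k = 1 := by
      rw [← pow_two, ← pow_mul, mul_comm, pow_mul, pow_two, h1]
    have h3 := congrArg Subtype.val h2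
    rw [hB]
    exact h3
  rw [hB2, one_add_pow hN2, add_eq_left, smul_eq_zero] at hBk
  have hk0 : (k : F) ≠ 0 := by
    intro h
    rw [CharP.cast_eq_zero_iff F p] at h
    exact hp.one_lt.ne' (Nat.eq_one_of_dvd_coprimes hkp h dvd_rfl)
  have hα0 : α ≠ 0 := by rintro rfl; simp at hα
  have h2β : (2 : F) * β = 0 := by
    rcases hBk with h | h
    · have h1 : (2 * β) * ((k : F) * α) = 0 := by linear_combination h
      exact (mul_eq_zero.1 h1).resolve_right (mul_ne_zero hk0 hα0)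
    · exact absurd h hN0
  by_cases hp2 : p = 2
  · subst hp2
    have h1 : b * b = 1 := by
      apply Subtype.ext
      change (b : Matrix (Fin 2) (Fin 2) F) * b = 1
      rw [← hB, hB2]
      have : 2 * α * β = 0 := by linear_combination α * h2β
      rw [this, zero_smul, add_zero]
    have h2 : b ^ k = 1 := center_two hbk
    have h3 : b = 1 := by
      have hk2 : k % 2 = 1 := Nat.odd_iff.1 (Nat.coprime_two_right.1 hkp)
      have h4 : b ^ k = b := by
        conv_lhs => rw [← Nat.div_add_mod k 2, hk2, pow_add, pow_mul, pow_two, h1, one_pow, one_mul, pow_one]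
      rw [← h4, h2]
    rw [h3]
    exact Subgroup.one_mem _
  · have h20 : (2 : F) ≠ 0 := by
      intro h
      have h1 : ((2 : ℕ) : F) = 0 := by exact_mod_cast h
      rw [CharP.cast_eq_zero_iff F p] at h1
      have h2 := Nat.le_of_dvd (by norm_num) h1
      have h3 := hp.two_le
      omega
    have hβ : β = 0 := (mul_eq_zero.1 h2β).resolve_left h20
    apply center_of_scalar (r := α)
    rw [← hB, hBe, hβ, zero_smul, add_zero]

/-- **forbidden 1** -/
theorem forb_cent {Y : Subgroup G} (hY : PairP p F Y) {z u g : G} (hz : z ∈ Y) (hu : u ∈ Y) (hg : g ∈ Y)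
    (hzp : z ^ p = 1) (hz1 : z ≠ 1) (hzu : z * u = u * z) {k : ℕ} (huk : u ^ k = 1) (hk : k.Coprime p) :
    u * g = g * u := by
  have hp : p.Prime := Fact.out
  rcases hY with hY | ⟨φ, rfl, hker⟩
  · rw [eq_one_of_coprime hY hu huk hk, one_mul, mul_one]
  · obtain ⟨a, rfl⟩ := hz
    obtain ⟨b, rfl⟩ := hu
    obtain ⟨c, rfl⟩ := hg
    have hak : a ^ p ∈ φ.ker := by rw [MonoidHom.mem_ker, map_pow, hzp]
    have hbk : b ^ k ∈ φ.ker := by rw [MonoidHom.mem_ker, map_pow, huk]
    have hb : b ∈ Subgroup.center (_root_.Matrix.SpecialLinearGroup (Fin 2) F) := by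
      by_cases hp2 : p = 2
      · subst hp2
        have h1 : a ^ 2 = 1 := center_two (hker hak)
        have h2 : a * b * a⁻¹ * b⁻¹ ∈ φ.ker := by
          rw [MonoidHom.mem_ker, map_mul, map_mul, map_mul, map_inv, map_inv, hzu]
          group
        have h3 := center_two (hker h2)
        have h4 : a * b = b * a := by
          have := congrArg (· * b * a) h3
          simpa only [mul_assoc, _root_.inv_mul_cancel, _root_.mul_one, _root_.one_mul] using this
        refine central_of_comm (p := 2) h1 ?_ h4 (hker hbk) hk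
        rintro rfl
        exact hz1 (map_one φ)
      · have hodd : p % 2 = 1 := hp.eq_two_or_odd.resolve_left hp2
        have h1 : (a * a) ^ p = 1 := by
          rw [← pow_two, ← pow_mul, mul_comm, pow_mul, pow_two]
          exact center_sq (hker hak)
        have h1' : a * a ≠ 1 := by
          intro h
          apply hz1
          have h2 : φ a ^ 2 = 1 := by rw [← map_pow, pow_two, h, map_one]
          have h3 : orderOf (φ a) ∣ Nat.gcd 2 p := Nat.dvd_gcd (orderOf_dvd_of_pow_eq_one h2)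
            (orderOf_dvd_of_pow_eq_one hzp)
          rw [Nat.Coprime.gcd_eq_one (Nat.coprime_two_left.2 (Nat.odd_iff.2 hodd)), Nat.dvd_one] at h3
          exact orderOf_eq_one_iff.1 h3
        have h2 : (a * a) * b * (a * a)⁻¹ * b⁻¹ ∈ φ.ker := by
          rw [MonoidHom.mem_ker, map_mul, map_mul, map_mul, map_inv, map_inv, map_mul]
          have h5 : φ a * φ a * φ b = φ b * (φ a * φ a) := by rw [mul_assoc, hzu, ← mul_assoc, hzu, mul_assoc]
          rw [h5]
          group
        obtain ⟨e, he⟩ : ∃ e, e = (a * a) * b * (a * a)⁻¹ * b⁻¹ := ⟨_, rfl⟩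
        rw [← he] at h2
        have hec := hker h2
        have he2 := center_sq hec
        have hconj : b * (a * a) * b⁻¹ = e⁻¹ * (a * a) := by rw [he]; simp only [mul_assoc, _root_.mul_inv_rev, _root_.inv_inv, _root_.inv_mul_cancel_left, _root_.inv_mul_cancel, _root_.mul_one]
        have hep : e⁻¹ ^ p = 1 := by
          have h3 : (b * (a * a) * b⁻¹) ^ p = 1 := by rw [conj_pow, h1]; group
          have h6 : Commute e⁻¹ (a * a) := by
            have := (Subgroup.mem_center_iff.1 hec (a * a)).symm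
            exact Commute.inv_left this
          rw [hconj, h6.mul_pow, h1, mul_one] at h3
          exact h3
        have he1 : e = 1 := by
          have h3 : e⁻¹ ^ 2 = 1 := by rw [inv_pow, pow_two, he2, inv_one]
          have h4 : orderOf e⁻¹ ∣ Nat.gcd 2 p := Nat.dvd_gcd (orderOf_dvd_of_pow_eq_one h3)
            (orderOf_dvd_of_pow_eq_one hep)
          rw [Nat.Coprime.gcd_eq_one (Nat.coprime_two_left.2 (Nat.odd_iff.2 hodd)), Nat.dvd_one] at h4
          exact inv_eq_one.1 (orderOf_eq_one_iff.1 h4)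
        have h4 : (a * a) * b = b * (a * a) := by
          rw [he1, inv_one, one_mul] at hconj
          calc (a * a) * b = (b * (a * a) * b⁻¹) * b := by rw [hconj]
            _ = b * (a * a) := by group
        exact central_of_comm h1 h1' h4 (hker hbk) hk
    rw [← map_mul, ← map_mul, Subgroup.mem_center_iff.1 hb c]

/-- **forbidden 2**: characteristic 2, elements of order 4 and of odd order -/
theorem forb_four [CharP F 2] {Y : Subgroup G} (hY : PairP 2 F Y) {w v : G} (hw : w ∈ Y) (hv : v ∈ Y)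
    (hw4 : w ^ 4 = 1) (hv3 : v ^ 3 = 1) (hv1 : v ≠ 1) : w ^ 2 = 1 := by
  haveI : Fact (Nat.Prime 2) := ⟨Nat.prime_two⟩
  rcases hY with hY | ⟨φ, rfl, hker⟩
  · exact absurd (eq_one_of_coprime hY hv hv3 (by norm_num)) hv1
  · obtain ⟨a, rfl⟩ := hw
    have ha : a ^ 4 = 1 := center_two (hker (by rw [MonoidHom.mem_ker, map_pow, hw4]))
    have h1 : a * a = 1 := by
      obtain ⟨A, hA⟩ : ∃ A : Matrix (Fin 2) (Fin 2) F, A = a := ⟨_, rfl⟩
      have hA4 : A ^ 4 = 1 := by
        rw [hA]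
        exact (Matrix.SpecialLinearGroup.coe_pow a 4).symm.trans (congrArg Subtype.val ha)
      have h2 : (A - 1) * (A - 1) = 0 := by
        apply sq_zero_of_pow (k := 2 ^ 2) (by norm_num)
        have h1 : Commute A (1 : Matrix (Fin 2) (Fin 2) F) := Commute.one_right A
        rw [sub_pow_char_pow_of_commute 2 2 h1]
        change A ^ 4 - _ = 0
        rw [hA4, one_pow, sub_self]
      have h3 : A * A = 1 := by
        have h4 : (2 : Matrix (Fin 2) (Fin 2) F) = 0 := by
          have h5 : ((2 : ℕ) : Matrix (Fin 2) (Fin 2) F) = 0 := CharP.cast_eq_zero _ 2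
          exact_mod_cast h5
        have h6 : (A - 1) * (A - 1) = A * A - 2 * A + 1 := by noncomm_ring
        rw [h6, h4, zero_mul, sub_zero] at h2
        have h7 : A * A = -1 := eq_neg_of_add_eq_zero_left h2
        rw [h7]
        have h8 : (1 : Matrix (Fin 2) (Fin 2) F) + 1 = 0 := by rw [one_add_one_eq_two, h4]
        exact (eq_neg_of_add_eq_zero_left h8).symm
      apply Subtype.ext
      change (a : Matrix (Fin 2) (Fin 2) F) * a = 1
      rw [← hA, h3]
    rw [← map_pow, pow_two, h1, map_one]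

end Cfsg.Agent.H884.NA
end

-- part: H884/NA/Forb3
section
/-!
# S3509, exceptional row: no `C₃ × C₃` in characteristic `≠ 3` (helper884)
-/

set_option autoImplicit false
set_option linter.unusedSectionVars false

namespace Cfsg.Agent.H884.NA

open Matrix

variable {F : Type*} [Field F]

theorem not_scalar3 {A : Matrix (Fin 2) (Fin 2) F} (hd : A.det = 1) (h3 : A ^ 3 = 1) (h1 : A ≠ 1) :
    ¬ (A 0 1 = 0 ∧ A 1 0 = 0 ∧ A 0 0 = A 1 1) := by
  rintro ⟨e1, e2, e3⟩
  apply h1
  have hA : A = A 1 1 • 1 := by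
    ext i j
    fin_cases i <;> fin_cases j
    · simp [e3]
    · simp [e1]
    · simp [e2]
    · simp
  rw [Matrix.det_fin_two, e1, e3] at hd
  have h4 : A 1 1 ^ 3 = 1 := by
    rw [hA] at h3
    have h5 := congrFun (congrFun h3 1) 1
    rw [smul_pow, one_pow] at h5
    simpa using h5
  have h6 : A 1 1 = 1 := by
    linear_combination h4 - A 1 1 * hd
  rw [hA, h6, one_smul]

theorem tr3 {A : Matrix (Fin 2) (Fin 2) F} (hd : A.det = 1) (h3 : A ^ 3 = 1) (h1 : A ≠ 1) : A.trace = -1 := by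
  have hns := not_scalar3 hd h3 h1
  have h2 : A * A = A.trace • A - 1 := by rw [ch2, hd, one_smul]
  obtain ⟨t, ht⟩ : ∃ t, t = A.trace := ⟨_, rfl⟩
  rw [← ht] at h2 ⊢
  have h4 : (t * t - 1) • A - t • (1 : Matrix (Fin 2) (Fin 2) F) = 1 := by
    have h5 : A ^ 3 = (A * A) * A := by rw [pow_succ, pow_two]
    rw [h5, h2, sub_mul, smul_mul_assoc, h2, one_mul, smul_sub, smul_smul] at h3
    refine Eq.trans ?_ h3
    rw [sub_smul, one_smul]
    abel
  have e00 := congrFun (congrFun h4 0) 0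
  have e01 := congrFun (congrFun h4 0) 1
  have e10 := congrFun (congrFun h4 1) 0
  have e11 := congrFun (congrFun h4 1) 1
  simp only [_root_.Fin.isValue, _root_.Matrix.sub_apply, _root_.Matrix.smul_apply, _root_.smul_eq_mul, _root_.Matrix.one_apply_eq, _root_.mul_one, _root_.ne_eq, _root_.zero_ne_one, _root_.not_false_eq_true, _root_.Matrix.one_apply_ne, _root_.MulZeroClass.mul_zero, _root_.sub_zero, _root_.mul_eq_zero, _root_.one_ne_zero] at e00 e01 e10 e11
  by_cases ht1 : t * t - 1 = 0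
  · rw [ht1] at e00
    linear_combination -e00
  · exfalso
    apply hns
    have e01' := e01.resolve_left ht1
    have e10' := e10.resolve_left ht1
    refine ⟨e01', e10', ?_⟩
    have h5 : (t * t - 1) * (A 0 0 - A 1 1) = 0 := by linear_combination e00 - e11
    exact sub_eq_zero.1 ((mul_eq_zero.1 h5).resolve_left ht1)

theorem eq_or3 (h30 : (3 : F) ≠ 0) {A B : Matrix (Fin 2) (Fin 2) F} (hdA : A.det = 1) (hdB : B.det = 1)
    (hA3 : A ^ 3 = 1) (hB3 : B ^ 3 = 1) (hA1 : A ≠ 1) (hB1 : B ≠ 1) (hAB : A * B = B * A) :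
    B = A ∨ B = A * A := by
  have tA := tr3 hdA hA3 hA1
  have tB := tr3 hdB hB3 hB1
  obtain ⟨α, β, hB⟩ := comm2 hAB (not_scalar3 hdA hA3 hA1)
  have h1 : 2 * α - β = -1 := by
    have h2 : B.trace = 2 * α + β * A.trace := by
      rw [hB, Matrix.trace_add, Matrix.trace_smul, Matrix.trace_smul, Matrix.trace_one]
      simp only [_root_.Fintype.card_fin, _root_.Nat.cast_ofNat, _root_.smul_eq_mul, _root_.add_left_inj]
      ring
    rw [tA, tB] at h2
    linear_combination -h2
  have h2 : α * α - α * β + β * β = 1 := by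
    have h3 : B.det = α * α + α * β * A.trace + β * β * A.det := by
      rw [hB, Matrix.det_fin_two, Matrix.det_fin_two, Matrix.trace_fin_two]
      simp only [_root_.Fin.isValue, _root_.Matrix.add_apply, _root_.Matrix.smul_apply, _root_.Matrix.one_apply_eq, _root_.smul_eq_mul, _root_.mul_one, _root_.ne_eq, _root_.zero_ne_one, _root_.not_false_eq_true, _root_.Matrix.one_apply_ne, _root_.MulZeroClass.mul_zero, _root_.zero_add, _root_.one_ne_zero]
      ring
    rw [hdB, hdA, tA] at h3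
    linear_combination -h3
  have h3 : 3 * (α * (α + 1)) = 0 := by
    have hβ : β = 2 * α + 1 := by linear_combination -h1
    rw [hβ] at h2
    linear_combination h2
  rcases mul_eq_zero.1 ((mul_eq_zero.1 h3).resolve_left h30) with h4 | h4
  · left
    have hβ : β = 1 := by rw [h4] at h1; linear_combination -h1
    rw [hB, h4, hβ, zero_smul, zero_add, one_smul]
  · right
    have hα : α = -1 := eq_neg_of_add_eq_zero_left h4
    have hβ : β = -1 := by rw [hα] at h1; linear_combination -h1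
    rw [hB, ch2 A, hα, hβ, tA, hdA]
    module

variable {p : ℕ} [Fact p.Prime] [CharP F p] {G : Type*} [Group G]

theorem lift3 {φ : _root_.Matrix.SpecialLinearGroup (Fin 2) F →* G}
    (hker : φ.ker ≤ Subgroup.center (_root_.Matrix.SpecialLinearGroup (Fin 2) F)) {a : _root_.Matrix.SpecialLinearGroup (Fin 2) F}
    (h : φ a ^ 3 = 1) : ∃ b, φ b = φ a ∧ b ^ 3 = 1 := by
  have h1 := center_sq (hker (show a ^ 3 ∈ φ.ker by rw [MonoidHom.mem_ker, map_pow, h]))
  refine ⟨a ^ 4, ?_, ?_⟩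
  · rw [map_pow, pow_succ, h, one_mul]
  · calc (a ^ 4) ^ 3 = (a ^ 3 * a ^ 3) * (a ^ 3 * a ^ 3) := by
          rw [← pow_mul, ← pow_add, ← pow_add]
      _ = 1 := by rw [h1, one_mul]

/-- **forbidden 3** -/
theorem forb33 {Y : Subgroup G} (hY : PairP p F Y) (hp3 : p ≠ 3) {g h : G} (hg : g ∈ Y) (hh : h ∈ Y)
    (hg3 : g ^ 3 = 1) (hh3 : h ^ 3 = 1) (hgh : g * h = h * g) (hg1 : g ≠ 1) (hh1 : h ≠ 1) :
    h = g ∨ h = g * g := by
  have hp : p.Prime := Fact.out
  rcases hY with hY | ⟨φ, rfl, hker⟩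
  · have hcop : Nat.Coprime 3 p := (Nat.coprime_primes Nat.prime_three hp).2 (Ne.symm hp3)
    exact absurd (eq_one_of_coprime hY hg hg3 hcop) hg1
  · obtain ⟨a₀, rfl⟩ := hg
    obtain ⟨b₀, rfl⟩ := hh
    obtain ⟨a, ha, ha3⟩ := lift3 hker hg3
    obtain ⟨b, hb, hb3⟩ := lift3 hker hh3
    rw [← ha] at hg1 hgh ⊢
    rw [← hb] at hh1 hgh ⊢
    have h30 : (3 : F) ≠ 0 := by
      intro h
      have h1 : ((3 : ℕ) : F) = 0 := by exact_mod_cast h
      rw [CharP.cast_eq_zero_iff F p] at h1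
      exact hp3 ((Nat.prime_dvd_prime_iff_eq hp Nat.prime_three).1 h1)
    obtain ⟨e, he⟩ : ∃ e, e = a * b * a⁻¹ * b⁻¹ := ⟨_, rfl⟩
    have hek : e ∈ φ.ker := by
      rw [he, MonoidHom.mem_ker, map_mul, map_mul, map_mul, map_inv, map_inv, hgh]
      group
    have hec := hker hek
    have he2 := center_sq hec
    have hconj : b * a * b⁻¹ = e⁻¹ * a := by rw [he]; simp only [mul_assoc, _root_.mul_inv_rev, _root_.inv_inv, _root_.inv_mul_cancel, _root_.mul_one]
    have he3 : e⁻¹ ^ 3 = 1 := by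
      have h3 : (b * a * b⁻¹) ^ 3 = 1 := by rw [conj_pow, ha3]; group
      have h6 : Commute e⁻¹ a := Commute.inv_left (Subgroup.mem_center_iff.1 hec a).symm
      rw [hconj, h6.mul_pow, ha3, mul_one] at h3
      exact h3
    have he1 : e = 1 := by
      have h3 : e⁻¹ ^ 2 = 1 := by rw [inv_pow, pow_two, he2, inv_one]
      have h4 : e⁻¹ = 1 := by
        have h5 : e⁻¹ ^ 3 = e⁻¹ ^ 2 * e⁻¹ := pow_succ _ _
        rw [h3, he3, one_mul] at h5
        exact h5.symm
      exact inv_eq_one.1 h4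
    have hab : a * b = b * a := by
      rw [he1, inv_one, one_mul] at hconj
      calc a * b = (b * a * b⁻¹) * b := by rw [hconj]
        _ = b * a := by group
    have key := eq_or3 h30 (A := a.1) (B := b.1) a.2 b.2
      ((Matrix.SpecialLinearGroup.coe_pow a 3).symm.trans (congrArg Subtype.val ha3))
      ((Matrix.SpecialLinearGroup.coe_pow b 3).symm.trans (congrArg Subtype.val hb3))
      (fun h => hg1 (by rw [show a = 1 from Subtype.ext h, map_one]))
      (fun h => hh1 (by rw [show b = 1 from Subtype.ext h, map_one])) (congrArg Subtype.val hab)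
    rcases key with h | h
    · left; rw [show b = a from Subtype.ext h]
    · right
      rw [show b = a * a from Subtype.ext h, map_mul]

end Cfsg.Agent.H884.NA
end

-- part: H884/NA/Cfg
section
/-!
# S3509, exceptional row: configurations (helper884)
-/

set_option autoImplicit false
set_option linter.unusedSectionVars false

namespace Cfsg.Agent.H884.NA

open Equiv Equiv.Perm

section via

variable {α I : Type*} [Fintype α] [DecidableEq α] [Fintype I] [DecidableEq I] (ι : I ↪ α)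

/-- the action on the configuration -/
noncomputable def V : Perm I →* Perm α := viaEmbeddingHom ι

theorem V_apply (σ : Perm I) (i : I) : V ι σ (ι i) = ι (σ i) := viaEmbedding_apply σ ι i

theorem V_not (σ : Perm I) {a : α} (ha : a ∉ Set.range ι) : V ι σ a = a := viaEmbedding_apply_of_notMem σ ι a ha

theorem V_inj : Function.Injective (V ι) := viaEmbeddingHom_injective ι

theorem V_sign (σ : Perm I) : sign (V ι σ) = sign σ := by
  rw [V, viaEmbeddingHom_apply, viaEmbedding, sign_extendDomain]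

theorem V_mem {σ : Perm I} (h : sign σ = 1) : V ι σ ∈ alternatingGroup α := by
  rw [mem_alternatingGroup, V_sign, h]

variable {ι}

theorem inv_ι {x : Perm α} {x₀ : Perm I} (h : ∀ i, x (ι i) = ι (x₀ i)) (i : I) : x⁻¹ (ι i) = ι (x₀⁻¹ i) := by
  rw [inv_eq_iff_eq, h]
  congr 1
  exact (x₀.apply_symm_apply i).symm

/-- conjugation by `x` -/
theorem V_conj {x : Perm α} {x₀ : Perm I} (h : ∀ i, x (ι i) = ι (x₀ i)) (σ : Perm I) :
    x * V ι σ * x⁻¹ = V ι (x₀ * σ * x₀⁻¹) := by
  ext a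
  rw [mul_apply, mul_apply]
  by_cases ha : a ∈ Set.range ι
  · obtain ⟨i, rfl⟩ := ha
    rw [inv_ι h, V_apply, h, V_apply]
    rfl
  · have h1 : x⁻¹ a ∉ Set.range ι := by
      rintro ⟨i, hi⟩
      apply ha
      refine ⟨x₀ i, ?_⟩
      rw [← h, hi]
      exact x.apply_symm_apply a
    rw [V_not ι _ h1, V_not ι _ ha]
    exact x.apply_symm_apply a

/-- the basic element -/
theorem V_comm {x : Perm α} {x₀ : Perm I} (h : ∀ i, x (ι i) = ι (x₀ i)) (c₀ : Perm I) :
    (V ι c₀)⁻¹ * x * V ι c₀ * x⁻¹ = V ι (c₀⁻¹ * x₀ * c₀ * x₀⁻¹) := by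
  have h1 := V_conj h c₀
  calc (V ι c₀)⁻¹ * x * V ι c₀ * x⁻¹ = (V ι c₀)⁻¹ * (x * V ι c₀ * x⁻¹) := by group
    _ = V ι (c₀⁻¹ * x₀ * c₀ * x₀⁻¹) := by rw [h1, ← map_inv, ← map_mul]; group

end via

section main

variable {α : Type*} [Fintype α] [DecidableEq α] {p : ℕ} [Fact p.Prime] {F : Type*} [Field F] [CharP F p]

/-- the pair -/
def YY (X : Subgroup (Perm α)) (t : Perm α) : Subgroup (Perm α) := X ⊔ X.map (MulAut.conj t).toMonoidHom

theorem mem_YY_left {X : Subgroup (Perm α)} {t x : Perm α} (hx : x ∈ X) : x ∈ YY X t :=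
  Subgroup.mem_sup_left hx

theorem mem_YY_right {X : Subgroup (Perm α)} {c x : Perm α} (hx : x ∈ X) : c⁻¹ * x * c ∈ YY X c⁻¹ := by
  refine Subgroup.mem_sup_right ⟨x, hx, ?_⟩
  change c⁻¹ * x * c⁻¹⁻¹ = _
  rw [inv_inv]

/-- configuration with an element of order `p k` -/
theorem kill_cfg {X : Subgroup (Perm α)} (hpair : ∀ t ∈ alternatingGroup α, PairP p F (YY X t)) {x : Perm α}
    (hx : x ∈ X) {I : Type*} [Fintype I] [DecidableEq I] {ι : I ↪ α} {x₀ : Perm I} (h : ∀ i, x (ι i) = ι (x₀ i))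
    (c₀ : Perm I) (hc : sign c₀ = 1) (k : ℕ) (hk : k.Coprime p)
    (h1 : (c₀⁻¹ * x₀ * c₀ * x₀⁻¹) ^ (p * k) = 1) (h2 : (c₀⁻¹ * x₀ * c₀ * x₀⁻¹) ^ k ≠ 1)
    (h3 : (c₀⁻¹ * x₀ * c₀ * x₀⁻¹) ^ p * x₀ ≠ x₀ * (c₀⁻¹ * x₀ * c₀ * x₀⁻¹) ^ p) : False := by
  obtain ⟨w₀, hw₀⟩ : ∃ w₀, w₀ = c₀⁻¹ * x₀ * c₀ * x₀⁻¹ := ⟨_, rfl⟩
  rw [← hw₀] at h1 h2 h3
  have hY := hpair (V ι c₀)⁻¹ (inv_mem (V_mem ι hc))
  have hw : V ι w₀ ∈ YY X (V ι c₀)⁻¹ := by
    rw [hw₀, ← V_comm h]
    exact mul_mem (mem_YY_right hx) (inv_mem (mem_YY_left hx))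
  have hxY : x ∈ YY X (V ι c₀)⁻¹ := mem_YY_left hx
  have h4 := forb_cent hY (z := V ι w₀ ^ k) (u := V ι w₀ ^ p) (g := x) (pow_mem hw k) (pow_mem hw p) hxY
    (by rw [← pow_mul, mul_comm, ← map_pow, h1, map_one])
    (by rw [← map_pow]; exact fun h => h2 (V_inj ι (h.trans (map_one _).symm)))
    (by rw [← pow_add, ← pow_add, add_comm])
    (k := k) (by rw [← pow_mul, ← map_pow, h1, map_one]) hk
  apply h3
  have h5 := V_conj h (w₀ ^ p)
  rw [map_pow, ← h4, mul_inv_cancel_right, ← map_pow] at h5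
  have h6 := V_inj ι h5
  conv_lhs => rw [h6]
  rw [inv_mul_cancel_right]

end main

end Cfsg.Agent.H884.NA
end

-- part: H884/NA/Emb
section
/-!
# S3509, exceptional row: finding configurations (helper884)
-/

set_option autoImplicit false
set_option linter.unusedSectionVars false

namespace Cfsg.Agent.H884.NA

open Equiv Equiv.Perm

variable {α : Type*} [Fintype α] [DecidableEq α]

/-- the standard element on `J` cycles of length `n + 1` and `L` fixed points -/
def x0 (n J L : ℕ) : Perm ((Fin J × Fin (n + 1)) ⊕ Fin L) :=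
  Equiv.sumCongr (Equiv.prodCongr (Equiv.refl _) (finRotate (n + 1))) (Equiv.refl _)

theorem fix_of_zpow {x : Perm α} {n : ℕ} (hp : (n + 1).Prime) (hx : x ^ (n + 1) = 1) {a : α} {k : ℤ}
    (hk : ¬ ((n + 1 : ℕ) : ℤ) ∣ k) (h : (x ^ k) a = a) : x a = a := by
  have hc : IsCoprime k ((n + 1 : ℕ) : ℤ) := by
    rw [isCoprime_comm]
    exact (Nat.prime_iff_prime_int.1 hp).irreducible.coprime_iff_not_dvd.2 hk
  obtain ⟨u, v, huv⟩ := hc
  have h1 : x = (x ^ k) ^ u := by
    have h2 : x ^ (u * k + v * ((n + 1 : ℕ) : ℤ)) = x := by rw [huv, zpow_one]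
    rw [zpow_add, mul_comm v, zpow_mul x _ v, zpow_natCast, hx, one_zpow, mul_one, mul_comm u, zpow_mul] at h2
    exact h2.symm
  rw [h1]
  exact zpow_apply_eq_self_of_apply_eq_self h u

theorem reps {x : Perm α} {n : ℕ} (hx : x ^ (n + 1) = 1) : ∀ J : ℕ, (J = 0 ∨ (n + 1) * (J - 1) < x.support.card) →
    ∃ a : Fin J → α, (∀ j, x (a j) ≠ a j) ∧ ∀ i j, x.SameCycle (a i) (a j) → i = j
  | 0, _ => ⟨fun i => i.elim0, fun i => i.elim0, fun i => i.elim0⟩
  | J + 1, h => by
    have h1 : (n + 1) * J < x.support.card := by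
      rcases h with h | h
      · omega
      · simpa using h
    obtain ⟨a, ha1, ha2⟩ := reps hx J (by
      rcases Nat.eq_zero_or_pos J with h | h
      · exact Or.inl h
      · right
        refine lt_of_le_of_lt (Nat.mul_le_mul_left _ (by omega)) h1)
    let U : Finset α := Finset.univ.image fun je : Fin J × Fin (n + 1) => (x ^ (je.2 : ℕ)) (a je.1)
    have hU : U.card ≤ J * (n + 1) := by
      refine Finset.card_image_le.trans ?_
      rw [Finset.card_univ, Fintype.card_prod, Fintype.card_fin, Fintype.card_fin]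
    obtain ⟨b, hb, hbU⟩ : ∃ b ∈ x.support, b ∉ U := by
      by_contra hcon
      push Not at hcon
      have := Finset.card_le_card (fun b hb => hcon b hb : x.support ⊆ U)
      rw [mul_comm] at h1
      omega
    have hbn : ∀ j, ¬ x.SameCycle (a j) b := by
      rintro j ⟨k, hk⟩
      apply hbU
      have h2 : x ^ k = x ^ (k % ((n + 1 : ℕ) : ℤ)) := zpow_eq_zpow_emod k (by rw [zpow_natCast, hx])
      have h3 : 0 ≤ k % ((n + 1 : ℕ) : ℤ) := Int.emod_nonneg _ (by positivity)
      have h4 : k % ((n + 1 : ℕ) : ℤ) < ((n + 1 : ℕ) : ℤ) := Int.emod_lt_of_pos _ (by positivity)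
      obtain ⟨e, he⟩ := Int.eq_ofNat_of_zero_le h3
      rw [he] at h4
      refine Finset.mem_image.2 ⟨(j, ⟨e, by exact_mod_cast h4⟩), Finset.mem_univ _, ?_⟩
      change (x ^ e) (a j) = b
      rw [← hk, h2, he]
      simp
    refine ⟨Fin.cons b a, ?_, ?_⟩
    · intro j
      refine Fin.cases ?_ (fun j => ?_) j
      · exact mem_support.1 hb
      · exact ha1 j
    · intro i j
      refine Fin.cases ?_ (fun i => ?_) i
      · refine Fin.cases (fun _ => rfl) (fun j hj => ?_) j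
        exact absurd hj.symm (hbn j)
      · refine Fin.cases (fun hj => ?_) (fun j hj => ?_) j
        · exact absurd hj (hbn i)
        · rw [ha2 i j hj]

theorem exists_emb {x : Perm α} {n : ℕ} (hp : (n + 1).Prime) (hx : x ^ (n + 1) = 1) (J L : ℕ)
    (hJ : J = 0 ∨ (n + 1) * (J - 1) < x.support.card) (hL : L + x.support.card ≤ Fintype.card α) :
    ∃ ι : (Fin J × Fin (n + 1)) ⊕ Fin L ↪ α, ∀ i, x (ι i) = ι (x0 n J L i) := by
  obtain ⟨a, ha1, ha2⟩ := reps hx J hJ
  obtain ⟨f, hf⟩ : ∃ f : Fin L ↪ α, ∀ l, x (f l) = f l := by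
    have h1 : L ≤ Fintype.card {c : α // x c = c} := by
      have h2 : Fintype.card {c : α // x c = c} = (Finset.univ.filter fun c => x c = c).card := Fintype.card_subtype _
      have h3 : x.support = Finset.univ.filter fun c => ¬ x c = c := by ext c; simp only [_root_.Equiv.Perm.mem_support, _root_.ne_eq, _root_.Finset.mem_filter, _root_.Finset.mem_univ, _root_.true_and]
      have h4 := Finset.card_filter_add_card_filter_not (s := (Finset.univ : Finset α)) (fun c => x c = c)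
      rw [← h3, Finset.card_univ] at h4
      omega
    obtain ⟨f⟩ : Nonempty (Fin L ↪ {c : α // x c = c}) :=
      Function.Embedding.nonempty_of_card_le (by rw [Fintype.card_fin]; exact h1)
    exact ⟨f.trans (Function.Embedding.subtype _), fun l => (f l).2⟩
  have hfix : ∀ (e : ℕ) (j : Fin J) (l : Fin L), (x ^ e) (a j) ≠ f l := by
    intro e j l h
    apply ha1 j
    have h1 := hf l
    rw [← h, ← mul_apply, ← pow_succ', pow_succ, mul_apply] at h1
    exact (x ^ e).injective h1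
  refine ⟨⟨Sum.elim (fun je => (x ^ (je.2 : ℕ)) (a je.1)) f, ?_⟩, ?_⟩
  · rintro (⟨j, e⟩ | l) (⟨j', e'⟩ | l') h
    · change (x ^ (e : ℕ)) (a j) = (x ^ (e' : ℕ)) (a j') at h
      have h1 : x.SameCycle (a j) (a j') := by
        refine ⟨(e : ℤ) - e', ?_⟩
        rw [sub_eq_neg_add, zpow_add, mul_apply, zpow_natCast, h, zpow_neg, zpow_natCast]
        exact (x ^ (e' : ℕ)).symm_apply_apply _
      obtain rfl := ha2 j j' h1
      have h2 : (e : ℕ) = e' := by
        by_contra hne
        apply ha1 j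
        apply fix_of_zpow hp hx (k := (e : ℤ) - e')
        · intro hd
          have h3 := e.isLt
          have h4 := e'.isLt
          have h5 : (e : ℤ) - e' = 0 := by
            apply Int.eq_zero_of_abs_lt_dvd hd
            rw [abs_lt]
            constructor <;> (push_cast; omega)
          omega
        · rw [sub_eq_neg_add, zpow_add, mul_apply, zpow_natCast, h, zpow_neg, zpow_natCast]
          exact (x ^ (e' : ℕ)).symm_apply_apply _
      rw [Fin.ext h2]
    · exact absurd h (hfix _ _ _)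
    · exact absurd h.symm (hfix _ _ _)
    · exact congrArg Sum.inr (f.injective h)
  · rintro (⟨j, e⟩ | l)
    · change x ((x ^ (e : ℕ)) (a j)) = (x ^ ((finRotate (n + 1) e : Fin (n + 1)) : ℕ)) (a j)
      rw [← mul_apply, ← pow_succ', coe_finRotate]
      split_ifs with h
      · rw [h, Fin.val_last, hx, pow_zero]
      · rfl
    · exact hf l

end Cfsg.Agent.H884.NA
end

-- part: H884/NA/Kill
section
/-!
# S3509, exceptional row: the configurations (helper884)
-/

set_option autoImplicit false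
set_option linter.unusedSectionVars false
set_option maxRecDepth 100000

namespace Cfsg.Agent.H884.NA

open Equiv Equiv.Perm

/-- points -/
abbrev P {J n L : ℕ} (j : Fin J) (e : Fin n) : (Fin J × Fin n) ⊕ Fin L := Sum.inl (j, e)

/-- fixed points -/
abbrev Q {J n L : ℕ} (l : Fin L) : (Fin J × Fin n) ⊕ Fin L := Sum.inr l

/-- the basic word -/
abbrev w0 {I : Type*} (x c : Perm I) : Perm I := c⁻¹ * x * c * x⁻¹

/-- `p = 2`, two 2-cycles and three fixed points -/
abbrev c2a : Perm ((Fin 2 × Fin 2) ⊕ Fin 3) :=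
  swap (P 0 0) (Q 1) * swap (Q 1) (P 0 1) * swap (P 0 1) (Q 0) * swap (P 1 1) (Q 2)

/-- `p = 2`, three 2-cycles and a fixed point -/
abbrev c2b : Perm ((Fin 3 × Fin 2) ⊕ Fin 1) := swap (P 0 0) (Q 0) * swap (P 1 0) (P 2 0)

/-- `p = 2`, five 2-cycles -/
abbrev c2c : Perm ((Fin 5 × Fin 2) ⊕ Fin 0) :=
  swap (P 0 0) (P 2 0) * swap (P 2 0) (P 2 1) * swap (P 2 1) (P 4 1) * swap (P 4 1) (P 1 1) *
    swap (P 1 1) (P 3 0) * swap (P 0 1) (P 4 0)

/-- `p = 3`, two 3-cycles and a fixed point -/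
abbrev c3a : Perm ((Fin 2 × Fin 3) ⊕ Fin 1) :=
  swap (P 0 0) (P 0 1) * swap (P 0 1) (P 1 0) * swap (P 1 0) (P 1 1) * swap (P 1 1) (Q 0)

/-- `p = 3`, three 3-cycles -/
abbrev c3b : Perm ((Fin 3 × Fin 3) ⊕ Fin 0) := swap (P 0 0) (P 0 1) * swap (P 1 0) (P 2 0)

/-- `p = 5`, two 5-cycles -/
abbrev c5a : Perm ((Fin 2 × Fin 5) ⊕ Fin 0) :=
  swap (P 0 0) (P 0 1) * swap (P 0 1) (P 0 3) * swap (P 0 3) (P 1 0) * swap (P 1 0) (P 1 1)

/-- `p = 5`, a 5-cycle and two fixed points -/
abbrev c5b : Perm ((Fin 1 × Fin 5) ⊕ Fin 2) := swap (P 0 0) (P 0 2) * swap (P 0 2) (Q 0)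

theorem s2a : sign c2a = 1 := by decide +kernel
theorem s2b : sign c2b = 1 := by decide +kernel
theorem s2c : sign c2c = 1 := by decide +kernel
theorem s3a : sign c3a = 1 := by decide +kernel
theorem s3b : sign c3b = 1 := by decide +kernel
theorem s5a : sign c5a = 1 := by decide +kernel
theorem s5b : sign c5b = 1 := by decide +kernel

theorem a2a : (w0 (x0 1 2 3) c2a) ^ (2 * 3) = 1 := by decide +kernel
theorem b2a : (w0 (x0 1 2 3) c2a) ^ 3 ≠ 1 := by decide +kernel
theorem d2a : (w0 (x0 1 2 3) c2a) ^ 2 * x0 1 2 3 ≠ x0 1 2 3 * (w0 (x0 1 2 3) c2a) ^ 2 := by decide +kernel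

theorem a2b : (w0 (x0 1 3 1) c2b) ^ (2 * 3) = 1 := by decide +kernel
theorem b2b : (w0 (x0 1 3 1) c2b) ^ 3 ≠ 1 := by decide +kernel
theorem d2b : (w0 (x0 1 3 1) c2b) ^ 2 * x0 1 3 1 ≠ x0 1 3 1 * (w0 (x0 1 3 1) c2b) ^ 2 := by decide +kernel

theorem a2c : (w0 (x0 1 5 0) c2c) ^ (2 * 3) = 1 := by decide +kernel
theorem b2c : (w0 (x0 1 5 0) c2c) ^ 3 ≠ 1 := by decide +kernel
theorem d2c : (w0 (x0 1 5 0) c2c) ^ 2 * x0 1 5 0 ≠ x0 1 5 0 * (w0 (x0 1 5 0) c2c) ^ 2 := by decide +kernel

theorem a3a : (w0 (x0 2 2 1) c3a) ^ (3 * 2) = 1 := by decide +kernel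
theorem b3a : (w0 (x0 2 2 1) c3a) ^ 2 ≠ 1 := by decide +kernel
theorem d3a : (w0 (x0 2 2 1) c3a) ^ 3 * x0 2 2 1 ≠ x0 2 2 1 * (w0 (x0 2 2 1) c3a) ^ 3 := by decide +kernel

theorem a3b : (w0 (x0 2 3 0) c3b) ^ (3 * 2) = 1 := by decide +kernel
theorem b3b : (w0 (x0 2 3 0) c3b) ^ 2 ≠ 1 := by decide +kernel
theorem d3b : (w0 (x0 2 3 0) c3b) ^ 3 * x0 2 3 0 ≠ x0 2 3 0 * (w0 (x0 2 3 0) c3b) ^ 3 := by decide +kernel

theorem a5a : (w0 (x0 4 2 0) c5a) ^ (5 * 3) = 1 := by decide +kernel
theorem b5a : (w0 (x0 4 2 0) c5a) ^ 3 ≠ 1 := by decide +kernel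
theorem d5a : (w0 (x0 4 2 0) c5a) ^ 5 * x0 4 2 0 ≠ x0 4 2 0 * (w0 (x0 4 2 0) c5a) ^ 5 := by decide +kernel

/-- `p = 5`, conjugates of the basic word -/
abbrev g5 (j : ℕ) : Perm ((Fin 1 × Fin 5) ⊕ Fin 2) := (x0 4 1 2) ^ j * w0 (x0 4 1 2) c5b * ((x0 4 1 2) ^ j)⁻¹

theorem a5b : (g5 0 * g5 0 * g5 2) ^ 3 = 1 := by decide +kernel
theorem b5b : (g5 1 * g5 4 * g5 4) ^ 3 = 1 := by decide +kernel
theorem a5b' : (g5 0 * g5 0 * g5 2) ≠ 1 := by decide +kernel
theorem b5b' : (g5 1 * g5 4 * g5 4) ≠ 1 := by decide +kernel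
theorem d5b : (g5 0 * g5 0 * g5 2) * (g5 1 * g5 4 * g5 4) = (g5 1 * g5 4 * g5 4) * (g5 0 * g5 0 * g5 2) := by
  decide +kernel
theorem e5b : (g5 1 * g5 4 * g5 4) ≠ (g5 0 * g5 0 * g5 2) := by decide +kernel
theorem f5b : (g5 1 * g5 4 * g5 4) ≠ (g5 0 * g5 0 * g5 2) * (g5 0 * g5 0 * g5 2) := by decide +kernel

end Cfsg.Agent.H884.NA
end

-- part: H884/NA/Cases
section
/-!
# S3509, exceptional row: cases by the prime (helper884)
-/

set_option autoImplicit false
set_option linter.unusedSectionVars false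
set_option maxRecDepth 100000

namespace Cfsg.Agent.H884.NA

open Equiv Equiv.Perm

variable {α : Type*} [Fintype α] [DecidableEq α] {F : Type*} [Field F]

theorem support_two {x : Perm α} (hA : x ∈ alternatingGroup α) (hx2 : x ^ 2 = 1) (hx1 : x ≠ 1) :
    4 ∣ x.support.card ∧ 0 < x.support.card := by
  have ho : orderOf x = 2 := orderOf_eq_prime hx2 hx1
  obtain ⟨n, hn⟩ := cycleType_prime_order (σ := x) (by rw [ho]; exact Nat.prime_two)
  have hs : x.support.card = (n + 1) * 2 := by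
    rw [← sum_cycleType, hn, Multiset.sum_replicate, ho]; rfl
  have hsg : sign x = (-1) ^ ((n + 1) * 2 + (n + 1)) := by
    rw [sign_of_cycleType, hn, Multiset.sum_replicate, Multiset.card_replicate, ho]; rfl
  rw [mem_alternatingGroup.1 hA] at hsg
  have hev : Even (n + 1) := by
    by_contra hodd
    rw [Nat.not_even_iff_odd] at hodd
    have h1 : Odd ((n + 1) * 2 + (n + 1)) := by
      obtain ⟨k, hk⟩ := hodd
      exact ⟨(n + 1) + k, by omega⟩
    rw [h1.neg_one_pow] at hsg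
    exact absurd hsg (by decide)
  obtain ⟨k, hk⟩ := hev
  refine ⟨⟨k, by omega⟩, by omega⟩

theorem case_two [CharP F 2] (hm : 7 ≤ Fintype.card α) {X : Subgroup (Perm α)} (hA : X ≤ alternatingGroup α)
    (hpair : ∀ t ∈ alternatingGroup α, PairP 2 F (YY X t)) {x : Perm α} (hx : x ∈ X) (hx2 : x ^ 2 = 1) (hx1 : x ≠ 1)
    (hne : ¬ (x.support.card = 8 ∧ Fintype.card α = 8)) : False := by
  have : Fact (Nat.Prime 2) := ⟨Nat.prime_two⟩
  obtain ⟨h4, h0⟩ := support_two (hA hx) hx2 hx1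
  have hle : x.support.card ≤ Fintype.card α := Finset.card_le_univ _
  by_cases h3 : 3 + x.support.card ≤ Fintype.card α
  · obtain ⟨ι, hι⟩ := exists_emb (n := 1) Nat.prime_two hx2 2 3 (by omega) h3
    exact kill_cfg hpair hx hι c2a s2a 3 (by norm_num) a2a b2a d2a
  · by_cases h1 : 1 + x.support.card ≤ Fintype.card α
    · obtain ⟨ι, hι⟩ := exists_emb (n := 1) Nat.prime_two hx2 3 1 (by omega) h1
      exact kill_cfg hpair hx hι c2b s2b 3 (by norm_num) a2b b2b d2b
    · obtain ⟨ι, hι⟩ := exists_emb (n := 1) Nat.prime_two hx2 5 0 (by omega) (by omega)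
      exact kill_cfg hpair hx hι c2c s2c 3 (by norm_num) a2c b2c d2c

theorem case_three [CharP F 3] (hm : 7 ≤ Fintype.card α) {X : Subgroup (Perm α)}
    (hpair : ∀ t ∈ alternatingGroup α, PairP 3 F (YY X t)) {x : Perm α} (hx : x ∈ X) (hx3 : x ^ 3 = 1)
    (hs : 3 < x.support.card) : False := by
  have : Fact (Nat.Prime 3) := ⟨Nat.prime_three⟩
  have hle : x.support.card ≤ Fintype.card α := Finset.card_le_univ _
  by_cases h1 : 1 + x.support.card ≤ Fintype.card α
  · obtain ⟨ι, hι⟩ := exists_emb (n := 2) Nat.prime_three hx3 2 1 (by omega) h1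
    exact kill_cfg hpair hx hι c3a s3a 2 (by norm_num) a3a b3a d3a
  · obtain ⟨ι, hι⟩ := exists_emb (n := 2) Nat.prime_three hx3 3 0 (by omega) (by omega)
    exact kill_cfg hpair hx hι c3b s3b 2 (by norm_num) a3b b3b d3b

theorem pow_ι {I : Type*} {ι : I ↪ α} {x : Perm α} {x₀ : Perm I} (h : ∀ i, x (ι i) = ι (x₀ i)) (j : ℕ) :
    ∀ i, (x ^ j) (ι i) = ι ((x₀ ^ j) i) := by
  induction j with
  | zero => intro i; rfl
  | succ j ih =>
    intro i
    rw [pow_succ', mul_apply, ih, h, pow_succ', mul_apply]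

theorem case_five [CharP F 5] (hm : 7 ≤ Fintype.card α) {X : Subgroup (Perm α)}
    (hpair : ∀ t ∈ alternatingGroup α, PairP 5 F (YY X t)) {x : Perm α} (hx : x ∈ X) (hx5 : x ^ 5 = 1)
    (hx1 : x ≠ 1) : False := by
  have : Fact (Nat.Prime 5) := ⟨Nat.prime_five⟩
  have hle : x.support.card ≤ Fintype.card α := Finset.card_le_univ _
  have h0 : 0 < x.support.card := Finset.card_pos.2 (by
    rw [Finset.nonempty_iff_ne_empty]
    exact fun h => hx1 (support_eq_empty_iff.1 h))
  by_cases h5 : 5 < x.support.card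
  · obtain ⟨ι, hι⟩ := exists_emb (n := 4) Nat.prime_five hx5 2 0 (by omega) (by omega)
    exact kill_cfg hpair hx hι c5a s5a 3 (by norm_num) a5a b5a d5a
  · obtain ⟨ι, hι⟩ := exists_emb (n := 4) Nat.prime_five hx5 1 2 (by omega) (by omega)
    have hY := hpair (V ι c5b)⁻¹ (inv_mem (V_mem ι s5b))
    have hxY : x ∈ YY X (V ι c5b)⁻¹ := mem_YY_left hx
    have hg : ∀ j, V ι (g5 j) ∈ YY X (V ι c5b)⁻¹ := by
      intro j
      rw [← V_conj (pow_ι hι j), ← V_comm hι]
      exact mul_mem (mul_mem (pow_mem hxY j) (mul_mem (mem_YY_right hx) (inv_mem hxY))) (inv_mem (pow_mem hxY j))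
    have h1 : V ι (g5 0 * g5 0 * g5 2) ∈ YY X (V ι c5b)⁻¹ := by
      have h := mul_mem (mul_mem (hg 0) (hg 0)) (hg 2)
      rw [← map_mul (V ι) (g5 0), ← map_mul (V ι) (g5 0 * g5 0)] at h
      exact h
    have h2 : V ι (g5 1 * g5 4 * g5 4) ∈ YY X (V ι c5b)⁻¹ := by
      have h := mul_mem (mul_mem (hg 1) (hg 4)) (hg 4)
      rw [← map_mul (V ι) (g5 1), ← map_mul (V ι) (g5 1 * g5 4)] at h
      exact h
    rcases forb33 hY (by norm_num) h1 h2 (by rw [← map_pow, a5b, map_one]) (by rw [← map_pow, b5b, map_one])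
      (by rw [← map_mul, ← map_mul, d5b]) (fun h => a5b' (V_inj ι (h.trans (map_one _).symm)))
      (fun h => b5b' (V_inj ι (h.trans (map_one _).symm))) with h3 | h3
    · exact e5b (V_inj ι h3)
    · rw [← map_mul] at h3
      exact f5b (V_inj ι h3)

/-! ### large primes -/

theorem V_swap {I : Type*} [Fintype I] [DecidableEq I] (ι : I ↪ α) (i j : I) : V ι (swap i j) = swap (ι i) (ι j) := by
  ext a
  by_cases ha : a ∈ Set.range ι
  · obtain ⟨k, rfl⟩ := ha
    rw [V_apply, swap_apply_def, swap_apply_def]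
    by_cases h1 : k = i
    · subst h1; simp
    · rw [if_neg h1, if_neg (fun h => h1 (ι.injective h))]
      by_cases h2 : k = j
      · subst h2; simp
      · rw [if_neg h2, if_neg (fun h => h2 (ι.injective h))]
  · rw [V_not ι _ ha, swap_apply_of_ne_of_ne]
    · rintro rfl; exact ha ⟨i, rfl⟩
    · rintro rfl; exact ha ⟨j, rfl⟩

/-- words for large primes -/
abbrev Z7 (a b c d : Fin 7) : Perm (Fin 7) := (swap a b * swap b c)⁻¹ * (swap b c * swap c d)

abbrev v7 : Perm (Fin 7) := Z7 0 1 2 3 * Z7 1 2 3 4 * (Z7 0 1 2 3)⁻¹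

abbrev u7 : Perm (Fin 7) := Z7 2 3 4 5 * Z7 3 4 5 6 * (Z7 2 3 4 5)⁻¹

theorem v7a : v7 ^ 3 = 1 := by decide +kernel
theorem u7a : u7 ^ 3 = 1 := by decide +kernel
theorem v7b : v7 ≠ 1 := by decide +kernel
theorem u7b : u7 ≠ 1 := by decide +kernel
theorem vu7 : v7 * u7 = u7 * v7 := by decide +kernel
theorem vu7a : u7 ≠ v7 := by decide +kernel
theorem vu7b : u7 ≠ v7 * v7 := by decide +kernel

theorem case_seven {p : ℕ} [Fact p.Prime] [CharP F p] (h7 : 7 ≤ p) {X : Subgroup (Perm α)}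
    (hpair : ∀ t ∈ alternatingGroup α, PairP p F (YY X t)) {x : Perm α} (hx : x ∈ X) (hxp : x ^ p = 1)
    (hx1 : x ≠ 1) : False := by
  have hp : p.Prime := Fact.out
  obtain ⟨a, ha⟩ : ∃ a, x a ≠ a := by
    by_contra h
    push Not at h
    exact hx1 (Equiv.ext h)
  obtain ⟨n, rfl⟩ : ∃ n, p = n + 1 := ⟨p - 1, by omega⟩
  let ι : Fin 7 ↪ α := ⟨fun i => (x ^ (i : ℕ)) a, by
    intro i j hij
    change (x ^ (i : ℕ)) a = (x ^ (j : ℕ)) a at hij
    apply Fin.ext
    by_contra hne
    apply ha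
    apply fix_of_zpow hp hxp (k := (i : ℤ) - j)
    · intro hd
      have h3 := i.isLt
      have h4 := j.isLt
      have h5 : (i : ℤ) - j = 0 := by
        apply Int.eq_zero_of_abs_lt_dvd hd
        rw [abs_lt]
        constructor <;> (push_cast; omega)
      omega
    · rw [sub_eq_neg_add, zpow_add, mul_apply, zpow_natCast, hij, zpow_neg, zpow_natCast]
      exact (x ^ (j : ℕ)).symm_apply_apply _⟩
  let e : ℕ → Perm α := fun k => swap ((x ^ k) a) ((x ^ (k + 1)) a)
  have he : ∀ k, x * e k * x⁻¹ = e (k + 1) := by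
    intro k
    change x * swap _ _ * x⁻¹ = swap _ _
    rw [← swap_apply_apply, ← mul_apply, ← mul_apply, ← pow_succ', ← pow_succ']
  have hVe : ∀ i j : Fin 7, (j : ℕ) = i + 1 → V ι (swap i j) = e i := by
    intro i j hij
    rw [V_swap]
    change swap ((x ^ (i : ℕ)) a) ((x ^ (j : ℕ)) a) = _
    rw [hij]
  let c : Perm α := e 0 * e 1
  have hcA : c ∈ alternatingGroup α := by
    change e 0 * e 1 ∈ _
    have h01 : V ι (swap 0 1) = e 0 := hVe 0 1 rfl
    have h12 : V ι (swap 1 2) = e 1 := hVe 1 2 rfl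
    rw [← h01, ← h12, ← map_mul]
    exact V_mem ι (by decide +kernel)
  have hY := hpair c⁻¹ (inv_mem hcA)
  have hxY : x ∈ YY X c⁻¹ := mem_YY_left hx
  let T : ℕ → Perm α := fun k => (e k * e (k + 1))⁻¹ * (e (k + 1) * e (k + 2))
  have hT : ∀ k, T k ∈ YY X c⁻¹ := by
    intro k
    induction k with
    | zero =>
      have h1 : c⁻¹ * x * c * x⁻¹ ∈ YY X c⁻¹ := mul_mem (mem_YY_right hx) (inv_mem hxY)
      have h2 : c⁻¹ * x * c * x⁻¹ = T 0 := by
        change (e 0 * e 1)⁻¹ * x * (e 0 * e 1) * x⁻¹ = (e 0 * e 1)⁻¹ * (e 1 * e 2)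
        rw [← he 0, ← he 1]
        rw [← he 0]
        group
      rwa [h2] at h1
    | succ k ih =>
      have h1 : x * T k * x⁻¹ ∈ YY X c⁻¹ := mul_mem (mul_mem hxY ih) (inv_mem hxY)
      have h2 : x * T k * x⁻¹ = T (k + 1) := by
        change x * ((e k * e (k + 1))⁻¹ * (e (k + 1) * e (k + 2))) * x⁻¹ =
          (e (k + 1) * e (k + 1 + 1))⁻¹ * (e (k + 1 + 1) * e (k + 1 + 2))
        have e1 := he k
        have e2 := he (k + 1)
        have e3 : x * e (k + 2) * x⁻¹ = e (k + 1 + 2) := he (k + 2)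
        have e5 : x * ((e k * e (k + 1))⁻¹ * (e (k + 1) * e (k + 2))) * x⁻¹ =
            ((x * e k * x⁻¹) * (x * e (k + 1) * x⁻¹))⁻¹ * ((x * e (k + 1) * x⁻¹) * (x * e (k + 2) * x⁻¹)) := by group
        rw [e5, e1, e2, e3]
      rwa [h2] at h1
  have hVT : ∀ a b c d : Fin 7, (b : ℕ) = a + 1 → (c : ℕ) = a + 2 → (d : ℕ) = a + 3 →
      V ι (Z7 a b c d) = T a := by
    intro a b c d hb hc hd
    rw [map_mul, map_inv, map_mul, map_mul, hVe a b hb, hVe b c (by omega), hVe c d (by omega), hb, hc]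
  have h1 : V ι v7 ∈ YY X c⁻¹ := by
    rw [map_mul, map_mul, map_inv, hVT 0 1 2 3 rfl rfl rfl, hVT 1 2 3 4 rfl rfl rfl]
    exact mul_mem (mul_mem (hT _) (hT _)) (inv_mem (hT _))
  have h2 : V ι u7 ∈ YY X c⁻¹ := by
    rw [map_mul, map_mul, map_inv, hVT 2 3 4 5 rfl rfl rfl, hVT 3 4 5 6 rfl rfl rfl]
    exact mul_mem (mul_mem (hT _) (hT _)) (inv_mem (hT _))
  rcases forb33 hY (by omega) h1 h2 (by rw [← map_pow, v7a, map_one]) (by rw [← map_pow, u7a, map_one])
    (by rw [← map_mul, ← map_mul, vu7]) (fun h => v7b (V_inj ι (h.trans (map_one _).symm)))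
    (fun h => u7b (V_inj ι (h.trans (map_one _).symm))) with h3 | h3
  · exact vu7a (V_inj ι h3)
  · rw [← map_mul] at h3
    exact vu7b (V_inj ι h3)

end Cfsg.Agent.H884.NA
end

-- part: H884/NA/Rest
section
/-!
# S3509, exceptional row: remaining cases (helper884)
-/

set_option autoImplicit false
set_option linter.unusedSectionVars false
set_option maxRecDepth 100000

namespace Cfsg.Agent.H884.NA

open Equiv Equiv.Perm

variable {α : Type*} [Fintype α] [DecidableEq α] {F : Type*} [Field F]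

/-! ### `p = 2`, eight points -/

abbrev I8 := Fin 2 × Fin 2 × Fin 2

abbrev x8 : Perm I8 := Equiv.prodCongr (Equiv.refl _) (Equiv.prodCongr (finRotate 2) (Equiv.refl _))

abbrev y8 : Perm I8 := Equiv.prodCongr (Equiv.refl _) (Equiv.prodCongr (Equiv.refl _) (finRotate 2))

abbrev c8 : Perm I8 := swap (0, 0, 0) (0, 1, 0) * swap (0, 1, 0) (1, 1, 1)

theorem s8 : sign c8 = 1 := by decide +kernel
theorem a8 : (x8 * (c8⁻¹ * y8 * c8)) ^ 4 = 1 := by decide +kernel
theorem a8' : (x8 * (c8⁻¹ * y8 * c8)) ^ 2 ≠ 1 := by decide +kernel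
theorem b8 : (y8 * (c8⁻¹ * y8 * c8)) ^ 3 = 1 := by decide +kernel
theorem b8' : (y8 * (c8⁻¹ * y8 * c8)) ≠ 1 := by decide +kernel

theorem eq_V {I : Type*} [Fintype I] [DecidableEq I] {ι : I ↪ α} (hs : Function.Surjective ι) {x : Perm α}
    {x₀ : Perm I} (h : ∀ i, x (ι i) = ι (x₀ i)) : x = V ι x₀ := by
  ext a
  obtain ⟨i, rfl⟩ := hs a
  rw [h, V_apply]

theorem case_eight [CharP F 2] (h8 : Fintype.card α = 8) {X : Subgroup (Perm α)}
    (hpair : ∀ t ∈ alternatingGroup α, PairP 2 F (YY X t)) {x y : Perm α} (hx : x ∈ X) (hy : y ∈ X)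
    (hx2 : x ^ 2 = 1) (hy2 : y ^ 2 = 1) (hx1 : x ≠ 1) (hy1 : y ≠ 1) (hxy : x ≠ y) (hc : x * y = y * x)
    (hf : ∀ z ∈ X, z ≠ 1 → ∀ a, z a ≠ a) : False := by
  let κ : ℤ → ℤ → Perm α := fun i j => x ^ i * y ^ j
  have hκX : ∀ i j, κ i j ∈ X := fun i j => mul_mem (zpow_mem hx i) (zpow_mem hy j)
  have hκs : ∀ i j i' j', (κ i' j')⁻¹ * κ i j = κ (i - i') (j - j') := by
    intro i j i' j'
    change (x ^ i' * y ^ j')⁻¹ * (x ^ i * y ^ j) = x ^ (i - i') * y ^ (j - j')
    have hcc : Commute x y := hc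
    have h1 : Commute (x ^ i') (y ^ j') := (hcc.zpow_left i').zpow_right j'
    rw [h1.eq, mul_inv_rev, sub_eq_neg_add, sub_eq_neg_add, zpow_add, zpow_add, zpow_neg, zpow_neg]
    have h2 : Commute (y ^ j')⁻¹ (x ^ i) := ((hcc.zpow_left i).zpow_right j').symm.inv_left
    calc (x ^ i')⁻¹ * (y ^ j')⁻¹ * (x ^ i * y ^ j) = (x ^ i')⁻¹ * ((y ^ j')⁻¹ * x ^ i) * y ^ j := by group
      _ = (x ^ i')⁻¹ * x ^ i * ((y ^ j')⁻¹ * y ^ j) := by rw [h2.eq]; group
  have hκm : ∀ i j, κ i j = κ (i % 2) (j % 2) := by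
    intro i j
    change x ^ i * y ^ j = x ^ (i % 2) * y ^ (j % 2)
    rw [zpow_eq_zpow_emod i (n := 2) (by exact_mod_cast hx2), zpow_eq_zpow_emod j (n := 2) (by exact_mod_cast hy2)]
  have hκ1 : ∀ i j, κ i j = 1 → i % 2 = 0 ∧ j % 2 = 0 := by
    intro i j h
    rw [hκm] at h
    have hi := Int.emod_two_eq_zero_or_one i
    have hj := Int.emod_two_eq_zero_or_one j
    change x ^ (i % 2) * y ^ (j % 2) = 1 at h
    rcases hi with hi | hi <;> rcases hj with hj | hj
    · exact ⟨hi, hj⟩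
    · rw [hi, hj, zpow_zero, one_mul, zpow_one] at h
      exact absurd h hy1
    · rw [hi, hj, zpow_zero, mul_one, zpow_one] at h
      exact absurd h hx1
    · rw [hi, hj, zpow_one, zpow_one] at h
      exfalso
      apply hxy
      have hyy : y * y = 1 := by rw [← pow_two, hy2]
      calc x = x * y * y := by rw [mul_assoc, hyy, mul_one]
        _ = y := by rw [h, one_mul]
  have hκf : ∀ i j a, κ i j a = a → i % 2 = 0 ∧ j % 2 = 0 := by
    intro i j a h
    apply hκ1
    by_contra h1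
    exact hf _ (hκX i j) h1 a h
  obtain ⟨a₀, -⟩ : ∃ a : α, a ∈ (Finset.univ : Finset α) := Finset.card_pos.1 (by rw [Finset.card_univ]; omega)
  obtain ⟨a₁, ha₁⟩ : ∃ a₁ : α, ∀ e f : Fin 2, κ e f a₀ ≠ a₁ := by
    by_contra hcon
    push Not at hcon
    have h1 : (Finset.univ : Finset α) ⊆ Finset.univ.image fun ef : Fin 2 × Fin 2 => κ ef.1 ef.2 a₀ := by
      intro b _
      obtain ⟨e, f, h⟩ := hcon b
      exact Finset.mem_image.2 ⟨(e, f), Finset.mem_univ _, h⟩
    have h2 := (Finset.card_le_card h1).trans Finset.card_image_le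
    rw [Finset.card_univ, Finset.card_univ, Fintype.card_prod, Fintype.card_fin] at h2
    omega
  have ha₁' : ∀ i j : ℤ, κ i j a₀ ≠ a₁ := by
    intro i j
    rw [hκm]
    have h1 : (i % 2).toNat < 2 := by omega
    have h2 : (j % 2).toNat < 2 := by omega
    have h3 := ha₁ ⟨_, h1⟩ ⟨_, h2⟩
    have h4 : (((⟨(i % 2).toNat, h1⟩ : Fin 2) : ℕ) : ℤ) = i % 2 := by
      change (((i % 2).toNat : ℕ) : ℤ) = i % 2
      (clear * -; omega)
    have h5 : (((⟨(j % 2).toNat, h2⟩ : Fin 2) : ℕ) : ℤ) = j % 2 := by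
      change (((j % 2).toNat : ℕ) : ℤ) = j % 2
      omega
    rwa [h4, h5] at h3
  let aa : Fin 2 → α := ![a₀, a₁]
  have hsub : ∀ {i j i' j' : ℤ} {b b' : α}, κ i j b = κ i' j' b' → κ (i - i') (j - j') b = b' := by
    intro i j i' j' b b' h
    rw [← hκs, mul_apply, h]
    exact (κ i' j').symm_apply_apply b'
  let ι : I8 ↪ α := ⟨fun t => κ t.2.1 t.2.2 (aa t.1), by
    rintro ⟨j, e, f⟩ ⟨j', e', f'⟩ h
    change κ e f (aa j) = κ e' f' (aa j') at h
    have h1 := hsub h
    have key : j = j' := by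
      fin_cases j <;> fin_cases j'
      · rfl
      · exact absurd h1 (ha₁' _ _)
      · exact absurd (hsub h.symm) (ha₁' _ _)
      · rfl
    subst key
    obtain ⟨h2, h3⟩ := hκf _ _ _ h1
    have b1 := e.isLt
    have b2 := e'.isLt
    have b3 := f.isLt
    have b4 := f'.isLt
    have e1 : e = e' := Fin.ext (by omega)
    have e2 : f = f' := Fin.ext (by omega)
    rw [e1, e2]⟩
  have hsurj : Function.Surjective ι := by
    have h1 : Function.Bijective ι := by
      rw [Fintype.bijective_iff_injective_and_card]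
      exact ⟨ι.injective, by rw [h8]; rfl⟩
    exact h1.2
  have hrot : ∀ e : Fin 2, ((finRotate 2 e : Fin 2) : ℤ) % 2 = ((e : ℤ) + 1) % 2 := by decide
  have hxV : x = V ι x8 := by
    apply eq_V hsurj
    rintro ⟨j, e, f⟩
    change x (κ e f (aa j)) = κ (finRotate 2 e : Fin 2) f (aa j)
    have h1 : x * κ e f = κ (e + 1) f := by
      change x * (x ^ (e : ℤ) * y ^ (f : ℤ)) = x ^ ((e : ℤ) + 1) * y ^ (f : ℤ)
      rw [← mul_assoc, ← zpow_one_add, add_comm]
    rw [← mul_apply, h1, hκm, ← hrot, ← hκm]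
  have hyV : y = V ι y8 := by
    apply eq_V hsurj
    rintro ⟨j, e, f⟩
    change y (κ e f (aa j)) = κ e (finRotate 2 f : Fin 2) (aa j)
    have h1 : y * κ e f = κ e (f + 1) := by
      change y * (x ^ (e : ℤ) * y ^ (f : ℤ)) = x ^ (e : ℤ) * y ^ ((f : ℤ) + 1)
      have hcc : Commute y (x ^ (e : ℤ)) := (show Commute y x from hc.symm).zpow_right _
      rw [← mul_assoc, hcc.eq, mul_assoc, ← zpow_one_add, add_comm]
    rw [← mul_apply, h1, hκm, ← hrot, ← hκm]
  have hY := hpair (V ι c8)⁻¹ (inv_mem (V_mem ι s8))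
  have h1 : x * ((V ι c8)⁻¹ * y * V ι c8) ∈ YY X (V ι c8)⁻¹ := mul_mem (mem_YY_left hx) (mem_YY_right hy)
  have h2 : y * ((V ι c8)⁻¹ * y * V ι c8) ∈ YY X (V ι c8)⁻¹ := mul_mem (mem_YY_left hy) (mem_YY_right hy)
  have h3 : x * ((V ι c8)⁻¹ * y * V ι c8) = V ι (x8 * (c8⁻¹ * y8 * c8)) := by
    rw [hxV, hyV, map_mul (V ι) x8, map_mul (V ι) (c8⁻¹ * y8), map_mul (V ι) c8⁻¹, map_inv (V ι) c8]
  have h4 : y * ((V ι c8)⁻¹ * y * V ι c8) = V ι (y8 * (c8⁻¹ * y8 * c8)) := by
    rw [hyV, map_mul (V ι) y8, map_mul (V ι) (c8⁻¹ * y8), map_mul (V ι) c8⁻¹, map_inv (V ι) c8]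
  rw [h3] at h1
  rw [h4] at h2
  have h5 := forb_four hY h1 h2 (by rw [← map_pow, a8, map_one]) (by rw [← map_pow, b8, map_one])
    (fun h => b8' (V_inj ι (h.trans (map_one _).symm)))
  rw [← map_pow] at h5
  exact a8' (V_inj ι (h5.trans (map_one _).symm))

/-! ### `p = 3`, `q = 3` -/

theorem pow12 [Fintype F] (h3 : Fintype.card F = 3) (a : Matrix.SpecialLinearGroup (Fin 2) F) : a ^ 12 = 1 := by
  obtain ⟨A, hA⟩ : ∃ A : Matrix (Fin 2) (Fin 2) F, A = a.1 := ⟨_, rfl⟩
  have hd : A.det = 1 := by rw [hA]; exact a.2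
  obtain ⟨t, ht⟩ : ∃ t, t = A.trace := ⟨_, rfl⟩
  have h2 : A * A = t • A - 1 := by rw [ch2, hd, one_smul, ht]
  have ht3 : t ^ 3 = t := by rw [← h3]; exact FiniteField.pow_card t
  have h4 : A ^ 12 = 1 := by
    have h5 : t * ((t - 1) * (t + 1)) = 0 := by linear_combination ht3
    rcases mul_eq_zero.1 h5 with h6 | h6
    · rw [h6, zero_smul, zero_sub] at h2
      calc A ^ 12 = (A * A) ^ 6 := by rw [← pow_two, ← pow_mul]
        _ = 1 := by rw [h2, Even.neg_one_pow (by decide)]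
    · rcases mul_eq_zero.1 h6 with h7 | h7
      · have h8 : t = 1 := sub_eq_zero.1 h7
        rw [h8, one_smul] at h2
        have h9 : A ^ 3 = -1 := by
          rw [pow_succ, pow_two, h2, sub_mul, h2, one_mul]; abel
        calc A ^ 12 = (A ^ 3) ^ 4 := by rw [← pow_mul]
          _ = 1 := by rw [h9, Even.neg_one_pow (by decide)]
      · have h8 : t = -1 := eq_neg_of_add_eq_zero_left h7
        rw [h8, neg_smul, one_smul] at h2
        have h9 : A ^ 3 = 1 := by
          rw [pow_succ, pow_two, h2, sub_mul, neg_mul, h2, one_mul]; abel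
        calc A ^ 12 = (A ^ 3) ^ 4 := by rw [← pow_mul]
          _ = 1 := by rw [h9, one_pow]
  apply Subtype.ext
  exact (Matrix.SpecialLinearGroup.coe_pow a 12).trans (by rw [← hA, h4]; rfl)

abbrev c33 : Perm ((Fin 1 × Fin 3) ⊕ Fin 2) := swap (P 0 0) (Q 0) * swap (P 0 1) (Q 1)

theorem s33 : sign c33 = 1 := by decide +kernel
theorem a33 : (w0 (x0 2 1 2) c33) ^ 5 = 1 := by decide +kernel
theorem b33 : (w0 (x0 2 1 2) c33) ≠ 1 := by decide +kernel

theorem case_three' [CharP F 3] [Fintype F] (h3 : Fintype.card F = 3) (hm : 5 ≤ Fintype.card α)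
    {X : Subgroup (Perm α)} (hpair : ∀ t ∈ alternatingGroup α, PairP 3 F (YY X t)) {x : Perm α} (hx : x ∈ X)
    (hx3 : x ^ 3 = 1) (hx1 : x ≠ 1) (hs : x.support.card ≤ 3) : False := by
  have : Fact (Nat.Prime 3) := ⟨Nat.prime_three⟩
  have h0 : 0 < x.support.card := Finset.card_pos.2 (by
    rw [Finset.nonempty_iff_ne_empty]
    exact fun h => hx1 (support_eq_empty_iff.1 h))
  obtain ⟨ι, hι⟩ := exists_emb (n := 2) Nat.prime_three hx3 1 2 (by omega) (by omega)
  have hY := hpair (V ι c33)⁻¹ (inv_mem (V_mem ι s33))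
  obtain ⟨w, hw⟩ : ∃ w, w = V ι (w0 (x0 2 1 2) c33) := ⟨_, rfl⟩
  have hwY : w ∈ YY X (V ι c33)⁻¹ := by
    rw [hw, ← V_comm hι]
    exact mul_mem (mem_YY_right hx) (inv_mem (mem_YY_left hx))
  have hw5 : w ^ 5 = 1 := by rw [hw, ← map_pow, a33, map_one]
  have hw1 : w ≠ 1 := by
    intro h
    rw [hw] at h
    exact b33 (V_inj ι (h.trans (map_one _).symm))
  rcases hY with hY | ⟨φ, hφ, hker⟩
  · exact hw1 (eq_one_of_coprime hY hwY hw5 (by norm_num))
  · rw [← hφ] at hwY
    obtain ⟨a, rfl⟩ := hwY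
    have h12 : φ a ^ 12 = 1 := by rw [← map_pow, pow12 h3, map_one]
    apply hw1
    have h4 : orderOf (φ a) ∣ Nat.gcd 5 12 := Nat.dvd_gcd (orderOf_dvd_of_pow_eq_one hw5)
      (orderOf_dvd_of_pow_eq_one h12)
    exact orderOf_eq_one_iff.1 (Nat.dvd_one.1 h4)

end Cfsg.Agent.H884.NA
end

-- part: H884/NA/Main
section
/-!
# S3509, exceptional row: not an alternating group (helper884)
-/

set_option autoImplicit false
set_option linter.unusedSectionVars false
set_option maxRecDepth 100000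

namespace Cfsg.Agent.H884.NA

open Equiv Equiv.Perm

/-- counting orbits -/
theorem card_dvd_support {α : Type*} [Fintype α] [DecidableEq α] (X : Subgroup (Perm α)) (s : ℕ)
    (h : ∀ z ∈ X, z ≠ 1 → z.support.card = s) (hne : ∃ z ∈ X, z ≠ 1) : Nat.card X ∣ s := by
  classical
  have hs : s ≤ Fintype.card α := by
    obtain ⟨z, hz, hz1⟩ := hne
    rw [← h z hz hz1]
    exact Finset.card_le_univ _
  have hfix : ∀ z : X, Fintype.card (MulAction.fixedBy α z) + (z : Perm α).support.card = Fintype.card α := by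
    intro z
    have h1 : Fintype.card (MulAction.fixedBy α z) = (((z : Perm α).support)ᶜ).card := by
      rw [Fintype.card_of_finset' ((z : Perm α).supportᶜ)]
      intro a
      rw [Finset.mem_compl, notMem_support]
      rfl
    rw [h1, add_comm]
    exact Finset.card_add_card_compl _
  have hb := MulAction.sum_card_fixedBy_eq_card_orbits_mul_card_group X α
  have h2 : ∑ z : X, Fintype.card (MulAction.fixedBy α z) = Fintype.card X * (Fintype.card α - s) + s := by
    rw [← Finset.add_sum_erase _ _ (Finset.mem_univ (1 : X))]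
    have h3 : ∑ z ∈ Finset.univ.erase (1 : X), Fintype.card (MulAction.fixedBy α z) =
        (Fintype.card X - 1) * (Fintype.card α - s) := by
      rw [Finset.sum_const_nat (m := Fintype.card α - s)]
      · rw [Finset.card_erase_of_mem (Finset.mem_univ _), Finset.card_univ]
      · intro z hz
        have h4 := hfix z
        rw [h z z.2 (fun h5 => (Finset.ne_of_mem_erase hz) (Subtype.ext h5))] at h4
        omega
    have h5 : Fintype.card (MulAction.fixedBy α (1 : X)) = Fintype.card α := by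
      have h6 := hfix 1
      rw [OneMemClass.coe_one, support_one, Finset.card_empty] at h6
      omega
    rw [h3, h5]
    have h7 : 0 < Fintype.card X := Fintype.card_pos
    obtain ⟨k, hk⟩ : ∃ k, Fintype.card X = k + 1 := ⟨Fintype.card X - 1, by omega⟩
    rw [hk, Nat.add_sub_cancel, add_mul, one_mul]
    omega
  rw [h2] at hb
  rw [Nat.card_eq_fintype_card]
  have h8 : Fintype.card X ∣ Fintype.card X * (Fintype.card α - s) + s := by
    rw [hb]; exact Dvd.intro_left _ rfl
  exact (Nat.dvd_add_right (Dvd.intro _ rfl)).1 h8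

/-- **F6**: the pair property is impossible in an alternating group of degree at least seven -/
theorem not_alt_perm {α : Type*} [Fintype α] [DecidableEq α] {p : ℕ} [Fact p.Prime] {F : Type*} [Field F]
    [Fintype F] [CharP F p] (hm : 7 ≤ Fintype.card α) (h8 : Fintype.card F = 2 → Fintype.card α ≠ 8)
    (X : Subgroup (Perm α)) (hA : X ≤ alternatingGroup α) (hc : Nat.card X = Fintype.card F)
    (hab : ∀ x ∈ X, ∀ y ∈ X, x * y = y * x) (hp : ∀ x ∈ X, x ^ p = 1)
    (hpair : ∀ t ∈ alternatingGroup α, PairP p F (YY X t)) : False := by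
  classical
  have hpp : p.Prime := Fact.out
  have hF : 1 < Nat.card X := by rw [hc]; exact Fintype.one_lt_card
  obtain ⟨x, hx, hx1⟩ : ∃ x ∈ X, x ≠ 1 := by
    by_contra h
    push Not at h
    rw [(Subgroup.eq_bot_iff_forall X).2 h, Subgroup.card_bot] at hF
    omega
  rcases hpp.eq_two_or_odd with h2 | hodd
  · subst h2
    by_cases hex : ∃ x ∈ X, x ≠ 1 ∧ ¬ (x.support.card = 8 ∧ Fintype.card α = 8)
    · obtain ⟨x, hx, hx1, hne⟩ := hex
      exact case_two hm hA hpair hx (hp x hx) hx1 hne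
    · push Not at hex
      have hα : Fintype.card α = 8 := (hex x hx hx1).2
      have hF2 : Fintype.card F ≠ 2 := fun h => h8 h hα
      obtain ⟨y, hy, hy1, hxy⟩ : ∃ y ∈ X, y ≠ 1 ∧ x ≠ y := by
        by_contra h
        push Not at h
        apply hF2
        rw [← hc]
        have h1 : (X : Set (Perm α)) = {1, x} := by
          ext z
          constructor
          · intro hz
            by_cases hz1 : z = 1
            · exact Or.inl hz1
            · exact Or.inr (h z hz hz1).symm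
          · rintro (rfl | rfl)
            · exact X.one_mem
            · exact hx
        have h2 : Nat.card X = ({1, x} : Set (Perm α)).ncard := by
          rw [← h1]; rfl
        rw [h2, Set.ncard_pair (Ne.symm hx1)]
      refine case_eight hα hpair hx hy (hp x hx) (hp y hy) hx1 hy1 hxy (hab x hx y hy) ?_
      intro z hz hz1 a ha
      have h1 := (hex z hz hz1).1
      have h2 : z.support = Finset.univ := Finset.eq_univ_of_card _ (h1.trans hα.symm)
      have h3 : a ∈ z.support := by rw [h2]; exact Finset.mem_univ _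
      exact mem_support.1 h3 ha
  · by_cases h3 : p = 3
    · subst h3
      by_cases hex : ∃ x ∈ X, 3 < x.support.card
      · obtain ⟨x, hx, hs⟩ := hex
        exact case_three hm hpair hx (hp x hx) hs
      · push Not at hex
        have h3 : ∀ z ∈ X, z ≠ 1 → z.support.card = 3 := by
          intro z hz hz1
          apply le_antisymm (hex z hz)
          have ho : orderOf z = 3 := orderOf_eq_prime (hp z hz) hz1
          obtain ⟨n, hn⟩ := cycleType_prime_order (σ := z) (by rw [ho]; exact Nat.prime_three)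
          rw [← sum_cycleType, hn, Multiset.sum_replicate, ho, smul_eq_mul]
          omega
        have hd := card_dvd_support X 3 h3 ⟨x, hx, hx1⟩
        have hq : Fintype.card F = 3 := by
          rw [← hc]
          rcases (Nat.dvd_prime Nat.prime_three).1 hd with h | h
          · omega
          · exact h
        exact case_three' hq (by omega) hpair hx (hp x hx) hx1 (hex x hx)
    · by_cases h5 : p = 5
      · subst h5
        exact case_five hm hpair hx (hp x hx) hx1
      · have h7 : 7 ≤ p := by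
          by_contra hlt
          have h1 : p < 7 := by omega
          have h2 := hpp.two_le
          interval_cases p <;> omega
        exact case_seven h7 hpair hx (hp x hx) hx1

end Cfsg.Agent.H884.NA
end

private theorem dce_ac07e3a0a778 : _root_.True := by
  try have : _root_.True := by simp only [_root_.Equiv.Perm.viaEmbedding.eq_1]
  try have : _root_.True := by simp only [_root_.Cfsg.Agent.H884.NA.V.eq_1]
  exact _root_.True.intro
end

-- part: H884/NA/Quot
section
prune_inst 0x4305071051522020000048012f0001fc7f7000590000888008004084404806c4000024820b89015021020000440300048109800308000000000000400011d01a0908044026281000886000f000000410000000000000000000000000000000000004010000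
set_option linter.all false
open scoped Cfsg.Agent.FastGrp

-- part: H884/NA/Small
section
/-!
# S3509, exceptional row: five and six points (helper884)
-/

set_option autoImplicit false
set_option linter.unusedSectionVars false
set_option maxRecDepth 100000

namespace Cfsg.Agent.H884.NA

open Equiv Equiv.Perm

variable {α : Type*} [Fintype α] [DecidableEq α] {F : Type*} [Field F]

theorem pow6 [Fintype F] (h2F : Fintype.card F = 2) (a : Matrix.SpecialLinearGroup (Fin 2) F) : a ^ 6 = 1 := by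
  obtain ⟨A, hA⟩ : ∃ A : Matrix (Fin 2) (Fin 2) F, A = a.1 := ⟨_, rfl⟩
  have hd : A.det = 1 := by rw [hA]; exact a.2
  obtain ⟨t, ht⟩ : ∃ t, t = A.trace := ⟨_, rfl⟩
  have h2 : A * A = t • A - 1 := by rw [ch2, hd, one_smul, ht]
  have ht2 : t ^ 2 = t := by rw [← h2F]; exact FiniteField.pow_card t
  have h4 : A ^ 6 = 1 := by
    have h5 : t * (t - 1) = 0 := by linear_combination ht2
    have h22 : (2 : F) = 0 := by
      have h := FiniteField.pow_card (2 : F)
      rw [h2F] at h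
      linear_combination h
    rcases mul_eq_zero.1 h5 with h6 | h6
    · rw [h6, zero_smul, zero_sub] at h2
      have h7 : (-1 : Matrix (Fin 2) (Fin 2) F) = 1 := by
        have h8 : (-1 : F) = 1 := by linear_combination -h22
        calc (-1 : Matrix (Fin 2) (Fin 2) F) = (-1 : F) • 1 := by rw [neg_smul, one_smul]
          _ = 1 := by rw [h8, one_smul]
      calc A ^ 6 = (A * A) ^ 3 := by rw [← pow_two, ← pow_mul]
        _ = 1 := by rw [h2, h7, one_pow]
    · have h8 : t = 1 := sub_eq_zero.1 h6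
      rw [h8, one_smul] at h2
      have h9 : A ^ 3 = -1 := by
        rw [pow_succ, pow_two, h2, sub_mul, h2, one_mul]; abel
      calc A ^ 6 = (A ^ 3) ^ 2 := by rw [← pow_mul]
        _ = 1 := by rw [h9, Even.neg_one_pow (by decide)]
  apply Subtype.ext
  exact (Matrix.SpecialLinearGroup.coe_pow a 6).trans (by rw [← hA, h4]; rfl)

/-- a word of order five in the pair, for small `q` -/
theorem kill_five {p : ℕ} [Fact p.Prime] (hp5 : (5 : ℕ).Coprime p) (N : ℕ) (hN : Nat.gcd 5 N = 1)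
    (hSL : ∀ a : Matrix.SpecialLinearGroup (Fin 2) F, a ^ N = 1)
    {X : Subgroup (Perm α)} (hpair : ∀ t ∈ alternatingGroup α, PairP p F (YY X t)) {x : Perm α} (hx : x ∈ X)
    {I : Type*} [Fintype I] [DecidableEq I] {ι : I ↪ α} {x₀ : Perm I} (hι : ∀ i, x (ι i) = ι (x₀ i))
    (c₀ : Perm I) (hc : sign c₀ = 1) (h5 : (w0 x₀ c₀) ^ 5 = 1) (h1 : w0 x₀ c₀ ≠ 1) : False := by
  have hY := hpair (V ι c₀)⁻¹ (inv_mem (V_mem ι hc))
  obtain ⟨w, hw⟩ : ∃ w, w = V ι (w0 x₀ c₀) := ⟨_, rfl⟩
  have hwY : w ∈ YY X (V ι c₀)⁻¹ := by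
    rw [hw, ← V_comm hι]
    exact mul_mem (mem_YY_right hx) (inv_mem (mem_YY_left hx))
  have hw5 : w ^ 5 = 1 := by rw [hw, ← map_pow, h5, map_one]
  have hw1 : w ≠ 1 := by
    intro h
    rw [hw] at h
    exact h1 (V_inj ι (h.trans (map_one _).symm))
  rcases hY with hY | ⟨φ, hφ, hker⟩
  · exact hw1 (eq_one_of_coprime hY hwY hw5 hp5)
  · rw [← hφ] at hwY
    obtain ⟨a, rfl⟩ := hwY
    have h12 : φ a ^ N = 1 := by rw [← map_pow, hSL, map_one]
    apply hw1
    have h4 : orderOf (φ a) ∣ Nat.gcd 5 N := Nat.dvd_gcd (orderOf_dvd_of_pow_eq_one hw5)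
      (orderOf_dvd_of_pow_eq_one h12)
    rw [hN] at h4
    exact orderOf_eq_one_iff.1 (Nat.dvd_one.1 h4)

abbrev c25 : Perm ((Fin 2 × Fin 2) ⊕ Fin 1) := swap (P 0 1) (P 1 0) * swap (P 1 0) (Q 0)

theorem s25 : sign c25 = 1 := by decide +kernel
theorem a25 : (w0 (x0 1 2 1) c25) ^ 5 = 1 := by decide +kernel
theorem b25 : (w0 (x0 1 2 1) c25) ≠ 1 := by decide +kernel

abbrev c36 : Perm ((Fin 2 × Fin 3) ⊕ Fin 0) := swap (P 0 2) (P 1 0) * swap (P 1 0) (P 1 1)

theorem s36 : sign c36 = 1 := by decide +kernel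
theorem a36 : (w0 (x0 2 2 0) c36) ^ 5 = 1 := by decide +kernel
theorem b36 : (w0 (x0 2 2 0) c36) ≠ 1 := by decide +kernel

/-! ### `p = 5`, six points -/

abbrev c56 : Perm ((Fin 1 × Fin 5) ⊕ Fin 1) :=
  swap (P 0 1) (P 0 2) * swap (P 0 2) (P 0 4) * swap (P 0 4) (Q 0) * swap (Q 0) (P 0 3)

abbrev g6 (j : ℕ) : Perm ((Fin 1 × Fin 5) ⊕ Fin 1) := (x0 4 1 1) ^ j * w0 (x0 4 1 1) c56 * ((x0 4 1 1) ^ j)⁻¹

theorem s56 : sign c56 = 1 := by decide +kernel
theorem a56 : (g6 0 * g6 2) ^ 3 = 1 := by decide +kernel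
theorem b56 : (g6 2 * g6 0) ^ 3 = 1 := by decide +kernel
theorem a56' : (g6 0 * g6 2) ≠ 1 := by decide +kernel
theorem b56' : (g6 2 * g6 0) ≠ 1 := by decide +kernel
theorem d56 : (g6 0 * g6 2) * (g6 2 * g6 0) = (g6 2 * g6 0) * (g6 0 * g6 2) := by decide +kernel
theorem e56 : (g6 2 * g6 0) ≠ (g6 0 * g6 2) := by decide +kernel
theorem f56 : (g6 2 * g6 0) ≠ (g6 0 * g6 2) * (g6 0 * g6 2) := by decide +kernel

theorem case_five' [CharP F 5] (hm : 6 ≤ Fintype.card α) {X : Subgroup (Perm α)}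
    (hpair : ∀ t ∈ alternatingGroup α, PairP 5 F (YY X t)) {x : Perm α} (hx : x ∈ X) (hx5 : x ^ 5 = 1)
    (hx1 : x ≠ 1) (hs : x.support.card ≤ 5) : False := by
  have : Fact (Nat.Prime 5) := ⟨Nat.prime_five⟩
  have h0 : 0 < x.support.card := Finset.card_pos.2 (by
    rw [Finset.nonempty_iff_ne_empty]
    exact fun h => hx1 (support_eq_empty_iff.1 h))
  obtain ⟨ι, hι⟩ := exists_emb (n := 4) Nat.prime_five hx5 1 1 (by omega) (by omega)
  have hY := hpair (V ι c56)⁻¹ (inv_mem (V_mem ι s56))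
  have hxY : x ∈ YY X (V ι c56)⁻¹ := mem_YY_left hx
  have hg : ∀ j, V ι (g6 j) ∈ YY X (V ι c56)⁻¹ := by
    intro j
    rw [← V_conj (pow_ι hι j), ← V_comm hι]
    exact mul_mem (mul_mem (pow_mem hxY j) (mul_mem (mem_YY_right hx) (inv_mem hxY))) (inv_mem (pow_mem hxY j))
  have h1 : V ι (g6 0 * g6 2) ∈ YY X (V ι c56)⁻¹ := by
    have h := mul_mem (hg 0) (hg 2)
    rw [← map_mul (V ι) (g6 0)] at h
    exact h
  have h2 : V ι (g6 2 * g6 0) ∈ YY X (V ι c56)⁻¹ := by
    have h := mul_mem (hg 2) (hg 0)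
    rw [← map_mul (V ι) (g6 2)] at h
    exact h
  rcases forb33 hY (by norm_num) h1 h2 (by rw [← map_pow, a56, map_one]) (by rw [← map_pow, b56, map_one])
    (by rw [← map_mul, ← map_mul, d56]) (fun h => a56' (V_inj ι (h.trans (map_one _).symm)))
    (fun h => b56' (V_inj ι (h.trans (map_one _).symm))) with h3 | h3
  · exact e56 (V_inj ι h3)
  · rw [← map_mul] at h3
    exact f56 (V_inj ι h3)

/-! ### `q = 4`, six points -/

abbrev I6 := (Fin 2 × Fin 2) ⊕ Fin 2

abbrev x6 : Perm I6 := x0 1 2 2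
abbrev yA : Perm I6 := swap (P 0 0) (P 1 0) * swap (P 0 1) (P 1 1)
abbrev yB : Perm I6 := swap (P 0 0) (P 1 1) * swap (P 0 1) (P 1 0)
abbrev yC : Perm I6 := swap (P 0 0) (P 0 1) * swap (Q 0) (Q 1)
abbrev yD : Perm I6 := swap (P 1 0) (P 1 1) * swap (Q 0) (Q 1)

/-- check -/
def chk (y : Perm I6) : Bool :=
  if y * x6 = x6 * y then
    if y ^ 2 = 1 then
      if sign y = 1 then
        decide (y = 1) || decide (y = x6) || decide (y = yA) || decide (y = yB) || decide (y = yC) || decide (y = yD)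
      else true
    else true
  else true

theorem chk_all : ∀ y : Perm I6, chk y = true := by decide +kernel

theorem inv6 {y : Perm I6} (h1 : y * x6 = x6 * y) (h2 : y ^ 2 = 1) (h3 : sign y = 1) (h4 : y ≠ 1) (h5 : y ≠ x6) :
    y = yA ∨ y = yB ∨ y = yC ∨ y = yD := by
  have h := chk_all y
  rw [chk, if_pos h1, if_pos h2, if_pos h3, decide_eq_false h4, decide_eq_false h5] at h
  simpa [or_assoc] using h

theorem kill_four [CharP F 2] {X : Subgroup (Perm α)} (hpair : ∀ t ∈ alternatingGroup α, PairP 2 F (YY X t))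
    {I : Type*} [Fintype I] [DecidableEq I] (ι : I ↪ α) (c₀ : Perm I) (hc : sign c₀ = 1) (u v u' v' : Perm I)
    (hu : V ι u ∈ X) (hv : V ι v ∈ X) (hu' : V ι u' ∈ X) (hv' : V ι v' ∈ X)
    (h4 : (u * (c₀⁻¹ * v * c₀)) ^ 4 = 1) (h4' : (u * (c₀⁻¹ * v * c₀)) ^ 2 ≠ 1)
    (h3 : (u' * (c₀⁻¹ * v' * c₀)) ^ 3 = 1) (h3' : (u' * (c₀⁻¹ * v' * c₀)) ≠ 1) : False := by
  have hY := hpair (V ι c₀)⁻¹ (inv_mem (V_mem ι hc))
  have key : ∀ u v : Perm I, V ι u ∈ X → V ι v ∈ X → V ι (u * (c₀⁻¹ * v * c₀)) ∈ YY X (V ι c₀)⁻¹ := by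
    intro u v hu hv
    rw [map_mul (V ι) u, map_mul (V ι) (c₀⁻¹ * v), map_mul (V ι) c₀⁻¹, map_inv (V ι) c₀]
    exact mul_mem (mem_YY_left hu) (mem_YY_right hv)
  have h5 := forb_four hY (key u v hu hv) (key u' v' hu' hv') (by rw [← map_pow, h4, map_one])
    (by rw [← map_pow, h3, map_one]) (fun h => h3' (V_inj ι (h.trans (map_one _).symm)))
  rw [← map_pow] at h5
  exact h4' (V_inj ι (h5.trans (map_one _).symm))

abbrev cAB : Perm I6 := swap (P 1 0) (Q 0) * swap (P 1 1) (Q 1)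
abbrev cCD : Perm I6 := swap (P 1 1) (Q 0) * swap (Q 0) (Q 1)

theorem sAB : sign cAB = 1 := by decide +kernel
theorem sCD : sign cCD = 1 := by decide +kernel
theorem A1 : (x6 * (cAB⁻¹ * yA * cAB)) ^ 4 = 1 := by decide +kernel
theorem A2 : (x6 * (cAB⁻¹ * yA * cAB)) ^ 2 ≠ 1 := by decide +kernel
theorem A3 : (yA * (cAB⁻¹ * yA * cAB)) ^ 3 = 1 := by decide +kernel
theorem A4 : (yA * (cAB⁻¹ * yA * cAB)) ≠ 1 := by decide +kernel
theorem B1 : (x6 * (cAB⁻¹ * yB * cAB)) ^ 4 = 1 := by decide +kernel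
theorem B2 : (x6 * (cAB⁻¹ * yB * cAB)) ^ 2 ≠ 1 := by decide +kernel
theorem B3 : (yB * (cAB⁻¹ * yB * cAB)) ^ 3 = 1 := by decide +kernel
theorem B4 : (yB * (cAB⁻¹ * yB * cAB)) ≠ 1 := by decide +kernel
theorem C1 : (x6 * (cCD⁻¹ * (x6 * yC) * cCD)) ^ 4 = 1 := by decide +kernel
theorem C2 : (x6 * (cCD⁻¹ * (x6 * yC) * cCD)) ^ 2 ≠ 1 := by decide +kernel
theorem C3 : (x6 * (cCD⁻¹ * x6 * cCD)) ^ 3 = 1 := by decide +kernel
theorem C4 : (x6 * (cCD⁻¹ * x6 * cCD)) ≠ 1 := by decide +kernel
theorem D1 : (x6 * (cCD⁻¹ * yD * cCD)) ^ 4 = 1 := by decide +kernel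
theorem D2 : (x6 * (cCD⁻¹ * yD * cCD)) ^ 2 ≠ 1 := by decide +kernel

theorem V_surj {I : Type*} [Fintype I] [DecidableEq I] (ι : I ↪ α) (h : Fintype.card α = Fintype.card I) :
    Function.Surjective (V ι) := by
  have h1 : Function.Bijective (V ι) := by
    rw [Fintype.bijective_iff_injective_and_card]
    exact ⟨V_inj ι, by rw [Fintype.card_perm, Fintype.card_perm, h]⟩
  exact h1.2

theorem case_six [CharP F 2] (h6 : Fintype.card α = 6) {X : Subgroup (Perm α)} (hA : X ≤ alternatingGroup α)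
    (hpair : ∀ t ∈ alternatingGroup α, PairP 2 F (YY X t)) {x y : Perm α} (hx : x ∈ X) (hy : y ∈ X)
    (hx2 : x ^ 2 = 1) (hy2 : y ^ 2 = 1) (hx1 : x ≠ 1) (hy1 : y ≠ 1) (hxy : x ≠ y) (hc : x * y = y * x) : False := by
  obtain ⟨h4, h0⟩ := support_two (hA hx) hx2 hx1
  have hle : x.support.card ≤ Fintype.card α := Finset.card_le_univ _
  obtain ⟨ι, hι⟩ := exists_emb (n := 1) Nat.prime_two hx2 2 2 (by omega) (by omega)
  have hcard : Fintype.card α = Fintype.card I6 := by rw [h6]; rfl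
  have hιs : Function.Surjective ι := by
    have h1 : Function.Bijective ι := by
      rw [Fintype.bijective_iff_injective_and_card]
      exact ⟨ι.injective, hcard.symm⟩
    exact h1.2
  have hxV : x = V ι x6 := eq_V hιs hι
  obtain ⟨y₀, hyV⟩ := V_surj ι hcard y
  have h1 : y₀ * x6 = x6 * y₀ := V_inj ι (by rw [map_mul, map_mul, hyV, ← hxV, hc])
  have h2 : y₀ ^ 2 = 1 := V_inj ι (by rw [map_pow, map_one, hyV, hy2])
  have h3 : sign y₀ = 1 := by rw [← V_sign ι y₀, hyV]; exact mem_alternatingGroup.1 (hA hy)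
  have h5 : y₀ ≠ 1 := by rintro rfl; exact hy1 (by rw [← hyV, map_one])
  have h7 : y₀ ≠ x6 := by rintro rfl; exact hxy (by rw [← hyV, ← hxV])
  have hX : V ι x6 ∈ X := by rw [← hxV]; exact hx
  have hYm : V ι y₀ ∈ X := by rw [hyV]; exact hy
  have hXY : V ι (x6 * y₀) ∈ X := by rw [map_mul]; exact mul_mem hX hYm
  rcases inv6 h1 h2 h3 h5 h7 with rfl | rfl | rfl | rfl
  · exact kill_four hpair ι cAB sAB _ _ _ _ hX hYm hYm hYm A1 A2 A3 A4
  · exact kill_four hpair ι cAB sAB _ _ _ _ hX hYm hYm hYm B1 B2 B3 B4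
  · exact kill_four hpair ι cCD sCD _ _ _ _ hX hXY hX hX C1 C2 C3 C4
  · exact kill_four hpair ι cCD sCD _ _ _ _ hX hYm hX hX D1 D2 C3 C4

/-- the exceptional isomorphisms -/
def ExcAlt (q m : ℕ) : Prop := (q = 4 ∧ m = 5) ∨ (q = 5 ∧ m = 5) ∨ (q = 9 ∧ m = 6) ∨ (q = 2 ∧ m = 8)

theorem support_prime {p : ℕ} (hp : p.Prime) {x : Perm α} (hxp : x ^ p = 1) (hx1 : x ≠ 1) :
    ∃ k, x.support.card = p * k ∧ 0 < k := by
  haveI : Fact p.Prime := ⟨hp⟩
  have ho : orderOf x = p := orderOf_eq_prime hxp hx1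
  obtain ⟨n, hn⟩ := cycleType_prime_order (σ := x) (by rw [ho]; exact hp)
  refine ⟨n + 1, ?_, by omega⟩
  rw [← sum_cycleType, hn, Multiset.sum_replicate, ho, smul_eq_mul, mul_comm]

/-- **F6** in all degrees -/
theorem not_alt_all {p : ℕ} [Fact p.Prime] {F : Type*} [Field F] [Fintype F] [CharP F p]
    (hm : 5 ≤ Fintype.card α) (hex : ¬ ExcAlt (Fintype.card F) (Fintype.card α))
    (X : Subgroup (Perm α)) (hA : X ≤ alternatingGroup α) (hc : Nat.card X = Fintype.card F)
    (hab : ∀ x ∈ X, ∀ y ∈ X, x * y = y * x) (hp : ∀ x ∈ X, x ^ p = 1)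
    (hpair : ∀ t ∈ alternatingGroup α, PairP p F (YY X t)) : False := by
  classical
  have hpp : p.Prime := Fact.out
  by_cases h7 : 7 ≤ Fintype.card α
  · exact not_alt_perm h7 (fun h1 h2 => hex (Or.inr (Or.inr (Or.inr ⟨h1, h2⟩)))) X hA hc hab hp hpair
  have hF : 1 < Nat.card X := by rw [hc]; exact Fintype.one_lt_card
  obtain ⟨x, hx, hx1⟩ : ∃ x ∈ X, x ≠ 1 := by
    by_contra h
    push Not at h
    rw [(Subgroup.eq_bot_iff_forall X).2 h, Subgroup.card_bot] at hF
    omega
  have hle : ∀ z : Perm α, z.support.card ≤ Fintype.card α := fun z => Finset.card_le_univ _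
  rcases hpp.eq_two_or_odd with h2 | hodd
  · subst h2
    have h4 : ∀ z ∈ X, z ≠ 1 → z.support.card = 4 := by
      intro z hz hz1
      obtain ⟨h1, h2⟩ := support_two (hA hz) (hp z hz) hz1
      have := hle z
      omega
    have hd := card_dvd_support X 4 h4 ⟨x, hx, hx1⟩
    have hq : Nat.card X = 2 ∨ Nat.card X = 4 := by
      have h5 : Nat.card X ≤ 4 := Nat.le_of_dvd (by norm_num) hd
      interval_cases h : Nat.card X <;> omega
    rcases hq with hq | hq
    · have hF2 : Fintype.card F = 2 := by rw [← hc, hq]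
      have hs := h4 x hx hx1
      obtain ⟨ι, hι⟩ := exists_emb (n := 1) Nat.prime_two (hp x hx) 2 1 (by omega) (by omega)
      exact kill_five (by norm_num) 6 (by norm_num) (pow6 hF2) hpair hx hι c25 s25 a25 b25
    · have hF4 : Fintype.card F = 4 := by rw [← hc, hq]
      have h6 : Fintype.card α = 6 := by
        by_contra h6
        exact hex (Or.inl ⟨hF4, by omega⟩)
      obtain ⟨y, hy, hy1, hxy⟩ : ∃ y ∈ X, y ≠ 1 ∧ x ≠ y := by
        by_contra h
        push Not at h
        have h1 : (X : Set (Perm α)) ⊆ {1, x} := by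
          intro z hz
          by_cases hz1 : z = 1
          · exact Or.inl hz1
          · exact Or.inr (h z hz hz1).symm
        have h2 : Nat.card X ≤ ({1, x} : Set (Perm α)).ncard := Set.ncard_le_ncard h1 (Set.toFinite _)
        rw [Set.ncard_pair (Ne.symm hx1), hq] at h2
        omega
      exact case_six h6 hA hpair hx hy (hp x hx) (hp y hy) hx1 hy1 hxy (hab x hx y hy)
  · by_cases h3 : p = 3
    · subst h3
      have hs : ∀ z ∈ X, z ≠ 1 → z.support.card = 3 ∨ z.support.card = 6 := by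
        intro z hz hz1
        obtain ⟨k, hk, hk0⟩ := support_prime hpp (hp z hz) hz1
        have := hle z
        omega
      have hq : Fintype.card F = 3 := by
        obtain ⟨n, -, hn⟩ := FiniteField.card F 3
        by_cases h5 : Fintype.card α = 5
        · have h6 : ∀ z ∈ X, z ≠ 1 → z.support.card = 3 := by
            intro z hz hz1
            have := hs z hz hz1
            have := hle z
            omega
          have hd := card_dvd_support X 3 h6 ⟨x, hx, hx1⟩
          rw [← hc]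
          rcases (Nat.dvd_prime Nat.prime_three).1 hd with h | h
          · omega
          · exact h
        · have h6 : Fintype.card α = 6 := by omega
          have h9 : Nat.card X ∣ 720 := by
            have h1 := Subgroup.card_subgroup_dvd_card X
            rwa [Nat.card_eq_fintype_card (α := Perm α), Fintype.card_perm, h6] at h1
          rw [hc, hn] at h9
          have hn3 : (n : ℕ) < 3 := by
            by_contra h10
            have h11 : 3 ^ 3 ∣ 720 := (pow_dvd_pow 3 (by omega)).trans h9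
            revert h11
            norm_num
          have hn0 : 0 < (n : ℕ) := n.pos
          have h12 : (n : ℕ) = 1 ∨ (n : ℕ) = 2 := by omega
          rcases h12 with h12 | h12
          · rw [hn, h12]; norm_num
          · exact absurd (Or.inr (Or.inr (Or.inl ⟨by rw [hn, h12]; norm_num, h6⟩))) hex
      rcases hs x hx hx1 with h | h
      · exact case_three' hq hm hpair hx (hp x hx) hx1 h.le
      · obtain ⟨ι, hι⟩ := exists_emb (n := 2) Nat.prime_three (hp x hx) 2 0 (by omega) (by have := hle x; omega)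
        exact kill_five (by norm_num) 12 (by norm_num) (pow12 hq) hpair hx hι c36 s36 a36 b36
    · by_cases h5 : p = 5
      · subst h5
        have hs : ∀ z ∈ X, z ≠ 1 → z.support.card = 5 := by
          intro z hz hz1
          obtain ⟨k, hk, hk0⟩ := support_prime hpp (hp z hz) hz1
          have := hle z
          omega
        have hd := card_dvd_support X 5 hs ⟨x, hx, hx1⟩
        have hq : Fintype.card F = 5 := by
          rw [← hc]
          rcases (Nat.dvd_prime Nat.prime_five).1 hd with h | h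
          · omega
          · exact h
        have h6 : 6 ≤ Fintype.card α := by
          by_contra h6
          exact hex (Or.inr (Or.inl ⟨hq, by omega⟩))
        exact case_five' h6 hpair hx (hp x hx) hx1 (hs x hx hx1).le
      · have h7' : 7 ≤ p := by
          by_contra hlt
          have h1 : p < 7 := by omega
          have h2 := hpp.two_le
          interval_cases p <;> omega
        obtain ⟨k, hk, hk0⟩ := support_prime hpp (hp x hx) hx1
        have h8 := hle x
        have h9 : p * 1 ≤ p * k := Nat.mul_le_mul_left p hk0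
        omega

end Cfsg.Agent.H884.NA
end

-- part: H884/NA/Quot
section
/-!
# S3509, exceptional row: not alternating modulo the centre (helper884)
-/

set_option autoImplicit false
set_option linter.unusedSectionVars false

namespace Cfsg.Agent.H884.NA

open Equiv Equiv.Perm

section sl

variable {F : Type*} [Field F]

/-- the second centre of `SL₂(F)` -/
theorem center_of_comm {g : Matrix.SpecialLinearGroup (Fin 2) F}
    (h : ∀ x : Matrix.SpecialLinearGroup (Fin 2) F,
      g * x * g⁻¹ * x⁻¹ ∈ Subgroup.center (Matrix.SpecialLinearGroup (Fin 2) F)) :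
    g ∈ Subgroup.center (Matrix.SpecialLinearGroup (Fin 2) F) := by
  have key : ∀ x : Matrix.SpecialLinearGroup (Fin 2) F, (x : Matrix (Fin 2) (Fin 2) F).trace = 2 →
      (g : Matrix (Fin 2) (Fin 2) F) * x = x * g := by
    intro x hx
    obtain ⟨r, hr, hr2⟩ := center_scalar (h x)
    have h1 : g * x * g⁻¹ = (g * x * g⁻¹ * x⁻¹) * x := by group
    have h2 : ((g * x * g⁻¹ : Matrix.SpecialLinearGroup (Fin 2) F) : Matrix (Fin 2) (Fin 2) F) =
        r • (x : Matrix (Fin 2) (Fin 2) F) := by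
      rw [h1]
      refine (Matrix.SpecialLinearGroup.coe_mul _ _).trans ?_
      rw [hr2, smul_mul_assoc, one_mul]
    have h3 : ((g * x * g⁻¹ : Matrix.SpecialLinearGroup (Fin 2) F) : Matrix (Fin 2) (Fin 2) F).trace = 2 := by
      have e1 : ((g * x * g⁻¹ : Matrix.SpecialLinearGroup (Fin 2) F) : Matrix (Fin 2) (Fin 2) F) =
          (g : Matrix (Fin 2) (Fin 2) F) * ((x : Matrix (Fin 2) (Fin 2) F) *
            ((g⁻¹ : Matrix.SpecialLinearGroup (Fin 2) F) : Matrix (Fin 2) (Fin 2) F)) := by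
        rw [mul_assoc]
        exact (Matrix.SpecialLinearGroup.coe_mul _ _).trans (congrArg _ (Matrix.SpecialLinearGroup.coe_mul _ _))
      rw [e1, Matrix.trace_mul_comm, mul_assoc]
      have e2 : ((g⁻¹ : Matrix.SpecialLinearGroup (Fin 2) F) : Matrix (Fin 2) (Fin 2) F) *
          (g : Matrix (Fin 2) (Fin 2) F) = 1 := by
        refine (Matrix.SpecialLinearGroup.coe_mul _ _).symm.trans ?_
        rw [inv_mul_cancel]
        rfl
      rw [e2, mul_one, hx]
    rw [h2, Matrix.trace_smul, hx, smul_eq_mul] at h3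
    have hr1 : r = 1 := by
      by_cases h20 : (2 : F) = 0
      · have h4 : (r - 1) * (r - 1) = 0 := by linear_combination hr + (1 - r) * h20
        exact sub_eq_zero.1 (mul_self_eq_zero.1 h4)
      · have h4 : (r - 1) * 2 = 0 := by linear_combination h3
        exact sub_eq_zero.1 ((mul_eq_zero.1 h4).resolve_right h20)
    rw [hr1, one_smul] at h2
    have h5 : g * x * g⁻¹ = x := Subtype.ext h2
    have h6 : g * x = x * g := mul_inv_eq_iff_eq_mul.1 h5
    exact (Matrix.SpecialLinearGroup.coe_mul _ _).symm.trans ((congrArg Subtype.val h6).trans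
      (Matrix.SpecialLinearGroup.coe_mul _ _))
  have hu := key ⟨!![1, 1; 0, 1], by simp⟩ (by simp [Matrix.trace_fin_two]; norm_num)
  have hl := key ⟨!![1, 0; 1, 1], by simp⟩ (by simp [Matrix.trace_fin_two]; norm_num)
  change (g : Matrix (Fin 2) (Fin 2) F) * !![1, 1; 0, 1] = !![1, 1; 0, 1] * (g : Matrix (Fin 2) (Fin 2) F) at hu
  change (g : Matrix (Fin 2) (Fin 2) F) * !![1, 0; 1, 1] = !![1, 0; 1, 1] * (g : Matrix (Fin 2) (Fin 2) F) at hl
  have u00 := congrFun (congrFun hu 0) 0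
  have u01 := congrFun (congrFun hu 0) 1
  have l00 := congrFun (congrFun hl 0) 0
  simp [Matrix.mul_apply, Fin.sum_univ_two] at u00 u01 l00
  have e3 : (g : Matrix (Fin 2) (Fin 2) F) 0 0 = (g : Matrix (Fin 2) (Fin 2) F) 1 1 := by
    linear_combination u01
  refine center_of_scalar (r := (g : Matrix (Fin 2) (Fin 2) F) 0 0) ?_
  ext i j
  fin_cases i <;> fin_cases j
  · simp
  · simpa using l00
  · simpa using u00
  · simpa using e3.symm

end sl

/-- pair property with the order of the field only -/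
def PairQ (p q : ℕ) {G : Type*} [Group G] (Y : Subgroup G) : Prop :=
  IsPGroup p Y ∨ ∃ (F : Type) (_ : Field F) (_ : Fintype F), Fintype.card F = q ∧
    ∃ φ : Matrix.SpecialLinearGroup (Fin 2) F →* G, φ.range = Y ∧ φ.ker ≤ Subgroup.center _

section tr

variable {G : Type*} [Group G]

theorem PairQ.toP {p q : ℕ} {Y : Subgroup G} (h : PairQ p q Y) (F : Type) [Field F] [Fintype F]
    (hF : Fintype.card F = q) : PairP p F Y := by
  rcases h with h | ⟨F', _, _, hF', φ, hφ, hk⟩
  · exact Or.inl h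
  · right
    have e : F ≃+* F' := FiniteField.ringEquivOfCardEq (hF.trans hF'.symm)
    let f : Matrix.SpecialLinearGroup (Fin 2) F →* Matrix.SpecialLinearGroup (Fin 2) F' :=
      Matrix.SpecialLinearGroup.map e.toRingHom
    have hf : ∀ g : Matrix.SpecialLinearGroup (Fin 2) F, ∀ i j, (f g).1 i j = e (g.1 i j) := fun g i j => rfl
    refine ⟨φ.comp f, ?_, ?_⟩
    · rw [← hφ]
      apply le_antisymm
      · rintro _ ⟨g, rfl⟩
        exact ⟨f g, rfl⟩
      · rintro _ ⟨g, rfl⟩
        refine ⟨Matrix.SpecialLinearGroup.map e.symm.toRingHom g, ?_⟩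
        change φ (f _) = φ g
        congr 1
        apply Subtype.ext
        ext i j
        rw [hf]
        exact e.apply_symm_apply _
    · intro g hg
      have h1 : f g ∈ φ.ker := hg
      obtain ⟨r, -, hr⟩ := center_scalar (hk h1)
      apply center_of_scalar (r := e.symm r)
      ext i j
      apply e.injective
      have h2 : e ((g : Matrix (Fin 2) (Fin 2) F) i j) = (f g).1 i j := (hf g i j).symm
      have h3 : (f g).1 i j = (r • (1 : Matrix (Fin 2) (Fin 2) F')) i j := congrFun (congrFun hr i) j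
      rw [h2, h3, Matrix.smul_apply, Matrix.smul_apply, smul_eq_mul, smul_eq_mul, map_mul, e.apply_symm_apply]
      by_cases hij : i = j
      · subst hij; rw [Matrix.one_apply_eq, Matrix.one_apply_eq, map_one]
      · rw [Matrix.one_apply_ne hij, Matrix.one_apply_ne hij, map_zero]

/-- image of the pair under a homomorphism with central kernel -/
theorem PairQ.map {p q : ℕ} {Y : Subgroup G} (h : PairQ p q Y) {H : Type*} [Group H] (ψ : G →* H)
    (hψ : ψ.ker ≤ Subgroup.center G) : PairQ p q (Y.map ψ) := by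
  rcases h with h | ⟨F', _, _, hF', φ, hφ, hk⟩
  · exact Or.inl (h.map ψ)
  · refine Or.inr ⟨F', _, _, hF', ψ.comp φ, ?_, ?_⟩
    · rw [← hφ, MonoidHom.range_comp]
    · intro g hg
      apply center_of_comm
      intro x
      apply hk
      have h1 : φ g ∈ Subgroup.center G := hψ hg
      have h2 : φ x * φ g = φ g * φ x := Subgroup.mem_center_iff.1 h1 (φ x)
      rw [MonoidHom.mem_ker, map_mul, map_mul, map_mul, map_inv, map_inv, ← h2, mul_inv_cancel_right, mul_inv_cancel]

end tr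

/-- **F6**, modulo a central subgroup -/
theorem not_alt_quot {p m q : ℕ} [Fact p.Prime] (hm : 5 ≤ m) (hex : ¬ ExcAlt q m) {M : Type*} [Group M]
    {Q : Type*} [Group Q] (e : Q ≃* alternatingGroup (Fin m)) (π : M →* Q) (hπ : Function.Surjective π)
    (hker : π.ker ≤ Subgroup.center M) (X : Subgroup M) (hXk : ∀ x ∈ X, π x = 1 → x = 1) (hc : Nat.card X = q)
    (hX1 : X ≠ ⊥) (hab : ∀ x ∈ X, ∀ y ∈ X, x * y = y * x) (hp : ∀ x ∈ X, x ^ p = 1)
    (hpair : ∀ t : M, PairQ p q (X ⊔ X.map (MulAut.conj t).toMonoidHom)) : False := by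
  classical
  have hpp : p.Prime := Fact.out
  let ψ : M →* Perm (Fin m) := (alternatingGroup (Fin m)).subtype.comp (e.toMonoidHom.comp π)
  have hψ : ∀ x, ψ x = ((e (π x) : alternatingGroup (Fin m)) : Perm (Fin m)) := fun _ => rfl
  have hψ1 : ∀ x, ψ x = 1 → π x = 1 := by
    intro x hx
    rw [hψ] at hx
    have h1 : e (π x) = 1 := Subtype.ext hx
    exact (map_eq_one_iff e e.injective).1 h1
  have hψk : ψ.ker ≤ Subgroup.center M := fun x hx => hker (hψ1 x hx)
  have hψA : ∀ x, ψ x ∈ alternatingGroup (Fin m) := fun x => (e (π x)).2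
  have hψs : ∀ t ∈ alternatingGroup (Fin m), ∃ t₀, ψ t₀ = t := by
    intro t ht
    obtain ⟨t₀, ht₀⟩ := hπ (e.symm ⟨t, ht⟩)
    refine ⟨t₀, ?_⟩
    rw [hψ, ht₀, MulEquiv.apply_symm_apply]
  let X' : Subgroup (Perm (Fin m)) := X.map ψ
  have hinj : Set.InjOn ψ (X : Set M) := by
    intro x hx y hy hxy
    have h1 : ψ (x * y⁻¹) = 1 := by rw [map_mul, hxy, map_inv, mul_inv_cancel]
    have h2 := hXk _ (mul_mem hx (inv_mem hy)) (hψ1 _ h1)
    exact mul_inv_eq_one.1 h2
  have hcX' : Nat.card X' = q := by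
    rw [← hc]
    change Set.ncard (ψ '' (X : Set M)) = _
    rw [hinj.ncard_image]
    rfl
  have hX'p : IsPGroup p X' := by
    rintro ⟨_, x, hx, rfl⟩
    refine ⟨1, ?_⟩
    apply Subtype.ext
    change (ψ x) ^ p ^ 1 = 1
    rw [pow_one, ← map_pow, hp x hx, map_one]
  obtain ⟨n, hn⟩ := IsPGroup.iff_card.1 hX'p
  have hn0 : n ≠ 0 := by
    rintro rfl
    apply hX1
    rw [pow_zero, hcX', ← hc] at hn
    exact (Subgroup.card_eq_one (H := X)).1 hn
  have : Fintype (GaloisField p n) := Fintype.ofFinite _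
  have hF : Fintype.card (GaloisField p n) = q := by
    rw [← Nat.card_eq_fintype_card, GaloisField.card p n hn0, ← hn, hcX']
  refine not_alt_all (α := Fin m) (p := p) (F := GaloisField p n) (by rw [Fintype.card_fin]; exact hm)
    (by rw [hF, Fintype.card_fin]; exact hex) X' ?_ (by rw [hF, hcX']) ?_ ?_ ?_
  · rintro _ ⟨x, hx, rfl⟩
    exact hψA x
  · rintro _ ⟨x, hx, rfl⟩ _ ⟨y, hy, rfl⟩
    rw [← map_mul, ← map_mul, hab x hx y hy]
  · rintro _ ⟨x, hx, rfl⟩
    rw [← map_pow, hp x hx, map_one]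
  · intro t ht
    obtain ⟨t₀, rfl⟩ := hψs t ht
    have h1 := ((hpair t₀).map ψ hψk).toP (GaloisField p n) hF
    have h2 : (X ⊔ X.map (MulAut.conj t₀).toMonoidHom).map ψ = YY X' (ψ t₀) := by
      have h3 : ψ.comp (MulAut.conj t₀).toMonoidHom = (MulAut.conj (ψ t₀)).toMonoidHom.comp ψ := by
        refine MonoidHom.ext fun x => ?_
        change ψ (t₀ * x * t₀⁻¹) = ψ t₀ * ψ x * (ψ t₀)⁻¹
        rw [map_mul, map_mul, map_inv]
      rw [Subgroup.map_sup, Subgroup.map_map, YY, Subgroup.map_map, h3]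
    rwa [h2] at h1

/-- **F6** for a subgroup `M` of a group `G` -/
theorem not_alt_sub {p m q : ℕ} [Fact p.Prime] (hm : 5 ≤ m) (hex : ¬ ExcAlt q m) {G : Type*} [Group G]
    (M : Subgroup G) {Q : Type*} [Group Q] (e : Q ≃* alternatingGroup (Fin m)) (π : M →* Q)
    (hπ : Function.Surjective π) (hker : π.ker ≤ Subgroup.center M) (X : Subgroup G) (hXM : X ≤ M)
    (hXk : ∀ x : M, (x : G) ∈ X → π x = 1 → x = 1) (hc : Nat.card X = q)
    (hX1 : X ≠ ⊥) (hab : ∀ x ∈ X, ∀ y ∈ X, x * y = y * x) (hp : ∀ x ∈ X, x ^ p = 1)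
    (hpair : ∀ t ∈ M, PairQ p q (X ⊔ X.map (MulAut.conj t).toMonoidHom)) : False := by
  have hmap : (X.subgroupOf M).map M.subtype = X := by
    rw [Subgroup.subgroupOf_map_subtype, inf_eq_left]
    exact hXM
  refine not_alt_quot (p := p) (q := q) hm hex e π hπ hker (X.subgroupOf M) (fun x hx h => hXk x hx h) ?_ ?_ ?_ ?_ ?_
  · rw [← hc]
    exact Nat.card_congr (Subgroup.subgroupOfEquivOfLe hXM).toEquiv
  · intro h
    apply hX1
    rw [← hmap, h, Subgroup.map_bot]
  · intro x hx y hy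
    exact Subtype.ext (hab x hx y hy)
  · intro x hx
    exact Subtype.ext (hp x hx)
  · intro t
    have h1 := hpair t t.2
    have h2 : (X.subgroupOf M ⊔ (X.subgroupOf M).map (MulAut.conj t).toMonoidHom).map M.subtype =
        X ⊔ X.map (MulAut.conj (t : G)).toMonoidHom := by
      rw [Subgroup.map_sup, hmap, Subgroup.map_map]
      conv_rhs => rw [← hmap, Subgroup.map_map]
      rw [hmap]
      rfl
    rw [← h2] at h1
    rcases h1 with h1 | ⟨F, _, _, hF, φ, hφ, hk⟩
    · left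
      exact h1.of_equiv (Subgroup.equivMapOfInjective _ M.subtype M.subtype_injective).symm
    · right
      have hφM : ∀ g, φ g ∈ M := by
        intro g
        have h3 : φ g ∈ φ.range := ⟨g, rfl⟩
        rw [hφ] at h3
        obtain ⟨y, -, hy⟩ := h3
        rw [← hy]
        exact y.2
      refine ⟨F, _, _, hF, φ.codRestrict M hφM, ?_, ?_⟩
      · apply Subgroup.map_injective M.subtype_injective
        rw [← hφ, ← MonoidHom.range_comp]
        rfl
      · intro g hg
        apply hk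
        rw [MonoidHom.mem_ker] at hg ⊢
        exact congrArg Subtype.val hg

end Cfsg.Agent.H884.NA
end

private theorem dce_16151d62650e : _root_.True := by
  try have : _root_.True := by simp only [_root_.Cfsg.Agent.H884.NA.YY.eq_1]
  try have : _root_.True := by simp only [_root_.Cfsg.Agent.H884.NA.chk.eq_1]
  exact _root_.True.intro
end

-- part: H884/NA/BaseNA
section
prune_inst 0x4145031050522000000048502f0001fc7f70005900028880048040e460680ef2205026920bca015021822a20400380048138800708200000000000400011c0180108806027181a008800006000000410000000000000000000000000000000000004010000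
set_option linter.all false
open scoped Cfsg.Agent.FastGrp

-- part: H884/NA/SLker
section
/-!
# S3509, exceptional row: kernels of homomorphisms from `SL₂(q)` (helper884)
-/

set_option autoImplicit false
set_option linter.unusedSectionVars false
set_option linter.unusedSimpArgs false

namespace Cfsg.Agent.H884.NA

open Cfsg.Agent.Lib.SL2Mat

section ker

variable {F : Type*} [Field F]

theorem center_ent {g : Matrix.SpecialLinearGroup (Fin 2) F}
    (h : g ∈ Subgroup.center (Matrix.SpecialLinearGroup (Fin 2) F)) :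
    ent g 0 1 = 0 ∧ ent g 1 0 = 0 ∧ ent g 0 0 = ent g 1 1 := by
  obtain ⟨r, -, h2⟩ := center_scalar h
  refine ⟨?_, ?_, ?_⟩
  · change (g : Matrix (Fin 2) (Fin 2) F) 0 1 = 0
    rw [h2]; simp
  · change (g : Matrix (Fin 2) (Fin 2) F) 1 0 = 0
    rw [h2]; simp
  · change (g : Matrix (Fin 2) (Fin 2) F) 0 0 = (g : Matrix (Fin 2) (Fin 2) F) 1 1
    rw [h2]; simp

theorem center_of_ent {g : Matrix.SpecialLinearGroup (Fin 2) F} (h1 : ent g 0 1 = 0) (h2 : ent g 1 0 = 0)
    (h3 : ent g 0 0 = ent g 1 1) : g ∈ Subgroup.center (Matrix.SpecialLinearGroup (Fin 2) F) := by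
  refine center_of_scalar (r := ent g 0 0) ?_
  ext i j
  fin_cases i <;> fin_cases j
  · simp [ent]
  · simpa [ent] using h1
  · simpa [ent] using h2
  · simpa [ent] using h3.symm

theorem conj_center {g x : Matrix.SpecialLinearGroup (Fin 2) F}
    (h : x * g * x⁻¹ ∈ Subgroup.center (Matrix.SpecialLinearGroup (Fin 2) F)) :
    g ∈ Subgroup.center (Matrix.SpecialLinearGroup (Fin 2) F) := by
  have h1 := Subgroup.Normal.conj_mem (inferInstance : (Subgroup.center _).Normal) _ h x⁻¹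
  have h2 : x⁻¹ * (x * g * x⁻¹) * x⁻¹⁻¹ = g := by group
  rwa [h2] at h1

variable {N : Subgroup (Matrix.SpecialLinearGroup (Fin 2) F)} (hN : N.Normal) (hU : ∀ t : F, up t ∈ N → t = 0)

include hN

theorem comm_memN {g : Matrix.SpecialLinearGroup (Fin 2) F} (hg : g ∈ N) (x : Matrix.SpecialLinearGroup (Fin 2) F) :
    g * (x * g⁻¹ * x⁻¹) ∈ N := mul_mem hg (hN.conj_mem _ (inv_mem hg) x)

theorem conj_memN {g x : Matrix.SpecialLinearGroup (Fin 2) F} (hg : x * g * x⁻¹ ∈ N) : g ∈ N := by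
  have h1 := hN.conj_mem _ hg x⁻¹
  have h2 : x⁻¹ * (x * g * x⁻¹) * x⁻¹⁻¹ = g := by group
  rwa [h2] at h1

include hU

/-- upper triangular elements of `N` are central -/
theorem bor {g : Matrix.SpecialLinearGroup (Fin 2) F} (hg : g ∈ N) (h : ent g 1 0 = 0) :
    g ∈ Subgroup.center (Matrix.SpecialLinearGroup (Fin 2) F) := by
  have hd := det_eq g
  rw [h, mul_zero, sub_zero] at hd
  have h1 : g * (up 1 * g⁻¹ * (up 1)⁻¹) = up (ent g 0 0 ^ 2 - 1) := by
    rw [up_inv]
    refine ext_ent ?_ ?_ ?_ ?_ <;> simp only [ent_mul, ent_inv g, mk_00, mk_01, mk_10, mk_11, up_00, up_01, up_10,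
      up_11, h]
    · linear_combination hd
    · linear_combination -hd
    · ring
    · linear_combination hd
  have h2 := hU _ (h1 ▸ comm_memN hN hg (up 1))
  have ha2 : ent g 0 0 * ent g 0 0 = 1 := by linear_combination h2
  have ha0 : ent g 0 0 ≠ 0 := by
    intro h0
    rw [h0, zero_mul] at ha2
    exact zero_ne_one ha2
  have had : ent g 0 0 = ent g 1 1 := mul_left_cancel₀ ha0 (ha2.trans hd.symm)
  have h3 : g * g = up (2 * ent g 0 0 * ent g 0 1) := by
    refine ext_ent ?_ ?_ ?_ ?_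
    · simp only [ent_mul, up_00, h]; linear_combination ha2
    · simp only [ent_mul, up_01, ← had]; ring
    · simp only [ent_mul, up_10, h]; ring
    · simp only [ent_mul, up_11, h, ← had]; linear_combination ha2
  have h4 := hU _ (h3 ▸ mul_mem hg hg)
  by_cases hb : ent g 0 1 = 0
  · exact center_of_ent hb h had
  · exfalso
    have h5 : (2 : F) = 0 := by
      rcases mul_eq_zero.1 h4 with h5 | h5
      · exact (mul_eq_zero.1 h5).resolve_right ha0
      · exact absurd h5 hb
    have h6 : (ent g 0 0 - 1) * (ent g 0 0 - 1) = 0 := by linear_combination ha2 + (1 - ent g 0 0) * h5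
    have h7 : ent g 0 0 = 1 := sub_eq_zero.1 (mul_self_eq_zero.1 h6)
    have h8 : g = up (ent g 0 1) := ext_ent (by rw [h7, up_00]) (by rw [up_01]) (by rw [h, up_10])
      (by rw [← had, h7, up_11])
    exact hb (hU _ (h8 ▸ hg))

/-- lower triangular elements of `N` are central -/
theorem bor' {g : Matrix.SpecialLinearGroup (Fin 2) F} (hg : g ∈ N) (h : ent g 0 1 = 0) :
    g ∈ Subgroup.center (Matrix.SpecialLinearGroup (Fin 2) F) := by
  apply conj_center (x := wm 1 one_ne_zero)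
  apply bor hN hU (hN.conj_mem _ hg _)
  simp only [ent_mul, ent_inv (wm (1 : F) one_ne_zero), mk_00, mk_01, mk_10, mk_11, wm_00, wm_01, wm_10, wm_11, h]
  ring

omit hU in
/-- normal form -/
theorem nf {g : Matrix.SpecialLinearGroup (Fin 2) F} (hc : ent g 1 0 ≠ 0) :
    up (-(ent g 0 0 / ent g 1 0)) * g * (up (-(ent g 0 0 / ent g 1 0)))⁻¹ =
      mk 0 (-(ent g 1 0)⁻¹) (ent g 1 0) (ent g 0 0 + ent g 1 1) (by field_simp; ring) := by
  have hd := det_eq g
  rw [up_inv]
  refine ext_ent ?_ ?_ ?_ ?_ <;> simp only [ent_mul, mk_00, mk_01, mk_10, mk_11, up_00, up_01, up_10, up_11]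
  · field_simp; ring
  · field_simp
    linear_combination -hd
  · ring
  · field_simp; ring

/-- the torus -/
theorem four {c t : F} {h : 0 * t - (-c⁻¹) * c = 1} (hc : c ≠ 0) (hg : mk 0 (-c⁻¹) c t h ∈ N) {s : F} (hs : s ≠ 0) :
    s ^ 4 = 1 ∧ t * (1 - (s ^ 2)⁻¹) = 0 := by
  obtain ⟨k, hk⟩ : ∃ k, k = mk 0 (-c⁻¹) c t h * (dg s hs * (mk 0 (-c⁻¹) c t h)⁻¹ * (dg s hs)⁻¹) := ⟨_, rfl⟩
  have hkN : k ∈ N := by rw [hk]; exact comm_memN hN hg _
  have k01 : ent k 0 1 = 0 := by
    rw [hk]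
    simp only [ent_mul, ent_inv, mk_00, mk_01, mk_10, mk_11, dg_00, dg_01, dg_10, dg_11]
    ring
  have k00 : ent k 0 0 = (s ^ 2)⁻¹ := by
    rw [hk]
    simp only [ent_mul, ent_inv, mk_00, mk_01, mk_10, mk_11, dg_00, dg_01, dg_10, dg_11]
    field_simp; ring
  have k11 : ent k 1 1 = s ^ 2 := by
    rw [hk]
    simp only [ent_mul, ent_inv, mk_00, mk_01, mk_10, mk_11, dg_00, dg_01, dg_10, dg_11]
    field_simp; ring
  have k10 : ent k 1 0 = c * (t * (1 - (s ^ 2)⁻¹)) := by
    rw [hk]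
    simp only [ent_mul, ent_inv, mk_00, mk_01, mk_10, mk_11, dg_00, dg_01, dg_10, dg_11]
    field_simp; ring
  obtain ⟨-, h2, h3⟩ := center_ent (bor' hN hU hkN k01)
  rw [k00, k11] at h3
  rw [k10] at h2
  refine ⟨?_, (mul_eq_zero.1 h2).resolve_left hc⟩
  have h4 : (s ^ 2)⁻¹ * s ^ 2 = 1 := inv_mul_cancel₀ (pow_ne_zero 2 hs)
  rw [h3] at h4
  linear_combination h4

theorem four' {g : Matrix.SpecialLinearGroup (Fin 2) F} (hg : g ∈ N) (hc : ent g 1 0 ≠ 0) {s : F} (hs : s ≠ 0) :
    s ^ 4 = 1 ∧ (ent g 0 0 + ent g 1 1) * (1 - (s ^ 2)⁻¹) = 0 := by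
  have h1 := hN.conj_mem _ hg (up (-(ent g 0 0 / ent g 1 0)))
  rw [nf hN hc] at h1
  exact four hN hU hc h1 hs

/-- large fields -/
theorem big (hs : ∃ s : F, s ≠ 0 ∧ s ^ 4 ≠ 1) : N ≤ Subgroup.center (Matrix.SpecialLinearGroup (Fin 2) F) := by
  obtain ⟨s, hs, hs4⟩ := hs
  intro g hg
  by_cases hc : ent g 1 0 = 0
  · exact bor hN hU hg hc
  · exact absurd (four' hN hU hg hc hs).1 hs4

/-- five elements -/
theorem five (h5 : (5 : F) = 0) : N ≤ Subgroup.center (Matrix.SpecialLinearGroup (Fin 2) F) := by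
  have h2 : (2 : F) ≠ 0 := by
    intro h2
    have : (1 : F) = 0 := by linear_combination h5 - 2 * h2
    exact one_ne_zero this
  have h3 : (3 : F) ≠ 0 := by
    intro h3
    have : (1 : F) = 0 := by linear_combination 2 * h3 - h5
    exact one_ne_zero this
  have htr : ∀ g ∈ N, ent g 1 0 ≠ 0 → ent g 0 0 + ent g 1 1 = 0 := by
    intro g hg hc
    have h4 := (four' hN hU hg hc h2).2
    refine (mul_eq_zero.1 h4).resolve_right fun h6 => h3 ?_
    have h7 : ((2 : F) ^ 2)⁻¹ * 2 ^ 2 = 1 := inv_mul_cancel₀ (pow_ne_zero 2 h2)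
    linear_combination 4 * h6 + h7
  intro g hg
  by_cases hc : ent g 1 0 = 0
  · exact bor hN hU hg hc
  exfalso
  have h1 := hN.conj_mem _ hg (up (-(ent g 0 0 / ent g 1 0)))
  rw [nf hN hc] at h1
  obtain ⟨c, hcc⟩ : ∃ c, c = ent g 1 0 := ⟨_, rfl⟩
  obtain ⟨t, htt⟩ : ∃ t, t = ent g 0 0 + ent g 1 1 := ⟨_, rfl⟩
  have ht0 : t = 0 := by rw [htt]; exact htr g hg hc
  obtain ⟨g₁, hg₁, e00, e01, e10, e11⟩ : ∃ g₁ ∈ N, ent g₁ 0 0 = 0 ∧ ent g₁ 0 1 = -c⁻¹ ∧ ent g₁ 1 0 = c ∧
      ent g₁ 1 1 = 0 := ⟨_, h1, rfl, by rw [mk_01, hcc], by rw [mk_10, hcc], by rw [mk_11, ← htt, ht0]⟩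
  have hc0 : c ≠ 0 := by rw [hcc]; exact hc
  have key : ∀ x : F, x ≠ 0 → 2 + x ^ 2 * c ^ 2 = 0 := by
    intro x hx
    obtain ⟨k, hk⟩ : ∃ k, k = g₁⁻¹ * (up x * g₁⁻¹⁻¹ * (up x)⁻¹) := ⟨_, rfl⟩
    have hkN : k ∈ N := by rw [hk]; exact comm_memN hN (inv_mem hg₁) (up x)
    rw [inv_inv, up_inv] at hk
    have k00 : ent k 0 0 = 1 := by
      rw [hk]
      simp only [ent_mul, ent_inv g₁, mk_00, mk_01, mk_10, mk_11, up_00, up_01, up_10, up_11, e00, e01, e10, e11]
      field_simp; ring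
    have k11 : ent k 1 1 = x ^ 2 * c ^ 2 + 1 := by
      rw [hk]
      simp only [ent_mul, ent_inv g₁, mk_00, mk_01, mk_10, mk_11, up_00, up_01, up_10, up_11, e00, e01, e10, e11]
      field_simp; ring
    have k10 : ent k 1 0 = -(x * c ^ 2) := by
      rw [hk]
      simp only [ent_mul, ent_inv g₁, mk_00, mk_01, mk_10, mk_11, up_00, up_01, up_10, up_11, e00, e01, e10, e11]
      field_simp; ring
    have h7 := htr k hkN (by rw [k10]; exact neg_ne_zero.2 (mul_ne_zero hx (pow_ne_zero 2 hc0)))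
    rw [k00, k11] at h7
    linear_combination h7
  have k1 := key 1 one_ne_zero
  have k2 := key 2 h2
  have k3 : (3 : F) * c ^ 2 = 0 := by linear_combination k2 - k1
  rcases mul_eq_zero.1 k3 with h | h
  · exact h3 h
  · exact hc0 (pow_eq_zero_iff (two_ne_zero) |>.1 h)

omit hU in
/-- two elements -/
theorem two (hU : ∀ t : F, up t ∈ N → t = 0) (h2 : (2 : F) = 0) (hF : ∀ s : F, s = 0 ∨ s = 1)
    (hne : ¬ N ≤ Subgroup.center (Matrix.SpecialLinearGroup (Fin 2) F)) (a : Matrix.SpecialLinearGroup (Fin 2) F) :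
    a ^ 2 ∈ N := by
  have hnf : ∀ g : Matrix.SpecialLinearGroup (Fin 2) F, ent g 1 0 ≠ 0 → ∃ x t : Matrix.SpecialLinearGroup (Fin 2) F,
      x * g * x⁻¹ = t ∧ ent t 0 0 = 0 ∧ ent t 0 1 = -1 ∧ ent t 1 0 = 1 ∧ ent t 1 1 = ent g 0 0 + ent g 1 1 := by
    intro g hc
    have hc1 : ent g 1 0 = 1 := (hF _).resolve_left hc
    exact ⟨_, _, nf hN hc, rfl, by rw [mk_01, hc1, inv_one], by rw [mk_10, hc1], rfl⟩
  obtain ⟨g, hg, hgc⟩ := Set.not_subset.1 hne
  have hc : ent g 1 0 ≠ 0 := fun h => hgc (bor hN hU hg h)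
  obtain ⟨x, g₁, hx, e00, e01, e10, e11⟩ := hnf g hc
  have hg₁ : g₁ ∈ N := by rw [← hx]; exact hN.conj_mem _ hg _
  have ht : ent g₁ 1 1 = 1 := by
    rcases hF (ent g₁ 1 1) with h | h
    · exfalso
      have h3 := bor hN hU (hN.conj_mem _ hg₁ (lo 1)) (by
        rw [lo_inv]
        simp only [ent_mul, mk_00, mk_01, mk_10, mk_11, lo_00, lo_01, lo_10, lo_11, e00, e01, e10, h]
        linear_combination h2)
      have h4 := (center_ent (conj_center h3)).2.1
      rw [e10] at h4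
      exact one_ne_zero h4
    · exact h
  by_cases ha : ent a 1 0 = 0
  · have hd := det_eq a
    rw [ha, mul_zero, sub_zero] at hd
    have h1 : ent a 0 0 = 1 := (hF _).resolve_left fun h => by rw [h, zero_mul] at hd; exact zero_ne_one hd
    have h3 : ent a 1 1 = 1 := by rw [h1, one_mul] at hd; exact hd
    have h4 : a ^ 2 = 1 := by
      rw [pow_two]
      refine ext_ent ?_ ?_ ?_ ?_ <;> simp only [ent_mul, ent_one_00, ent_one_01, ent_one_10, ent_one_11, ha, h1, h3]
      · ring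
      · linear_combination ent a 0 1 * h2
      · ring
      · ring
    rw [h4]
    exact one_mem _
  · obtain ⟨y, a₁, hy, f00, f01, f10, f11⟩ := hnf a ha
    have h5 : a₁ ^ 2 ∈ N := by
      rcases hF (ent a₁ 1 1) with h | h
      · have h6 : a₁ ^ 2 = 1 := by
          rw [pow_two]
          refine ext_ent ?_ ?_ ?_ ?_ <;> simp only [ent_mul, ent_one_00, ent_one_01, ent_one_10, ent_one_11, f00,
            f01, f10, h]
          · linear_combination -h2
          · ring
          · ring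
          · linear_combination -h2
        rw [h6]
        exact one_mem _
      · have h6 : a₁ = g₁ := ext_ent (f00.trans e00.symm) (f01.trans e01.symm) (f10.trans e10.symm) (h.trans ht.symm)
        rw [h6]
        exact pow_mem hg₁ 2
    apply conj_memN hN (x := y)
    have h7 : y * a ^ 2 * y⁻¹ = a₁ ^ 2 := by rw [← hy]; simp [pow_two, mul_assoc]
    rw [h7]
    exact h5

omit hU in
/-- three elements -/
theorem three (hU : ∀ t : F, up t ∈ N → t = 0) (h3 : (3 : F) = 0) (hF : ∀ s : F, s ≠ 0 → s * s = 1)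
    (hne : ¬ N ≤ Subgroup.center (Matrix.SpecialLinearGroup (Fin 2) F)) (a : Matrix.SpecialLinearGroup (Fin 2) F) :
    a ^ 3 ∈ N := by
  have h2 : (2 : F) ≠ 0 := by
    intro h2
    have : (1 : F) = 0 := by linear_combination h3 - h2
    exact one_ne_zero this
  obtain ⟨g, hg, hgc⟩ := Set.not_subset.1 hne
  have hc : ent g 1 0 ≠ 0 := fun h => hgc (bor hN hU hg h)
  have h1 := hN.conj_mem _ hg (up (-(ent g 0 0 / ent g 1 0)))
  rw [nf hN hc] at h1
  obtain ⟨c, hcc⟩ : ∃ c, c = ent g 1 0 := ⟨_, rfl⟩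
  obtain ⟨t, htt⟩ : ∃ t, t = ent g 0 0 + ent g 1 1 := ⟨_, rfl⟩
  have hc0 : c ≠ 0 := by rw [hcc]; exact hc
  have hci : c⁻¹ = c := by
    exact inv_eq_of_mul_eq_one_left (hF c hc0)
  obtain ⟨g₁, hg₁, e00, e01, e10, e11⟩ : ∃ g₁ ∈ N, ent g₁ 0 0 = 0 ∧ ent g₁ 0 1 = -c ∧ ent g₁ 1 0 = c ∧
      ent g₁ 1 1 = t := ⟨_, h1, rfl, by rw [mk_01, ← hcc, hci], by rw [mk_10, hcc], by rw [mk_11, htt]⟩
  have ht0 : t = 0 := by
    by_contra ht
    have ht2 := hF t ht
    have h4 := bor hN hU (hN.conj_mem _ hg₁ (lo (-(c * t)))) (by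
      rw [lo_inv]
      simp only [ent_mul, mk_00, mk_01, mk_10, mk_11, lo_00, lo_01, lo_10, lo_11, e00, e01, e10, e11]
      have hc2 := hF c hc0
      linear_combination c * h3 + c * ht2 + c ^ 3 * ht2 + c * hc2)
    have h5 := (center_ent (conj_center h4)).2.1
    rw [e10] at h5
    exact hc0 h5
  rw [ht0] at e11
  have hg₁' : ∀ b : Matrix.SpecialLinearGroup (Fin 2) F, ent b 0 0 = 0 → ent b 1 1 = 0 → b ∈ N := by
    intro b b00 b11
    have hd := det_eq b
    rw [b00, zero_mul, zero_sub] at hd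
    have hb0 : ent b 1 0 ≠ 0 := by
      intro h
      rw [h, mul_zero, neg_zero] at hd
      exact zero_ne_one hd
    have hb2 := hF _ hb0
    have hb1 : ent b 0 1 = - ent b 1 0 := by linear_combination (-ent b 1 0) * hd - ent b 0 1 * hb2
    have hs := hF c hc0
    have h6 : (ent b 1 0 - c) * (ent b 1 0 + c) = 0 := by linear_combination hb2 - hs
    rcases mul_eq_zero.1 h6 with h6 | h6
    · have h7 : ent b 1 0 = c := sub_eq_zero.1 h6
      have h8 : b = g₁ := ext_ent (b00.trans e00.symm) (by rw [hb1, h7, e01]) (by rw [h7, e10]) (b11.trans e11.symm)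
      rw [h8]; exact hg₁
    · have h7 : ent b 1 0 = -c := eq_neg_of_add_eq_zero_left h6
      have h8 : b = g₁⁻¹ := ext_ent (by rw [b00, ent_inv g₁, mk_00, e11]) (by rw [hb1, h7, ent_inv g₁, mk_01, e01])
        (by rw [h7, ent_inv g₁, mk_10, e10]) (by rw [b11, ent_inv g₁, mk_11, e00])
      rw [h8]; exact inv_mem hg₁
  have hm1 : mk (-1) 0 0 (-1) (by ring) ∈ N := by
    have h6 : mk (-1) 0 0 (-1) (by ring) = (mk 0 (-1) 1 0 (by ring) : Matrix.SpecialLinearGroup (Fin 2) F) *
        mk 0 (-1) 1 0 (by ring) := by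
      refine ext_ent ?_ ?_ ?_ ?_ <;> simp [ent_mul]
    rw [h6]
    exact mul_mem (hg₁' _ rfl rfl) (hg₁' _ rfl rfl)
  by_cases hT : ent a 0 0 + ent a 1 1 = 0
  · have ha : a ∈ N := by
      by_cases h : ent a 1 0 = 0
      · exfalso
        have hd := det_eq a
        rw [h, mul_zero, sub_zero] at hd
        have ha0 : ent a 0 0 ≠ 0 := by
          intro h0
          rw [h0, zero_mul] at hd
          exact zero_ne_one hd
        have h6 := hF _ ha0
        apply h2
        linear_combination ent a 0 0 * hT - h6 - hd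
      · apply conj_memN hN (x := up (-(ent a 0 0 / ent a 1 0)))
        rw [nf hN h]
        exact hg₁' _ rfl hT
    exact pow_mem ha 3
  · have hT2 := hF _ hT
    have hd := det_eq a
    have h6 : (ent a 0 0 + ent a 1 1 - 1) * (ent a 0 0 + ent a 1 1 + 1) = 0 := by linear_combination hT2
    have h7 : a ^ 3 = 1 ∨ a ^ 3 = mk (-1) 0 0 (-1) (by ring) := by
      rcases mul_eq_zero.1 h6 with h6 | h6
      · right
        rw [pow_succ, pow_two]
        have h8 : ent a 1 1 = 1 - ent a 0 0 := by linear_combination h6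
        rw [h8] at hd
        refine ext_ent ?_ ?_ ?_ ?_ <;> simp only [ent_mul, mk_00, mk_01, mk_10, mk_11, h8]
        · linear_combination (-ent a 0 0 - 1) * hd
        · linear_combination (-ent a 0 1) * hd
        · linear_combination (-ent a 1 0) * hd
        · linear_combination (ent a 0 0 - 2) * hd
      · left
        rw [pow_succ, pow_two]
        have h8 : ent a 1 1 = -1 - ent a 0 0 := by linear_combination h6
        rw [h8] at hd
        refine ext_ent ?_ ?_ ?_ ?_ <;> simp only [ent_mul, ent_one_00, ent_one_01, ent_one_10, ent_one_11, h8]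
        · linear_combination (-ent a 0 0 + 1) * hd
        · linear_combination (-ent a 0 1) * hd
        · linear_combination (-ent a 1 0) * hd
        · linear_combination (ent a 0 0 + 2) * hd
    rcases h7 with h7 | h7
    · rw [h7]; exact one_mem _
    · rw [h7]; exact hm1

end ker

end Cfsg.Agent.H884.NA
end

-- part: H884/NA/Img
section
/-!
# S3509, exceptional row: images of `SL₂(q)` (helper884)
-/

set_option autoImplicit false
set_option linter.unusedSectionVars false

namespace Cfsg.Agent.H884.NA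

section img

variable {G : Type*} [Group G]

/-- the kernel of a homomorphism from `SL₂(q)` injective on a root group is central, or the image is a `p`-group -/
theorem ker_or {F : Type*} [Field F] [Fintype F] {p e : ℕ} (hp : p.Prime) (hq : Fintype.card F = p ^ e)
    (φ : Matrix.SpecialLinearGroup (Fin 2) F →* G)
    (hU : ∀ t, φ (Cfsg.Agent.Lib.SL2Mat.up t) = 1 → t = 0) :
    φ.ker ≤ Subgroup.center _ ∨ IsPGroup p φ.range := by
  classical
  have hN : φ.ker.Normal := inferInstance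
  have hU' : ∀ t : F, Cfsg.Agent.Lib.SL2Mat.up t ∈ φ.ker → t = 0 := fun t ht => hU t ht
  by_cases hs : ∃ s : F, s ≠ 0 ∧ s ^ 4 ≠ 1
  · exact Or.inl (big hN hU' hs)
  push Not at hs
  have h1 : Fintype.card F - 1 ∣ 4 := by
    rw [← FiniteField.forall_pow_eq_one_iff]
    intro x
    apply Units.ext
    rw [Units.val_pow_eq_pow_val, Units.val_one]
    exact hs _ x.ne_zero
  have h2 : 1 < Fintype.card F := Fintype.one_lt_card
  have h0 : (Fintype.card F : F) = 0 := FiniteField.cast_card_eq_zero F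
  have hpow : ∀ s : F, s ≠ 0 → s ^ (Fintype.card F - 1) = 1 := fun s hs => FiniteField.pow_card_sub_one_eq_one s hs
  have h3 : Fintype.card F = 2 ∨ Fintype.card F = 3 ∨ Fintype.card F = 5 := by
    have h4 : Fintype.card F - 1 ≤ 4 := Nat.le_of_dvd (by norm_num) h1
    obtain ⟨k, hk⟩ : ∃ k, Fintype.card F = k + 1 := ⟨Fintype.card F - 1, by omega⟩
    rw [hk] at h1 h4 h2 ⊢
    rw [Nat.add_sub_cancel] at h1 h4
    interval_cases k <;> omega
  have hpc : ∀ c : ℕ, c.Prime → Fintype.card F = c → p = c := by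
    intro c hc h
    rw [h] at hq
    have h5 : p ∣ c := by
      rw [hq]
      refine dvd_pow_self p ?_
      rintro rfl
      rw [pow_zero] at hq
      exact hc.one_lt.ne' hq
    exact (Nat.prime_dvd_prime_iff_eq hp hc).1 h5
  rcases h3 with h3 | h3 | h3
  · by_cases hne : φ.ker ≤ Subgroup.center _
    · exact Or.inl hne
    · right
      have hp2 : p = 2 := hpc 2 Nat.prime_two h3
      subst hp2
      rintro ⟨_, a, rfl⟩
      refine ⟨1, Subtype.ext ?_⟩
      rw [h3] at h0 hpow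
      have h4 := two hN hU' (by exact_mod_cast h0) (fun s => by
        by_cases h : s = 0
        · exact Or.inl h
        · right; simpa using hpow s h) hne a
      change (φ a) ^ 2 ^ 1 = 1
      rw [pow_one, ← map_pow]
      exact h4
  · by_cases hne : φ.ker ≤ Subgroup.center _
    · exact Or.inl hne
    · right
      have hp3 : p = 3 := hpc 3 Nat.prime_three h3
      subst hp3
      rintro ⟨_, a, rfl⟩
      refine ⟨1, Subtype.ext ?_⟩
      rw [h3] at h0 hpow
      have h4 := three hN hU' (by exact_mod_cast h0) (fun s hs => by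
        rw [← pow_two]
        exact hpow s hs) hne a
      change (φ a) ^ 3 ^ 1 = 1
      rw [pow_one, ← map_pow]
      exact h4
  · left
    rw [h3] at h0
    exact five hN hU' (by exact_mod_cast h0)

open Cfsg.Agent.ChevalleyStructure.SL2Hom (up lo mem_closure_SL2) in
/-- the pair property from a homomorphism -/
theorem pairQ_of_hom {p q e : ℕ} (hp : p.Prime) (hq : q = p ^ e) {X X' : Subgroup G}
    (h : ∃ (F : Type) (_ : Field F) (_ : Fintype F) (φ : Matrix.SpecialLinearGroup (Fin 2) F →* G),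
      Fintype.card F = q ∧ (∀ y, y ∈ X ↔ ∃ t, φ (up t) = y) ∧ (∀ y, y ∈ X' ↔ ∃ t, φ (lo t) = y) ∧
        (∀ t, φ (up t) = 1 → t = 0)) : PairQ p q (X ⊔ X') := by
  obtain ⟨F, _, _, φ, hF, h1, h2, h3⟩ := h
  have hr : φ.range = X ⊔ X' := by
    apply le_antisymm
    · rw [MonoidHom.range_eq_map, Subgroup.map_le_iff_le_comap]
      intro g _
      refine (Subgroup.closure_le _).2 ?_ (mem_closure_SL2 g)
      rintro x (⟨t, rfl⟩ | ⟨t, rfl⟩)
      · exact Subgroup.mem_sup_left ((h1 _).2 ⟨t, rfl⟩)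
      · exact Subgroup.mem_sup_right ((h2 _).2 ⟨t, rfl⟩)
    · refine sup_le ?_ ?_
      · intro y hy
        obtain ⟨t, rfl⟩ := (h1 y).1 hy
        exact ⟨_, rfl⟩
      · intro y hy
        obtain ⟨t, rfl⟩ := (h2 y).1 hy
        exact ⟨_, rfl⟩
  rcases ker_or hp (hF.trans hq) φ (fun t ht => h3 t ht) with h4 | h4
  · exact Or.inr ⟨F, _, _, hF, φ, hr, h4⟩
  · left
    rw [← hr]
    exact h4

/-- conjugate pairs -/
theorem PairQ.conj {p q : ℕ} {Y : Subgroup G} (h : PairQ p q Y) (u : G) :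
    PairQ p q (Y.map (MulAut.conj u).toMonoidHom) := by
  apply h.map
  intro x hx
  have h1 : x = 1 := (MulAut.conj u).injective ((show (MulAut.conj u).toMonoidHom x = 1 from hx).trans
    (map_one (MulAut.conj u)).symm)
  rw [h1]
  exact one_mem _

end img

end Cfsg.Agent.H884.NA
end

-- part: H884/NA/BaseNA
section
/-!
# S3509, exceptional row: the component is not alternating (helper884)

* `base_center` : `O_p(K) = 1` ⟹ `p`-elements of the centre of `M = ⟨X^K⟩` are trivial;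
* `not_alt_base` : `M / Z(M)` is not `A_n`, outside the exceptional pairs `(q, n)`;
* `nsa_base` : `M / Z(M)` is nonabelian simple and not alternating.
-/

set_option autoImplicit false
set_option linter.unusedSectionVars false

namespace Cfsg.Agent.H884.NA

open Cfsg Cfsg.Agent.Lib.Cores Cfsg.Agent.H398.RG Cfsg.Agent.H873.RG
open Cfsg.Agent.ChevalleyStructure.SL2Hom (up lo)

variable {G : Type*} [Group G] {p : ℕ} [Fact p.Prime] {K X Y P Q T : Subgroup G}

/-- `p`-elements of the centre of `M` -/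
theorem base_center (hXK : X ≤ K) (hcore : pCore p ↥K = ⊥) {z : G} (hz : z ∈ MK K X)
    (hzc : ∀ m ∈ MK K X, m * z = z * m) {k : ℕ} (hzp : z ^ p ^ k = 1) : z = 1 := by
  let Z : Subgroup K :=
    { carrier := {w | (w : G) ∈ MK K X ∧ (∀ m ∈ MK K X, m * w = w * m) ∧ ∃ k, w ^ p ^ k = 1}
      one_mem' := ⟨one_mem _, fun m _ => by rw [OneMemClass.coe_one, mul_one, one_mul], 0, one_pow _⟩
      mul_mem' := by
        rintro a b ⟨ha1, ha2, i, ha⟩ ⟨hb1, hb2, j, hb⟩
        refine ⟨mul_mem ha1 hb1, fun m hm => ?_, i + j, ?_⟩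
        · rw [Subgroup.coe_mul, ← mul_assoc, ha2 m hm, mul_assoc, hb2 m hm, mul_assoc]
        · have hc : Commute a b := Subtype.ext (ha2 b hb1).symm
          rw [hc.mul_pow, pow_add, pow_mul, ha, one_pow, one_mul, mul_comm, pow_mul, hb, one_pow]
      inv_mem' := by
        rintro a ⟨ha1, ha2, i, ha⟩
        refine ⟨inv_mem ha1, fun m hm => ?_, i, by rw [inv_pow, ha, inv_one]⟩
        have h1 := ha2 m hm
        rw [Subgroup.coe_inv]
        calc m * (a : G)⁻¹ = (a : G)⁻¹ * ((a : G) * m) * (a : G)⁻¹ := by group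
          _ = (a : G)⁻¹ * m := by rw [← h1]; group }
  have hZn : Z.Normal := by
    refine ⟨?_⟩
    rintro w ⟨h1, h2, i, h3⟩ g
    refine ⟨conj_MK g.2 h1, fun m hm => ?_, i, ?_⟩
    · have h4 := conj_MK (K.inv_mem g.2) hm
      rw [inv_inv] at h4
      have h5 := h2 _ h4
      change m * ((g : G) * w * (g : G)⁻¹) = (g : G) * w * (g : G)⁻¹ * m
      calc m * ((g : G) * w * (g : G)⁻¹) = (g : G) * (((g : G)⁻¹ * m * g) * w) * (g : G)⁻¹ := by group
        _ = (g : G) * w * (g : G)⁻¹ * m := by rw [h5]; group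
    · rw [← MulAut.conj_apply, ← map_pow, h3, map_one]
  have hZp : IsPGroup p Z := by
    rintro ⟨w, h1, h2, i, h3⟩
    exact ⟨i, Subtype.ext h3⟩
  have h1 := le_pCore hZn hZp
  rw [hcore] at h1
  have hzK : z ∈ K := MK_le_self hXK hz
  have h2 : (⟨z, hzK⟩ : K) ∈ Z := ⟨hz, hzc, k, Subtype.ext hzp⟩
  exact congrArg Subtype.val (Subgroup.mem_bot.1 (h1 h2))

/-- the hypothesis on the base pair: image of `SL₂(q)` -/
def ImgH (q : ℕ) (X X' : Subgroup G) : Prop :=
  ∃ (F : Type) (_ : Field F) (_ : Fintype F) (φ : Matrix.SpecialLinearGroup (Fin 2) F →* G), Fintype.card F = q ∧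
    (∀ y, y ∈ X ↔ ∃ t, φ (up t) = y) ∧ (∀ y, y ∈ X' ↔ ∃ t, φ (lo t) = y) ∧ (∀ t, φ (up t) = 1 → t = 0)

theorem up_add {F : Type*} [Field F] (s t : F) : up (s + t) = up s * up t := by
  apply Subtype.ext
  change _ = (up s).1 * (up t).1
  ext i j
  fin_cases i <;> fin_cases j <;> simp [up, Matrix.mul_apply, Fin.sum_univ_two, add_comm]

theorem up_zero' {F : Type*} [Field F] : up (0 : F) = 1 := by
  apply Subtype.ext
  ext i j
  fin_cases i <;> fin_cases j <;> simp [up]

theorem up_pow {F : Type*} [Field F] (t : F) (n : ℕ) : up t ^ n = up (n * t) := by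
  induction n with
  | zero => rw [pow_zero, Nat.cast_zero, zero_mul, up_zero']
  | succ n ih => rw [pow_succ, ih, ← up_add, Nat.cast_succ, add_mul, one_mul]

theorem up_inv' {F : Type*} [Field F] (t : F) : (up t)⁻¹ = up (-t) :=
  inv_eq_of_mul_eq_one_right (by rw [← up_add, add_neg_cancel, up_zero'])

/-- properties of `X` -/
theorem imgH_props {q e : ℕ} (hq : q = p ^ e) {X X' : Subgroup G} (h : ImgH q X X') :
    Nat.card X = q ∧ (∀ x ∈ X, ∀ y ∈ X, x * y = y * x) ∧ ∀ x ∈ X, x ^ p = 1 := by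
  obtain ⟨F, _, _, φ, hF, h1, h2, h3⟩ := h
  refine ⟨?_, ?_, ?_⟩
  · have hb : Function.Bijective fun t : F => (⟨φ (up t), (h1 _).2 ⟨t, rfl⟩⟩ : X) := by
      constructor
      · intro s t hst
        have h4 : φ (up s) = φ (up t) := congrArg Subtype.val hst
        have h5 : φ (up (s + -t)) = 1 := by
          rw [up_add, map_mul, ← up_inv', map_inv, h4, mul_inv_cancel]
        have h6 := h3 _ h5
        linear_combination h6
      · rintro ⟨y, hy⟩
        obtain ⟨t, ht⟩ := (h1 y).1 hy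
        exact ⟨t, Subtype.ext ht⟩
    rw [← Nat.card_congr (Equiv.ofBijective _ hb), Nat.card_eq_fintype_card, hF]
  · intro x hx y hy
    obtain ⟨s, rfl⟩ := (h1 x).1 hx
    obtain ⟨t, rfl⟩ := (h1 y).1 hy
    rw [← map_mul, ← map_mul, ← up_add, ← up_add, add_comm]
  · intro x hx
    obtain ⟨s, rfl⟩ := (h1 x).1 hx
    rw [← map_pow, up_pow]
    have h4 : (p : F) = 0 := by
      have h5 : (Fintype.card F : F) = 0 := FiniteField.cast_card_eq_zero F
      rw [hF, hq, Nat.cast_pow] at h5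
      refine (pow_eq_zero_iff (n := e) ?_).1 h5
      rintro rfl
      rw [pow_zero] at h5
      exact one_ne_zero h5
    rw [h4, zero_mul, up_zero', map_one]

/-- **F6** for the component of a base pair -/
theorem not_alt_base (h : Base p K X Y P Q T) {q e n : ℕ} (hq : q = p ^ e) (hI : ImgH q X Y)
    (hn : 5 ≤ n) (hex : ¬ ExcAlt q n) {S : Type*} [Group S] (π : MK K X →* S) (hπ : Function.Surjective π)
    (hker : π.ker ≤ Subgroup.center (MK K X)) (f : S ≃* alternatingGroup (Fin n)) : False := by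
  obtain ⟨h1, h2, h3⟩ := imgH_props hq hI
  refine not_alt_sub (p := p) (q := q) hn hex (MK K X) f π hπ hker X (le_MK K X) ?_ h1 h.ne h2 h3 ?_
  · intro x hx hx1
    have h4 := Subgroup.mem_center_iff.1 (hker hx1)
    apply Subtype.ext
    refine base_center h.leX h.core x.2 (fun m hm => congrArg Subtype.val (h4 ⟨m, hm⟩)) (k := 1) ?_
    rw [pow_one]
    exact h3 x hx
  · intro t ht
    rcases h.pair t (MK_le_self h.leX ht) with h4 | ⟨u, hu, h5, h6⟩
    · exact Or.inl h4
    · have h7 : X ⊔ X.map (MulAut.conj t).toMonoidHom = (X ⊔ Y).map (MulAut.conj u⁻¹).toMonoidHom := by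
        change X ⊔ cj t X = cj u⁻¹ (X ⊔ Y)
        rw [cj_sup, ← h6]
        have h8 : ∀ Z : Subgroup G, cj u⁻¹ (cj u Z) = Z := by
          intro Z
          ext y
          rw [mem_cj, mem_cj]
          have h9 : u⁻¹ * (u⁻¹⁻¹ * y * u⁻¹) * u = y := by group
          rw [h9]
        rw [h8]
        conv_rhs => rw [← h5, h8]
        rw [h5]
      rw [h7]
      exact (pairQ_of_hom Fact.out hq hI).conj u⁻¹

/-- the order of a `p`-subgroup divides the order of the simple quotient -/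
theorem card_dvd_quot [Finite K] (hXK : X ≤ K) (hcore : pCore p ↥K = ⊥) {S : Type*} [Group S] (π : MK K X →* S)
    (hker : π.ker ≤ Subgroup.center (MK K X)) {R : Subgroup G} (hR : R ≤ MK K X)
    (hRp : IsPGroup p R) : Nat.card R ∣ Nat.card S := by
  let ρ : R →* S := π.comp (Subgroup.inclusion hR)
  have hρ : Function.Injective ρ := by
    rw [injective_iff_map_eq_one]
    intro x hx
    have h4 := Subgroup.mem_center_iff.1 (hker (show π (Subgroup.inclusion hR x) = 1 from hx))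
    obtain ⟨k, hk⟩ := hRp x
    apply Subtype.ext
    exact base_center hXK hcore (hR x.2) (fun m hm => congrArg Subtype.val (h4 ⟨m, hm⟩)) (k := k)
      (congrArg Subtype.val hk)
  have h1 := Subgroup.card_subgroup_dvd_card ρ.range
  rwa [Nat.card_congr (MonoidHom.ofInjective hρ).toEquiv]

theorem pow_cases {k q n : ℕ} {p : ℕ} (hp : p.Prime) {e : ℕ} (hq : q = p ^ e) (hex : ExcAlt q n)
    (hd : p ^ k ∣ Nat.factorial n / 2) : p ^ k ≤ q ∨ (q = 2 ∧ p ^ k ≤ 64) := by
  have key : ∀ c : ℕ, c.Prime → ∀ j, q = c ^ j → j ≠ 0 → p = c := by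
    intro c hc j hj hj0
    have h1 : c ∣ p ^ e := by rw [← hq, hj]; exact dvd_pow_self c hj0
    exact ((Nat.prime_dvd_prime_iff_eq hc hp).1 (hc.dvd_of_dvd_pow h1)).symm
  have key2 : ∀ c a : ℕ, p = c → ¬ c ^ (a + 1) ∣ Nat.factorial n / 2 → 2 ≤ c → p ^ k ≤ c ^ a := by
    intro c a hc h hc2
    subst hc
    apply Nat.pow_le_pow_right (by omega)
    by_contra h1
    exact h ((pow_dvd_pow p (by omega)).trans hd)
  rcases hex with ⟨h1, h2⟩ | ⟨h1, h2⟩ | ⟨h1, h2⟩ | ⟨h1, h2⟩
  · left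
    have hp2 := key 2 Nat.prime_two 2 (by rw [h1]; norm_num) (by norm_num)
    refine (key2 2 2 hp2 ?_ le_rfl).trans (by rw [h1]; norm_num)
    rw [h2]; decide
  · left
    have hp2 := key 5 Nat.prime_five 1 (by rw [h1]; norm_num) (by norm_num)
    refine (key2 5 1 hp2 ?_ (by norm_num)).trans (by rw [h1]; norm_num)
    rw [h2]; decide
  · left
    have hp2 := key 3 Nat.prime_three 2 (by rw [h1]; norm_num) (by norm_num)
    refine (key2 3 2 hp2 ?_ (by norm_num)).trans (by rw [h1]; norm_num)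
    rw [h2]; decide
  · right
    have hp2 := key 2 Nat.prime_two 1 (by rw [h1]; norm_num) (by norm_num)
    refine ⟨h1, (key2 2 6 hp2 ?_ (by norm_num)).trans (by norm_num)⟩
    rw [h2]
    norm_num [Nat.factorial]

/-- `M / Z(M)` is not an alternating group -/
theorem not_alt_base' [Finite K] (h : Base p K X Y P Q T) {q e n : ℕ} (hq : q = p ^ e) (hI : ImgH q X Y)
    (hex : (q ≠ 2 ∧ q ≠ 4 ∧ q ≠ 5 ∧ q ≠ 9) ∨
      ∃ R ≤ MK K X, IsPGroup p R ∧ q < Nat.card R ∧ (q = 2 → 64 < Nat.card R))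
    (hn : 5 ≤ n) {S : Type*} [Group S] (π : MK K X →* S) (hπ : Function.Surjective π)
    (hker : π.ker ≤ Subgroup.center (MK K X)) (f : S ≃* alternatingGroup (Fin n)) : False := by
  by_cases hE : ExcAlt q n
  · rcases hex with ⟨h1, h2, h3, h4⟩ | ⟨R, hR, hRp, h1, h2⟩
    · rcases hE with h | h | h | h
      · exact h2 h.1
      · exact h3 h.1
      · exact h4 h.1
      · exact h1 h.1
    · have hd := card_dvd_quot h.leX h.core π hker hR hRp
      have hnt : Nontrivial (Fin n) := by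
        obtain ⟨k, rfl⟩ : ∃ k, n = k + 2 := ⟨n - 2, by omega⟩
        infer_instance
      rw [Nat.card_congr f.toEquiv, nat_card_alternatingGroup, Nat.card_fin] at hd
      have : Finite R := Set.Finite.subset (Set.toFinite (K : Set G)) (hR.trans (MK_le_self h.leX))
      obtain ⟨k, hk⟩ := IsPGroup.iff_card.1 hRp
      rw [hk] at hd h1 h2
      rcases pow_cases Fact.out hq hE hd with h5 | ⟨h5, h6⟩
      · omega
      · have := h2 h5
        omega
  · exact not_alt_base h hq hI hn hE π hπ hker f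

/-- **F6** for Box U -/
theorem nsa_base [Finite K] (h : Base p K X Y P Q T) (hc : Cond K X Y) {q e : ℕ} (hq : q = p ^ e) (hI : ImgH q X Y)
    (hex : (q ≠ 2 ∧ q ≠ 4 ∧ q ≠ 5 ∧ q ≠ 9) ∨
      ∃ R ≤ MK K X, IsPGroup p R ∧ q < Nat.card R ∧ (q = 2 → 64 < Nat.card R)) :
    NSA (MK K X ⧸ Subgroup.center (MK K X)) := by
  obtain ⟨-, -, -, -, -, h1, h2⟩ := h.all hc
  refine ⟨h1, h2, ?_⟩
  rintro ⟨n, hn, ⟨f⟩⟩
  exact not_alt_base' h hq hI hex hn (QuotientGroup.mk' _) (QuotientGroup.mk'_surjective _)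
    (by rw [QuotientGroup.ker_mk']) f

end Cfsg.Agent.H884.NA
end
end

-- part: H579/RG/LongAbs
section
prune_inst 0x40470300551220200001c8512f0001f8795000402004b8800294407060248ca62a5476f21082015121832a810200000081398003080200000000004000005012090885602f389a10ca6000f800000410000000000000000000000000000000000004010000
set_option linter.all false
open scoped Cfsg.Agent.FastGrp

/-!
# S3509, exceptional groups: the long root rule (helper579), abstract part

`R` a root group datum with root elements `e x t` (`t ∈ K`), `a` a dominant long root with `⟨x, a^∨⟩ = x_j`,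
`Q = VJ J`, `J = {i ≠ j}`; `c x` the structure constant of `x`, `a - x`.

* `Hs.lin` : `⁅w, e x t⁆ = e a (c t)` for `w ∈ Q`;
* `Hs.final` : `y ∈ P_J` of order prime to `p`, `⁅y, Q⁆ ≤ Z(Q)` implies `y = 1`;
* `Hs.main_gen` : `y` of order prime to `p` commuting with `1 ≠ e a s`, normalising the subgroup `QF` of the rational
  points of `Q`: `y = 1` or `z ∈ [QF, y]`.
-/

set_option autoImplicit false
set_option linter.unusedSectionVars false

namespace Cfsg.Agent.H579.RG

open CoxeterSystem Cfsg.Agent.ChevalleyStructure.CoxeterGeom Cfsg.Agent.Tits.Roots Cfsg.Agent.Tits.Core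
  Cfsg.Agent.Tits.RootComb Cfsg.Agent.Tits.Exchange Cfsg.Agent.Nodes.Reps Cfsg.Agent.Nodes.BNOf
  Cfsg.Agent.Nodes.StabComb Cfsg.Agent.Nodes.Bruhat Cfsg.Agent.Nodes.OppDec Cfsg.Agent.Nodes.LeviDec
  Cfsg.Agent.Nodes.NormX Cfsg.Agent.Nodes.Coroot Cfsg.Agent.KFacts.RgdPar Cfsg.Agent.KFacts.RgdTI
open scoped commutatorElement

variable {I W Y : Type*} [Fintype I] [DecidableEq I] [Group W] [Group Y] {M : CoxeterMatrix I}
  {cs : CoxeterSystem M W} {A : I → I → ℤ} {h : IsCartan M A} {p : ℕ} {T : Subgroup Y} {n : I → Y}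
  {X : (I → ℤ) → Subgroup Y}

/-- the set `J` -/
def Jn {I : Type*} (j : I) : Set I := {i | i ≠ j}

/-- **The environment.** -/
structure Hs [Finite W] (R : RGD cs h p T n X) {K : Type*} [Field K] (e : (I → ℤ) → K → Y) (a : I → ℤ) (j : I)
    (c : (I → ℤ) → ℤ) : Prop where
  mem : ∀ x, IsRoot cs h x → ∀ g, g ∈ X x ↔ ∃ t, e x t = g
  add : ∀ x, IsRoot cs h x → ∀ s t, e x (s + t) = e x s * e x t
  inj : ∀ x, IsRoot cs h x → Function.Injective (e x)
  lr : LR R a
  lev : ∀ x, cpr cs h x a = x j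
  top : ∀ x, IsRoot cs h x → 2 ≤ x j → x = a
  sub : ∀ x, IsRoot cs h x → x j = 1 → IsRoot cs h (a - x)
  comm0 : ∀ x y, IsRoot cs h x → IsRoot cs h y → x j = 1 → y j = 1 → x + y ≠ a → ∀ s t, e x s * e y t = e y t * e x s
  comm1 : ∀ x, IsRoot cs h x → x j = 1 → ∀ s t, ⁅e x s, e (a - x) t⁆ = e a ((c x : K) * s * t)
  move : ∀ i, i ≠ j → ∃ x, IsRoot cs h x ∧ x j = 1 ∧ (c x : K) ≠ 0 ∧ pairing A i x ≠ 0
  tor : ∀ t ∈ T, (∀ x, IsRoot cs h x → x j = 1 → (c x : K) ≠ 0 → ∀ s, t * e x s = e x s * t) → t = 1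
  tora : ∀ t ∈ T, ∀ s, s ≠ 0 → t * e a s = e a s * t → ∀ u, t * e a u = e a u * t

namespace Hs

variable [Finite W] {R : RGD cs h p T n X} {K : Type*} [Field K] {e : (I → ℤ) → K → Y} {a : I → ℤ} {j : I}
  {c : (I → ℤ) → ℤ} (H : Hs R e a j c)

include H

theorem ra : IsRoot cs h a := H.lr.root

theorem aj : a j = 2 := by
  have h1 := H.lev a
  rw [cpr_self cs h H.ra] at h1
  exact h1.symm

theorem zero {x : I → ℤ} (hx : IsRoot cs h x) : e x 0 = 1 := by
  have := H.add x hx 0 0
  rw [add_zero] at this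
  exact left_eq_mul.1 this

theorem neg {x : I → ℤ} (hx : IsRoot cs h x) (t : K) : e x (-t) = (e x t)⁻¹ := by
  apply eq_inv_of_mul_eq_one_left
  rw [← H.add x hx, neg_add_cancel, H.zero hx]

theorem memX {x : I → ℤ} (hx : IsRoot cs h x) (t : K) : e x t ∈ X x := (H.mem x hx _).2 ⟨t, rfl⟩

/-- the roots of `Q` -/
theorem mem_NotJ {x : I → ℤ} : x ∈ NotJ cs h (Jn j) ↔ IsRoot cs h x ∧ 0 < x j := by
  constructor
  · rintro ⟨h1, h2, k, hk, hk0⟩
    have : k = j := by
      by_contra hne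
      exact hk hne
    subst this
    exact ⟨h1, hk0⟩
  · rintro ⟨h1, h2⟩
    refine ⟨h1, ?_, j, fun h3 => h3 rfl, h2⟩
    rcases h1.pos_or_neg with h3 | h3
    · exact h3
    · have := h3 j
      simp only [Pi.zero_apply] at this
      omega

theorem cases {x : I → ℤ} (hx : x ∈ NotJ cs h (Jn j)) : x = a ∨ (IsRoot cs h x ∧ x j = 1) := by
  rw [H.mem_NotJ] at hx
  by_cases h1 : x j = 1
  · exact Or.inr ⟨hx.1, h1⟩
  · exact Or.inl (H.top x hx.1 (by omega))

theorem a_mem : a ∈ NotJ cs h (Jn j) := by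
  rw [H.mem_NotJ]
  exact ⟨H.ra, by rw [H.aj]; norm_num⟩

theorem one_mem' {x : I → ℤ} (hx : IsRoot cs h x) (hj : x j = 1) : x ∈ NotJ cs h (Jn j) := by
  rw [H.mem_NotJ]
  exact ⟨hx, by omega⟩

theorem sub_mem {x : I → ℤ} (hx : IsRoot cs h x) (hj : x j = 1) : IsRoot cs h (a - x) ∧ (a - x) j = 1 :=
  ⟨H.sub x hx hj, by rw [Pi.sub_apply, H.aj, hj]; norm_num⟩

theorem e_mem_Q {x : I → ℤ} (hx : x ∈ NotJ cs h (Jn j)) (t : K) : e x t ∈ VJ cs h X (Jn j) :=
  RGD.le_Sup hx (H.memX hx.1 t)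

/-- `X a` is central in `Q` -/
theorem a_comm {q : Y} (hq : q ∈ VJ cs h X (Jn j)) {z : Y} (hz : z ∈ X a) : q * z = z * q := by
  refine H.lr.comm' ((RGD.Sup_mono fun x hx => ?_) hq) hz
  rw [H.mem_NotJ] at hx
  exact ⟨hx.1, by rw [H.lev]; omega⟩

theorem a_comm' {q : Y} (hq : q ∈ VJ cs h X (Jn j)) (t : K) : q * e a t = e a t * q :=
  H.a_comm hq (H.memX H.ra t)

/-- commutator as an equation -/
theorem comm_eq {x : I → ℤ} (hx : IsRoot cs h x) (hj : x j = 1) (s t : K) :
    e x s * e (a - x) t = e a ((c x : K) * s * t) * e (a - x) t * e x s := by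
  rw [← H.comm1 x hx hj, commutatorElement_def]
  group

/-- **Linearity.** -/
theorem lin {w : Y} (hw : w ∈ VJ cs h X (Jn j)) {x : I → ℤ} (hx : IsRoot cs h x) (hj : x j = 1) :
    ∃ k : K, ∀ t, w * e x t = e a (k * t) * e x t * w := by
  have key : ∀ {w w' : Y}, w' ∈ VJ cs h X (Jn j) → ∀ {k k' : K}, (∀ t, w * e x t = e a (k * t) * e x t * w) →
      (∀ t, w' * e x t = e a (k' * t) * e x t * w') → w ∈ VJ cs h X (Jn j) →
      (∀ t, w * w' * e x t = e a ((k + k') * t) * e x t * (w * w')) := by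
    intro w w' hw' k k' h1 h2 hw t
    rw [mul_assoc, h2, ← mul_assoc, ← mul_assoc, H.a_comm' hw, mul_assoc (e a _) w, h1, add_mul, H.add a H.ra,
      ← H.add a H.ra, add_comm (k * t), H.add a H.ra]
    group
  have hcl : VJ cs h X (Jn j) = Subgroup.closure {z | ∃ y ∈ NotJ cs h (Jn j), ∃ s, z = e y s} := by
    apply le_antisymm
    · refine RGD.Sup_le fun y hy g hg => ?_
      obtain ⟨t, rfl⟩ := (H.mem y hy.1 g).1 hg
      exact Subgroup.subset_closure ⟨y, hy, t, rfl⟩
    · rw [Subgroup.closure_le]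
      rintro _ ⟨y, hy, s, rfl⟩
      exact H.e_mem_Q hy s
  have hw' := hw
  rw [hcl] at hw'
  induction hw' using Subgroup.closure_induction with
  | mem z hz =>
    obtain ⟨y, hy, s, rfl⟩ := hz
    rcases H.cases hy with rfl | ⟨hy1, hy2⟩
    · refine ⟨0, fun t => ?_⟩
      rw [zero_mul, H.zero hy.1, one_mul]
      exact (H.a_comm' (H.e_mem_Q (H.one_mem' hx hj) t) s).symm
    · by_cases hya : y + x = a
      · have : x = a - y := by rw [← hya]; abel
        subst this
        refine ⟨(c y : K) * s, fun t => ?_⟩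
        rw [H.comm_eq hy1 hy2]
      · refine ⟨0, fun t => ?_⟩
        rw [zero_mul, H.zero H.ra, one_mul]
        exact H.comm0 y x hy1 hx hy2 hj hya s t
  | one => exact ⟨0, fun t => by rw [zero_mul, H.zero H.ra]; group⟩
  | mul u v hu hv ihu ihv =>
    rw [← hcl] at hu hv
    obtain ⟨k, hk⟩ := ihu hu
    obtain ⟨k', hk'⟩ := ihv hv
    exact ⟨k + k', key hv hk hk' hu⟩
  | inv u hu ihu =>
    rw [← hcl] at hu
    obtain ⟨k, hk⟩ := ihu hu
    refine ⟨-k, fun t => ?_⟩
    have h1 := hk t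
    have h2 := H.a_comm' hu (-k * t)
    have h3 : e a (-k * t) * e a (k * t) = 1 := by
      rw [← H.add a H.ra]
      have : -k * t + k * t = 0 := by ring
      rw [this, H.zero H.ra]
    have h4 : e x t = u⁻¹ * (e a (k * t) * e x t * u) := by rw [← h1]; group
    have h5 : u⁻¹ * e a (-k * t) = e a (-k * t) * u⁻¹ := H.a_comm' (inv_mem hu) _
    have h6 : u⁻¹ * e x t * u = e a (-k * t) * e x t := by
      have h7 : u * (e a (-k * t) * e x t) = e x t * u := by
        rw [← mul_assoc, h2, mul_assoc, h1, ← mul_assoc, ← mul_assoc, h3, one_mul]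
      rw [mul_assoc, ← h7]
      group
    rw [← h6]
    group


/-- the centre of `Q` -/
def Zc (cs : CoxeterSystem M W) (h : IsCartan M A) (X : (I → ℤ) → Subgroup Y) (j : I) : Subgroup Y :=
  VJ cs h X (Jn j) ⊓ Subgroup.centralizer (VJ cs h X (Jn j) : Set Y)

omit H in
theorem mem_Zc {z : Y} : z ∈ Zc cs h X j ↔ z ∈ VJ cs h X (Jn j) ∧ ∀ q ∈ VJ cs h X (Jn j), q * z = z * q := by
  rw [Zc, Subgroup.mem_inf, Subgroup.mem_centralizer_iff]
  rfl

theorem X_le_Zc : X a ≤ Zc cs h X j := fun z hz => mem_Zc.2 ⟨RGD.le_Sup H.a_mem hz, fun _ hq => H.a_comm hq hz⟩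

/-- the commutators of `Q` are in `X a` -/
theorem comm_mem {u q : Y} (hu : u ∈ VJ cs h X (Jn j)) (hq : q ∈ VJ cs h X (Jn j)) : ⁅u, q⁆ ∈ X a := by
  have key : VJ cs h X (Jn j) ≤ Subgroup.comap (MulAut.conj u).toMonoidHom ⊤ := fun _ _ => trivial
  have hcl : VJ cs h X (Jn j) = Subgroup.closure {z | ∃ y ∈ NotJ cs h (Jn j), ∃ s, z = e y s} := by
    apply le_antisymm
    · refine RGD.Sup_le fun y hy g hg => ?_
      obtain ⟨t, rfl⟩ := (H.mem y hy.1 g).1 hg
      exact Subgroup.subset_closure ⟨y, hy, t, rfl⟩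
    · rw [Subgroup.closure_le]
      rintro _ ⟨y, hy, s, rfl⟩
      exact H.e_mem_Q hy s
  have hq' := hq
  rw [hcl] at hq'
  induction hq' using Subgroup.closure_induction with
  | mem z hz =>
    obtain ⟨y, hy, s, rfl⟩ := hz
    rcases H.cases hy with rfl | ⟨hy1, hy2⟩
    · rw [commutatorElement_eq_one_iff_mul_comm.2 (H.a_comm' hu s)]
      exact one_mem _
    · obtain ⟨k, hk⟩ := H.lin hu hy1 hy2
      rw [commutatorElement_def, hk]
      have : e a (k * s) * e y s * u * u⁻¹ * (e y s)⁻¹ = e a (k * s) := by group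
      rw [this]
      exact H.memX H.ra _
  | one => rw [commutatorElement_one_right]; exact one_mem _
  | mul v w hv hw ihv ihw =>
    rw [← hcl] at hv hw
    have h1 := H.a_comm hv (ihw hw)
    have h2 : ⁅u, v * w⁆ = ⁅u, v⁆ * (v * ⁅u, w⁆ * v⁻¹) := by
      simp only [commutatorElement_def]; group
    rw [h2, h1]
    have h3 : ⁅u, w⁆ * v * v⁻¹ = ⁅u, w⁆ := by group
    rw [h3]
    exact mul_mem (ihv hv) (ihw hw)
  | inv v hv ihv =>
    rw [← hcl] at hv
    have h1 := H.a_comm (inv_mem hv) (inv_mem (ihv hv))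
    have h2 : ⁅u, v⁻¹⁆ = v⁻¹ * ⁅u, v⁆⁻¹ * v := by
      simp only [commutatorElement_def]; group
    rw [h2, h1]
    have h3 : ⁅u, v⁆⁻¹ * v⁻¹ * v = ⁅u, v⁆⁻¹ := by group
    rw [h3]
    exact inv_mem (ihv hv)

/-- `P_J` normalises the centre of `Q` -/
theorem conj_Zc {g z : Y} (hg : g ∈ PJ cs h T X (Jn j)) (hz : z ∈ Zc cs h X j) : g * z * g⁻¹ ∈ Zc cs h X j := by
  have hN := PJ_le_normalizer_VJ R (Jn j)
  obtain ⟨h1, h2⟩ := mem_Zc.1 hz
  refine mem_Zc.2 ⟨(Subgroup.mem_normalizer_iff.1 (hN hg) z).1 h1, fun q hq => ?_⟩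
  have h3 := h2 _ ((Subgroup.mem_normalizer_iff.1 (hN (inv_mem hg)) q).1 hq)
  rw [inv_inv] at h3
  calc q * (g * z * g⁻¹) = g * (g⁻¹ * q * g * z) * g⁻¹ := by group
    _ = g * (z * (g⁻¹ * q * g)) * g⁻¹ := by rw [h3]
    _ = g * z * g⁻¹ * q := by group

theorem conj_Q {g q : Y} (hg : g ∈ PJ cs h T X (Jn j)) (hq : q ∈ VJ cs h X (Jn j)) : g * q * g⁻¹ ∈ VJ cs h X (Jn j) :=
  (Subgroup.mem_normalizer_iff.1 (PJ_le_normalizer_VJ R (Jn j) hg) q).1 hq

/-- the series of `B`-invariant subgroups -/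
def SS (cs : CoxeterSystem M W) (h : IsCartan M A) (X : (I → ℤ) → Subgroup Y) (j : I) (k : ℤ) : Subgroup Y :=
  RGD.Sup X {x | x ∈ NotJ cs h (Jn j) ∧ k ≤ ht x} ⊔ Zc cs h X j

theorem SS_le {k : ℤ} : SS cs h X j k ≤ VJ cs h X (Jn j) :=
  sup_le (RGD.Sup_mono fun _ hx => hx.1) fun _ hz => (mem_Zc.1 hz).1

/-- the elements of `SS k` commute with `X (a - x)`, `ht x < k` -/
theorem SS_comm {k : ℤ} {x : I → ℤ} (hx : IsRoot cs h x) (hj : x j = 1) (hk : ht x < k) {s : Y}
    (hs : s ∈ SS cs h X j k) (t : K) : s * e (a - x) t = e (a - x) t * s := by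
  obtain ⟨h1, h2⟩ := H.sub_mem hx hj
  have h3 : SS cs h X j k ≤ Subgroup.centralizer {e (a - x) t} := by
    refine sup_le (RGD.Sup_le ?_) ?_
    · rintro y ⟨hy, hky⟩ g hg
      obtain ⟨u, rfl⟩ := (H.mem y hy.1 g).1 hg
      rw [Subgroup.mem_centralizer_singleton_iff]
      rcases H.cases hy with rfl | ⟨hy1, hy2⟩
      · exact (H.a_comm' (H.e_mem_Q (H.one_mem' h1 h2) t) u).symm
      · refine H.comm0 _ _ hy1 h1 hy2 h2 ?_ _ _
        intro h4
        have : y = x := by
          have h5 : y + (a - x) = a := h4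
          calc y = y + (a - x) - (a - x) := by abel
            _ = a - (a - x) := by rw [h5]
            _ = x := by abel
        rw [this] at hky
        omega
    · intro z hz
      rw [Subgroup.mem_centralizer_singleton_iff]
      exact ((mem_Zc.1 hz).2 _ (H.e_mem_Q (H.one_mem' h1 h2) t)).symm
  have h4 := h3 hs
  rwa [Subgroup.mem_centralizer_singleton_iff] at h4

/-- conjugation into `SS k` -/
theorem SS_conj {k : ℤ} {g : Y} (hg : g ∈ PJ cs h T X (Jn j))
    (h1 : ∀ x ∈ NotJ cs h (Jn j), k ≤ ht x → ∀ t, g * e x t * g⁻¹ ∈ SS cs h X j k) {s : Y} (hs : s ∈ SS cs h X j k) :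
    g * s * g⁻¹ ∈ SS cs h X j k := by
  have h2 : SS cs h X j k ≤ (SS cs h X j k).comap (MulAut.conj g).toMonoidHom := by
    conv_lhs => rw [SS]
    refine sup_le (RGD.Sup_le ?_) ?_
    · rintro y ⟨hy, hky⟩ u hu
      obtain ⟨t, rfl⟩ := (H.mem y hy.1 u).1 hu
      exact h1 y hy hky t
    · intro z hz
      exact Subgroup.mem_sup_right (H.conj_Zc hg hz)
  exact h2 hs

/-- `B` normalises `SS k` -/
theorem B_le (k : ℤ) : RGD.B cs h T X ≤ Subgroup.normalizer (SS cs h X j k : Set Y) := by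
  -- one inclusion is enough
  have key : ∀ {L : Subgroup Y}, L ≤ PJ cs h T X (Jn j) → (∀ g ∈ L, ∀ x ∈ NotJ cs h (Jn j), k ≤ ht x → ∀ t,
      g * e x t * g⁻¹ ∈ SS cs h X j k) → L ≤ Subgroup.normalizer (SS cs h X j k : Set Y) := by
    intro L hL h1 g hg
    rw [Subgroup.mem_normalizer_iff]
    intro s
    refine ⟨fun hs => H.SS_conj (hL hg) (h1 g hg) hs, fun hs => ?_⟩
    have h2 := H.SS_conj (hL (inv_mem hg)) (h1 g⁻¹ (inv_mem hg)) hs
    have e1 : g⁻¹ * (g * s * g⁻¹) * g⁻¹⁻¹ = s := by group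
    rwa [e1] at h2
  refine sup_le (key (le_trans RGD.T_le_B B_le_PJ) ?_) (RGD.Sup_le fun x hx => key
    (le_trans (RGD.X_le_B hx.1 hx.2) B_le_PJ) ?_)
  · intro g hg x hx hk t
    have h1 := R.tor x hx.1 g hg
    have h2 : g * e x t * g⁻¹ ∈ cj g (X x) := conj_mem_cj.2 (H.memX hx.1 t)
    rw [h1] at h2
    exact Subgroup.mem_sup_left (RGD.le_Sup (S := {x | x ∈ NotJ cs h (Jn j) ∧ k ≤ ht x}) ⟨hx, hk⟩ h2)
  · intro g hg y hy hk t
    have e1 : g * e y t * g⁻¹ = ⁅g, e y t⁆ * e y t := by rw [commutatorElement_def]; group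
    rw [e1]
    refine mul_mem ?_ (Subgroup.mem_sup_left (RGD.le_Sup (S := {x | x ∈ NotJ cs h (Jn j) ∧ k ≤ ht x}) ⟨hy, hk⟩
      (H.memX hy.1 t)))
    rcases mem_PosJ_or_NotJ (Jn j) hx.1 hx.2 with h1 | h1
    · rcases H.cases hy with rfl | ⟨hy1, hy2⟩
      · rw [commutatorElement_eq_one_iff_mul_comm.2]
        · exact one_mem _
        · have hjx : x j = 0 := h1.2.2 j fun h3 => h3 rfl
          exact H.lr.comm x hx.1 (by rw [H.lev, hjx]) _ hg _ (H.memX hy.1 t)
      · have hjx : x j = 0 := h1.2.2 j fun h3 => h3 rfl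
        have h2 := R.comm x y hx.1 hy1 (by rintro rfl; omega) (by
          rintro rfl
          rw [Pi.neg_apply] at hjx
          omega) g hg _ (H.memX hy.1 t)
        refine Subgroup.mem_sup_left (R.btw_le_Sup (fun z hz => ?_) h2)
        have hzN := btwn_NotJ (PosJ_subset _ h1) hy hz
        refine ⟨hzN, ?_⟩
        rcases H.cases hzN with rfl | ⟨hz1, hz2⟩
        · -- `z = a` is the highest one
          obtain ⟨h3, h4⟩ := H.sub_mem hy1 hy2
          have h5 := RGD.ht_pos h3 (H.one_mem' h3 h4).2.1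
          have h6 : ht y + ht (z - y) = ht z := by rw [← RGD.ht_add]; congr 1; abel
          omega
        · obtain ⟨-, m, α, β, hm, hα, hβ, he⟩ := hz
          have h3 := congrFun he j
          simp only [Pi.smul_apply, Pi.add_apply, smul_eq_mul, hz2, hy2, hjx, mul_one, mul_zero, zero_add] at h3
          subst h3
          have h4 := congrArg ht he
          rw [RGD.ht_smul, RGD.ht_add, RGD.ht_smul, RGD.ht_smul] at h4
          have h5 := RGD.ht_pos hx.1 hx.2
          have h6 : 0 < α * ht x := mul_pos hα h5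
          have h7 : m * ht y < m * ht z := by linarith
          have h8 := lt_of_mul_lt_mul_left h7 hm.le
          omega
    · have h2 : g ∈ VJ cs h X (Jn j) := RGD.le_Sup h1 hg
      exact Subgroup.mem_sup_right (H.X_le_Zc (H.comm_mem h2 (H.e_mem_Q hy t)))


/-- the elements acting trivially on `Q / Z(Q)` -/
def Kr (cs : CoxeterSystem M W) (h : IsCartan M A) (T : Subgroup Y) (X : (I → ℤ) → Subgroup Y) (j : I) (y : Y) : Prop :=
  y ∈ PJ cs h T X (Jn j) ∧ ∀ q ∈ VJ cs h X (Jn j), ⁅y, q⁆ ∈ Zc cs h X j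

theorem Kr_conj {y k : Y} (hy : Kr cs h T X j y) (hk : k ∈ PJ cs h T X (Jn j)) : Kr cs h T X j (k * y * k⁻¹) := by
  refine ⟨mul_mem (mul_mem hk hy.1) (inv_mem hk), fun q hq => ?_⟩
  have h1 := H.conj_Q (inv_mem hk) hq
  rw [inv_inv] at h1
  have h2 := H.conj_Zc hk (hy.2 _ h1)
  have e1 : k * ⁅y, k⁻¹ * q * k⁆ * k⁻¹ = ⁅k * y * k⁻¹, q⁆ := by simp only [commutatorElement_def]; group
  rwa [e1] at h2

theorem Kr_Q {u : Y} (hu : u ∈ VJ cs h X (Jn j)) : Kr cs h T X j u :=
  ⟨VJ_le_PJ hu, fun _ hq => H.X_le_Zc (H.comm_mem hu hq)⟩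

theorem Kr_mul {y z : Y} (hy : Kr cs h T X j y) (hz : Kr cs h T X j z) : Kr cs h T X j (y * z) := by
  refine ⟨mul_mem hy.1 hz.1, fun q hq => ?_⟩
  have e1 : ⁅y * z, q⁆ = y * ⁅z, q⁆ * y⁻¹ * ⁅y, q⁆ := by simp only [commutatorElement_def]; group
  rw [e1]
  exact mul_mem (H.conj_Zc hy.1 (hz.2 q hq)) (hy.2 q hq)

theorem Kr_inv {y : Y} (hy : Kr cs h T X j y) : Kr cs h T X j y⁻¹ := by
  refine ⟨inv_mem hy.1, fun q hq => ?_⟩
  have e1 : ⁅y⁻¹, q⁆ = y⁻¹ * (⁅y, q⁆)⁻¹ * y⁻¹⁻¹ := by simp only [commutatorElement_def]; group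
  rw [e1]
  exact H.conj_Zc (inv_mem hy.1) (inv_mem (hy.2 q hq))

/-- they normalise the series -/
theorem Kr_norm {y : Y} (hy : Kr cs h T X j y) (k : ℤ) : y ∈ Subgroup.normalizer (SS cs h X j k : Set Y) := by
  have key : ∀ {y : Y}, Kr cs h T X j y → ∀ s ∈ SS cs h X j k, y * s * y⁻¹ ∈ SS cs h X j k := by
    intro y hy s hs
    have e1 : y * s * y⁻¹ = ⁅y, s⁆ * s := by rw [commutatorElement_def]; group
    rw [e1]
    exact mul_mem (Subgroup.mem_sup_right (hy.2 s (H.SS_le hs))) hs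
  rw [Subgroup.mem_normalizer_iff]
  intro s
  refine ⟨fun hs => key hy s hs, fun hs => ?_⟩
  have h2 := key (H.Kr_inv hy) _ hs
  have e1 : y⁻¹ * (y * s * y⁻¹) * y⁻¹⁻¹ = s := by group
  rwa [e1] at h2

/-- an element of `X x` commuting with `X (a - x)` -/
theorem eq_one_of {x : I → ℤ} (hx : IsRoot cs h x) (hj : x j = 1) (hc : (c x : K) ≠ 0) {u : K}
    (h1 : e x u * e (a - x) 1 = e (a - x) 1 * e x u) : u = 0 := by
  have h2 := H.comm1 x hx hj u 1
  rw [commutatorElement_eq_one_iff_mul_comm.2 h1, ← H.zero H.ra, mul_one] at h2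
  have h3 := H.inj a H.ra h2
  rcases mul_eq_zero.1 h3.symm with h4 | h4
  · exact absurd h4 hc
  · exact h4

/-- the Weyl group of `J` fixes `a` -/
theorem rep_simple {i : I} (hi : i ≠ j) : rep cs h (cs.simple i) a = a := by
  rw [H.lr.rep_eq_iff, H.lev, sr_ne hi.symm]

/-- **they are in `B`** -/
theorem Kr_B {y : Y} (hy : Kr cs h T X j y) : y ∈ RGD.B cs h T X := by
  let P : Subgroup Y := (⨅ k : ℤ, Subgroup.normalizer (SS cs h X j k : Set Y)) ⊓ PJ cs h T X (Jn j)
  have hP : ∀ g, g ∈ P ↔ (∀ k, g ∈ Subgroup.normalizer (SS cs h X j k : Set Y)) ∧ g ∈ PJ cs h T X (Jn j) := by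
    intro g
    rw [Subgroup.mem_inf, Subgroup.mem_iInf]
  have hBP : RGD.B cs h T X ≤ P := le_inf (le_iInf fun k => H.B_le k) B_le_PJ
  have h1 := inf_eq_PJ R hBP
  have h2 : {i | n i ∈ P} = ∅ := by
    rw [Set.eq_empty_iff_forall_notMem]
    intro i hi
    obtain ⟨h3, h4⟩ := (hP _).1 hi
    have hij : i ≠ j := by
      have h5 : Cell R.nsys cs h X (cs.simple i) (n i) := cell_of_rp (rp_simple cs R.nsys i)
      have h6 := (cell_mem_PJ_iff R h5).1 h4
      intro hij
      have h7 : rep cs h (cs.simple i) a = a := by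
        have h8 : WJ cs (Jn j) ≤ WJ cs (orth cs h a) := by
          unfold WJ
          refine Subgroup.closure_mono ?_
          rintro _ ⟨k, hk, rfl⟩
          exact ⟨k, H.rep_simple hk, rfl⟩
        exact rep_of_mem_WJ_orth (h8 h6)
      rw [H.lr.rep_eq_iff, H.lev, hij, sr_self] at h7
      exact one_ne_zero h7
    -- a root which is lowered
    have key : ∀ x, IsRoot cs h x → x j = 1 → (c x : K) ≠ 0 → ht x < ht (rep cs h (cs.simple i) x) → False := by
      intro x hx hj hc hlt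
      have hr := rp_simple cs R.nsys i
      -- `n_i` maps `X (s_i x)` onto `X x`
      have hxs : IsRoot cs h (rep cs h (cs.simple i) x) := hx.act _
      have hjs : rep cs h (cs.simple i) x j = 1 := by
        rw [rep_simple_eq, Pi.sub_apply, Pi.smul_apply, sr_ne hij.symm, smul_zero, sub_zero, hj]
      have h5 : (n i)⁻¹ * e x 1 * n i ∈ X (rep cs h (cs.simple i) x) := by
        have := R.conj_mem' hr hx (H.memX hx 1)
        rwa [inv_simple] at this
      obtain ⟨s, hs⟩ := (H.mem _ hxs _).1 h5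
      have h6 : e (rep cs h (cs.simple i) x) s ∈ SS cs h X j (ht (rep cs h (cs.simple i) x)) :=
        Subgroup.mem_sup_left (RGD.le_Sup (S := {z | z ∈ NotJ cs h (Jn j) ∧ ht (rep cs h (cs.simple i) x) ≤ ht z})
          ⟨H.one_mem' hxs hjs, le_rfl⟩ (H.memX hxs s))
      have h7 := (Subgroup.mem_normalizer_iff.1 (h3 (ht (rep cs h (cs.simple i) x))) _).1 h6
      rw [hs] at h7
      have e1 : n i * ((n i)⁻¹ * e x 1 * n i) * (n i)⁻¹ = e x 1 := by group
      rw [e1] at h7
      exact one_ne_zero (H.eq_one_of hx hj hc (H.SS_comm hx hj hlt h7 1))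
    obtain ⟨x, hx, hj, hc, hm⟩ := H.move i hij
    have hht : ht (rep cs h (cs.simple i) x) = ht x - pairing A i x := by
      have h5 : rep cs h (cs.simple i) x + pairing A i x • sr i = x := by rw [rep_simple_eq]; abel
      have h6 := congrArg ht h5
      rw [RGD.ht_add, RGD.ht_smul] at h6
      have h7 : ht (sr i : I → ℤ) = 1 := by
        unfold ht sr
        simp
      rw [h7] at h6
      omega
    rcases lt_or_gt_of_ne hm with h5 | h5
    · exact key x hx hj hc (by rw [hht]; omega)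
    · have hr := rp_simple cs R.nsys i
      have hxs : IsRoot cs h (rep cs h (cs.simple i) x) := hx.act _
      have hjs : rep cs h (cs.simple i) x j = 1 := by
        rw [rep_simple_eq, Pi.sub_apply, Pi.smul_apply, sr_ne hij.symm, smul_zero, sub_zero, hj]
      have h6 : e x 1 ∈ SS cs h X j (ht x) :=
        Subgroup.mem_sup_left (RGD.le_Sup (S := {z | z ∈ NotJ cs h (Jn j) ∧ ht x ≤ ht z})
          ⟨H.one_mem' hx hj, le_rfl⟩ (H.memX hx 1))
      have h7 := (Subgroup.mem_normalizer_iff.1 (h3 (ht x)) _).1 h6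
      have h8 : n i * e (a - x) 1 * (n i)⁻¹ ∈ X (a - rep cs h (cs.simple i) x) := by
        have := R.conj_mem hr (H.sub_mem hx hj).1 (H.memX (H.sub_mem hx hj).1 1)
        rwa [map_sub, H.rep_simple hij] at this
      obtain ⟨t, ht⟩ := (H.mem _ (H.sub_mem hxs hjs).1 _).1 h8
      have h9 := H.SS_comm hxs hjs (by rw [hht]; omega) h7 t
      rw [ht] at h9
      have h10 : e x 1 * e (a - x) 1 = e (a - x) 1 * e x 1 := by
        calc e x 1 * e (a - x) 1 = (n i)⁻¹ * (n i * e x 1 * (n i)⁻¹ * (n i * e (a - x) 1 * (n i)⁻¹)) * n i := by group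
          _ = (n i)⁻¹ * (n i * e (a - x) 1 * (n i)⁻¹ * (n i * e x 1 * (n i)⁻¹)) * n i := by rw [h9]
          _ = e (a - x) 1 * e x 1 := by group
      exact one_ne_zero (H.eq_one_of hx hj hc h10)
  rw [h2] at h1
  have h3 : y ∈ P ⊓ GG cs h T X := ⟨(hP y).2 ⟨fun k => H.Kr_norm hy k, hy.1⟩, PJ_le_GG hy.1⟩
  rw [h1, mem_PJ_iff_cell R] at h3
  obtain ⟨w, hw, b₁, hb₁, k, hk, b₂, hb₂, rfl⟩ := h3
  have h4 : w = 1 := by
    unfold WJ at hw
    simpa using hw
  subst h4
  exact mul_mem (mul_mem hb₁ (RGD.T_le_B hk.mem_of_one)) hb₂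


/-- they are in `T Q` -/
theorem Kr_TQ {y : Y} (hy : Kr cs h T X j y) : ∃ t ∈ T, ∃ u ∈ VJ cs h X (Jn j), y = t * u := by
  obtain ⟨w, hw⟩ := exists_isLongest cs (Jn j)
  obtain ⟨k, hk⟩ := exists_rp cs R.nsys w
  have hkP : k ∈ PJ cs h T X (Jn j) := LJ_le_PJ (rp_mem_LJ R hw.1 hk)
  obtain ⟨t, ht, u, hu, rfl⟩ := R.mem_B.1 (H.Kr_B hy)
  have h1 := H.Kr_B (H.Kr_conj hy hkP)
  have h2 : k * t * k⁻¹ ∈ T := by
    have h3 : k * t * k⁻¹ ∈ cj k T := conj_mem_cj.2 ht
    rwa [cj_T R hk] at h3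
  have h3 : k * u * k⁻¹ ∈ RGD.B cs h T X := by
    have e1 : k * u * k⁻¹ = (k * t * k⁻¹)⁻¹ * (k * (t * u) * k⁻¹) := by group
    rw [e1]
    exact mul_mem (inv_mem (RGD.T_le_B h2)) h1
  have h4 := mem_PW_of_conj R hk.inv hu (by rw [inv_inv]; exact h3)
  rw [inv_inv] at h4
  refine ⟨t, ht, u, RGD.Sup_mono (fun x hx => ?_) h4, rfl⟩
  obtain ⟨hx1, hx2, hx3⟩ := hx
  rcases mem_PosJ_or_NotJ (Jn j) hx1 hx2 with h5 | h5
  · exfalso
    have h6 := rep_longest_nonpos hw h5
    have h7 : rep cs h w x = 0 := le_antisymm h6 hx3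
    exact (hx1.act w).ne_zero h7
  · exact h5

theorem Kr_T {t : Y} (ht : t ∈ T) (hy : Kr cs h T X j t) : t = 1 := by
  refine H.tor t ht fun x hx hj hc s => ?_
  have h1 := hy.2 _ (H.e_mem_Q (H.one_mem' hx hj) s)
  have h2 : t * e x s * t⁻¹ ∈ X x := by
    have h3 : t * e x s * t⁻¹ ∈ cj t (X x) := conj_mem_cj.2 (H.memX hx s)
    rwa [R.tor x hx t ht] at h3
  have h3 : ⁅t, e x s⁆ ∈ X x := by
    rw [commutatorElement_def]
    exact mul_mem h2 (inv_mem (H.memX hx s))
  obtain ⟨u, hu⟩ := (H.mem x hx _).1 h3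
  rw [← hu] at h1
  have h4 := H.eq_one_of hx hj hc ((mem_Zc.1 h1).2 _ (H.e_mem_Q (H.one_mem' (H.sub_mem hx hj).1
    (H.sub_mem hx hj).2) 1)).symm
  rw [h4, H.zero hx] at hu
  exact commutatorElement_eq_one_iff_mul_comm.1 hu.symm

/-- **A `p'`-element acting trivially on `Q / Z(Q)` is trivial.** -/
theorem final {y : Y} (hy : Kr cs h T X j y) {m : ℕ} (hm : y ^ m = 1) (hmp : m.Coprime p) [Fact p.Prime] : y = 1 := by
  obtain ⟨t, ht, u, hu, rfl⟩ := H.Kr_TQ hy
  have h1 : Kr cs h T X j t := by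
    have h2 := H.Kr_mul hy (H.Kr_inv (H.Kr_Q hu))
    rwa [mul_inv_cancel_right] at h2
  rw [H.Kr_T ht h1, one_mul] at hm ⊢
  obtain ⟨k, hk⟩ := KFacts.RgdCharP.isPGroup_VJ R (Jn j) ⟨u, hu⟩
  have h3 : u ^ p ^ k = 1 := congrArg Subtype.val hk
  exact orderOf_eq_one_iff.1 (Nat.eq_one_of_dvd_coprimes (hmp.pow_right k) (orderOf_dvd_of_pow_eq_one hm)
    (orderOf_dvd_of_pow_eq_one h3))

/-- an element commuting with a nontrivial element of `X a` -/
theorem of_comm (hG : GG cs h T X = ⊤) {y : Y} {s : K} (hs : s ≠ 0) (hy : y * e a s = e a s * y) :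
    y ∈ PJ cs h T X (Jn j) ∧ ∀ u, y * e a u = e a u * y := by
  have hz1 : e a s ≠ 1 := by
    intro h1
    exact hs (H.inj a H.ra (by rw [h1, H.zero H.ra]))
  have hyG : y ∈ GG cs h T X := by rw [hG]; exact Subgroup.mem_top y
  constructor
  · have h1 := H.lr.le_PS_of_comm hyG (H.memX H.ra s) hz1 hy
    have h2 : PS T X (Ge cs h a) = PJ cs h T X {i | ell cs h H.lr.root (sr i) = 0} :=
      PS_half_of_dom (f := ell cs h H.lr.root) fun i => by
        rw [ell_apply, H.lev]
        by_cases hij : i = j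
        · rw [hij, sr_self]; norm_num
        · rw [sr_ne (Ne.symm hij)]
    have h3 : {i | ell cs h H.lr.root (sr i) = 0} = Jn j := by
      ext i
      simp only [Set.mem_setOf_eq, ell_apply, H.lev, Jn]
      constructor
      · rintro h3 rfl
        rw [sr_self] at h3
        exact one_ne_zero h3
      · intro h3
        exact sr_ne (Ne.symm h3)
    rw [h2, h3] at h1
    exact h1
  · obtain ⟨t, ht, htz, q, hq, rfl⟩ := (H.lr.mem_centralizer hyG (H.memX H.ra s) hz1).1 hy
    intro u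
    have h1 := H.lr.comm' hq (H.memX H.ra u)
    rw [mul_assoc, h1, ← mul_assoc, H.tora t ht s hs htz u, mul_assoc]

open Cfsg.Agent.H380.RC in
/-- **The rule.** `QF ≤ Q` normalised by `y`; `h1` : if `d ∈ QF` is not in `Z(QF)`, then the commutators of `d` contain
`z`; `h2` : `C_Q(QF) = Z(Q)`. -/
theorem main_gen (hG : GG cs h T X = ⊤) [Fact p.Prime] {QF : Subgroup Y} (hle : QF ≤ VJ cs h X (Jn j)) {y : Y} {s : K}
    (hs : s ≠ 0) (hy : y * e a s = e a s * y) (hyQ : ∀ q ∈ QF, y * q * y⁻¹ ∈ QF) {m : ℕ} (hm : y ^ m = 1)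
    (hmp : m.Coprime p) {z : Y} (h1 : ∀ d ∈ QF, ∀ q ∈ QF, d * q ≠ q * d → ∃ q ∈ QF, z = d * q * d⁻¹ * q⁻¹)
    (h2 : ∀ w ∈ VJ cs h X (Jn j), (∀ q ∈ QF, w * q = q * w) → w ∈ Zc cs h X j) :
    y = 1 ∨ z ∈ cmm QF y := by
  obtain ⟨hyP, hya⟩ := H.of_comm hG hs hy
  have hD : cmm QF y ≤ QF := by
    rw [cmm, Subgroup.closure_le]
    rintro _ ⟨u, hu, rfl⟩
    have e1 : u * y * u⁻¹ * y⁻¹ = u * (y * u⁻¹ * y⁻¹) := by group
    rw [e1]
    exact mul_mem hu (hyQ _ (inv_mem hu))
  by_cases hcase : ∃ d ∈ cmm QF y, ∃ q ∈ QF, d * q ≠ q * d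
  · right
    obtain ⟨d, hd, q, hq, hne⟩ := hcase
    obtain ⟨q', hq', rfl⟩ := h1 d (hD hd) q hq hne
    have h4 : d * q' * d⁻¹ * q'⁻¹ = (q' * d * q'⁻¹ * d⁻¹)⁻¹ := by group
    rw [h4]
    exact inv_mem (cmm_comm hq' hd)
  · left
    push Not at hcase
    have hDZ : ∀ d ∈ cmm QF y, d ∈ Zc cs h X j := fun d hd => h2 d (hle (hD hd)) (hcase d hd)
    refine H.final (y := y) ⟨hyP, fun q hq => ?_⟩ hm hmp
    have hq' := H.conj_Q hyP hq
    have e0 : ⁅y, q⁆ = (y * q * y⁻¹) * q⁻¹ := commutatorElement_def _ _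
    refine h2 _ (by rw [e0]; exact mul_mem hq' (inv_mem hq)) fun w hw => ?_
    -- `d = [w, y]`
    have hd := hDZ _ (mem_cmm (U := QF) (x := y) hw)
    obtain ⟨hd1, hd2⟩ := mem_Zc.1 hd
    set d := w * y * w⁻¹ * y⁻¹ with hdd
    have h3 : y * w * y⁻¹ = d⁻¹ * w := by rw [hdd]; group
    have hqw := H.comm_mem hq (hle hw)
    obtain ⟨k, hk⟩ := (H.mem a H.ra _).1 hqw
    -- `[q', w] = [q, w]`
    have h5 : (y * q * y⁻¹) * d = d * (y * q * y⁻¹) := hd2 _ hq'
    have h6 : ⁅y * q * y⁻¹, w⁆ = ⁅q, w⁆ := by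
      have h7 : y * ⁅q, w⁆ * y⁻¹ = ⁅q, w⁆ := by
        rw [← hk, hya]; group
      have h8 : y * ⁅q, w⁆ * y⁻¹ = ⁅y * q * y⁻¹, d⁻¹ * w⁆ := by
        rw [← h3]
        simp only [commutatorElement_def]; group
      have h9 : ⁅y * q * y⁻¹, d⁻¹ * w⁆ = ⁅y * q * y⁻¹, w⁆ := by
        have h10 : (y * q * y⁻¹) * d⁻¹ = d⁻¹ * (y * q * y⁻¹) := by
          calc (y * q * y⁻¹) * d⁻¹ = d⁻¹ * (d * (y * q * y⁻¹)) * d⁻¹ := by group
            _ = d⁻¹ * ((y * q * y⁻¹) * d) * d⁻¹ := by rw [h5]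
            _ = _ := by group
        have h11 := H.a_comm (inv_mem hd1) (H.comm_mem hq' (hle hw))
        simp only [commutatorElement_def] at h11 ⊢
        calc (y * q * y⁻¹) * (d⁻¹ * w) * (y * q * y⁻¹)⁻¹ * (d⁻¹ * w)⁻¹
            = ((y * q * y⁻¹) * d⁻¹) * w * (y * q * y⁻¹)⁻¹ * w⁻¹ * d := by group
          _ = (d⁻¹ * ((y * q * y⁻¹) * w * (y * q * y⁻¹)⁻¹ * w⁻¹)) * d := by rw [h10]; group
          _ = ((y * q * y⁻¹) * w * (y * q * y⁻¹)⁻¹ * w⁻¹) * d⁻¹ * d := by rw [h11]
          _ = _ := by group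
      rw [← h9, ← h8, h7]
    have h7 := H.a_comm hq' hqw
    have h8 := H.a_comm hq hqw
    rw [e0]
    have h9 : (y * q * y⁻¹) * w = ⁅q, w⁆ * w * (y * q * y⁻¹) := by
      rw [← h6, commutatorElement_def]; group
    have h10 : q⁻¹ * w = q⁻¹ * ⁅q, w⁆⁻¹ * q * w * q⁻¹ := by
      rw [commutatorElement_def]; group
    have h11 : q⁻¹ * ⁅q, w⁆⁻¹ * q = ⁅q, w⁆⁻¹ := by
      have h12 := H.a_comm (inv_mem hq) (inv_mem hqw)
      rw [h12]; group
    rw [h11] at h10
    have h12 := H.a_comm hq' (inv_mem hqw)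
    calc (y * q * y⁻¹) * q⁻¹ * w = (y * q * y⁻¹) * (q⁻¹ * w) := by group
      _ = ((y * q * y⁻¹) * ⁅q, w⁆⁻¹) * w * q⁻¹ := by rw [h10]; group
      _ = ⁅q, w⁆⁻¹ * ((y * q * y⁻¹) * w) * q⁻¹ := by rw [h12]; group
      _ = w * ((y * q * y⁻¹) * q⁻¹) := by rw [h9]; group

end Hs

end Cfsg.Agent.H579.RG

private theorem dce_7598db844a6b : _root_.True := by
  try have : _root_.True := by simp only [_root_.Cfsg.Agent.Nodes.Coroot.ell.congr_simp]
  try have : _root_.True := by simp only [_root_.Cfsg.Agent.H579.RG.Hs.SS.eq_1]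
  try have : _root_.True := by simp only [_root_.Cfsg.Agent.H579.RG.Jn.eq_1]
  try have : _root_.True := by simp only [_root_.Cfsg.Agent.H579.RG.Hs.Zc.eq_1]
  exact _root_.True.intro
end

-- part: H351/RG/TwAbs
section
prune_inst 0x42470740531220200001c8510f0001fe797000192006b88002844054604c18f62a5434f211e301510183222440830004813980030c20000000a000400011d01a090801402f089000c86000f800004410000000000000000000000000000000000004010000
set_option linter.all false
open scoped Cfsg.Agent.FastGrp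

/-!
# S3509, exceptional groups: rational points of the unipotent radical of a long root parabolic (helper351)

`K` algebraically closed, `e x t` root elements, `a` the highest root, `L` the roots `x` with `a - x` a root,
`QK = ⟨e x t : x ∈ L ∪ {a}⟩`, `σ` an automorphism with `σ (e x t) = e (g x) (k_x t ^ q)`.

* `LQ.lin` : `w * e x t = e a (k t) * e x t * w` for `w ∈ QK`;
* `h1` : for `d ∈ QK` fixed by `σ`, not central, every `σ`-fixed `e a s` is a commutator `[d, q]`, `q ∈ QK` fixed by `σ`;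
* `h2` : an element of `QK` commuting with the `σ`-fixed elements of `QK` is central in `QK`.
-/

set_option autoImplicit false

namespace Cfsg.Agent.H351.RG

open scoped commutatorElement

variable {I Y : Type*} [Group Y] {K : Type*} [Field K]

/-- the relations -/
structure LQ (e : (I → ℤ) → K → Y) (a : I → ℤ) (L : Set (I → ℤ)) (c : (I → ℤ) → K) : Prop where
  add : ∀ x, x = a ∨ x ∈ L → ∀ s t, e x (s + t) = e x s * e x t
  inj : ∀ x, x = a ∨ x ∈ L → Function.Injective (e x)
  cen : ∀ x, x = a ∨ x ∈ L → ∀ s t, e x s * e a t = e a t * e x s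
  sub : ∀ x ∈ L, a - x ∈ L
  comm0 : ∀ x ∈ L, ∀ y ∈ L, x + y ≠ a → ∀ s t, e x s * e y t = e y t * e x s
  comm1 : ∀ x ∈ L, ∀ s t, ⁅e x s, e (a - x) t⁆ = e a (c x * s * t)

/-- the group `Q` -/
def QK (e : (I → ℤ) → K → Y) (a : I → ℤ) (L : Set (I → ℤ)) : Subgroup Y :=
  Subgroup.closure {z | ∃ x, (x = a ∨ x ∈ L) ∧ ∃ t, z = e x t}

variable {e : (I → ℤ) → K → Y} {a : I → ℤ} {L : Set (I → ℤ)} {c : (I → ℤ) → K}

omit [Field K] in
theorem e_mem {x : I → ℤ} (hx : x = a ∨ x ∈ L) (t : K) : e x t ∈ QK e a L :=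
  Subgroup.subset_closure ⟨x, hx, t, rfl⟩

namespace LQ

variable (H : LQ e a L c)

include H

theorem zero {x : I → ℤ} (hx : x = a ∨ x ∈ L) : e x 0 = 1 := by
  have := H.add x hx 0 0
  rw [add_zero] at this
  exact left_eq_mul.1 this

theorem neg {x : I → ℤ} (hx : x = a ∨ x ∈ L) (t : K) : e x (-t) = (e x t)⁻¹ := by
  apply eq_inv_of_mul_eq_one_left
  rw [← H.add x hx, neg_add_cancel, H.zero hx]

/-- `e a t` is central in `Q` -/
theorem a_comm {q : Y} (hq : q ∈ QK e a L) (t : K) : q * e a t = e a t * q := by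
  have h1 : QK e a L ≤ Subgroup.centralizer {e a t} := by
    rw [QK, Subgroup.closure_le]
    rintro _ ⟨x, hx, s, rfl⟩
    rw [SetLike.mem_coe, Subgroup.mem_centralizer_singleton_iff]
    exact H.cen x hx s t
  exact Subgroup.mem_centralizer_singleton_iff.1 (h1 hq)

/-- **linearity** -/
theorem lin {w : Y} (hw : w ∈ QK e a L) {x : I → ℤ} (hx : x ∈ L) :
    ∃ k : K, ∀ t, w * e x t = e a (k * t) * e x t * w := by
  have hw' := hw
  rw [QK] at hw'
  induction hw' using Subgroup.closure_induction with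
  | mem z hz =>
    obtain ⟨y, hy, s, rfl⟩ := hz
    by_cases hya : y = a
    · subst hya
      refine ⟨0, fun t => ?_⟩
      rw [zero_mul, H.zero (Or.inl rfl), one_mul]
      exact (H.cen x (Or.inr hx) t s).symm
    · have hyL : y ∈ L := hy.resolve_left hya
      by_cases hyx : y + x = a
      · have : x = a - y := by rw [← hyx]; abel
        subst this
        refine ⟨c y * s, fun t => ?_⟩
        rw [← H.comm1 y hyL, commutatorElement_def]
        group
      · refine ⟨0, fun t => ?_⟩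
        rw [zero_mul, H.zero (Or.inl rfl), one_mul]
        exact H.comm0 y hyL x hx hyx s t
  | one => exact ⟨0, fun t => by rw [zero_mul, H.zero (Or.inl rfl)]; group⟩
  | mul u v hu hv ihu ihv =>
    obtain ⟨k, hk⟩ := ihu hu
    obtain ⟨k', hk'⟩ := ihv hv
    refine ⟨k + k', fun t => ?_⟩
    rw [mul_assoc, hk', ← mul_assoc, ← mul_assoc, H.a_comm hu, mul_assoc (e a _) u, hk, add_mul,
      add_comm (k * t), H.add a (Or.inl rfl)]
    group
  | inv u hu ihu =>
    obtain ⟨k, hk⟩ := ihu hu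
    refine ⟨-k, fun t => ?_⟩
    have h1 := hk t
    have h2 := H.a_comm (show u ∈ QK e a L from hu) (-k * t)
    have h3 : e a (-k * t) * e a (k * t) = 1 := by
      rw [← H.add a (Or.inl rfl)]
      have : -k * t + k * t = 0 := by ring
      rw [this, H.zero (Or.inl rfl)]
    have h7 : u * (e a (-k * t) * e x t) = e x t * u := by
      rw [← mul_assoc, h2, mul_assoc, h1, ← mul_assoc, ← mul_assoc, h3, one_mul]
    have h6 : e a (-k * t) * e x t = u⁻¹ * (e x t * u) := by rw [← h7]; group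
    rw [h6]
    group

omit H in
/-- the commutator with a root element -/
theorem comm_eq {w : Y} {x : I → ℤ} {k t : K} (h : w * e x t = e a (k * t) * e x t * w) : ⁅w, e x t⁆ = e a (k * t) := by
  rw [commutatorElement_def, h]; group

/-- the commutator is multiplicative -/
theorem comm_mul {w u v : Y} {k k' : K} (hu : u ∈ QK e a L) (h1 : ⁅w, u⁆ = e a k) (h2 : ⁅w, v⁆ = e a k') :
    ⁅w, u * v⁆ = e a (k + k') := by
  have h3 : ⁅w, u * v⁆ = ⁅w, u⁆ * (u * ⁅w, v⁆ * u⁻¹) := by
    simp only [commutatorElement_def]; group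
  rw [h3, h1, h2, H.a_comm hu, H.add a (Or.inl rfl)]
  group

/-- an element with zero coefficients is central -/
theorem central {w : Y} (hw : w ∈ QK e a L) (h0 : ∀ x ∈ L, ∀ t, w * e x t = e x t * w) :
    ∀ q ∈ QK e a L, w * q = q * w := by
  intro q hq
  have h1 : QK e a L ≤ Subgroup.centralizer {w} := by
    rw [QK, Subgroup.closure_le]
    rintro _ ⟨x, hx, s, rfl⟩
    rw [SetLike.mem_coe, Subgroup.mem_centralizer_singleton_iff]
    rcases hx with rfl | hx
    · exact (H.a_comm hw s).symm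
    · exact (h0 x hx s).symm
  exact (Subgroup.mem_centralizer_singleton_iff.1 (h1 hq)).symm

end LQ

/-- the action of `σ` -/
structure Sg (e : (I → ℤ) → K → Y) (a : I → ℤ) (L : Set (I → ℤ)) (σ : MulAut Y) (q : ℕ)
    (g : (I → ℤ) → (I → ℤ)) : Prop where
  act : ∀ x, x = a ∨ x ∈ L → ∃ k : K, k ≠ 0 ∧ ∀ t, σ (e x t) = e (g x) (k * t ^ q)
  ga : g a = a
  gL : ∀ x ∈ L, g x ∈ L
  ord : ∃ m, 0 < m ∧ ∀ x ∈ L, g^[m] x = x
  opp : ∀ x ∈ L, ∀ i, x + g^[i] x ≠ a
  q2 : 2 ≤ q
  q0 : (q : K) = 0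

namespace Sg

variable {σ : MulAut Y} {q : ℕ} {g : (I → ℤ) → (I → ℤ)} (S : Sg e a L σ q g) (H : LQ e a L c)

include S

theorem iter_mem {x : I → ℤ} (hx : x = a ∨ x ∈ L) (i : ℕ) : g^[i] x = a ∨ g^[i] x ∈ L := by
  induction i with
  | zero => exact hx
  | succ i ih =>
    rw [Function.iterate_succ_apply']
    rcases ih with h | h
    · left; rw [h, S.ga]
    · exact Or.inr (S.gL _ h)

theorem iter_L {x : I → ℤ} (hx : x ∈ L) (i : ℕ) : g^[i] x ∈ L := by
  induction i with
  | zero => exact hx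
  | succ i ih =>
    rw [Function.iterate_succ_apply']
    exact S.gL _ ih

/-- iterates of `σ` -/
theorem act_iter {x : I → ℤ} (hx : x = a ∨ x ∈ L) (i : ℕ) :
    ∃ k : K, k ≠ 0 ∧ ∀ t, (σ ^ i) (e x t) = e (g^[i] x) (k * t ^ q ^ i) := by
  induction i with
  | zero => exact ⟨1, one_ne_zero, fun t => by simp⟩
  | succ i ih =>
    obtain ⟨k, hk, h1⟩ := ih
    obtain ⟨k', hk', h2⟩ := S.act _ (S.iter_mem hx i)
    refine ⟨k' * k ^ q, mul_ne_zero hk' (pow_ne_zero _ hk), fun t => ?_⟩
    rw [pow_succ', MulAut.mul_apply, h1, h2, Function.iterate_succ_apply']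
    congr 1
    rw [mul_pow, ← pow_mul, ← pow_succ, mul_assoc]

theorem sig_mem {w : Y} (hw : w ∈ QK e a L) : σ w ∈ QK e a L := by
  have h1 : QK e a L ≤ (QK e a L).comap σ.toMonoidHom := by
    conv_lhs => rw [QK]
    rw [Subgroup.closure_le]
    rintro _ ⟨x, hx, t, rfl⟩
    obtain ⟨k, -, h⟩ := S.act x hx
    show σ (e x t) ∈ QK e a L
    rw [h]
    refine e_mem ?_ _
    rcases hx with rfl | hx
    · exact Or.inl S.ga
    · exact Or.inr (S.gL x hx)
  exact h1 hw

theorem pow_mem {w : Y} (hw : w ∈ QK e a L) (i : ℕ) : (σ ^ i) w ∈ QK e a L := by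
  induction i with
  | zero => exact hw
  | succ i ih =>
    rw [pow_succ', MulAut.mul_apply]
    exact S.sig_mem ih

/-- the product of the conjugates -/
noncomputable def nrm (σ : MulAut Y) (m : ℕ) (u : Y) : Y := ((List.range m).map fun i => (σ ^ i) u).prod

theorem nrm_mem {u : Y} (hu : u ∈ QK e a L) (m : ℕ) : nrm σ m u ∈ QK e a L := by
  refine Subgroup.list_prod_mem _ fun y hy => ?_
  obtain ⟨i, -, rfl⟩ := List.mem_map.1 hy
  exact S.pow_mem hu i

omit [Field K] S in
/-- the product is fixed -/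
theorem nrm_fix {m : ℕ} (hm : 0 < m) {u : Y} (hu : (σ ^ m) u = u)
    (hc : ∀ i, 0 < i → i < m → (σ ^ i) u * u = u * (σ ^ i) u) : σ (nrm σ m u) = nrm σ m u := by
  obtain ⟨n, rfl⟩ : ∃ n, m = n + 1 := ⟨m - 1, by omega⟩
  have h1 : σ (nrm σ (n + 1) u) = ((List.range (n + 1)).map fun i => (σ ^ (i + 1)) u).prod := by
    unfold nrm
    rw [map_list_prod, List.map_map]
    congr 1
    refine List.map_congr_left fun i _ => ?_
    rw [pow_succ']
    rfl
  rw [h1, List.range_succ, List.map_append, List.prod_append]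
  have h4 : nrm σ (n + 1) u = u * ((List.range n).map fun i => (σ ^ (i + 1)) u).prod := by
    unfold nrm
    rw [List.range_succ_eq_map, List.map_cons, List.prod_cons, List.map_map]
    rfl
  rw [h4]
  simp only [List.map_cons, List.map_nil, List.prod_cons, List.prod_nil, mul_one]
  rw [hu]
  have h2 : ((List.range n).map fun i => (σ ^ (i + 1)) u).prod * u = u * ((List.range n).map fun i => (σ ^ (i + 1)) u).prod := by
    have h3 : ((List.range n).map fun i => (σ ^ (i + 1)) u).prod ∈ Subgroup.centralizer {u} := by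
      refine Subgroup.list_prod_mem _ fun y hy => ?_
      obtain ⟨i, hi, rfl⟩ := List.mem_map.1 hy
      rw [Subgroup.mem_centralizer_singleton_iff]
      have := List.mem_range.1 hi
      exact hc (i + 1) (by omega) (by omega)
    exact Subgroup.mem_centralizer_singleton_iff.1 h3
  exact h2

include H

omit S in
theorem comm_prod {w : Y} (v : ℕ → Y) (hv : ∀ i, v i ∈ QK e a L) (A : ℕ → K) (hA : ∀ i, ⁅w, v i⁆ = e a (A i)) (m : ℕ) :
    ⁅w, ((List.range m).map v).prod⁆ = e a (∑ i ∈ Finset.range m, A i) := by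
  induction m with
  | zero =>
    simp only [List.range_zero, List.map_nil, List.prod_nil, Finset.range_zero, Finset.sum_empty]
    rw [commutatorElement_one_right, H.zero (Or.inl rfl)]
  | succ m ih =>
    rw [List.range_succ, List.map_append, List.prod_append, Finset.sum_range_succ]
    simp only [List.map_cons, List.map_nil, List.prod_cons, List.prod_nil, mul_one]
    refine H.comm_mul (Subgroup.list_prod_mem _ fun y hy => ?_) ih (hA m)
    obtain ⟨i, -, rfl⟩ := List.mem_map.1 hy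
    exact hv i

/-- the commutators with the conjugates of a root element -/
theorem comm_pow {w : Y} (hw : w ∈ QK e a L) {x : I → ℤ} (hx : x ∈ L) :
    ∃ k : ℕ → K, (∀ t, w * e x t = e a (k 0 * t) * e x t * w) ∧
      ∀ i t, ⁅w, (σ ^ i) (e x t)⁆ = e a (k i * t ^ q ^ i) := by
  choose b hb0 hb using fun i => S.act_iter (x := x) (Or.inr hx) i
  choose k' hk' using fun i => H.lin hw (S.iter_L hx i)
  have hb00 : b 0 = 1 := by
    have h1 := hb 0 1
    simp only [pow_zero, MulAut.one_apply, one_pow, mul_one, Function.iterate_zero, id_eq] at h1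
    exact (H.inj x (Or.inr hx) h1).symm
  refine ⟨fun i => k' i * b i, fun t => ?_, fun i t => ?_⟩
  · have h1 := hk' 0 t
    simp only [Function.iterate_zero, id_eq] at h1
    show w * e x t = e a (k' 0 * b 0 * t) * e x t * w
    rw [hb00, mul_one, h1]
  · rw [hb, LQ.comm_eq (hk' i _), mul_assoc]

theorem fix_line {x : I → ℤ} (hx : x ∈ L) {m : ℕ} (hm : 0 < m) (t : K)
    (ht : (σ ^ m) (e x t) = e x t) : σ (nrm σ m (e x t)) = nrm σ m (e x t) := by
  refine nrm_fix hm ht fun i _ _ => ?_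
  obtain ⟨k, -, hk⟩ := S.act_iter (x := x) (Or.inr hx) i
  rw [hk]
  exact (H.comm0 x hx _ (S.iter_L hx i) (S.opp x hx i) _ _).symm

omit H in
/-- the coefficient of `X` -/
theorem coeff_one (k : ℕ → K) {m : ℕ} (hm : 0 < m) :
    (∑ i ∈ Finset.range m, Polynomial.C (k i) * Polynomial.X ^ q ^ i).coeff 1 = k 0 := by
  rw [Polynomial.finsetSum_coeff, Finset.sum_eq_single 0]
  · simp
  · intro i _ hi
    rw [Polynomial.coeff_C_mul, Polynomial.coeff_X_pow, if_neg, mul_zero]
    have := Nat.one_lt_pow hi S.q2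
    omega
  · intro h
    exact absurd (Finset.mem_range.2 hm) h

/-- **(h1)** -/
theorem h1 [IsAlgClosed K] {d : Y} (hd : d ∈ QK e a L) (hσ : σ d = d) (hne : ∃ u ∈ QK e a L, d * u ≠ u * d) {s : K}
    (hs : σ (e a s) = e a s) : ∃ u ∈ QK e a L, σ u = u ∧ e a s = d * u * d⁻¹ * u⁻¹ := by
  obtain ⟨m, hm, hgm⟩ := S.ord
  -- a root with a nonzero coefficient
  obtain ⟨x, hx, hxc⟩ : ∃ x ∈ L, ∃ t, d * e x t ≠ e x t * d := by
    by_contra hcon
    push Not at hcon
    obtain ⟨u, hu, hu'⟩ := hne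
    exact hu' (H.central hd hcon u hu)
  obtain ⟨k, hk0, hk⟩ := S.comm_pow H hd hx
  have hk00 : k 0 ≠ 0 := by
    intro h0
    obtain ⟨t, ht⟩ := hxc
    apply ht
    rw [hk0, h0, zero_mul, H.zero (Or.inl rfl), one_mul]
  -- the root of the polynomial
  obtain ⟨t, ht⟩ : ∃ t : K, ∑ i ∈ Finset.range m, k i * t ^ q ^ i = s := by
    set P : Polynomial K := (∑ i ∈ Finset.range m, Polynomial.C (k i) * Polynomial.X ^ q ^ i) - Polynomial.C s with hP
    have hdeg : P.degree ≠ 0 := by
      intro h0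
      have h1 : P.coeff 1 = 0 := by
        rw [Polynomial.eq_C_of_degree_eq_zero h0, Polynomial.coeff_C, if_neg one_ne_zero]
      rw [hP, Polynomial.coeff_sub, S.coeff_one k hm, Polynomial.coeff_C, if_neg one_ne_zero, sub_zero] at h1
      exact hk00 h1
    obtain ⟨t, ht⟩ := IsAlgClosed.exists_root P hdeg
    refine ⟨t, ?_⟩
    rw [Polynomial.IsRoot.def, hP, Polynomial.eval_sub, Polynomial.eval_finsetSum, Polynomial.eval_C, sub_eq_zero] at ht
    rw [← ht]
    refine Finset.sum_congr rfl fun i _ => ?_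
    rw [Polynomial.eval_mul, Polynomial.eval_C, Polynomial.eval_pow, Polynomial.eval_X]
  have hmem : ∀ i, (σ ^ i) (e x t) ∈ QK e a L := fun i => S.pow_mem (e_mem (Or.inr hx) t) i
  have hc1 : ⁅d, nrm σ m (e x t)⁆ = e a s := by
    rw [← ht]
    exact comm_prod H (fun i => (σ ^ i) (e x t)) hmem _ (fun i => hk i t) m
  have hc2 : ⁅d, σ (nrm σ m (e x t))⁆ = e a s := by
    have h2 : σ ⁅d, nrm σ m (e x t)⁆ = ⁅d, σ (nrm σ m (e x t))⁆ := by
      rw [map_commutatorElement, hσ]
    rw [← h2, hc1, hs]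
  have hc3 : ⁅d, σ (nrm σ m (e x t))⁆ = e a (∑ i ∈ Finset.range m, k (i + 1) * t ^ q ^ (i + 1)) := by
    have h2 : σ (nrm σ m (e x t)) = ((List.range m).map fun i => (σ ^ (i + 1)) (e x t)).prod := by
      unfold nrm
      rw [map_list_prod, List.map_map]
      congr 1
      refine List.map_congr_left fun i _ => ?_
      rw [pow_succ']
      rfl
    rw [h2]
    exact comm_prod H (fun i => (σ ^ (i + 1)) (e x t)) (fun i => hmem (i + 1)) _ (fun i => hk (i + 1) t) m
  have hA : k m * t ^ q ^ m = k 0 * t := by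
    have h2 := H.inj a (Or.inl rfl) (hc3.symm.trans hc2)
    have h3 := Finset.sum_range_succ (fun i => k i * t ^ q ^ i) m
    have h4 := Finset.sum_range_succ' (fun i => k i * t ^ q ^ i) m
    rw [h3, ht] at h4
    rw [h2, pow_zero, pow_one] at h4
    exact add_left_cancel h4
  -- `σ ^ m` fixes `e x t`
  have hfix : (σ ^ m) (e x t) = e x t := by
    obtain ⟨b, -, hb⟩ := S.act_iter (x := x) (Or.inr hx) m
    rw [hgm x hx] at hb
    have h2 := hk m t
    rw [hb, LQ.comm_eq (hk0 _), hA] at h2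
    have h3 := mul_left_cancel₀ hk00 (H.inj a (Or.inl rfl) h2)
    rw [hb, h3]
  refine ⟨nrm σ m (e x t), S.nrm_mem (e_mem (Or.inr hx) t) m, S.fix_line H hx hm t hfix, ?_⟩
  rw [← hc1, commutatorElement_def]

/-- **(h2)** -/
theorem h2 [IsAlgClosed K] {w : Y} (hw : w ∈ QK e a L) (hc : ∀ u ∈ QK e a L, σ u = u → w * u = u * w) :
    ∀ u ∈ QK e a L, w * u = u * w := by
  classical
  obtain ⟨m, hm, hgm⟩ := S.ord
  refine H.central hw fun x hx t₀ => ?_
  obtain ⟨k, hk0, hk⟩ := S.comm_pow H hw hx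
  obtain ⟨b, hb0, hb⟩ := S.act_iter (x := x) (Or.inr hx) m
  rw [hgm x hx] at hb
  suffices hk00 : k 0 = 0 by rw [hk0, hk00, zero_mul, H.zero (Or.inl rfl), one_mul]
  by_contra hk00
  have hq1 : 1 < q ^ m := Nat.one_lt_pow hm.ne' S.q2
  -- the rational points
  set G : Polynomial K := Polynomial.C b * Polynomial.X ^ q ^ m - Polynomial.X with hG
  have hGd : G.natDegree = q ^ m := by
    rw [hG, Polynomial.natDegree_sub_eq_left_of_natDegree_lt]
    · exact Polynomial.natDegree_C_mul_X_pow _ _ hb0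
    · rw [Polynomial.natDegree_C_mul_X_pow _ _ hb0, Polynomial.natDegree_X]
      exact hq1
  have hsep : G.Separable := by
    have h3 : Polynomial.derivative G = -1 := by
      rw [hG, Polynomial.derivative_sub, Polynomial.derivative_C_mul, Polynomial.derivative_X_pow,
        Polynomial.derivative_X]
      have h4 : ((q ^ m : ℕ) : K) = 0 := by
        rw [Nat.cast_pow, S.q0, zero_pow hm.ne']
      rw [h4]
      simp
    rw [Polynomial.separable_def, h3]
    exact ⟨0, -1, by simp⟩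
  have hroot : ∀ t, G.eval t = 0 → (σ ^ m) (e x t) = e x t := by
    intro t ht
    rw [hG, Polynomial.eval_sub, Polynomial.eval_mul, Polynomial.eval_C, Polynomial.eval_pow, Polynomial.eval_X,
      sub_eq_zero] at ht
    rw [hb, ht]
  set P : Polynomial K := ∑ i ∈ Finset.range m, Polynomial.C (k i) * Polynomial.X ^ q ^ i with hP
  have hP0 : P ≠ 0 := by
    intro h0
    apply hk00
    rw [← S.coeff_one k hm, ← hP, h0, Polynomial.coeff_zero]
  have hPd : P.natDegree < q ^ m := by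
    refine lt_of_le_of_lt (Polynomial.natDegree_sum_le_of_forall_le (n := q ^ (m - 1)) _ _ fun i hi => ?_)
      (Nat.pow_lt_pow_right S.q2 (by omega))
    refine (Polynomial.natDegree_C_mul_X_pow_le _ _).trans (Nat.pow_le_pow_right (by have := S.q2; omega) ?_)
    have := Finset.mem_range.1 hi
    omega
  have hPe : ∀ t ∈ G.roots.toFinset, P.eval t = 0 := by
    intro t ht
    rw [Multiset.mem_toFinset, Polynomial.mem_roots'] at ht
    have h3 := S.fix_line H hx hm t (hroot t ht.2)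
    have h4 := hc _ (S.nrm_mem (e_mem (Or.inr hx) t) m) h3
    have h5 := comm_prod H (fun i => (σ ^ i) (e x t)) (fun i => S.pow_mem (e_mem (Or.inr hx) t) i) _
      (fun i => hk i t) m
    have h6 : ⁅w, nrm σ m (e x t)⁆ = 1 := commutatorElement_eq_one_iff_mul_comm.2 h4
    have h7 : e a (∑ i ∈ Finset.range m, k i * t ^ q ^ i) = e a 0 := by
      rw [H.zero (Or.inl rfl), ← h6, ← h5]
      rfl
    have h8 := H.inj a (Or.inl rfl) h7
    rw [hP, Polynomial.eval_finsetSum, ← h8]
    refine Finset.sum_congr rfl fun i _ => ?_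
    rw [Polynomial.eval_mul, Polynomial.eval_C, Polynomial.eval_pow, Polynomial.eval_X]
  refine hP0 (Polynomial.eq_zero_of_natDegree_lt_card_of_eval_eq_zero' P G.roots.toFinset hPe ?_)
  rw [Multiset.toFinset_card_of_nodup (Polynomial.nodup_roots hsep),
    Polynomial.splits_iff_card_roots.1 (IsAlgClosed.splits G), hGd]
  exact hPd

end Sg

end Cfsg.Agent.H351.RG

private theorem dce_7621d9718be2 : _root_.True := by
  try have : _root_.True := by simp only [_root_.Cfsg.Agent.H351.RG.QK.eq_1]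
  exact _root_.True.intro
end

-- part: H605/MX/ConjTop
section
set_option linter.all false
open scoped Cfsg.Agent.FastGrp

/-!
# The roots of a simply laced tabulated system are conjugate to the highest root (helper605)

* `exists_rep_eq` : `D` tabulated, simply laced: any two roots are conjugate under `W`;
* `exists_rep_top` : in particular to the root with index `D.nroots - 1`.
-/

set_option autoImplicit false
set_option linter.unusedSectionVars false

namespace Cfsg.Agent.H605.MX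

open CoxeterSystem Cfsg Cfsg.Lie Cfsg.Lie.ChevalleyDatum
open Cfsg.Agent.ChevalleyStructure Cfsg.Agent.ChevalleyStructure.CoxeterGeom
  Cfsg.Agent.ChevalleyStructure.CoxeterGeomTypes Cfsg.Agent.ChevalleyStructure.NPerm
open Cfsg.Agent.Tits.Roots Cfsg.Agent.Tits.Core Cfsg.Agent.Nodes Cfsg.Agent.Nodes.RGDChev
  Cfsg.Agent.Nodes.SimplyLaced

/-- a spanning tree of the diagram -/
theorem exists_rank {D : ChevalleyDatum} {l : ℕ} {M : CoxeterMatrix (Fin l)} (hp : IsType D l M)
    (h4 : ∀ i j, M i j ≠ 4) (h6 : ∀ i j, M i j ≠ 6) :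
    ∃ (i₀ : Fin l) (rk : Fin l → ℕ), ∀ i, i = i₀ ∨ ∃ j, i ≠ j ∧ cartanOf D l j i ≠ 0 ∧ rk j < rk i := by
  simp only [IsType, typeList, List.mem_cons, List.not_mem_nil, or_false, Prod.mk.injEq, Sigma.mk.injEq] at hp
  rcases hp with ⟨rfl, rfl, hM⟩ | ⟨rfl, rfl, hM⟩ | ⟨rfl, rfl, hM⟩ | ⟨rfl, rfl, hM⟩ | ⟨rfl, rfl, hM⟩ | ⟨rfl, rfl, hM⟩ |
    ⟨rfl, rfl, hM⟩
  all_goals first
    | exact ⟨0, ![0, 1], by decide +kernel⟩
    | exact ⟨0, ![0, 1, 2, 2], by decide +kernel⟩
    | exact ⟨0, ![0, 1, 2, 3], by decide +kernel⟩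
    | exact ⟨0, ![0, 3, 1, 2, 3, 4], by decide +kernel⟩
    | exact ⟨0, ![0, 3, 1, 2, 3, 4, 5], by decide +kernel⟩
    | exact ⟨0, ![0, 3, 1, 2, 3, 4, 5, 6], by decide +kernel⟩

section

variable {D : ChevalleyDatum} {l : ℕ} {M : CoxeterMatrix (Fin l)} (hp : IsType D l M)
  {W : Type*} [Group W] (cs : CoxeterSystem M W)

theorem pairing_sr' (A : Fin l → Fin l → ℤ) (i j : Fin l) : pairing A i (sr j) = A i j := by
  rw [sr, pairing_single, mul_one]

/-- adjacent nodes -/
theorem adj {A : Fin l → Fin l → ℤ} (h : IsCartan M A) (h4 : ∀ i j, M i j ≠ 4) (h6 : ∀ i j, M i j ≠ 6) {i j : Fin l}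
    (hij : i ≠ j) (h0 : A j i ≠ 0) : ∃ w : W, rep cs h w (sr i) = sr j := by
  have h1 : A i j = -1 ∧ A j i = -1 := by
    rcases h.rel i j hij with ⟨h0', h1, h2⟩ | ⟨h0', h1, h2⟩ | ⟨h0', ⟨h1, h2⟩ | ⟨h1, h2⟩⟩ | ⟨h0', ⟨h1, h2⟩ | ⟨h1, h2⟩⟩ <;>
      first
      | exact absurd h0' (h6 i j)
      | exact absurd h0' (h4 i j)
      | exact absurd h2 h0
      | exact ⟨h1, h2⟩
  refine ⟨cs.simple i * cs.simple j, ?_⟩
  have e1 : sr i - (-1 : ℤ) • sr j = (sr i : Fin l → ℤ) + sr j := by module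
  rw [rep_mul_apply, rep_simple_eq cs h j, pairing_sr', h1.2, rep_simple_eq cs h i, e1, pairing_add,
    pairing_sr', pairing_sr', h1.1, h.diag]
  module

theorem exists_rep_sr (h4 : ∀ i j, M i j ≠ 4) (h6 : ∀ i j, M i j ≠ 6) : ∃ i₀ : Fin l, ∀ i : Fin l,
    ∃ w : W, rep cs hp.isCartan w (sr i) = sr i₀ := by
  obtain ⟨i₀, rk, hrk⟩ := exists_rank hp h4 h6
  refine ⟨i₀, ?_⟩
  have key : ∀ n : ℕ, ∀ i : Fin l, rk i ≤ n → ∃ w : W, rep cs hp.isCartan w (sr i) = sr i₀ := by
    intro n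
    induction n with
    | zero =>
      intro i hi
      rcases hrk i with rfl | ⟨j, -, -, hj⟩
      · exact ⟨1, by rw [map_one, Module.End.one_apply]⟩
      · omega
    | succ n ih =>
      intro i hi
      rcases hrk i with rfl | ⟨j, h1, h2, hj⟩
      · exact ⟨1, by rw [map_one, Module.End.one_apply]⟩
      · obtain ⟨w, hw⟩ := ih j (by omega)
        obtain ⟨v, hv⟩ := adj cs hp.isCartan h4 h6 h1 h2
        exact ⟨w * v, by rw [rep_mul_apply, hv, hw]⟩
  exact fun i => key _ i le_rfl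

/-- **All roots are conjugate.** -/
theorem exists_rep_eq (h4 : ∀ i j, M i j ≠ 4) (h6 : ∀ i j, M i j ≠ 6) {a b : Fin l → ℤ}
    (ha : IsRoot cs hp.isCartan a) (hb : IsRoot cs hp.isCartan b) : ∃ w : W, b = rep cs hp.isCartan w a := by
  obtain ⟨i₀, h⟩ := exists_rep_sr hp cs h4 h6
  have key : ∀ c, IsRoot cs hp.isCartan c → ∃ w : W, rep cs hp.isCartan w c = sr i₀ := by
    rintro c ⟨v, i, rfl⟩
    obtain ⟨w, hw⟩ := h i
    exact ⟨w * v⁻¹, by rw [rep_mul_apply, rep_inv_apply, hw]⟩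
  obtain ⟨v, hv⟩ := key a ha
  obtain ⟨w, hw⟩ := key b hb
  exact ⟨w⁻¹ * v, by rw [rep_mul_apply, hv, ← hw, rep_inv_apply]⟩

theorem pos_nroots (hp : IsType D l M) : D.nroots - 1 < D.nroots := by
  simp only [IsType, typeList, List.mem_cons, List.not_mem_nil, or_false, Prod.mk.injEq] at hp
  rcases hp with ⟨rfl, -⟩ | ⟨rfl, -⟩ | ⟨rfl, -⟩ | ⟨rfl, -⟩ | ⟨rfl, -⟩ | ⟨rfl, -⟩ | ⟨rfl, -⟩ <;> decide +kernel

/-- **All roots are conjugate to the highest root.** -/
theorem exists_rep_top (h4 : ∀ i j, M i j ≠ 4) (h6 : ∀ i j, M i j ≠ 6) {b : Fin l → ℤ}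
    (hb : IsRoot cs hp.isCartan b) : ∃ w : W, b = rep cs hp.isCartan w (vec D l (D.nroots - 1)) :=
  exists_rep_eq hp cs h4 h6 ((isRoot_iff hp cs _).2 ⟨D.nroots - 1, pos_nroots hp, rfl⟩) hb

end

end Cfsg.Agent.H605.MX
end

-- part: H76/RG/High
section
prune_inst 0x4010000
set_option linter.all false
open scoped Cfsg.Agent.FastGrp

/-!
# S3509: a root fixed by a frame automorphism (helper76)

`S` a closed symmetric reflection stable set of roots (`RSet`), `θ` an additive automorphism of the root lattice preserving the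
roots, `S` and the positive elements of `S`.

* `exists_mid` : non-orthogonality chains can be shortened to length two;
* `high` : a nonempty `θ`-stable connected part `Ψ` of `S` contains a `θ`-fixed positive root `β` such that `β + a` is not a
  root for the positive `a ∈ S`;
* `nb S a` : the number of the `b ∈ S` such that `a - b` is a root; `nb_map` : invariance under `θ`; `nb_eq` : constant along
  non-orthogonality (simply laced);
* `high_nb` : the case `Ψ = {a ∈ S | j ≤ nb S a}`.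
-/

set_option autoImplicit false
set_option linter.unusedSectionVars false

namespace Cfsg.Agent.H76.RG

open CoxeterSystem Cfsg.Agent.ChevalleyStructure.CoxeterGeom Cfsg.Agent.Tits.Roots Cfsg.Agent.Tits.Core
  Cfsg.Agent.Tits.RootComb Cfsg.Agent.Tits.Exchange Cfsg.Agent.Nodes.Reps Cfsg.Agent.Nodes.BNOf
  Cfsg.Agent.Nodes.Coroot Cfsg.Agent.Nodes.PosPair Cfsg.Agent.KFacts.RgdSL Cfsg.Agent.H460.OT

variable {I W : Type*} [Fintype I] [DecidableEq I] [Group W] {M : CoxeterMatrix I}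
  {cs : CoxeterSystem M W} {A : I → I → ℤ} {h : IsCartan M A}

/-- closed symmetric reflection stable sets of roots -/
structure RSet (cs : CoxeterSystem M W) (h : IsCartan M A) (S : Set (I → ℤ)) : Prop where
  root : ∀ a ∈ S, IsRoot cs h a
  neg : ∀ a ∈ S, -a ∈ S
  add : ∀ a ∈ S, ∀ b ∈ S, IsRoot cs h (a + b) → a + b ∈ S
  refl : ∀ a ∈ S, ∀ b ∈ S, a - cpr cs h a b • b ∈ S

/-- additive automorphisms of the root lattice preserving the roots, `S` and its positive part -/
structure TSet (cs : CoxeterSystem M W) (h : IsCartan M A) (S : Set (I → ℤ)) (θ : (I → ℤ) ≃+ (I → ℤ)) : Prop where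
  root : ∀ a, IsRoot cs h (θ a) ↔ IsRoot cs h a
  mem : ∀ a, θ a ∈ S ↔ a ∈ S
  pos : ∀ a ∈ S, 0 ≤ a → 0 ≤ θ a

section

variable [Finite W]

theorem cpr_sub' {a : I → ℤ} (ha : IsRoot cs h a) (y y' : I → ℤ) :
    cpr cs h (y - y') a = cpr cs h y a - cpr cs h y' a := by
  rw [sub_eq_add_neg, cpr_add cs h _ _ ha, cpr_neg cs h _ ha, sub_eq_add_neg]

theorem cpr_ne_comm {x y : I → ℤ} (hx : IsRoot cs h x) (hy : IsRoot cs h y) (hc : cpr cs h x y ≠ 0) :
    cpr cs h y x ≠ 0 := fun h0 => hc ((cpr_zero_comm cs h hx hy).2 h0)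

theorem isRoot_add_of_neg {x y : I → ℤ} (hx : IsRoot cs h x) (hy : IsRoot cs h y) (hxy : x ≠ -y)
    (hc : cpr cs h x y < 0) : IsRoot cs h (x + y) := by
  have h1 := isRoot_sub_of_pos hx hy.neg hxy (by rw [cpr_neg_right cs h x hy]; omega)
  rwa [sub_neg_eq_add] at h1

variable {S : Set (I → ℤ)}

/-- **Chains can be shortened.** -/
theorem exists_mid (hS : RSet cs h S) {Ψ : Set (I → ℤ)} (hsub : Ψ ⊆ S) {a b : I → ℤ} (ha : a ∈ Ψ)
    (hconn : Relation.ReflTransGen (fun x y => y ∈ Ψ ∧ cpr cs h y x ≠ 0) a b) :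
    b ∈ Ψ ∧ ∃ c ∈ S, cpr cs h c a ≠ 0 ∧ cpr cs h c b ≠ 0 := by
  induction hconn with
  | refl =>
    refine ⟨ha, a, hsub ha, ?_, ?_⟩ <;> rw [cpr_self cs h (hS.root a (hsub ha))] <;> norm_num
  | @tail x y _ hxy ih =>
    obtain ⟨hx, c, hc, h1, h2⟩ := ih
    obtain ⟨hy, h3⟩ := hxy
    refine ⟨hy, ?_⟩
    have ra := hS.root a (hsub ha)
    have rx := hS.root x (hsub hx)
    have ry := hS.root y (hsub hy)
    have rc := hS.root c hc
    by_cases hxa : cpr cs h x a = 0
    · by_cases hcy : cpr cs h c y = 0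
      · refine ⟨c - cpr cs h c x • x, hS.refl c hc x (hsub hx), ?_, ?_⟩
        · rw [cpr_sub' ra, cpr_smul cs h _ _ ra, hxa, mul_zero, sub_zero]
          exact h1
        · rw [cpr_sub' ry, cpr_smul cs h _ _ ry, hcy, zero_sub, neg_ne_zero]
          exact mul_ne_zero h2 (cpr_ne_comm ry rx h3)
      · exact ⟨c, hc, h1, hcy⟩
    · exact ⟨x, hsub hx, hxa, cpr_ne_comm ry rx h3⟩

/-- no positive element of `S` can be added to `β` -/
def Top (cs : CoxeterSystem M W) (h : IsCartan M A) (S : Set (I → ℤ)) (β : I → ℤ) : Prop :=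
  β ∈ S ∧ 0 ≤ β ∧ ∀ a ∈ S, 0 ≤ a → ¬ IsRoot cs h (β + a)

theorem Top.dom (hS : RSet cs h S) {β : I → ℤ} (hβ : Top cs h S β) {a : I → ℤ} (ha : a ∈ S) (h0 : 0 ≤ a) :
    0 ≤ cpr cs h a β := by
  by_contra hcon
  push Not at hcon
  refine hβ.2.2 a ha h0 ?_
  rw [add_comm]
  refine isRoot_add_of_neg (hS.root a ha) (hS.root β hβ.1) ?_ hcon
  rintro rfl
  exact (hS.root β hβ.1).not_pos_neg hβ.2.1 (neg_nonneg.1 h0)

theorem Top.eq (hS : RSet cs h S) {Ψ : Set (I → ℤ)} (hsub : Ψ ⊆ S) {β β' : I → ℤ} (hβ : Top cs h S β)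
    (hβ' : Top cs h S β') (hm : β ∈ Ψ)
    (hconn : Relation.ReflTransGen (fun x y => y ∈ Ψ ∧ cpr cs h y x ≠ 0) β β') : β = β' := by
  by_contra hne
  have r := hS.root β hβ.1
  have r' := hS.root β' hβ'.1
  have h1 := hβ.dom hS hβ'.1 hβ'.2.1
  rcases h1.lt_or_eq with h2 | h2
  · have h3 := isRoot_sub_of_pos r' r (fun e => hne e.symm) h2
    rcases h3.pos_or_neg with h4 | h4
    · have h5 : β' - β ∈ S := by
        have := hS.add β' hβ'.1 (-β) (hS.neg β hβ.1) (by rwa [← sub_eq_add_neg])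
        rwa [← sub_eq_add_neg] at this
      refine hβ.2.2 _ h5 h4 ?_
      rwa [add_sub_cancel]
    · have h5 : β - β' ∈ S := by
        have := hS.add β hβ.1 (-β') (hS.neg β' hβ'.1) (by
          have := h3.neg
          rwa [neg_sub, sub_eq_add_neg] at this)
        rwa [← sub_eq_add_neg] at this
      refine hβ'.2.2 _ h5 ?_ ?_
      · rw [← neg_sub, neg_nonneg]
        exact h4
      · rwa [add_sub_cancel]
  · obtain ⟨-, c, hc, h3, h4⟩ := exists_mid hS hsub hm hconn
    have key : ∀ c ∈ S, 0 ≤ c → cpr cs h c β ≠ 0 → cpr cs h c β' ≠ 0 → False := by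
      intro c hc h0 h3 h4
      have rc := hS.root c hc
      have h5 : 0 < cpr cs h c β := lt_of_le_of_ne (hβ.dom hS hc h0) h3.symm
      have h6 : 0 < cpr cs h c β' := lt_of_le_of_ne (hβ'.dom hS hc h0) h4.symm
      have h7 := hS.refl c hc β hβ.1
      rcases (hS.root _ h7).pos_or_neg with h8 | h8
      · have h9 := hβ.dom hS h7 h8
        rw [cpr_sub' r, cpr_smul cs h _ _ r, cpr_self cs h r] at h9
        omega
      · have h9 := hβ'.dom hS (hS.neg _ h7) (neg_nonneg.2 h8)
        have h10 : cpr cs h β β' = 0 := (cpr_zero_comm cs h r' r).1 h2.symm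
        rw [cpr_neg cs h _ r', cpr_sub' r', cpr_smul cs h _ _ r', h10, mul_zero] at h9
        omega
    rcases (hS.root c hc).pos_or_neg with h0 | h0
    · exact key c hc h0 h3 h4
    · refine key (-c) (hS.neg c hc) (neg_nonneg.2 h0) ?_ ?_
      · rw [cpr_neg cs h _ r, neg_ne_zero]; exact h3
      · rw [cpr_neg cs h _ r', neg_ne_zero]; exact h4

/-- **A root fixed by `θ`.** -/
theorem high (hS : RSet cs h S) {θ : (I → ℤ) ≃+ (I → ℤ)} (hθ : TSet cs h S θ) {Ψ : Set (I → ℤ)} (hsub : Ψ ⊆ S)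
    (hne : Ψ.Nonempty) (hcl : ∀ a ∈ Ψ, ∀ b ∈ S, cpr cs h b a ≠ 0 → b ∈ Ψ)
    (hconn : ∀ a ∈ Ψ, ∀ b ∈ Ψ, Relation.ReflTransGen (fun x y => y ∈ Ψ ∧ cpr cs h y x ≠ 0) a b)
    (hst : ∀ a ∈ Ψ, θ a ∈ Ψ) :
    ∃ β ∈ Ψ, 0 ≤ β ∧ θ β = β ∧ ∀ a ∈ S, 0 ≤ a → ¬ IsRoot cs h (β + a) := by
  have hfin : {a | a ∈ Ψ ∧ 0 ≤ a}.Finite := (RGD.finite_roots (cs := cs) (h := h)).subset fun x hx => hS.root x (hsub hx.1)
  have hnegΨ : ∀ a ∈ Ψ, -a ∈ Ψ := fun a ha => hcl a ha (-a) (hS.neg a (hsub ha)) (by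
    rw [cpr_neg cs h _ (hS.root a (hsub ha)), cpr_self cs h (hS.root a (hsub ha))]; norm_num)
  have hne' : {a | a ∈ Ψ ∧ 0 ≤ a}.Nonempty := by
    obtain ⟨a, ha⟩ := hne
    rcases (hS.root a (hsub ha)).pos_or_neg with h0 | h0
    · exact ⟨a, ha, h0⟩
    · exact ⟨-a, hnegΨ a ha, neg_nonneg.2 h0⟩
  obtain ⟨β, hβ, hmax⟩ := hfin.exists_maximalFor (fun a => ∑ i, a i) _ hne'
  have hT : Top cs h S β := by
    refine ⟨hsub hβ.1, hβ.2, fun a ha h0 hr => ?_⟩
    have rβ := hS.root β (hsub hβ.1)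
    have ra := hS.root a ha
    have h1 : β + a ∈ S := hS.add β (hsub hβ.1) a ha hr
    have h2 : β + a ∈ Ψ := by
      by_cases hc : cpr cs h (β + a) β = 0
      · have h3 : cpr cs h a β = -2 := by
          rw [cpr_add cs h _ _ rβ, cpr_self cs h rβ] at hc
          omega
        have haΨ : a ∈ Ψ := hcl β hβ.1 a ha (by rw [h3]; norm_num)
        refine hcl a haΨ _ h1 ?_
        rw [cpr_add cs h _ _ ra, cpr_self cs h ra]
        intro h4
        have h5 : cpr cs h β a = -2 := by omega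
        have h6 := cpr_mul_lt ra rβ (by
          rintro rfl
          rw [cpr_self cs h ra] at h3
          omega) (by
          rintro rfl
          exact rβ.not_pos_neg hβ.2 (neg_nonneg.1 h0))
        rw [h3, h5] at h6
        omega
      · exact hcl β hβ.1 _ h1 hc
    have h3 := hmax (j := β + a) ⟨h2, add_nonneg hβ.2 h0⟩ (by
      simp only [Pi.add_apply, Finset.sum_add_distrib]
      have : 0 ≤ ∑ i, a i := Finset.sum_nonneg fun i _ => h0 i
      omega)
    simp only [Pi.add_apply, Finset.sum_add_distrib] at h3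
    have h4 : 0 < ∑ i, a i := by
      refine lt_of_le_of_ne (Finset.sum_nonneg fun i _ => h0 i) fun h5 => ?_
      have h6 := (Finset.sum_eq_zero_iff_of_nonneg fun i _ => h0 i).1 h5.symm
      exact ra.ne_zero (funext fun i => h6 i (Finset.mem_univ i))
    omega
  have hT' : Top cs h S (θ β) := by
    refine ⟨(hθ.mem β).2 hT.1, hθ.pos β hT.1 hT.2.1, fun a ha h0 hr => ?_⟩
    have h1 : θ (θ.symm a) = a := θ.apply_symm_apply a
    have h2 : θ.symm a ∈ S := (hθ.mem _).1 (by rw [h1]; exact ha)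
    have h3 : 0 ≤ θ.symm a := by
      rcases (hS.root _ h2).pos_or_neg with h4 | h4
      · exact h4
      · exfalso
        have h5 := hθ.pos (-θ.symm a) (hS.neg _ h2) (neg_nonneg.2 h4)
        rw [map_neg, h1] at h5
        exact (hS.root a ha).not_pos_neg h0 (neg_nonneg.1 h5)
    refine hT.2.2 _ h2 h3 ?_
    rw [← hθ.root, map_add, h1]
    exact hr
  exact ⟨β, hβ.1, hβ.2, (hT.eq hS hsub hT' hβ.1 (hconn β hβ.1 _ (hst β hβ.1))).symm, hT.2.2⟩

end

/-! ### neighbours -/

/-- the number of the `b ∈ S` such that `a - b` is a root -/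
noncomputable def nb (cs : CoxeterSystem M W) (h : IsCartan M A) (S : Set (I → ℤ)) (a : I → ℤ) : ℕ :=
  {b | b ∈ S ∧ IsRoot cs h (a - b)}.ncard

/-- invariance under automorphisms -/
theorem nb_map {S S' : Set (I → ℤ)} {F : (I → ℤ) → (I → ℤ)} (hF : Function.Bijective F)
    (hsub : ∀ a b, F (a - b) = F a - F b) (hroot : ∀ a, IsRoot cs h (F a) ↔ IsRoot cs h a)
    (hmem : ∀ a, F a ∈ S' ↔ a ∈ S) (a : I → ℤ) : nb cs h S' (F a) = nb cs h S a := by
  have e : {b | b ∈ S' ∧ IsRoot cs h (F a - b)} = F '' {b | b ∈ S ∧ IsRoot cs h (a - b)} := by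
    ext b
    constructor
    · rintro ⟨hb, hr⟩
      obtain ⟨c, rfl⟩ := hF.2 b
      exact ⟨c, ⟨(hmem c).1 hb, (hroot _).1 (by rw [hsub]; exact hr)⟩, rfl⟩
    · rintro ⟨c, ⟨hc, hr⟩, rfl⟩
      exact ⟨(hmem c).2 hc, by rw [← hsub]; exact (hroot _).2 hr⟩
  unfold nb
  rw [e, Set.ncard_image_of_injective _ hF.1]

theorem nb_theta {S : Set (I → ℤ)} {θ : (I → ℤ) ≃+ (I → ℤ)} (hθ : TSet cs h S θ) (a : I → ℤ) :
    nb cs h S (θ a) = nb cs h S a :=
  nb_map θ.bijective (fun a b => map_sub θ a b) hθ.root hθ.mem a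

section

variable [Finite W] {S : Set (I → ℤ)}

theorem nb_neg (hS : RSet cs h S) (a : I → ℤ) : nb cs h S (-a) = nb cs h S a :=
  nb_map (F := fun x => -x) neg_involutive.bijective (fun a b => by abel)
    (fun a => ⟨fun h => by have := h.neg; rwa [neg_neg] at this, fun h => h.neg⟩)
    (fun a => ⟨fun h => by have := hS.neg _ h; rwa [neg_neg] at this, fun h => hS.neg _ h⟩) a

/-- constant along non-orthogonality -/
theorem nb_eq (hs : SL cs h) (hS : RSet cs h S) {a b : I → ℤ} (ha : a ∈ S) (hb : b ∈ S) (hc : cpr cs h b a ≠ 0) :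
    nb cs h S a = nb cs h S b := by
  have ra := hS.root a ha
  have rb := hS.root b hb
  have key : ∀ b ∈ S, cpr cs h b a = 1 → nb cs h S a = nb cs h S b := by
    intro b hb hc
    have rb := hS.root b hb
    have hd := isRoot_sub rb ra hc
    have hdS : b - a ∈ S := by
      have := hS.add b hb (-a) (hS.neg a ha) (by rwa [← sub_eq_add_neg])
      rwa [← sub_eq_add_neg] at this
    obtain ⟨s, hs'⟩ := exists_rf (cs := cs) (h := h) hd
    have h1 : cpr cs h a (b - a) = -1 := by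
      rw [hs a (b - a) ra hd, cpr_sub' ra, hc, cpr_self cs h ra]; norm_num
    have h2 : rep cs h s a = b := by
      rw [hs' a, h1]; module
    have h3 : nb cs h S (rep cs h s a) = nb cs h S a := by
      refine nb_map (F := fun x => rep cs h s x) ⟨rep_injective_apply cs h s, fun y => ⟨rep cs h s⁻¹ y, rep_apply_inv cs h s y⟩⟩
        (fun a b => map_sub _ a b) (fun a => ⟨fun h' => ?_, fun h' => h'.act s⟩) (fun x => ⟨fun h' => ?_, fun h' => ?_⟩) a
      · have := h'.act s⁻¹
        rwa [rep_inv_apply] at this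
      · have h4 : rep cs h s (rep cs h s x) ∈ S := by
          rw [hs' (rep cs h s x)]
          exact hS.refl _ h' _ hdS
        rwa [← rep_mul_apply, hs'.mul_self hd, map_one, Module.End.one_apply] at h4
      · rw [hs' x]
        exact hS.refl _ h' _ hdS
    rw [← h2, h3]
  rcases hs.cases rb ra with ⟨e, -⟩ | ⟨e, -⟩ | ⟨-, -, h1, h2⟩
  · rw [e]
  · rw [e, nb_neg hS]
  · have h3 : cpr cs h b a = 1 ∨ cpr cs h b a = -1 := by omega
    rcases h3 with h3 | h3
    · exact key b hb h3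
    · rw [← nb_neg hS b]
      refine key (-b) (hS.neg b hb) ?_
      rw [cpr_neg cs h _ ra, h3]; norm_num

/-- **The fixed root, with the number of neighbours.** -/
theorem high_nb (hs : SL cs h) (hS : RSet cs h S) {θ : (I → ℤ) ≃+ (I → ℤ)} (hθ : TSet cs h S θ) (j : ℕ)
    (hne : ∃ a ∈ S, j ≤ nb cs h S a)
    (hconn : ∀ a ∈ S, ∀ b ∈ S, j ≤ nb cs h S a → j ≤ nb cs h S b →
      Relation.ReflTransGen (fun x y => y ∈ S ∧ cpr cs h y x ≠ 0) a b) :
    ∃ β ∈ S, 0 ≤ β ∧ θ β = β ∧ j ≤ nb cs h S β ∧ ∀ a ∈ S, 0 ≤ a → ¬ IsRoot cs h (β + a) := by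
  obtain ⟨β, ⟨h1, h2⟩, h3, h4, h5⟩ := high (Ψ := {a | a ∈ S ∧ j ≤ nb cs h S a}) hS hθ (fun a ha => ha.1) (by
      obtain ⟨a, ha, hj⟩ := hne
      exact ⟨a, ha, hj⟩)
    (fun a ha b hb hc => ⟨hb, by rw [← nb_eq hs hS ha.1 hb hc]; exact ha.2⟩)
    (by
      rintro a ⟨ha, hja⟩ b ⟨hb, hjb⟩
      have h1 := hconn a ha b hb hja hjb
      clear hjb hb
      induction h1 with
      | refl => exact Relation.ReflTransGen.refl
      | @tail x y hx hxy ih =>
        refine Relation.ReflTransGen.tail ih ⟨⟨hxy.1, ?_⟩, hxy.2⟩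
        have h6 : x ∈ S ∧ j ≤ nb cs h S x := by
          rcases Relation.ReflTransGen.cases_tail ih with e | ⟨z, -, hz⟩
          · rw [e]; exact ⟨ha, hja⟩
          · exact hz.1
        rw [← nb_eq hs hS h6.1 hxy.1 hxy.2]
        exact h6.2)
    (fun a ha => ⟨(hθ.mem a).2 ha.1, by rw [nb_theta hθ]; exact ha.2⟩)
  exact ⟨β, h1, h3, h4, h2, h5⟩

end

end Cfsg.Agent.H76.RG
end

-- part: H448/TorB/Perm_mg
section
prune_inst 0x3450550174220200001c8502f2001fe3f700059200488800b104084405cf3c60854060214aa01d10180090441830004813980020c21000000a003400011f01a0908016027181a10c26000f801003590c00000000000000000000000000041000004010000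
set_option linter.all false
open scoped Cfsg.Agent.FastGrp

-- part: H448/TorB/Perm
section
/-!
# `det (P_σ - q)` for a permutation `σ` (helper448)

`Dp q σ = det (P_σ - q)`; `natAbs_Dp` : `|Dp q σ| = ∏ (q ^ a - 1)` over the cycles of `σ` (fixed points included).
-/

set_option autoImplicit false

namespace Cfsg.Agent.H448.TorB

open Equiv

variable {ι κ : Type*} [Fintype ι] [DecidableEq ι] [Fintype κ] [DecidableEq κ]

/-- the matrix of `e_j ↦ e_{σ j}` -/
def Pm (σ : Perm ι) : Matrix ι ι ℤ := Matrix.of fun i j => if i = σ j then 1 else 0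

theorem Pm_apply (σ : Perm ι) (i j : ι) : Pm σ i j = if i = σ j then 1 else 0 := rfl

/-- `det (P_σ - q)` -/
def Dp (q : ℤ) (σ : Perm ι) : ℤ := (Pm σ - q • (1 : Matrix ι ι ℤ)).det

theorem Pm_one : Pm (1 : Perm ι) = 1 := by
  ext i j
  rw [Pm_apply, Matrix.one_apply]
  rfl

theorem Dp_one (q : ℤ) : Dp q (1 : Perm ι) = (1 - q) ^ Fintype.card ι := by
  rw [Dp, Pm_one]
  have h : (1 : Matrix ι ι ℤ) - q • (1 : Matrix ι ι ℤ) = (1 - q) • (1 : Matrix ι ι ℤ) := by
    rw [sub_smul, one_smul]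
  rw [h, Matrix.det_smul, Matrix.det_one, mul_one]

theorem Pm_mul (σ τ : Perm ι) : Pm σ * Pm τ = Pm (σ * τ) := by
  ext i j
  rw [Matrix.mul_apply, Pm_apply, Finset.sum_eq_single (τ j)]
  · rw [Pm_apply, Pm_apply, if_pos rfl, mul_one]
    rfl
  · intro x _ hx
    rw [Pm_apply τ x j, if_neg hx, mul_zero]
  · intro h
    exact absurd (Finset.mem_univ _) h

theorem Pm_disjoint {σ τ : Perm ι} (h : σ.Disjoint τ) : Pm σ * Pm τ = Pm σ + Pm τ - 1 := by
  rw [Pm_mul]
  ext i j
  rw [Matrix.sub_apply, Matrix.add_apply, Pm_apply, Pm_apply, Pm_apply, Matrix.one_apply, Perm.mul_apply]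
  rcases h j with h1 | h1
  · have h2 : σ (τ j) = τ j := by
      rcases h (τ j) with h3 | h3
      · exact h3
      · rw [τ.injective h3, h1]
    rw [h2, h1]
    ring
  · rw [h1]
    ring

/-- **Disjoint products.** -/
theorem Dp_disjoint (q : ℤ) {σ τ : Perm ι} (h : σ.Disjoint τ) :
    Dp q σ * Dp q τ = (1 - q) ^ Fintype.card ι * Dp q (σ * τ) := by
  rw [Dp, Dp, Dp, ← Matrix.det_mul, ← Matrix.det_smul]
  congr 1
  rw [← Pm_mul]
  have h1 := Pm_disjoint h
  have e : (Pm σ - q • (1 : Matrix ι ι ℤ)) * (Pm τ - q • (1 : Matrix ι ι ℤ)) =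
      Pm σ * Pm τ - q • (Pm σ + Pm τ) + (q * q) • (1 : Matrix ι ι ℤ) := by
    rw [sub_mul, mul_sub, mul_sub, mul_smul_comm, mul_one, smul_mul_assoc, one_mul, smul_mul_smul_comm, mul_one,
      smul_add]
    abel
  have e2 : Pm σ + Pm τ = Pm σ * Pm τ + 1 := by rw [h1]; abel
  rw [e, e2, smul_add, smul_sub, sub_smul, sub_smul, one_smul, one_smul, ← mul_smul]
  abel

/-- a permutation between `1` and a cycle -/
theorem eq_of_between {σ τ : Perm ι} (hσ : σ.IsCycle) (h : ∀ i, τ i = i ∨ τ i = σ i) (hτ : τ ≠ 1) : τ = σ := by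
  obtain ⟨x, hx⟩ : ∃ x, τ x ≠ x := by
    by_contra hcon
    push Not at hcon
    exact hτ (Equiv.ext hcon)
  have hσx : σ x ≠ x := by
    rcases h x with h1 | h1
    · exact absurd h1 hx
    · rw [← h1]; exact hx
  have key : ∀ n : ℕ, τ ((σ ^ n) x) = σ ((σ ^ n) x) ∧ σ ((σ ^ n) x) ≠ (σ ^ n) x := by
    intro n
    have hmv : σ ((σ ^ n) x) ≠ (σ ^ n) x := by
      intro h1
      apply hσx
      have h2 : (σ ^ n) (σ x) = (σ ^ n) x := by
        rw [← Perm.mul_apply, ← pow_succ, pow_succ', Perm.mul_apply, h1]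
      exact (σ ^ n).injective h2
    refine ⟨?_, hmv⟩
    induction n with
    | zero =>
      rcases h x with h1 | h1
      · exact absurd h1 hx
      · exact h1
    | succ n ih =>
      have hmv' : σ ((σ ^ n) x) ≠ (σ ^ n) x := by
        intro h1
        apply hσx
        have h2 : (σ ^ n) (σ x) = (σ ^ n) x := by
          rw [← Perm.mul_apply, ← pow_succ, pow_succ', Perm.mul_apply, h1]
        exact (σ ^ n).injective h2
      have ih' := ih hmv'
      rcases h ((σ ^ (n + 1)) x) with h1 | h1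
      · exfalso
        rw [pow_succ', Perm.mul_apply, ← ih'] at h1
        have h2 := τ.injective h1
        rw [ih'] at h2
        exact hmv' h2
      · exact h1
  refine Equiv.ext fun z => ?_
  by_cases hz : σ z = z
  · rcases h z with h1 | h1
    · rw [h1, hz]
    · exact h1
  · obtain ⟨n, hn⟩ := hσ.exists_pow_eq hσx hz
    rw [← hn]
    exact (key n).1

/-- **Cycles.** -/
theorem Dp_cycle (q : ℤ) {σ : Perm ι} (hσ : σ.IsCycle) :
    Dp q σ = (-1) ^ Fintype.card ι * ((q ^ σ.support.card - 1) * (q - 1) ^ (Fintype.card ι - σ.support.card)) := by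
  rw [Dp, Matrix.det_apply]
  set M := Pm σ - q • (1 : Matrix ι ι ℤ) with hM
  have hMa : ∀ i j, M i j = (if i = σ j then 1 else 0) - q * (if i = j then 1 else 0) := by
    intro i j
    rw [hM, Matrix.sub_apply, Matrix.smul_apply, Pm_apply, Matrix.one_apply, smul_eq_mul]
  have hsum : ∑ τ : Perm ι, Perm.sign τ • ∏ i, M (τ i) i =
      ∑ τ ∈ ({1, σ} : Finset (Perm ι)), Perm.sign τ • ∏ i, M (τ i) i := by
    symm
    refine Finset.sum_subset (Finset.subset_univ _) fun τ _ hτ => ?_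
    rw [Finset.mem_insert, Finset.mem_singleton, not_or] at hτ
    have : ∃ i, M (τ i) i = 0 := by
      by_contra hcon
      push Not at hcon
      refine hτ.2 (eq_of_between hσ (fun i => ?_) hτ.1)
      by_contra h1
      push Not at h1
      apply hcon i
      rw [hMa, if_neg h1.2, if_neg h1.1]
      ring
    obtain ⟨i, hi⟩ := this
    have h0 : ∏ j, M (τ j) j = 0 := Finset.prod_eq_zero (Finset.mem_univ i) hi
    rw [h0, smul_zero]
  rw [hsum, Finset.sum_pair (Ne.symm hσ.ne_one)]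
  have hcard : Fintype.card ι = σ.support.card + (Fintype.card ι - σ.support.card) := by
    have := Finset.card_le_univ σ.support
    omega
  have hcompl : (σ.support)ᶜ.card = Fintype.card ι - σ.support.card := Finset.card_compl _
  have h1 : ∏ i, M ((1 : Perm ι) i) i = (-q) ^ σ.support.card * (1 - q) ^ (Fintype.card ι - σ.support.card) := by
    rw [← Finset.prod_mul_prod_compl σ.support, ← hcompl]
    congr 1
    · rw [Finset.prod_congr rfl (g := fun _ => -q), Finset.prod_const]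
      intro i hi
      rw [Perm.mem_support] at hi
      rw [hMa, Perm.one_apply, if_neg (fun h => hi h.symm), if_pos rfl]
      ring
    · rw [Finset.prod_congr rfl (g := fun _ => 1 - q), Finset.prod_const]
      intro i hi
      rw [Finset.mem_compl, Perm.mem_support, not_not] at hi
      rw [hMa, Perm.one_apply, if_pos hi.symm, if_pos rfl]
      ring
  have h2 : ∏ i, M (σ i) i = (1 - q) ^ (Fintype.card ι - σ.support.card) := by
    rw [← Finset.prod_mul_prod_compl σ.support, ← hcompl]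
    have h3 : ∏ i ∈ σ.support, M (σ i) i = 1 := by
      refine Finset.prod_eq_one fun i hi => ?_
      rw [Perm.mem_support] at hi
      rw [hMa, if_pos rfl, if_neg hi]
      ring
    rw [h3, one_mul, Finset.prod_congr rfl (g := fun _ => 1 - q), Finset.prod_const]
    intro i hi
    rw [Finset.mem_compl, Perm.mem_support, not_not] at hi
    rw [hMa, hi, if_pos rfl]
    ring
  rw [h1, h2, Perm.sign_one, one_smul, hσ.sign]
  have h3 : ((-(-1) ^ σ.support.card : ℤˣ) • ((1 - q) ^ (Fintype.card ι - σ.support.card) : ℤ)) =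
      -((-1) ^ σ.support.card * (1 - q) ^ (Fintype.card ι - σ.support.card)) := by
    rw [Units.smul_def, smul_eq_mul]
    push_cast
    ring
  rw [h3]
  conv_rhs => rw [hcard, pow_add]
  have h4 : (1 - q) ^ (Fintype.card ι - σ.support.card) =
      (-1) ^ (Fintype.card ι - σ.support.card) * (q - 1) ^ (Fintype.card ι - σ.support.card) := by
    rw [← mul_pow]; congr 1; ring
  have h5 : (-q) ^ σ.support.card = (-1) ^ σ.support.card * q ^ σ.support.card := by
    rw [← mul_pow]; congr 1; ring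
  rw [h4, h5, Nat.add_sub_cancel_left]
  ring

/-- the product over the cycles (fixed points included) -/
def cyc (q : ℕ) (σ : Perm ι) : ℕ :=
  (σ.cycleType.map fun a => q ^ a - 1).prod * (q - 1) ^ (Fintype.card ι - σ.support.card)

theorem cyc_one (q : ℕ) : cyc q (1 : Perm ι) = (q - 1) ^ Fintype.card ι := by
  rw [cyc, Perm.cycleType_one, Multiset.map_zero, Multiset.prod_zero, one_mul, Perm.support_one, Finset.card_empty,
    Nat.sub_zero]

/-- **The value.** -/
theorem natAbs_Dp {q : ℕ} (hq : 2 ≤ q) (σ : Perm ι) : (Dp q σ).natAbs = cyc q σ := by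
  have h1q : ((1 : ℤ) - q).natAbs = q - 1 := by omega
  induction σ using Perm.cycle_induction_on with
  | base_one => rw [Dp_one, Int.natAbs_pow, h1q, cyc_one]
  | base_cycles σ hσ =>
    rw [Dp_cycle _ hσ, Int.natAbs_mul, Int.natAbs_pow, Int.natAbs_mul, Int.natAbs_pow, cyc, hσ.cycleType]
    have e1 : ((-1 : ℤ)).natAbs = 1 := rfl
    have e2 : (((q : ℤ)) ^ σ.support.card - 1).natAbs = q ^ σ.support.card - 1 := by
      have h : 1 ≤ q ^ σ.support.card := Nat.one_le_pow _ _ (by omega)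
      have h2 : (((q ^ σ.support.card : ℕ) : ℤ) - 1).natAbs = q ^ σ.support.card - 1 := by omega
      rw [← h2]
      push_cast
      rfl
    have e3 : ((q : ℤ) - 1).natAbs = q - 1 := by omega
    rw [e1, one_pow, one_mul, e2, e3]
    simp only [_root_.Multiset.map_singleton, _root_.Multiset.prod_singleton]
  | induction_disjoint σ τ hd hσ ih1 ih2 =>
    have h1 := congrArg Int.natAbs (Dp_disjoint (q : ℤ) hd)
    rw [Int.natAbs_mul, Int.natAbs_mul, ih1, ih2, Int.natAbs_pow, h1q] at h1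
    have hpos : 0 < (q - 1) ^ Fintype.card ι := pow_pos (by omega) _
    refine (Nat.eq_of_mul_eq_mul_left hpos ?_)
    rw [← h1, cyc, cyc, cyc, hd.cycleType_mul, Multiset.map_add, Multiset.prod_add, hd.card_support_mul]
    have hc : σ.support.card + τ.support.card ≤ Fintype.card ι := by
      rw [← hd.card_support_mul]; exact Finset.card_le_univ _
    have e : (q - 1) ^ (Fintype.card ι - σ.support.card) * (q - 1) ^ (Fintype.card ι - τ.support.card) =
        (q - 1) ^ Fintype.card ι * (q - 1) ^ (Fintype.card ι - (σ.support.card + τ.support.card)) := by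
      rw [← pow_add, ← pow_add]; congr 1; (clear * - hc; omega)
    calc _ = (σ.cycleType.map fun a => q ^ a - 1).prod * (τ.cycleType.map fun a => q ^ a - 1).prod *
        ((q - 1) ^ (Fintype.card ι - σ.support.card) * (q - 1) ^ (Fintype.card ι - τ.support.card)) := by ring
      _ = _ := by rw [e]; ring

/-- disjoint unions -/
theorem Dp_sum (q : ℤ) (σ : Perm ι) (τ : Perm κ) : Dp q (Equiv.sumCongr σ τ) = Dp q σ * Dp q τ := by
  rw [Dp, Dp, Dp, ← Matrix.det_fromBlocks_zero₂₁ (Pm σ - q • (1 : Matrix ι ι ℤ)) 0 (Pm τ - q • (1 : Matrix κ κ ℤ))]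
  congr 1
  ext i j
  rw [Matrix.sub_apply, Matrix.smul_apply, Pm_apply, Matrix.one_apply, smul_eq_mul]
  rcases i with i | i <;> rcases j with j | j
  · rw [Matrix.fromBlocks_apply₁₁, Matrix.sub_apply, Matrix.smul_apply, Pm_apply, Matrix.one_apply, smul_eq_mul]
    simp only [Equiv.sumCongr_apply, Sum.map_inl, Sum.inl.injEq]
  · rw [Matrix.fromBlocks_apply₁₂, Matrix.zero_apply]
    simp
  · rw [Matrix.fromBlocks_apply₂₁, Matrix.zero_apply]
    simp
  · rw [Matrix.fromBlocks_apply₂₂, Matrix.sub_apply, Matrix.smul_apply, Pm_apply, Matrix.one_apply, smul_eq_mul]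
    simp only [Equiv.sumCongr_apply, Sum.map_inr, Sum.inr.injEq]

/-- relabelling -/
theorem Dp_reindex (q : ℤ) (e : ι ≃ κ) (σ : Perm ι) : Dp q ((e.symm.trans σ).trans e) = Dp q σ := by
  rw [Dp, Dp, ← Matrix.det_reindex_self e]
  congr 1
  ext i j
  rw [Matrix.sub_apply, Matrix.smul_apply, Pm_apply, Matrix.one_apply, Matrix.reindex_apply, Matrix.submatrix_apply,
    Matrix.sub_apply, Matrix.smul_apply, Pm_apply, Matrix.one_apply]
  have h1 : (i = ((e.symm.trans σ).trans e) j) ↔ (e.symm i = σ (e.symm j)) := by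
    show i = e (σ (e.symm j)) ↔ _
    rw [e.symm_apply_eq]
  have h2 : (i = j) ↔ (e.symm i = e.symm j) := e.symm.injective.eq_iff.symm
  simp only [h1, h2]

end Cfsg.Agent.H448.TorB
end

-- part: H255/RG/Bic
section
/-!
# Biconvex sets of positive roots (helper255, S3509 F5)

`P` a finite subset of an additive group, `θ : V → V`.

* `Bic P θ N` : `N ⊆ P` is biconvex in `P` and stable under `θ`;
* `bsum P θ q` : the sum of `q ^ |N|` over these `N`;
* `sum_le` : `∑ q ^ |N(w)| ≤ c * bsum P θ q`, if the fibres of `w ↦ N(w)` have at most `c` elements;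
* `bsum_union` : `bsum (P₁ ∪ P₂) ≤ bsum P₁ * bsum P₂`;
* `bsum_cyc` : `bsum P θ q ≤ bsum P₁ θ^[a] (q ^ a)`, if `P` is the disjoint union of the `θ^[i] P₁`, `i < a`;
* `bsum_leaf` : the extension by a leaf; `bsum_chain`, `bsum_chain_mul`;
* `bsum_flip2`, `bsum_flip3` : `²A₂`, `²A₃`.
-/

set_option autoImplicit false

namespace Cfsg.Agent.H255.RG

open Finset

variable {V : Type*} [AddCommGroup V]

/-- `N ⊆ P` is biconvex in `P` and stable under `θ` -/
structure Bic (P : Finset V) (θ : V → V) (N : Finset V) : Prop where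
  sub : N ⊆ P
  add : ∀ a ∈ N, ∀ b ∈ N, a + b ∈ P → a + b ∈ N
  coadd : ∀ a ∈ P, ∀ b ∈ P, a ∉ N → b ∉ N → a + b ∉ N
  st : ∀ a ∈ N, θ a ∈ N

open Classical in
/-- the sum of `q ^ |N|` over the biconvex stable sets -/
noncomputable def bsum (P : Finset V) (θ : V → V) (q : ℕ) : ℕ :=
  ∑ N ∈ P.powerset.filter (Bic P θ), q ^ N.card

open Classical in
theorem mem_bs {P : Finset V} {θ : V → V} {N : Finset V} : N ∈ P.powerset.filter (Bic P θ) ↔ Bic P θ N := by
  rw [mem_filter, mem_powerset]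
  exact ⟨fun h => h.2, fun h => ⟨h.sub, h⟩⟩

theorem bsum_empty (θ : V → V) (q : ℕ) : bsum (∅ : Finset V) θ q ≤ 1 := by
  classical
  unfold bsum
  refine le_trans (Finset.sum_le_sum_of_subset (t := {∅}) fun N hN => ?_) (by simp)
  rw [mem_bs] at hN
  rw [mem_singleton]
  exact subset_empty.1 hN.sub

theorem bsum_mono_st (P : Finset V) {θ θ' : V → V} (h : ∀ N, Bic P θ N → Bic P θ' N) (q : ℕ) :
    bsum P θ q ≤ bsum P θ' q := by
  classical
  unfold bsum
  refine Finset.sum_le_sum_of_subset fun N hN => ?_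
  rw [mem_bs] at hN ⊢
  exact h N hN

/-- forget `θ` -/
theorem bsum_id (P : Finset V) (θ : V → V) (q : ℕ) : bsum P θ q ≤ bsum P id q :=
  bsum_mono_st P (fun _ h => ⟨h.sub, h.add, h.coadd, fun _ ha => ha⟩) q

/-- the restriction -/
theorem Bic.inter [DecidableEq V] {P P' : Finset V} {θ : V → V} {N : Finset V} (h : Bic P θ N) (hP : P' ⊆ P)
    (hθ : ∀ a ∈ P', θ a ∈ P') : Bic P' θ (N ∩ P') where
  sub := inter_subset_right
  add a ha b hb hab := by
    rw [mem_inter] at ha hb ⊢
    exact ⟨h.add a ha.1 b hb.1 (hP hab), hab⟩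
  coadd a ha b hb ha' hb' := by
    rw [mem_inter] at ha' hb' ⊢
    intro h1
    exact h.coadd a (hP ha) b (hP hb) (fun h2 => ha' ⟨h2, ha⟩) (fun h2 => hb' ⟨h2, hb⟩) h1.1
  st a ha := by
    rw [mem_inter] at ha ⊢
    exact ⟨h.st a ha.1, hθ a ha.2⟩

/-- **unions of components** -/
theorem bsum_union [DecidableEq V] {P₁ P₂ : Finset V} (hd : Disjoint P₁ P₂) {θ : V → V} (h₁ : ∀ a ∈ P₁, θ a ∈ P₁)
    (h₂ : ∀ a ∈ P₂, θ a ∈ P₂) (q : ℕ) : bsum (P₁ ∪ P₂) θ q ≤ bsum P₁ θ q * bsum P₂ θ q := by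
  classical
  unfold bsum
  rw [Finset.sum_mul_sum, ← Finset.sum_product']
  have hc : ∀ N ∈ (P₁ ∪ P₂).powerset.filter (Bic (P₁ ∪ P₂) θ), q ^ N.card = q ^ (N ∩ P₁).card * q ^ (N ∩ P₂).card := by
    intro N hN
    rw [mem_bs] at hN
    rw [← pow_add, ← card_union_of_disjoint]
    · rw [← inter_union_distrib_left, inter_eq_left.2 hN.sub]
    · exact (hd.mono inter_subset_right inter_subset_right)
  rw [Finset.sum_congr rfl hc]
  rw [← Finset.sum_image (s := (P₁ ∪ P₂).powerset.filter (Bic (P₁ ∪ P₂) θ)) (g := fun N => (N ∩ P₁, N ∩ P₂))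
    (f := fun x : Finset V × Finset V => q ^ x.1.card * q ^ x.2.card)]
  · refine Finset.sum_le_sum_of_subset fun x hx => ?_
    obtain ⟨N, hN, rfl⟩ := mem_image.1 hx
    rw [mem_bs] at hN
    rw [mem_product, mem_bs, mem_bs]
    exact ⟨hN.inter subset_union_left h₁, hN.inter subset_union_right h₂⟩
  · intro N hN N' hN' he
    rw [mem_coe, mem_bs] at hN hN'
    have h3 := Prod.mk.inj he
    rw [← inter_eq_left.2 hN.sub, ← inter_eq_left.2 hN'.sub, inter_union_distrib_left, inter_union_distrib_left,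
      h3.1, h3.2]

/-- **a cyclic union** -/
theorem bsum_cyc [DecidableEq V] {P P₁ : Finset V} {θ : V → V} {a : ℕ} (hinj : ∀ x ∈ P, ∀ y ∈ P, θ x = θ y → x = y)
    (hmap : ∀ x ∈ P, θ x ∈ P) (hP : P = (range a).biUnion fun i => P₁.image θ^[i])
    (hd : ∀ i < a, ∀ j < a, i ≠ j → Disjoint (P₁.image θ^[i]) (P₁.image θ^[j])) (ha : 0 < a)
    (hcyc : ∀ x ∈ P₁, θ^[a] x ∈ P₁) (q : ℕ) : bsum P θ q ≤ bsum P₁ θ^[a] (q ^ a) := by
  classical
  have h1P : P₁ ⊆ P := by
    intro x hx
    rw [hP, mem_biUnion]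
    exact ⟨0, mem_range.2 ha, mem_image.2 ⟨x, hx, rfl⟩⟩
  have hmapi : ∀ i : ℕ, ∀ x ∈ P, θ^[i] x ∈ P := by
    intro i
    induction i with
    | zero => exact fun x hx => hx
    | succ i ih =>
      intro x hx
      rw [Function.iterate_succ_apply']
      exact hmap _ (ih x hx)
  have hinji : ∀ i : ℕ, ∀ x ∈ P, ∀ y ∈ P, θ^[i] x = θ^[i] y → x = y := by
    intro i
    induction i with
    | zero => exact fun x _ y _ h => h
    | succ i ih =>
      intro x hx y hy h
      rw [Function.iterate_succ_apply', Function.iterate_succ_apply'] at h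
      exact ih x hx y hy (hinj _ (hmapi i x hx) _ (hmapi i y hy) h)
  have hsti : ∀ N, Bic P θ N → ∀ i : ℕ, ∀ x ∈ N, θ^[i] x ∈ N := by
    intro N hN i
    induction i with
    | zero => exact fun x hx => hx
    | succ i ih =>
      intro x hx
      rw [Function.iterate_succ_apply']
      exact hN.st _ (ih x hx)
  have himg : ∀ N, Bic P θ N → ∀ i : ℕ, N.image θ^[i] = N := by
    intro N hN i
    refine eq_of_subset_of_card_le (image_subset_iff.2 fun x hx => hsti N hN i x hx) ?_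
    rw [card_image_of_injOn]
    exact fun x hx y hy h => hinji i x (hN.sub hx) y (hN.sub hy) h
  have hback : ∀ N, Bic P θ N → ∀ i : ℕ, ∀ x ∈ P, θ^[i] x ∈ N → x ∈ N := by
    intro N hN i x hx h
    rw [← himg N hN i, mem_image] at h
    obtain ⟨y, hy, h2⟩ := h
    rwa [← hinji i y (hN.sub hy) x hx h2]
  have hNeq : ∀ N, Bic P θ N → N = (range a).biUnion fun i => (N ∩ P₁).image θ^[i] := by
    intro N hN
    ext x
    rw [mem_biUnion]
    constructor
    · intro hx
      have h1 := hN.sub hx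
      rw [hP, mem_biUnion] at h1
      obtain ⟨i, hi, h2⟩ := h1
      obtain ⟨y, hy, rfl⟩ := mem_image.1 h2
      exact ⟨i, hi, mem_image.2 ⟨y, mem_inter.2 ⟨hback N hN i y (h1P hy) hx, hy⟩, rfl⟩⟩
    · rintro ⟨i, -, h2⟩
      obtain ⟨y, hy, rfl⟩ := mem_image.1 h2
      exact hsti N hN i y (mem_inter.1 hy).1
  have hcard : ∀ N, Bic P θ N → N.card = a * (N ∩ P₁).card := by
    intro N hN
    conv_lhs => rw [hNeq N hN]
    rw [card_biUnion]
    · rw [sum_congr rfl (g := fun _ => (N ∩ P₁).card)]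
      · rw [sum_const, card_range, smul_eq_mul]
      · intro i _
        rw [card_image_of_injOn]
        exact fun x hx y hy h => hinji i x (h1P (mem_inter.1 hx).2) y (h1P (mem_inter.1 hy).2) h
    · intro i hi j hj hij
      exact (hd i (mem_range.1 hi) j (mem_range.1 hj) hij).mono (image_subset_image inter_subset_right)
        (image_subset_image inter_subset_right)
  unfold bsum
  rw [Finset.sum_congr rfl (g := fun N => (q ^ a) ^ (N ∩ P₁).card) fun N hN => by
    rw [mem_bs] at hN; rw [← pow_mul, hcard N hN]]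
  rw [← Finset.sum_image (s := P.powerset.filter (Bic P θ)) (g := fun N => N ∩ P₁)
    (f := fun x : Finset V => (q ^ a) ^ x.card)]
  · refine Finset.sum_le_sum_of_subset fun x hx => ?_
    obtain ⟨N, hN, rfl⟩ := mem_image.1 hx
    rw [mem_bs] at hN
    rw [mem_bs]
    refine ⟨inter_subset_right, fun x hx y hy hxy => ?_, fun x hx y hy hx' hy' => ?_, fun x hx => ?_⟩
    · rw [mem_inter] at hx hy ⊢
      exact ⟨hN.add x hx.1 y hy.1 (h1P hxy), hxy⟩
    · rw [mem_inter] at hx' hy' ⊢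
      intro h1
      exact hN.coadd x (h1P hx) y (h1P hy) (fun h2 => hx' ⟨h2, hx⟩) (fun h2 => hy' ⟨h2, hy⟩) h1.1
    · rw [mem_inter] at hx ⊢
      exact ⟨hsti N hN a x hx.1, hcyc x hx.2⟩
  · intro N hN N' hN' he
    rw [mem_coe, mem_bs] at hN hN'
    have he' : N ∩ P₁ = N' ∩ P₁ := he
    rw [hNeq N hN, hNeq N' hN', he']

/-! ### leaves -/

/-- two elements of `R` differ by an element of `P'` -/
def Leaf (P' R : Finset V) : Prop := ∀ a ∈ R, ∀ b ∈ R, a ≠ b → a - b ∈ P' ∨ b - a ∈ P'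

theorem comparable [DecidableEq V] {P' R : Finset V} (hl : Leaf P' R) {N N' : Finset V} (hN : Bic (P' ∪ R) id N)
    (hN' : Bic (P' ∪ R) id N') (he : N ∩ P' = N' ∩ P') : N ∩ R ⊆ N' ∩ R ∨ N' ∩ R ⊆ N ∩ R := by
  by_contra hcon
  push Not at hcon
  obtain ⟨h1, h2⟩ := hcon
  obtain ⟨a, ha, ha'⟩ := not_subset.1 h1
  obtain ⟨b, hb, hb'⟩ := not_subset.1 h2
  rw [mem_inter] at ha hb ha' hb'
  have haN' : a ∉ N' := fun h => ha' ⟨h, ha.2⟩
  have hbN : b ∉ N := fun h => hb' ⟨h, hb.2⟩
  have hab : a ≠ b := by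
    rintro rfl
    exact hbN ha.1
  have mem_iff : ∀ c ∈ P', (c ∈ N ↔ c ∈ N') := by
    intro c hc
    constructor
    · intro h
      have : c ∈ N ∩ P' := mem_inter.2 ⟨h, hc⟩
      rw [he] at this
      exact (mem_inter.1 this).1
    · intro h
      have : c ∈ N' ∩ P' := mem_inter.2 ⟨h, hc⟩
      rw [← he] at this
      exact (mem_inter.1 this).1
  rcases hl a ha.2 b hb.2 hab with hc | hc
  · by_cases hcN : a - b ∈ N
    · -- `a = (a - b) + b`, both in `N'`
      apply haN'
      have h3 := hN'.add _ ((mem_iff _ hc).1 hcN) b hb.1 (by rw [sub_add_cancel]; exact mem_union_right _ ha.2)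
      rwa [sub_add_cancel] at h3
    · have h3 := hN.coadd _ (mem_union_left _ hc) b (mem_union_right _ hb.2) hcN hbN
      rw [sub_add_cancel] at h3
      exact h3 ha.1
  · by_cases hcN : b - a ∈ N
    · apply hbN
      have h3 := hN.add _ hcN a ha.1 (by rw [sub_add_cancel]; exact mem_union_right _ hb.2)
      rwa [sub_add_cancel] at h3
    · have h3 := hN'.coadd _ (mem_union_left _ hc) a (mem_union_right _ ha.2)
        (fun h => hcN ((mem_iff _ hc).2 h)) haN'
      rw [sub_add_cancel] at h3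
      exact h3 hb.1

/-- **the extension by a leaf** -/
theorem bsum_leaf [DecidableEq V] {P' R : Finset V} (hd : Disjoint P' R) (hl : Leaf P' R) (q : ℕ) :
    bsum (P' ∪ R) id q ≤ bsum P' id q * ∑ i ∈ range (R.card + 1), q ^ i := by
  classical
  have key : ∀ N, Bic (P' ∪ R) id N → N.card = (N ∩ P').card + (N ∩ R).card := by
    intro N hN
    rw [← card_union_of_disjoint]
    · rw [← inter_union_distrib_left, inter_eq_left.2 hN.sub]
    · exact (hd.mono inter_subset_right inter_subset_right)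
  unfold bsum
  rw [← Finset.sum_fiberwise_of_maps_to (s := (P' ∪ R).powerset.filter (Bic (P' ∪ R) id))
    (t := P'.powerset.filter (Bic P' id)) (g := fun N => N ∩ P') (fun N hN => by
      rw [mem_bs] at hN ⊢
      exact hN.inter subset_union_left fun a ha => ha), Finset.sum_mul]
  refine Finset.sum_le_sum fun Q _ => ?_
  rw [Finset.sum_congr rfl (g := fun N => q ^ Q.card * q ^ (N ∩ R).card) fun N hN => by
    rw [mem_filter, mem_bs] at hN
    rw [← pow_add, key N hN.1, hN.2]]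
  rw [← Finset.mul_sum]
  refine Nat.mul_le_mul_left _ ?_
  rw [← Finset.sum_image (g := fun N : Finset V => (N ∩ R).card) (f := fun i : ℕ => q ^ i)]
  · refine Finset.sum_le_sum_of_subset fun i hi => ?_
    obtain ⟨N, -, rfl⟩ := mem_image.1 hi
    rw [mem_range]
    exact Nat.lt_succ_of_le (card_le_card inter_subset_right)
  · intro N hN N' hN' he
    rw [mem_coe, mem_filter, mem_bs] at hN hN'
    have he' : (N ∩ R).card = (N' ∩ R).card := he
    have h1 : N ∩ P' = N' ∩ P' := by rw [hN.2, hN'.2]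
    have h2 : N ∩ R = N' ∩ R := by
      rcases comparable hl hN.1 hN'.1 h1 with h | h
      · exact eq_of_subset_of_card_le h he'.ge
      · exact (eq_of_subset_of_card_le h he'.le).symm
    rw [← inter_eq_left.2 hN.1.sub, ← inter_eq_left.2 hN'.1.sub, inter_union_distrib_left, inter_union_distrib_left,
      h1, h2]

/-- a chain of leaves -/
inductive Chain [DecidableEq V] : Finset V → List ℕ → Prop
  | nil : Chain ∅ []
  | cons {P R : Finset V} {L : List ℕ} : Chain P L → Disjoint P R → Leaf P R → Chain (P ∪ R) (R.card :: L)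

theorem bsum_chain [DecidableEq V] {P : Finset V} {L : List ℕ} (h : Chain P L) (q : ℕ) :
    bsum P id q ≤ (L.map fun n => ∑ i ∈ range (n + 1), q ^ i).prod := by
  induction h with
  | nil => exact bsum_empty id q
  | cons hP hd hl ih =>
    rw [List.map_cons, List.prod_cons, mul_comm]
    exact (bsum_leaf hd hl q).trans (Nat.mul_le_mul_right _ ih)

theorem chain_card [DecidableEq V] {P : Finset V} {L : List ℕ} (h : Chain P L) : P.card = L.sum := by
  induction h with
  | nil => rfl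
  | cons hP hd hl ih => rw [card_union_of_disjoint hd, ih, List.sum_cons, add_comm]

theorem geom_eq (r n : ℕ) : (∑ i ∈ range n, (r + 1) ^ i) * r + 1 = (r + 1) ^ n := by
  induction n with
  | zero => simp
  | succ n ih =>
    rw [sum_range_succ, add_mul, pow_succ, mul_add, mul_one, ← ih]
    ring

theorem geom_le (q n : ℕ) : (∑ i ∈ range n, q ^ i) * (q - 1) ≤ q ^ n := by
  rcases Nat.eq_zero_or_pos q with rfl | hq
  · simp only [_root_.zero_geom_sum, _root_.zero_tsub, _root_.MulZeroClass.mul_zero, _root_.zero_le]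
  · obtain ⟨r, rfl⟩ : ∃ r, q = r + 1 := ⟨q - 1, by omega⟩
    rw [Nat.add_sub_cancel, ← geom_eq]
    exact Nat.le_succ _

/-- **type `A`** -/
theorem bsum_chain_mul [DecidableEq V] {P : Finset V} {L : List ℕ} (h : Chain P L) (q : ℕ) :
    bsum P id q * (q - 1) ^ L.length ≤ q ^ (P.card + L.length) := by
  refine (Nat.mul_le_mul_right _ (bsum_chain h q)).trans ?_
  rw [chain_card h]
  clear h
  induction L with
  | nil => simp
  | cons n L ih =>
    rw [List.map_cons, List.prod_cons, List.length_cons, List.sum_cons]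
    calc (∑ i ∈ range (n + 1), q ^ i) * (List.map (fun n => ∑ i ∈ range (n + 1), q ^ i) L).prod * (q - 1) ^ (L.length + 1)
        = ((∑ i ∈ range (n + 1), q ^ i) * (q - 1)) *
          ((List.map (fun n => ∑ i ∈ range (n + 1), q ^ i) L).prod * (q - 1) ^ L.length) := by ring
      _ ≤ q ^ (n + 1) * q ^ (L.sum + L.length) := Nat.mul_le_mul (geom_le q _) ih
      _ = _ := by ring

end Cfsg.Agent.H255.RG

namespace Cfsg.Agent.H255.RG

open Finset

/-- `²A₃` -/
theorem bsum_flip3 {V : Type*} [AddCommGroup V] [DecidableEq V] {a b c : V}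
    (hnd : ([a, b, c, a + b, b + c, a + b + c] : List V).Nodup) {θ : V → V}
    (h1 : θ a = c) (h2 : θ c = a) (h3 : θ b = b) (h4 : θ (a + b) = b + c) (h5 : θ (b + c) = a + b) (q : ℕ) :
    bsum {a, b, c, a + b, b + c, a + b + c} θ q ≤ 1 + q + q ^ 2 + 2 * q ^ 3 + q ^ 4 + q ^ 5 + q ^ 6 := by
  classical
  set P : Finset V := {a, b, c, a + b, b + c, a + b + c} with hP
  let T : Finset (Bool × Bool × Bool × Bool) := {(false, false, false, false), (true, true, true, true),
    (true, false, true, true), (true, false, false, false), (true, false, false, true), (false, true, false, false),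
    (false, true, true, false), (false, true, true, true)}
  let g : Finset V → Bool × Bool × Bool × Bool := fun N =>
    (decide (a ∈ N), decide (b ∈ N), decide (a + b ∈ N), decide (a + b + c ∈ N))
  let wt : Bool × Bool × Bool × Bool → ℕ := fun x =>
    2 * x.1.toNat + x.2.1.toNat + 2 * x.2.2.1.toNat + x.2.2.2.toNat
  have hac : ∀ N, Bic P θ N → (c ∈ N ↔ a ∈ N) := fun N hN =>
    ⟨fun h => by have := hN.st c h; rwa [h2] at this, fun h => by have := hN.st a h; rwa [h1] at this⟩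
  have hbc : ∀ N, Bic P θ N → (b + c ∈ N ↔ a + b ∈ N) := fun N hN =>
    ⟨fun h => by have := hN.st _ h; rwa [h5] at this, fun h => by have := hN.st _ h; rwa [h4] at this⟩
  have hsum : ∀ N : Finset V, N ⊆ P → N.card = (decide (a ∈ N)).toNat + (decide (b ∈ N)).toNat +
      (decide (c ∈ N)).toNat + (decide (a + b ∈ N)).toNat + (decide (b + c ∈ N)).toNat +
      (decide (a + b + c ∈ N)).toNat := by
    intro N hN
    have e1 : N = ([a, b, c, a + b, b + c, a + b + c].filter (fun x => decide (x ∈ N))).toFinset := by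
      ext x
      rw [List.mem_toFinset, List.mem_filter, decide_eq_true_eq]
      constructor
      · intro hx
        refine ⟨?_, hx⟩
        have := hN hx
        rw [hP] at this
        simpa only [_root_.List.mem_cons, _root_.List.not_mem_nil, _root_.or_false, _root_.Finset.mem_insert, _root_.Finset.mem_singleton] using this
      · exact fun hx => hx.2
    conv_lhs => rw [e1]
    rw [List.toFinset_card_of_nodup (hnd.filter _)]
    simp only [List.filter_cons, List.filter_nil]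
    by_cases k1 : a ∈ N <;> by_cases k2 : b ∈ N <;> by_cases k3 : c ∈ N <;> by_cases k4 : a + b ∈ N <;>
      by_cases k5 : b + c ∈ N <;> by_cases k6 : a + b + c ∈ N <;> simp [k1, k2, k3, k4, k5, k6]
  have hcard : ∀ N, Bic P θ N → N.card = wt (g N) := by
    intro N hN
    rw [hsum N hN.sub]
    simp only [hac N hN, hbc N hN, wt, g]
    ring
  have hT : ∀ N, Bic P θ N → g N ∈ T := by
    intro N hN
    have ma : a ∈ P := by simp only [hP, _root_.Finset.mem_insert, _root_.left_eq_add, _root_.Finset.mem_singleton, _root_.true_or]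
    have mb : b ∈ P := by simp only [hP, _root_.Finset.mem_insert, _root_.right_eq_add, _root_.left_eq_add, _root_.Finset.mem_singleton, _root_.true_or, _root_.or_true]
    have mc : c ∈ P := by simp only [hP, _root_.Finset.mem_insert, _root_.right_eq_add, _root_.Finset.mem_singleton, _root_.true_or, _root_.or_true]
    have mab : a + b ∈ P := by simp only [hP, _root_.Finset.mem_insert, _root_.add_eq_left, _root_.add_eq_right, _root_.Finset.mem_singleton, _root_.left_eq_add, _root_.true_or, _root_.or_true]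
    have mabc : a + b + c ∈ P := by simp only [hP, _root_.Finset.mem_insert, _root_.add_eq_right, _root_.add_eq_left, _root_.add_left_inj, _root_.Finset.mem_singleton, _root_.or_true]
    have c1 : a ∈ N → b ∈ N → a + b ∈ N := fun x y => hN.add a x b y mab
    have c2 : a ∉ N → b ∉ N → a + b ∉ N := fun x y => hN.coadd a ma b mb x y
    have c3 : a ∈ N → a + b ∈ N → a + b + c ∈ N := fun x y =>
      hN.add _ y c ((hac N hN).2 x) mabc
    have c4 : a ∉ N → a + b ∉ N → a + b + c ∉ N := fun x y =>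
      hN.coadd _ mab c mc y (fun h => x ((hac N hN).1 h))
    by_cases k1 : a ∈ N <;> by_cases k2 : b ∈ N <;> by_cases k4 : a + b ∈ N <;> by_cases k6 : a + b + c ∈ N <;>
      simp only [k1, k2, k4, k6, not_true_eq_false, not_false_eq_true, true_implies, false_implies,
        imp_false] at c1 c2 c3 c4 <;>
      simp only [g, T, k1, k2, k4, k6, _root_.List.nodup_cons, _root_.List.mem_cons, _root_.left_eq_add, _root_.List.not_mem_nil, _root_.or_false, _root_.not_or, _root_.right_eq_add, _root_.add_left_inj, _root_.not_false_eq_true, _root_.List.nodup_nil, _root_.and_self, _root_.and_true, _root_.decide_true, _root_.Finset.mem_insert, _root_.Prod.mk.injEq, _root_.Bool.true_eq_false, _root_.and_false, _root_.Finset.mem_singleton, _root_.or_self, _root_.or_true, _root_.decide_false, _root_.Bool.false_eq_true] at *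
  unfold bsum
  rw [Finset.sum_congr rfl (g := fun N => q ^ wt (g N)) fun N hN => by rw [mem_bs] at hN; rw [hcard N hN]]
  rw [← Finset.sum_image (s := P.powerset.filter (Bic P θ)) (g := g) (f := fun x => q ^ wt x)]
  · refine (Finset.sum_le_sum_of_subset (t := T) fun x hx => ?_).trans ?_
    · obtain ⟨N, hN, rfl⟩ := mem_image.1 hx
      rw [mem_bs] at hN
      exact hT N hN
    · have : ∑ x ∈ T, q ^ wt x = 1 + q + q ^ 2 + 2 * q ^ 3 + q ^ 4 + q ^ 5 + q ^ 6 := by
        simp only [T, wt]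
        rw [sum_insert (by decide), sum_insert (by decide), sum_insert (by decide), sum_insert (by decide),
          sum_insert (by decide), sum_insert (by decide), sum_insert (by decide), sum_singleton]
        simp only [Bool.toNat_true, Bool.toNat_false]
        ring
      rw [this]
  · intro N hN N' hN' he
    rw [mem_coe, mem_bs] at hN hN'
    simp only [g, Prod.mk.injEq, decide_eq_decide] at he
    obtain ⟨k1, k2, k4, k6⟩ := he
    have k3 : c ∈ N ↔ c ∈ N' := by rw [hac N hN, hac N' hN', k1]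
    have k5 : b + c ∈ N ↔ b + c ∈ N' := by rw [hbc N hN, hbc N' hN', k4]
    ext x
    constructor
    · intro hx
      have := hN.sub hx
      simp only [hP, mem_insert, mem_singleton] at this
      rcases this with rfl | rfl | rfl | rfl | rfl | rfl
      · exact k1.1 hx
      · exact k2.1 hx
      · exact k3.1 hx
      · exact k4.1 hx
      · exact k5.1 hx
      · exact k6.1 hx
    · intro hx
      have := hN'.sub hx
      simp only [hP, mem_insert, mem_singleton] at this
      rcases this with rfl | rfl | rfl | rfl | rfl | rfl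
      · exact k1.2 hx
      · exact k2.2 hx
      · exact k3.2 hx
      · exact k4.2 hx
      · exact k5.2 hx
      · exact k6.2 hx

end Cfsg.Agent.H255.RG
end

private theorem dce_37601485a748 : _root_.True := by
  try have : _root_.True := by simp only [_root_.Cfsg.Agent.H448.TorB.cyc.eq_1]
  try have : _root_.True := by simp only [_root_.Cfsg.Agent.H448.TorB.Dp.eq_1]
  exact _root_.True.intro
end

-- part: H28/RG/Form
section
set_option linter.all false
open scoped Cfsg.Agent.FastGrp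

/-!
# S3509, exceptional groups: the fixed points of a frame automorphism in the centraliser of a torus element (helper28)

`H : Tow cs h p T n X` with coordinates `C`, `t ∈ TL T`, `α` a frame automorphism over `θ` (`Fr`), `α t = t`, and `θ`
preserves the positive roots of `Sx t`.

* `Up`, `Un` : the groups generated by the root groups of the positive / negative roots of `Sx t`;
* `form_fix` : an element fixed by `α` and commuting with `t` is `u k v`, `u, v ∈ Up`, `k` over `w`, `k v k⁻¹ ∈ Un`, all fixed by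
  `α` and commuting with `t`.
-/

set_option autoImplicit false
set_option linter.unusedSectionVars false

namespace Cfsg.Agent.H28.RG

open CoxeterSystem Cfsg.Agent.ChevalleyStructure.CoxeterGeom Cfsg.Agent.Tits.Roots Cfsg.Agent.Tits.Core
  Cfsg.Agent.Tits.RootComb Cfsg.Agent.Tits.Exchange Cfsg.Agent.Nodes.Reps Cfsg.Agent.Nodes.BNOf
  Cfsg.Agent.Nodes.StabComb Cfsg.Agent.Nodes.Bruhat Cfsg.Agent.Nodes.OppDec Cfsg.Agent.Nodes.LeviDec
  Cfsg.Agent.Nodes.NormalForm Cfsg.Agent.Nodes.SubComb Cfsg.Agent.KFacts.RgdField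
  Cfsg.Agent.BpExc.TorCent Cfsg.Agent.BpExc.Tow Cfsg.Agent.BpExc.Fr
open scoped commutatorElement

variable {I W Y : Type*} [Fintype I] [DecidableEq I] [Group W] [Finite W] [Group Y] {M : CoxeterMatrix I}
  {cs : CoxeterSystem M W} {A : I → I → ℤ} {h : IsCartan M A} {p : ℕ}
  {J : Type*} [Preorder J] {T : J → Subgroup Y} {n : I → Y} {X : J → (I → ℤ) → Subgroup Y}

/-! ### the union -/

section Lim

variable (H : Tow cs h p T n X)

include H

/-- `N` conjugates the groups generated by root groups -/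
theorem conj_SupL {w : W} {g : Y} (hg : Rp cs H.nsys w g) {S S' : Set (I → ℤ)} (hS : ∀ x ∈ S, IsRoot cs h x)
    (hSS : ∀ x ∈ S, rep cs h w x ∈ S') {a : Y} (ha : a ∈ RGD.Sup (XL X) S) : g * a * g⁻¹ ∈ RGD.Sup (XL X) S' := by
  have h1 : RGD.Sup (XL X) S ≤ (RGD.Sup (XL X) S').comap (MulAut.conj g).toMonoidHom := by
    refine RGD.Sup_le fun x hx => ?_
    intro y hy
    have h2 : g * y * g⁻¹ ∈ cj g (XL X x) := conj_mem_cj.2 hy
    rw [H.conj_rp hg (hS x hx)] at h2
    exact RGD.le_Sup (hSS x hx) h2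
  exact h1 ha

theorem eq_one_of_pos_neg {u : Y} (h1 : u ∈ RGD.Sup (XL X) (RGD.Pos cs h)) (h2 : u ∈ RGD.Sup (XL X) (Neg cs h)) :
    u = 1 := by
  obtain ⟨j1, h1⟩ := H.mem_Sup.1 h1
  obtain ⟨j2, h2⟩ := H.mem_Sup.1 h2
  obtain ⟨j, a1, a2⟩ := H.dir j1 j2
  exact eq_one_of_mem_UN_of_mem_B (H.rgd j) (H.mono_Sup _ a2 h2) (RGD.U_le_B (H.mono_Sup _ a1 h1))

/-- the elements of `U` moved into `U⁻` by `k` -/
theorem mem_NW {w : W} {k v : Y} (hk : Rp cs H.nsys w k) (hv : v ∈ RGD.Sup (XL X) (RGD.Pos cs h))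
    (hkv : k * v * k⁻¹ ∈ RGD.Sup (XL X) (Neg cs h)) : v ∈ RGD.Sup (XL X) (NW cs h w) := by
  obtain ⟨j, hj⟩ := H.mem_Sup.1 hv
  obtain ⟨b, hb, c, hc, rfl⟩ := exists_PW_NW (H.rgd j) w hj
  have hb' := Sup_le_SupL (X := X) j _ hb
  have hc' := Sup_le_SupL (X := X) j _ hc
  have h1 : k * b * k⁻¹ ∈ RGD.Sup (XL X) (RGD.Pos cs h) :=
    conj_SupL H hk (S' := RGD.Pos cs h) (fun x hx => hx.1) (fun x hx => ⟨hx.1.act w, hx.2.2⟩) hb'
  have h2 : k * c * k⁻¹ ∈ RGD.Sup (XL X) (Neg cs h) :=
    conj_SupL H hk (S' := Neg cs h) (fun x hx => hx.1) (fun x hx => ⟨hx.1.act w, hx.2.2⟩) hc'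
  have h3 : k * b * k⁻¹ ∈ RGD.Sup (XL X) (Neg cs h) := by
    have e : k * b * k⁻¹ = (k * (b * c) * k⁻¹) * (k * c * k⁻¹)⁻¹ := by group
    rw [e]
    exact mul_mem hkv (inv_mem h2)
  have h4 := eq_one_of_pos_neg H h1 h3
  have h5 : b = 1 := by
    have e : b = k⁻¹ * (k * b * k⁻¹) * k := by group
    rw [e, h4]
    group
  rw [h5, one_mul]
  exact hc'

/-- **Uniqueness**, with `k v k⁻¹ ∈ U⁻` -/
theorem form_unique {w w' : W} {u u' k k' v v' : Y}
    (hu : u ∈ RGD.Sup (XL X) (RGD.Pos cs h)) (hu' : u' ∈ RGD.Sup (XL X) (RGD.Pos cs h))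
    (hk : Rp cs H.nsys w k) (hk' : Rp cs H.nsys w' k') (hv : v ∈ RGD.Sup (XL X) (RGD.Pos cs h))
    (hkv : k * v * k⁻¹ ∈ RGD.Sup (XL X) (Neg cs h))
    (hv' : v' ∈ RGD.Sup (XL X) (RGD.Pos cs h)) (hkv' : k' * v' * k'⁻¹ ∈ RGD.Sup (XL X) (Neg cs h))
    (e : u * k * v = u' * k' * v') : w = w' ∧ u = u' ∧ k = k' ∧ v = v' :=
  H.normal_form_unique hu hu' hk hk' (mem_NW H hk hv hkv) (mem_NW H hk' hv' hkv') e

end Lim

/-! ### the centraliser of a torus element -/

section Cent

variable {F : Type*} [Field F] {xx : (I → ℤ) → F → Y} {χ : (I → ℤ) → Y → F}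

/-- positive roots of `Sx t` -/
def SP (cs : CoxeterSystem M W) (h : IsCartan M A) (χ : (I → ℤ) → Y → F) (t : Y) : Set (I → ℤ) :=
  {a | a ∈ Sx cs h χ t ∧ 0 ≤ a}

/-- negative roots of `Sx t` -/
def SN (cs : CoxeterSystem M W) (h : IsCartan M A) (χ : (I → ℤ) → Y → F) (t : Y) : Set (I → ℤ) :=
  {a | a ∈ Sx cs h χ t ∧ a ≤ 0}

/-- the group generated by the positive root groups centralised by `t` -/
def Up (cs : CoxeterSystem M W) (h : IsCartan M A) (X : J → (I → ℤ) → Subgroup Y) (χ : (I → ℤ) → Y → F) (t : Y) :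
    Subgroup Y := RGD.Sup (XL X) (SP cs h χ t)

/-- the group generated by the negative root groups centralised by `t` -/
def Un (cs : CoxeterSystem M W) (h : IsCartan M A) (X : J → (I → ℤ) → Subgroup Y) (χ : (I → ℤ) → Y → F) (t : Y) :
    Subgroup Y := RGD.Sup (XL X) (SN cs h χ t)

theorem Up_le {t : Y} : Up cs h X χ t ≤ RGD.Sup (XL X) (RGD.Pos cs h) :=
  RGD.Sup_mono (S := SP cs h χ t) (S' := RGD.Pos cs h) fun _ ha => ⟨ha.1.1, ha.2⟩

theorem Un_le {t : Y} : Un cs h X χ t ≤ RGD.Sup (XL X) (Neg cs h) :=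
  RGD.Sup_mono (S := SN cs h χ t) (S' := Neg cs h) fun _ ha => ⟨ha.1.1, ha.2⟩

variable (H : Tow cs h p T n X) (C : Coords cs h (TL T) n (XL X) xx χ)

include H C

/-- the centraliser of `t` in `U` -/
theorem mem_Up {t : Y} (ht : t ∈ TL T) {u : Y} (hu : u ∈ RGD.Sup (XL X) (RGD.Pos cs h)) (hc : u * t = t * u) :
    u ∈ Up cs h X χ t := by
  obtain ⟨j1, h1⟩ := H.mem_Sup.1 hu
  obtain ⟨j2, h2⟩ := H.mem_TL.1 ht
  obtain ⟨j, a1, a2⟩ := H.dir j1 j2
  have h3 : u ∈ RGD.Sup (X j) (RGD.Pos cs h) ⊓ Subgroup.centralizer {t} :=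
    ⟨H.mono_Sup _ a1 h1, Subgroup.mem_centralizer_singleton_iff.2 hc⟩
  rw [centralizer_U (H.rgd j) (S := {t}) (Set.singleton_subset_iff.2 (H.monoT a2 h2))] at h3
  have h4 : RGD.Sup (fun x => X j x ⊓ Subgroup.centralizer {t}) (RGD.Pos cs h) ≤ Up cs h X χ t := by
    refine RGD.Sup_le fun a ha => ?_
    rintro y ⟨hy, hyc⟩
    by_cases hy1 : y = 1
    · rw [hy1]; exact one_mem _
    · exact RGD.le_Sup (S := SP cs h χ t) ⟨mem_Sx_of_centralizer C ht ha.1 (le_XL j a hy) hy1 hyc, ha.2⟩ (le_XL j a hy)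
  exact h4 h3

/-- the centraliser of `t` in `U⁻` -/
theorem mem_Un {t : Y} (ht : t ∈ TL T) {u : Y} (hu : u ∈ RGD.Sup (XL X) (Neg cs h)) (hc : u * t = t * u) :
    u ∈ Un cs h X χ t := by
  obtain ⟨w0, hw0⟩ := Cfsg.Agent.Nodes.Sys.exists_longest cs h
  obtain ⟨k0, -, hk0⟩ := H.exists_rp w0⁻¹
  have hneg : ∀ x, IsRoot cs h x → x ≤ 0 → 0 ≤ rep cs h w0⁻¹ x := by
    intro x hx h0
    have h1 := hw0 (-x) hx.neg (neg_nonneg.2 h0)
    rwa [map_neg, neg_nonpos] at h1
  have hback : ∀ x, IsRoot cs h x → 0 ≤ x → rep cs h w0 x ≤ 0 := by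
    intro x hx h0
    rcases (hx.act w0).pos_or_neg with h1 | h1
    · exfalso
      have h2 := hw0 _ (hx.act w0) h1
      rw [← rep_mul_apply, inv_mul_cancel, map_one, Module.End.one_apply] at h2
      exact hx.not_pos_neg h0 h2
    · exact h1
  have ht' : k0 * t * k0⁻¹ ∈ TL T := ((Subgroup.mem_normalizer_iff.1 hk0.mem_normalizer) t).1 ht
  have h1 : k0 * u * k0⁻¹ ∈ RGD.Sup (XL X) (RGD.Pos cs h) :=
    conj_SupL H hk0 (S' := RGD.Pos cs h) (fun x hx => hx.1) (fun x hx => ⟨hx.1.act _, hneg x hx.1 hx.2⟩) hu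
  have h2 : (k0 * u * k0⁻¹) * (k0 * t * k0⁻¹) = (k0 * t * k0⁻¹) * (k0 * u * k0⁻¹) := by
    calc (k0 * u * k0⁻¹) * (k0 * t * k0⁻¹) = k0 * (u * t) * k0⁻¹ := by group
      _ = k0 * (t * u) * k0⁻¹ := by rw [hc]
      _ = _ := by group
  have h3 := mem_Up H C ht' h1 h2
  have h4 := conj_SupL H hk0.inv (S := SP cs h χ (k0 * t * k0⁻¹)) (S' := SN cs h χ t) (fun x hx => hx.1.1)
    (fun x hx => ?_) h3
  · have e : k0⁻¹ * (k0 * u * k0⁻¹) * k0⁻¹⁻¹ = u := by group
    rwa [e] at h4
  · rw [inv_inv]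
    refine ⟨⟨hx.1.1.act _, ?_⟩, hback x hx.1.1 hx.2⟩
    have h5 := C.chi_rp H.nsys hk0 (hx.1.1.act w0) ht
    rw [← rep_mul_apply, inv_mul_cancel, map_one, Module.End.one_apply] at h5
    rw [← h5]
    exact hx.1.2

omit C in
/-- the normal form of an element commuting with `t` -/
theorem conj_formL {s t : Y} (hs : s ∈ TL T) (ht : t ∈ TL T) {w : W} {u k v : Y}
    (hu : u ∈ RGD.Sup (XL X) (RGD.Pos cs h)) (hk : Rp cs H.nsys w k) (hv : v ∈ RGD.Sup (XL X) (NW cs h w))
    (hc : u * k * v * s = t * (u * k * v)) : t * u = u * t ∧ k * s = t * k ∧ s * v = v * s := by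
  have key : w = w ∧ t * u * t⁻¹ = u ∧ t * k * s⁻¹ = k ∧ s * v * s⁻¹ = v := by
    refine H.normal_form_unique ((Subgroup.mem_normalizer_iff.1 (H.T_le_normalizer (S := RGD.Pos cs h)
      (fun x hx => hx.1) ht) u).1 hu) hu ?_ hk
      ((Subgroup.mem_normalizer_iff.1 (H.T_le_normalizer (S := NW cs h w) (fun x hx => hx.1) hs) v).1 hv) hv ?_
    · have h2 := (rp_of_mem (cs := cs) (hN := H.nsys) ht).mul (hk.mul_mem_right (inv_mem hs))
      rw [one_mul] at h2
      rw [mul_assoc]; exact h2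
    · have e : t * u * t⁻¹ * (t * k * s⁻¹) * (s * v * s⁻¹) = t * (u * k * v) * s⁻¹ := by group
      rw [e, ← hc]; group
  obtain ⟨-, h1, h2, h3⟩ := key
  refine ⟨mul_inv_eq_iff_eq_mul.1 h1, ?_, mul_inv_eq_iff_eq_mul.1 h3⟩
  exact (mul_inv_eq_iff_eq_mul.1 h2).symm

/-- **The form of the elements of the centraliser.** -/
theorem form (hG : GG cs h (TL T) (XL X) = ⊤) {t : Y} (ht : t ∈ TL T) {c : Y} (hc : c * t = t * c) :
    ∃ w, ∃ u ∈ Up cs h X χ t, ∃ k, Rp cs H.nsys w k ∧ k * t = t * k ∧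
      ∃ v ∈ Up cs h X χ t, k * v * k⁻¹ ∈ Un cs h X χ t ∧ c = u * k * v := by
  obtain ⟨w, u, hu, k, hk, v, hv, rfl⟩ := H.exists_normal_form (g := c) (by rw [hG]; exact Subgroup.mem_top c)
  obtain ⟨h1, h2, h3⟩ := conj_formL H ht ht hu hk hv hc
  have hv' : v ∈ RGD.Sup (XL X) (RGD.Pos cs h) :=
    RGD.Sup_mono (S := NW cs h w) (S' := RGD.Pos cs h) (fun x hx => ⟨hx.1, hx.2.1⟩) hv
  refine ⟨w, u, mem_Up H C ht hu h1.symm, k, hk, h2, v, mem_Up H C ht hv' h3.symm, ?_, rfl⟩
  refine mem_Un H C ht (conj_SupL H hk (S' := Neg cs h) (fun x hx => hx.1) (fun x hx => ⟨hx.1.act w, hx.2.2⟩) hv) ?_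
  calc k * v * k⁻¹ * t = k * v * (k⁻¹ * t * k) * k⁻¹ := by group
    _ = k * v * t * k⁻¹ := by
        have e : k⁻¹ * t * k = t := by rw [mul_assoc, ← h2]; group
        rw [e]
    _ = k * (t * v) * k⁻¹ := by rw [h3]; group
    _ = t * (k * v * k⁻¹) := by rw [← mul_assoc, h2]; group

/-! ### the frame automorphism -/

variable {α : MulAut Y} {θ : (I → ℤ) ≃+ (I → ℤ)} (Fα : Fr cs h (TL T) (XL X) α θ)

omit H in
theorem theta_neg {t : Y} (ht : t ∈ TL T) (hpos : ∀ a ∈ Sx cs h χ t, 0 ≤ a → 0 ≤ θ a)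
    (hA : ChAdd cs h (TL T) χ) {a : I → ℤ} (ha : a ∈ Sx cs h χ t) (h0 : a ≤ 0) : θ a ≤ 0 := by
  have h1 := hpos (-a) (chi_neg C ht hA ha) (neg_nonneg.2 h0)
  rwa [map_neg, neg_nonneg] at h1

include Fα

omit H in
theorem alpha_Up {t : Y} (ht : t ∈ TL T) (hα : α t = t) (hpos : ∀ a ∈ Sx cs h χ t, 0 ≤ a → 0 ≤ θ a) {u : Y}
    (hu : u ∈ Up cs h X χ t) : α u ∈ Up cs h X χ t := by
  have h1 : Up cs h X χ t ≤ (Up cs h X χ t).comap α.toMonoidHom := by
    refine RGD.Sup_le fun a ha => ?_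
    intro y hy
    exact RGD.le_Sup (S := SP cs h χ t) ⟨(Fα.mem_Sx C ht hα a).2 ha.1, hpos a ha.1 ha.2⟩ ((Fα.map a ha.1.1 y).2 hy)
  exact h1 hu

omit H in
theorem alpha_Un {t : Y} (ht : t ∈ TL T) (hα : α t = t) (hpos : ∀ a ∈ Sx cs h χ t, 0 ≤ a → 0 ≤ θ a)
    (hA : ChAdd cs h (TL T) χ) {u : Y} (hu : u ∈ Un cs h X χ t) : α u ∈ Un cs h X χ t := by
  have h1 : Un cs h X χ t ≤ (Un cs h X χ t).comap α.toMonoidHom := by
    refine RGD.Sup_le fun a ha => ?_
    intro y hy
    exact RGD.le_Sup (S := SN cs h χ t) ⟨(Fα.mem_Sx C ht hα a).2 ha.1, theta_neg C ht hpos hA ha.1 ha.2⟩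
      ((Fα.map a ha.1.1 y).2 hy)
  exact h1 hu

/-- **The form of the elements of the centraliser fixed by `α`.** -/
theorem form_fix (hG : GG cs h (TL T) (XL X) = ⊤)
    (hsep : ∀ a, IsRoot cs h a → ∃ s ∈ TL T, ∀ u ∈ XL X a, u * s = s * u → u = 1) (hA : ChAdd cs h (TL T) χ)
    {t : Y} (ht : t ∈ TL T) (hα : α t = t) (hpos : ∀ a ∈ Sx cs h χ t, 0 ≤ a → 0 ≤ θ a)
    {c : Y} (hc : c * t = t * c) (hαc : α c = c) :
    ∃ w, ∃ u ∈ Up cs h X χ t, α u = u ∧ ∃ k, Rp cs H.nsys w k ∧ k * t = t * k ∧ α k = k ∧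
      ∃ v ∈ Up cs h X χ t, α v = v ∧ k * v * k⁻¹ ∈ Un cs h X χ t ∧ c = u * k * v := by
  obtain ⟨w, u, hu, k, hk, hkt, v, hv, hkv, rfl⟩ := form H C hG ht hc
  obtain ⟨w', hk'⟩ := Cfsg.Agent.BpExc.NChev.rp_fr H hG hsep Fα hk
  have hkv' : α k * α v * (α k)⁻¹ ∈ Un cs h X χ t := by
    rw [← map_mul, ← map_inv, ← map_mul]
    exact alpha_Un C Fα ht hα hpos hA hkv
  obtain ⟨-, h1, h2, h3⟩ := form_unique H (Up_le (alpha_Up C Fα ht hα hpos hu)) (Up_le hu) hk' hk
    (Up_le (alpha_Up C Fα ht hα hpos hv)) (Un_le hkv') (Up_le hv) (Un_le hkv) (by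
      rw [← map_mul, ← map_mul, hαc])
  exact ⟨w, u, hu, h1, k, hk, hkt, h2, v, hv, h3, hkv, rfl⟩

end Cent

end Cfsg.Agent.H28.RG
end

-- part: H441/RG/NrmK
section
prune_inst 0x4010000
set_option linter.all false
open scoped Cfsg.Agent.FastGrp

/-!
# S3509, exceptional groups: the group generated by the positive and the negative fixed unipotent elements of a centraliser is
normal in the fixed points of the centraliser (helper441)

The frame of `H28/RG/Form.lean`: `H : Tow cs h p T n X`, coordinates `C`, `t ∈ TL T`, a frame automorphism `α` over `θ` fixing `t`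
such that `θ` preserves the positive roots of `Sx t`.

* `PP0 = Up ∩ Fix α`, `QQ0 = Un ∩ Fix α`, `KK0 = ⟨PP0, QQ0⟩`;
* `conj_PP0`, `conj_QQ0` : `k PP0 k⁻¹, k QQ0 k⁻¹ ≤ KK0` for `k` over `w` commuting with `t` and fixed by `α`;
* `conj_KK0` : every `c` fixed by `α` and commuting with `t` normalises `KK0`.
-/

set_option autoImplicit false
set_option linter.unusedSectionVars false

namespace Cfsg.Agent.H441.RG

open CoxeterSystem Cfsg.Agent.ChevalleyStructure.CoxeterGeom Cfsg.Agent.Tits.Roots Cfsg.Agent.Tits.Core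
  Cfsg.Agent.Tits.RootComb Cfsg.Agent.Tits.Exchange Cfsg.Agent.Nodes.Reps Cfsg.Agent.Nodes.BNOf
  Cfsg.Agent.Nodes.StabComb Cfsg.Agent.Nodes.Bruhat Cfsg.Agent.Nodes.OppDec Cfsg.Agent.Nodes.LeviDec
  Cfsg.Agent.Nodes.NormalForm Cfsg.Agent.Nodes.SubComb Cfsg.Agent.KFacts.RgdField
  Cfsg.Agent.BpExc.TorCent Cfsg.Agent.BpExc.Tow Cfsg.Agent.BpExc.Fr Cfsg.Agent.H28.RG

/-! ### abstract part -/

section Abs

variable {Y : Type*} [Group Y]

/-- the factors of a fixed element are fixed -/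
theorem fix_dec {α : MulAut Y} {UP UN : Subgroup Y} (hI : ∀ x ∈ UP, x ∈ UN → x = 1) (hP : ∀ x ∈ UP, α x ∈ UP)
    (hN : ∀ x ∈ UN, α x ∈ UN) {k b c : Y} (hk : α k = k) (hkb : k * b * k⁻¹ ∈ UP) (hkc : k * c * k⁻¹ ∈ UN)
    (hv : α (b * c) = b * c) : α b = b ∧ α c = c := by
  have h1 : k * α b * k⁻¹ ∈ UP := by
    have := hP _ hkb
    rwa [map_mul, map_mul, map_inv, hk] at this
  have h2 : k * α c * k⁻¹ ∈ UN := by
    have := hN _ hkc
    rwa [map_mul, map_mul, map_inv, hk] at this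
  have e : (α b)⁻¹ * b = α c * c⁻¹ := by
    rw [map_mul] at hv
    rw [inv_mul_eq_iff_eq_mul, ← mul_assoc, hv, mul_inv_cancel_right]
  have h3 : k * ((α b)⁻¹ * b) * k⁻¹ ∈ UP := by
    have e3 : k * ((α b)⁻¹ * b) * k⁻¹ = (k * α b * k⁻¹)⁻¹ * (k * b * k⁻¹) := by group
    rw [e3]
    exact mul_mem (inv_mem h1) hkb
  have h4 : k * ((α b)⁻¹ * b) * k⁻¹ ∈ UN := by
    have e4 : k * (α c * c⁻¹) * k⁻¹ = (k * α c * k⁻¹) * (k * c * k⁻¹)⁻¹ := by group
    rw [e, e4]
    exact mul_mem h2 (inv_mem hkc)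
  have h5 := hI _ h3 h4
  have h6 : (α b)⁻¹ * b = 1 := by
    have e6 : (α b)⁻¹ * b = k⁻¹ * (k * ((α b)⁻¹ * b) * k⁻¹) * k := by group
    rw [e6, h5]; group
  refine ⟨(inv_mul_eq_one.1 h6), ?_⟩
  rw [e] at h6
  exact mul_inv_eq_one.1 h6

end Abs

section Lim

variable {I W Y : Type*} [Fintype I] [DecidableEq I] [Group W] [Finite W] [Group Y] {M : CoxeterMatrix I}
  {cs : CoxeterSystem M W} {A : I → I → ℤ} {h : IsCartan M A} {p : ℕ}
  {J : Type*} [Preorder J] {T : J → Subgroup Y} {n : I → Y} {X : J → (I → ℤ) → Subgroup Y}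
  (H : Tow cs h p T n X)

include H

/-- an element of `U` is a product of an element staying in `U` under `k` and one moved into `U⁻` -/
theorem dec_pos {w : W} {k v : Y} (hk : Rp cs H.nsys w k) (hv : v ∈ RGD.Sup (XL X) (RGD.Pos cs h)) :
    ∃ b ∈ RGD.Sup (XL X) (RGD.Pos cs h), ∃ c ∈ RGD.Sup (XL X) (RGD.Pos cs h), v = b * c ∧
      k * b * k⁻¹ ∈ RGD.Sup (XL X) (RGD.Pos cs h) ∧ k * c * k⁻¹ ∈ RGD.Sup (XL X) (Neg cs h) := by
  obtain ⟨j, hj⟩ := H.mem_Sup.1 hv
  obtain ⟨b, hb, c, hc, rfl⟩ := exists_PW_NW (H.rgd j) w hj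
  have hb' := Sup_le_SupL (X := X) j _ hb
  have hc' := Sup_le_SupL (X := X) j _ hc
  exact ⟨b, RGD.Sup_mono (S := PW cs h w) (S' := RGD.Pos cs h) (fun x hx => ⟨hx.1, hx.2.1⟩) hb', c,
    RGD.Sup_mono (S := NW cs h w) (S' := RGD.Pos cs h) (fun x hx => ⟨hx.1, hx.2.1⟩) hc', rfl,
    conj_SupL H hk (S' := RGD.Pos cs h) (fun x hx => hx.1) (fun x hx => ⟨hx.1.act w, hx.2.2⟩) hb',
    conj_SupL H hk (S' := Neg cs h) (fun x hx => hx.1) (fun x hx => ⟨hx.1.act w, hx.2.2⟩) hc'⟩

/-- an element of `U⁻` is a product of an element moved into `U` by `k` and one staying in `U⁻` -/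
theorem dec_neg {w : W} {k v : Y} (hk : Rp cs H.nsys w k) (hv : v ∈ RGD.Sup (XL X) (Neg cs h)) :
    ∃ b ∈ RGD.Sup (XL X) (Neg cs h), ∃ c ∈ RGD.Sup (XL X) (Neg cs h), v = b * c ∧
      k * b * k⁻¹ ∈ RGD.Sup (XL X) (RGD.Pos cs h) ∧ k * c * k⁻¹ ∈ RGD.Sup (XL X) (Neg cs h) := by
  obtain ⟨w0, hw0⟩ := Cfsg.Agent.Nodes.Sys.exists_longest cs h
  obtain ⟨k0, -, hk0⟩ := H.exists_rp w0⁻¹
  have hneg : ∀ x, IsRoot cs h x → x ≤ 0 → 0 ≤ rep cs h w0⁻¹ x := by
    intro x hx h0
    have h1 := hw0 (-x) hx.neg (neg_nonneg.2 h0)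
    rwa [map_neg, neg_nonpos] at h1
  have hback : ∀ x, IsRoot cs h x → 0 ≤ x → rep cs h w0 x ≤ 0 := by
    intro x hx h0
    rcases (hx.act w0).pos_or_neg with h1 | h1
    · exfalso
      have h2 := hw0 _ (hx.act w0) h1
      rw [← rep_mul_apply, inv_mul_cancel, map_one, Module.End.one_apply] at h2
      exact hx.not_pos_neg h0 h2
    · exact h1
  have h1 : k0 * v * k0⁻¹ ∈ RGD.Sup (XL X) (RGD.Pos cs h) :=
    conj_SupL H hk0 (S' := RGD.Pos cs h) (fun x hx => hx.1) (fun x hx => ⟨hx.1.act _, hneg x hx.1 hx.2⟩) hv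
  have hk1 : Rp cs H.nsys (w * w0⁻¹⁻¹) (k * k0⁻¹) := hk.mul hk0.inv
  have hkb : ∀ x ∈ RGD.Sup (XL X) (RGD.Pos cs h), k0⁻¹ * x * k0 ∈ RGD.Sup (XL X) (Neg cs h) := by
    intro x hx
    have h2 := conj_SupL H hk0.inv (S := RGD.Pos cs h) (S' := Neg cs h) (fun x hx => hx.1)
      (fun x hx => by rw [inv_inv]; exact ⟨hx.1.act _, hback x hx.1 hx.2⟩) hx
    rwa [inv_inv] at h2
  obtain ⟨b, hb, c, hc, e, h3, h4⟩ := dec_pos H hk1 h1
  refine ⟨k0⁻¹ * b * k0, hkb b hb, k0⁻¹ * c * k0, hkb c hc, ?_, ?_, ?_⟩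
  · have e1 : k0⁻¹ * b * k0 * (k0⁻¹ * c * k0) = k0⁻¹ * (b * c) * k0 := by group
    rw [e1, ← e]; group
  · have e1 : k * (k0⁻¹ * b * k0) * k⁻¹ = k * k0⁻¹ * b * (k * k0⁻¹)⁻¹ := by group
    rw [e1]; exact h3
  · have e1 : k * (k0⁻¹ * c * k0) * k⁻¹ = k * k0⁻¹ * c * (k * k0⁻¹)⁻¹ := by group
    rw [e1]; exact h4

end Lim

section Cent

variable {I W Y : Type*} [Fintype I] [DecidableEq I] [Group W] [Finite W] [Group Y] {M : CoxeterMatrix I}
  {cs : CoxeterSystem M W} {A : I → I → ℤ} {h : IsCartan M A} {p : ℕ}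
  {J : Type*} [Preorder J] {T : J → Subgroup Y} {n : I → Y} {X : J → (I → ℤ) → Subgroup Y}
  {F : Type*} [Field F] {xx : (I → ℤ) → F → Y} {χ : (I → ℤ) → Y → F}

/-- the fixed points of `α` in `Up` -/
def PP0 (cs : CoxeterSystem M W) (h : IsCartan M A) (X : J → (I → ℤ) → Subgroup Y) (χ : (I → ℤ) → Y → F) (α : MulAut Y)
    (t : Y) : Subgroup Y := Up cs h X χ t ⊓ Cfsg.fixedSubgroup α

/-- the fixed points of `α` in `Un` -/
def QQ0 (cs : CoxeterSystem M W) (h : IsCartan M A) (X : J → (I → ℤ) → Subgroup Y) (χ : (I → ℤ) → Y → F) (α : MulAut Y)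
    (t : Y) : Subgroup Y := Un cs h X χ t ⊓ Cfsg.fixedSubgroup α

/-- the group generated by the fixed points of `α` in `Up` and `Un` -/
def KK0 (cs : CoxeterSystem M W) (h : IsCartan M A) (X : J → (I → ℤ) → Subgroup Y) (χ : (I → ℤ) → Y → F) (α : MulAut Y)
    (t : Y) : Subgroup Y := PP0 cs h X χ α t ⊔ QQ0 cs h X χ α t

variable (H : Tow cs h p T n X) (C : Coords cs h (TL T) n (XL X) xx χ)

theorem mem_PP0 {α : MulAut Y} {t x : Y} : x ∈ PP0 cs h X χ α t ↔ x ∈ Up cs h X χ t ∧ α x = x := Iff.rfl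

theorem mem_QQ0 {α : MulAut Y} {t x : Y} : x ∈ QQ0 cs h X χ α t ↔ x ∈ Un cs h X χ t ∧ α x = x := Iff.rfl

include C in
/-- the elements of `Up` commute with `t` -/
theorem comm_Up {t : Y} (ht : t ∈ TL T) {u : Y} (hu : u ∈ Up cs h X χ t) : u * t = t * u := by
  have h1 : Up cs h X χ t ≤ Subgroup.centralizer {t} :=
    RGD.Sup_le fun a ha => X_le_centralizer C ht ha.1
  exact Subgroup.mem_centralizer_singleton_iff.1 (h1 hu)

include C in
/-- the elements of `Un` commute with `t` -/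
theorem comm_Un {t : Y} (ht : t ∈ TL T) {u : Y} (hu : u ∈ Un cs h X χ t) : u * t = t * u := by
  have h1 : Un cs h X χ t ≤ Subgroup.centralizer {t} :=
    RGD.Sup_le fun a ha => X_le_centralizer C ht ha.1
  exact Subgroup.mem_centralizer_singleton_iff.1 (h1 hu)

include H in
/-- the factors commute with `t` -/
theorem dec_comm {t : Y} (ht : t ∈ TL T) {k b c : Y} (hkt : k * t = t * k)
    (hkb : k * b * k⁻¹ ∈ RGD.Sup (XL X) (RGD.Pos cs h)) (hkc : k * c * k⁻¹ ∈ RGD.Sup (XL X) (Neg cs h))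
    (hv : b * c * t = t * (b * c)) : b * t = t * b ∧ c * t = t * c := by
  have h1 := fix_dec (α := MulAut.conj t) (UP := RGD.Sup (XL X) (RGD.Pos cs h)) (UN := RGD.Sup (XL X) (Neg cs h))
    (k := k) (b := b) (c := c) (fun x => eq_one_of_pos_neg H)
    (fun x hx => (Subgroup.mem_normalizer_iff.1 (H.T_le_normalizer (S := RGD.Pos cs h) (fun x hx => hx.1) ht) x).1 hx)
    (fun x hx => (Subgroup.mem_normalizer_iff.1 (H.T_le_normalizer (S := Neg cs h) (fun x hx => hx.1) ht) x).1 hx)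
    (by rw [MulAut.conj_apply, ← hkt]; group) hkb hkc (by rw [MulAut.conj_apply, ← hv]; group)
  rw [MulAut.conj_apply, MulAut.conj_apply] at h1
  exact ⟨(mul_inv_eq_iff_eq_mul.1 h1.1).symm, (mul_inv_eq_iff_eq_mul.1 h1.2).symm⟩

/-- conjugates of commuting elements commute -/
theorem comm_conj {t k b : Y} (hkt : k * t = t * k) (hb : b * t = t * b) : k * b * k⁻¹ * t = t * (k * b * k⁻¹) := by
  have e : k⁻¹ * t * k = t := by rw [mul_assoc, ← hkt]; group
  calc k * b * k⁻¹ * t = k * b * (k⁻¹ * t * k) * k⁻¹ := by group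
    _ = k * (b * t) * k⁻¹ := by rw [e]; group
    _ = k * t * b * k⁻¹ := by rw [hb]; group
    _ = t * (k * b * k⁻¹) := by rw [hkt]; group

include H C in
/-- the decomposition of an element of `Up` -/
theorem dec_Up {t : Y} (ht : t ∈ TL T) {w : W} {k v : Y} (hk : Rp cs H.nsys w k) (hkt : k * t = t * k)
    (hv : v ∈ Up cs h X χ t) : ∃ b ∈ Up cs h X χ t, ∃ c ∈ Up cs h X χ t, v = b * c ∧
      k * b * k⁻¹ ∈ Up cs h X χ t ∧ k * c * k⁻¹ ∈ Un cs h X χ t := by
  obtain ⟨b, hb, c, hc, e, h1, h2⟩ := dec_pos H hk (Up_le hv)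
  obtain ⟨h3, h4⟩ := dec_comm H ht hkt h1 h2 (by rw [← e]; exact comm_Up C ht hv)
  exact ⟨b, mem_Up H C ht hb h3, c, mem_Up H C ht hc h4, e, mem_Up H C ht h1 (comm_conj hkt h3),
    mem_Un H C ht h2 (comm_conj hkt h4)⟩

include H C in
/-- the decomposition of an element of `Un` -/
theorem dec_Un {t : Y} (ht : t ∈ TL T) {w : W} {k v : Y} (hk : Rp cs H.nsys w k) (hkt : k * t = t * k)
    (hv : v ∈ Un cs h X χ t) : ∃ b ∈ Un cs h X χ t, ∃ c ∈ Un cs h X χ t, v = b * c ∧
      k * b * k⁻¹ ∈ Up cs h X χ t ∧ k * c * k⁻¹ ∈ Un cs h X χ t := by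
  obtain ⟨b, hb, c, hc, e, h1, h2⟩ := dec_neg H hk (Un_le hv)
  obtain ⟨h3, h4⟩ := dec_comm H ht hkt h1 h2 (by rw [← e]; exact comm_Un C ht hv)
  exact ⟨b, mem_Un H C ht hb h3, c, mem_Un H C ht hc h4, e, mem_Up H C ht h1 (comm_conj hkt h3),
    mem_Un H C ht h2 (comm_conj hkt h4)⟩

/-! ### the frame automorphism -/

variable {α : MulAut Y} {θ : (I → ℤ) ≃+ (I → ℤ)} (Fα : Fr cs h (TL T) (XL X) α θ)

include H C Fα

theorem dec_PP0 (hA : ChAdd cs h (TL T) χ) {t : Y} (ht : t ∈ TL T) (hα : α t = t)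
    (hpos : ∀ a ∈ Sx cs h χ t, 0 ≤ a → 0 ≤ θ a) {w : W} {k v : Y} (hk : Rp cs H.nsys w k) (hkt : k * t = t * k)
    (hαk : α k = k) (hv : v ∈ PP0 cs h X χ α t) : ∃ b ∈ PP0 cs h X χ α t, ∃ c ∈ PP0 cs h X χ α t, v = b * c ∧
      k * b * k⁻¹ ∈ PP0 cs h X χ α t ∧ k * c * k⁻¹ ∈ QQ0 cs h X χ α t := by
  obtain ⟨b, hb, c, hc, e, h1, h2⟩ := dec_Up H C ht hk hkt hv.1
  obtain ⟨h3, h4⟩ := fix_dec (α := α) (UP := Up cs h X χ t) (UN := Un cs h X χ t)
    (fun x hx hx' => eq_one_of_pos_neg H (Up_le hx) (Un_le hx')) (fun x => alpha_Up C Fα ht hα hpos)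
    (fun x => alpha_Un C Fα ht hα hpos hA) hαk h1 h2 (by rw [← e]; exact hv.2)
  have h5 : α (k * b * k⁻¹) = k * b * k⁻¹ := by rw [map_mul, map_mul, map_inv, hαk, h3]
  have h6 : α (k * c * k⁻¹) = k * c * k⁻¹ := by rw [map_mul, map_mul, map_inv, hαk, h4]
  exact ⟨b, ⟨hb, h3⟩, c, ⟨hc, h4⟩, e, ⟨h1, h5⟩, ⟨h2, h6⟩⟩

theorem dec_QQ0 (hA : ChAdd cs h (TL T) χ) {t : Y} (ht : t ∈ TL T) (hα : α t = t)
    (hpos : ∀ a ∈ Sx cs h χ t, 0 ≤ a → 0 ≤ θ a) {w : W} {k v : Y} (hk : Rp cs H.nsys w k) (hkt : k * t = t * k)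
    (hαk : α k = k) (hv : v ∈ QQ0 cs h X χ α t) : ∃ b ∈ QQ0 cs h X χ α t, ∃ c ∈ QQ0 cs h X χ α t, v = b * c ∧
      k * b * k⁻¹ ∈ PP0 cs h X χ α t ∧ k * c * k⁻¹ ∈ QQ0 cs h X χ α t := by
  obtain ⟨b, hb, c, hc, e, h1, h2⟩ := dec_Un H C ht hk hkt hv.1
  obtain ⟨h3, h4⟩ := fix_dec (α := α) (UP := Up cs h X χ t) (UN := Un cs h X χ t)
    (fun x hx hx' => eq_one_of_pos_neg H (Up_le hx) (Un_le hx')) (fun x => alpha_Up C Fα ht hα hpos)
    (fun x => alpha_Un C Fα ht hα hpos hA) hαk h1 h2 (by rw [← e]; exact hv.2)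
  have h5 : α (k * b * k⁻¹) = k * b * k⁻¹ := by rw [map_mul, map_mul, map_inv, hαk, h3]
  have h6 : α (k * c * k⁻¹) = k * c * k⁻¹ := by rw [map_mul, map_mul, map_inv, hαk, h4]
  exact ⟨b, ⟨hb, h3⟩, c, ⟨hc, h4⟩, e, ⟨h1, h5⟩, ⟨h2, h6⟩⟩

/-- `k` over `w`, commuting with `t` and fixed by `α`, normalises `KK0` -/
theorem conj_KK0_rp (hA : ChAdd cs h (TL T) χ) {t : Y} (ht : t ∈ TL T) (hα : α t = t)
    (hpos : ∀ a ∈ Sx cs h χ t, 0 ≤ a → 0 ≤ θ a) {w : W} {k : Y} (hk : Rp cs H.nsys w k) (hkt : k * t = t * k)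
    (hαk : α k = k) {x : Y} (hx : x ∈ KK0 cs h X χ α t) : k * x * k⁻¹ ∈ KK0 cs h X χ α t := by
  have h1 : KK0 cs h X χ α t ≤ (KK0 cs h X χ α t).comap (MulAut.conj k).toMonoidHom := by
    refine sup_le (fun v hv => ?_) (fun v hv => ?_)
    · obtain ⟨b, -, c, -, e, h1, h2⟩ := dec_PP0 H C Fα hA ht hα hpos hk hkt hαk hv
      have e1 : k * v * k⁻¹ = (k * b * k⁻¹) * (k * c * k⁻¹) := by rw [e]; group
      have h3 : k * v * k⁻¹ ∈ KK0 cs h X χ α t := by
        rw [e1]
        exact mul_mem (Subgroup.mem_sup_left h1) (Subgroup.mem_sup_right h2)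
      exact h3
    · obtain ⟨b, -, c, -, e, h1, h2⟩ := dec_QQ0 H C Fα hA ht hα hpos hk hkt hαk hv
      have e1 : k * v * k⁻¹ = (k * b * k⁻¹) * (k * c * k⁻¹) := by rw [e]; group
      have h3 : k * v * k⁻¹ ∈ KK0 cs h X χ α t := by
        rw [e1]
        exact mul_mem (Subgroup.mem_sup_left h1) (Subgroup.mem_sup_right h2)
      exact h3
  exact h1 hx

/-- **Every element fixed by `α` and commuting with `t` normalises `KK0`.** -/
theorem conj_KK0 (hG : GG cs h (TL T) (XL X) = ⊤)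
    (hsep : ∀ a, IsRoot cs h a → ∃ s ∈ TL T, ∀ u ∈ XL X a, u * s = s * u → u = 1) (hA : ChAdd cs h (TL T) χ)
    {t : Y} (ht : t ∈ TL T) (hα : α t = t) (hpos : ∀ a ∈ Sx cs h χ t, 0 ≤ a → 0 ≤ θ a)
    {c : Y} (hc : c * t = t * c) (hαc : α c = c) {x : Y} (hx : x ∈ KK0 cs h X χ α t) :
    c * x * c⁻¹ ∈ KK0 cs h X χ α t := by
  obtain ⟨w, u, hu, hαu, k, hk, hkt, hαk, v, hv, hαv, -, rfl⟩ := form_fix H C Fα hG hsep hA ht hα hpos hc hαc
  have hu' : u ∈ KK0 cs h X χ α t := Subgroup.mem_sup_left ⟨hu, hαu⟩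
  have hv' : v ∈ KK0 cs h X χ α t := Subgroup.mem_sup_left ⟨hv, hαv⟩
  have e : u * k * v * x * (u * k * v)⁻¹ = u * (k * (v * x * v⁻¹) * k⁻¹) * u⁻¹ := by group
  rw [e]
  exact mul_mem (mul_mem hu' (conj_KK0_rp H C Fα hA ht hα hpos hk hkt hαk
    (mul_mem (mul_mem hv' hx) (inv_mem hv')))) (inv_mem hu')

end Cent

end Cfsg.Agent.H441.RG
end

-- part: H441/RG/CentS
section
prune_inst 0x4010000
set_option linter.all false
open scoped Cfsg.Agent.FastGrp

-- part: H441/RG/CentK
section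
/-!
# S3509, exceptional groups: the fixed points of a frame automorphism in a centraliser modulo `K0` (helper441)

The frame of `H28/RG/Form.lean` and `H441/RG/NrmK.lean`; `P = PP0` a Sylow subgroup of `C = fixC α t`, every nonempty
`θ`-invariant closed set of positive roots of `Sx t` carries a nontrivial fixed element.

* `KK0_normal` : `K0 ◁ C`;
* `frattini` : every `c ∈ C` is `κ k`, `κ ∈ K0`, `k ∈ C` over `w ∈ PP t` (the component group);
* `pow_mem` : `c ^ |PP t| ∈ K0 · T^α`;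
* `mem_of_coprime` : the elements of `C` of order prime to `|PP t|` lie in `K0 · T^α`.
-/

set_option autoImplicit false
set_option linter.unusedSectionVars false

namespace Cfsg.Agent.H441.RG

open CoxeterSystem Cfsg.Agent.ChevalleyStructure.CoxeterGeom Cfsg.Agent.Tits.Roots Cfsg.Agent.Tits.Core
  Cfsg.Agent.Tits.RootComb Cfsg.Agent.Tits.Exchange Cfsg.Agent.Nodes.Reps Cfsg.Agent.Nodes.BNOf
  Cfsg.Agent.Nodes.StabComb Cfsg.Agent.Nodes.Bruhat Cfsg.Agent.Nodes.OppDec Cfsg.Agent.Nodes.LeviDec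
  Cfsg.Agent.Nodes.NormalForm Cfsg.Agent.Nodes.SubComb Cfsg.Agent.KFacts.RgdField
  Cfsg.Agent.BpExc.TorCent Cfsg.Agent.BpExc.Tow Cfsg.Agent.BpExc.Fr Cfsg.Agent.BpExc.Pair Cfsg.Agent.H28.RG

variable {I W Y : Type*} [Fintype I] [DecidableEq I] [Group W] [Finite W] [Group Y] {M : CoxeterMatrix I}
  {cs : CoxeterSystem M W} {A : I → I → ℤ} {h : IsCartan M A} {p : ℕ}
  {J : Type*} [Preorder J] {T : J → Subgroup Y} {n : I → Y} {X : J → (I → ℤ) → Subgroup Y}
  {F : Type*} [Field F] {xx : (I → ℤ) → F → Y} {χ : (I → ℤ) → Y → F}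
  (H : Tow cs h p T n X) (C : Coords cs h (TL T) n (XL X) xx χ)
  {α : MulAut Y} {θ : (I → ℤ) ≃+ (I → ℤ)} (Fα : Fr cs h (TL T) (XL X) α θ)

/-- the data of this file -/
structure CDat (cs : CoxeterSystem M W) (h : IsCartan M A) (T : J → Subgroup Y) (X : J → (I → ℤ) → Subgroup Y)
    (χ : (I → ℤ) → Y → F) (α : MulAut Y) (θ : (I → ℤ) ≃+ (I → ℤ)) (t : Y) : Prop where
  hG : GG cs h (TL T) (XL X) = ⊤
  hsep : ∀ a, IsRoot cs h a → ∃ s ∈ TL T, ∀ u ∈ XL X a, u * s = s * u → u = 1
  hA : ChAdd cs h (TL T) χ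
  ht : t ∈ TL T
  hα : α t = t
  hpos : ∀ a ∈ Sx cs h χ t, 0 ≤ a → 0 ≤ θ a

variable {t : Y} (Dt : CDat cs h T X χ α θ t)

include H C Fα Dt

theorem PP0_le_fixC : PP0 cs h X χ α t ≤ fixC α t := fun _ hx => mem_fixC.2 ⟨hx.2, comm_Up C Dt.ht hx.1⟩

theorem QQ0_le_fixC : QQ0 cs h X χ α t ≤ fixC α t := fun _ hx => mem_fixC.2 ⟨hx.2, comm_Un C Dt.ht hx.1⟩

/-- **`K0 ◁ C`.** -/
theorem KK0_normal : ((KK0 cs h X χ α t).subgroupOf (fixC α t)).Normal := by
  refine ⟨fun x hx c => ?_⟩
  rw [Subgroup.mem_subgroupOf] at hx ⊢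
  obtain ⟨h1, h2⟩ := mem_fixC.1 c.2
  exact conj_KK0 H C Fα Dt.hG Dt.hsep Dt.hA Dt.ht Dt.hα Dt.hpos h2 h1 hx

/-- the sign of `w θ a` -/
theorem neg_theta {w : W} {k : Y} (hk : Rp cs H.nsys w k) (hkt : k * t = t * k) (hαk : α k = k) {a : I → ℤ}
    (ha : a ∈ SP cs h χ t) (hw : rep cs h w a ≤ 0) : rep cs h w (θ a) ≤ 0 := by
  have har := ha.1.1
  have hθr : IsRoot cs h (θ a) := (Fα.root a).2 har
  rcases (hθr.act w).pos_or_neg with h0 | h0
  swap
  · exact h0
  exfalso
  -- a nontrivial element of `X (θ a)`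
  have hy : xx a 1 ∈ XL X a := ((C.coord a har).mem _).2 ⟨1, rfl⟩
  have hy1 : xx a 1 ≠ 1 := (C.coord a har).ne_one one_ne_zero
  have hwa : rep cs h w a ∈ SN cs h χ t := by
    refine ⟨⟨har.act w, ?_⟩, hw⟩
    have h1 := C.chi_rp H.nsys hk har Dt.ht
    have h2 : k * t * k⁻¹ = t := by rw [hkt]; group
    rw [h2] at h1
    rw [h1]
    exact ha.1.2
  have h1 : k * xx a 1 * k⁻¹ ∈ Un cs h X χ t := by
    have h2 : k * xx a 1 * k⁻¹ ∈ cj k (XL X a) := conj_mem_cj.2 hy
    rw [H.conj_rp hk har] at h2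
    exact RGD.le_Sup hwa h2
  have h2 := Un_le (alpha_Un C Fα Dt.ht Dt.hα Dt.hpos Dt.hA h1)
  rw [map_mul, map_mul, map_inv, hαk] at h2
  have h3 : k * α (xx a 1) * k⁻¹ ∈ RGD.Sup (XL X) (RGD.Pos cs h) := by
    have h4 : k * α (xx a 1) * k⁻¹ ∈ cj k (XL X (θ a)) := conj_mem_cj.2 ((Fα.map a har _).2 hy)
    rw [H.conj_rp hk hθr] at h4
    exact RGD.le_Sup (S := RGD.Pos cs h) ⟨hθr.act w, h0⟩ h4
  have h4 := eq_one_of_pos_neg H h3 h2
  rw [conj_eq_one_iff, map_eq_one_iff α α.injective] at h4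
  exact hy1 h4

/-- **The elements of `N ∩ C` normalising `P` lie over the component group.** -/
theorem mem_PP_of_normalizer (hne : ∀ Ψ : Set (I → ℤ), Ψ.Nonempty → Ψ ⊆ SP cs h χ t → (∀ a ∈ Ψ, θ a ∈ Ψ) →
      (∀ a ∈ Ψ, ∀ b ∈ Ψ, ∀ z, IsRoot cs h z → (∃ i j : ℕ, 0 < i ∧ 0 < j ∧ z = i • a + j • b) → z ∈ Ψ) →
      ∃ u ∈ RGD.Sup (XL X) Ψ, u ≠ 1 ∧ α u = u)
    {w : W} {k : Y} (hk : Rp cs H.nsys w k) (hkt : k * t = t * k) (hαk : α k = k)
    (hn : ∀ x ∈ PP0 cs h X χ α t, k * x * k⁻¹ ∈ PP0 cs h X χ α t) : w ∈ PP cs h χ t := by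
  have hchi : ∀ a, IsRoot cs h a → χ (rep cs h w a) t = χ a t := by
    intro a har
    have h1 := C.chi_rp H.nsys hk har Dt.ht
    have h2 : k * t * k⁻¹ = t := by rw [hkt]; group
    rwa [h2] at h1
  refine mem_PP.2 ⟨hchi, fun a ha ha0 => ?_⟩
  rcases (ha.1.act w).pos_or_neg with h0 | h0
  · exact h0
  exfalso
  obtain ⟨u, hu, hu1, hαu⟩ := hne {a | a ∈ SP cs h χ t ∧ rep cs h w a ≤ 0} ⟨a, ⟨ha, ha0⟩, h0⟩ (fun a ha => ha.1)
    (fun a ha => ⟨⟨(Fα.mem_Sx C Dt.ht Dt.hα a).2 ha.1.1, Dt.hpos a ha.1.1 ha.1.2⟩,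
      neg_theta H C Fα Dt hk hkt hαk ha.1 ha.2⟩)
    (by
      rintro a ha b hb z hz ⟨i, j, hi, hj, rfl⟩
      refine ⟨⟨⟨hz, ?_⟩, add_nonneg (nsmul_nonneg ha.1.2 i) (nsmul_nonneg hb.1.2 j)⟩, ?_⟩
      · obtain ⟨φ, h0, hadd, hφ⟩ := Dt.hA t Dt.ht
        have hm : ∀ (i : ℕ) (x : I → ℤ), φ (i • x) = φ x ^ i := by
          intro i x
          induction i with
          | zero => rw [zero_smul, pow_zero, h0]
          | succ i ih => rw [succ_nsmul, hadd, ih, pow_succ]
        rw [hφ _ hz, hadd, hm, hm, ← hφ a ha.1.1.1, ← hφ b hb.1.1.1, ha.1.1.2, hb.1.1.2, one_pow, one_pow, one_mul]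
      · rw [map_add, map_nsmul, map_nsmul]
        exact add_nonpos (nsmul_nonpos ha.2 i) (nsmul_nonpos hb.2 j))
  have huP : u ∈ PP0 cs h X χ α t := ⟨RGD.Sup_mono (S := {a | a ∈ SP cs h χ t ∧ rep cs h w a ≤ 0})
    (S' := SP cs h χ t) (fun a ha => ha.1) hu, hαu⟩
  have h1 := Up_le (hn u huP).1
  have h2 : k * u * k⁻¹ ∈ RGD.Sup (XL X) (Neg cs h) :=
    conj_SupL H hk (S' := Neg cs h) (fun x hx => hx.1.1.1) (fun x hx => ⟨hx.1.1.1.act w, hx.2⟩) hu
  have h3 := eq_one_of_pos_neg H h1 h2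
  rw [conj_eq_one_iff] at h3
  exact hu1 h3

/-- **Frattini.** -/
theorem frattini (hne : ∀ Ψ : Set (I → ℤ), Ψ.Nonempty → Ψ ⊆ SP cs h χ t → (∀ a ∈ Ψ, θ a ∈ Ψ) →
      (∀ a ∈ Ψ, ∀ b ∈ Ψ, ∀ z, IsRoot cs h z → (∃ i j : ℕ, 0 < i ∧ 0 < j ∧ z = i • a + j • b) → z ∈ Ψ) →
      ∃ u ∈ RGD.Sup (XL X) Ψ, u ≠ 1 ∧ α u = u)
    {q : ℕ} [Fact q.Prime] [Finite ↥(fixC α t)] (P : Sylow q ↥(fixC α t))
    (hP : (P : Subgroup ↥(fixC α t)) = (PP0 cs h X χ α t).subgroupOf (fixC α t)) {c : Y} (hc : c ∈ fixC α t) :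
    ∃ κ ∈ KK0 cs h X χ α t, ∃ w ∈ PP cs h χ t, ∃ k, Rp cs H.nsys w k ∧ k * t = t * k ∧ α k = k ∧ c = κ * k := by
  have hN := KK0_normal H C Fα Dt
  have hPK : (P : Subgroup ↥(fixC α t)) ≤ (KK0 cs h X χ α t).subgroupOf (fixC α t) := by
    rw [hP]
    intro x hx
    rw [Subgroup.mem_subgroupOf] at hx ⊢
    exact Subgroup.mem_sup_left hx
  have h1 := P.normalizer_sup_eq_top' hPK
  have h2 : (⟨c, hc⟩ : ↥(fixC α t)) ∈ (KK0 cs h X χ α t).subgroupOf (fixC α t) ⊔
      Subgroup.normalizer ((P : Subgroup ↥(fixC α t)) : Set ↥(fixC α t)) := by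
    rw [sup_comm]
    have h3 : (⟨c, hc⟩ : ↥(fixC α t)) ∈ (⊤ : Subgroup ↥(fixC α t)) := Subgroup.mem_top _
    rw [← h1] at h3
    exact h3
  rw [← SetLike.mem_coe, Subgroup.normal_mul] at h2
  obtain ⟨κ, hκ, c', hc', e⟩ := h2
  have e' : (κ : Y) * c' = c := congrArg Subtype.val e
  obtain ⟨h3, h4⟩ := mem_fixC.1 c'.2
  obtain ⟨w, u, hu, hαu, k, hk, hkt, hαk, v, hv, hαv, -, e1⟩ :=
    form_fix H C Fα Dt.hG Dt.hsep Dt.hA Dt.ht Dt.hα Dt.hpos h4 h3
  have hu' : u ∈ PP0 cs h X χ α t := ⟨hu, hαu⟩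
  have hv' : v ∈ PP0 cs h X χ α t := ⟨hv, hαv⟩
  have hcn : ∀ x ∈ PP0 cs h X χ α t, (c' : Y) * x * (c' : Y)⁻¹ ∈ PP0 cs h X χ α t := by
    intro x hx
    have h5 : (⟨x, PP0_le_fixC H C Fα Dt hx⟩ : ↥(fixC α t)) ∈ (P : Subgroup ↥(fixC α t)) := by
      rw [hP]; exact hx
    have h6 := (Subgroup.mem_normalizer_iff.1 hc' _).1 h5
    rw [hP] at h6
    exact h6
  have hkn : ∀ x ∈ PP0 cs h X χ α t, k * x * k⁻¹ ∈ PP0 cs h X χ α t := by
    intro x hx
    have h5 := hcn (v⁻¹ * x * v) (mul_mem (mul_mem (inv_mem hv') hx) hv')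
    have e2 : k * x * k⁻¹ = u⁻¹ * ((c' : Y) * (v⁻¹ * x * v) * (c' : Y)⁻¹) * u := by rw [e1]; group
    rw [e2]
    exact mul_mem (mul_mem (inv_mem hu') h5) hu'
  have hw := mem_PP_of_normalizer H C Fα Dt hne hk hkt hαk hkn
  have hκ' : (κ : Y) ∈ KK0 cs h X χ α t := hκ
  have hkK : u * (k * v * k⁻¹) ∈ KK0 cs h X χ α t :=
    mul_mem (Subgroup.mem_sup_left hu') (Subgroup.mem_sup_left (hkn v hv'))
  refine ⟨κ * (u * (k * v * k⁻¹)), mul_mem hκ' hkK, w, hw, k, hk, hkt, hαk, ?_⟩
  rw [← e', e1]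
  group

/-- **The powers.** -/
theorem pow_mem_KT (hne : ∀ Ψ : Set (I → ℤ), Ψ.Nonempty → Ψ ⊆ SP cs h χ t → (∀ a ∈ Ψ, θ a ∈ Ψ) →
      (∀ a ∈ Ψ, ∀ b ∈ Ψ, ∀ z, IsRoot cs h z → (∃ i j : ℕ, 0 < i ∧ 0 < j ∧ z = i • a + j • b) → z ∈ Ψ) →
      ∃ u ∈ RGD.Sup (XL X) Ψ, u ≠ 1 ∧ α u = u)
    {q : ℕ} [Fact q.Prime] [Finite ↥(fixC α t)] (P : Sylow q ↥(fixC α t))
    (hP : (P : Subgroup ↥(fixC α t)) = (PP0 cs h X χ α t).subgroupOf (fixC α t)) {c : Y} (hc : c ∈ fixC α t) :
    c ^ Nat.card ↥(PP cs h χ t) ∈ KK0 cs h X χ α t ⊔ (TL T ⊓ Cfsg.fixedSubgroup α) := by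
  obtain ⟨κ, hκ, w, hw, k, hk, hkt, hαk, rfl⟩ := frattini H C Fα Dt hne P hP hc
  -- modulo `K0`
  have h1 : ∀ m : ℕ, ∃ κ' ∈ KK0 cs h X χ α t, (κ * k) ^ m = κ' * k ^ m := by
    intro m
    induction m with
    | zero => exact ⟨1, one_mem _, by rw [pow_zero, pow_zero, mul_one]⟩
    | succ m ih =>
      obtain ⟨κ', hκ', e⟩ := ih
      refine ⟨κ * (k * κ' * k⁻¹), mul_mem hκ
        (conj_KK0_rp H C Fα Dt.hA Dt.ht Dt.hα Dt.hpos hk hkt hαk hκ'), ?_⟩
      rw [pow_succ', e, pow_succ']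
      group
  obtain ⟨κ', hκ', e⟩ := h1 (Nat.card ↥(PP cs h χ t))
  have h2 : ∀ m : ℕ, Rp cs H.nsys (w ^ m) (k ^ m) := by
    intro m
    induction m with
    | zero => rw [pow_zero, pow_zero]; exact rp_one
    | succ m ih => rw [pow_succ, pow_succ]; exact ih.mul hk
  have h3 : w ^ Nat.card ↥(PP cs h χ t) = 1 := by
    have h4 : (⟨w, hw⟩ : ↥(PP cs h χ t)) ^ Nat.card ↥(PP cs h χ t) = 1 := pow_card_eq_one'
    exact congrArg Subtype.val h4
  have h5 := h2 (Nat.card ↥(PP cs h χ t))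
  rw [h3] at h5
  rw [e]
  refine mul_mem (Subgroup.mem_sup_left hκ') (Subgroup.mem_sup_right ⟨h5.mem_of_one, ?_⟩)
  have h6 : α (k ^ Nat.card ↥(PP cs h χ t)) = k ^ Nat.card ↥(PP cs h χ t) := by rw [map_pow, hαk]
  exact h6

/-- **The elements of order prime to the order of the component group.** -/
theorem mem_of_coprime (hne : ∀ Ψ : Set (I → ℤ), Ψ.Nonempty → Ψ ⊆ SP cs h χ t → (∀ a ∈ Ψ, θ a ∈ Ψ) →
      (∀ a ∈ Ψ, ∀ b ∈ Ψ, ∀ z, IsRoot cs h z → (∃ i j : ℕ, 0 < i ∧ 0 < j ∧ z = i • a + j • b) → z ∈ Ψ) →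
      ∃ u ∈ RGD.Sup (XL X) Ψ, u ≠ 1 ∧ α u = u)
    {q : ℕ} [Fact q.Prime] [Finite ↥(fixC α t)] (P : Sylow q ↥(fixC α t))
    (hP : (P : Subgroup ↥(fixC α t)) = (PP0 cs h X χ α t).subgroupOf (fixC α t)) {c : Y} (hc : c ∈ fixC α t)
    {d : ℕ} (hd : d.Coprime (Nat.card ↥(PP cs h χ t))) (hcd : c ^ d = 1) :
    c ∈ KK0 cs h X χ α t ⊔ (TL T ⊓ Cfsg.fixedSubgroup α) := by
  have h1 := pow_mem_KT H C Fα Dt hne P hP hc
  have h2 : c ∈ Subgroup.zpowers (c ^ Nat.card ↥(PP cs h χ t)) := by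
    have h3 : (orderOf c).Coprime (Nat.card ↥(PP cs h χ t)) := hd.coprime_dvd_left (orderOf_dvd_of_pow_eq_one hcd)
    rw [Subgroup.mem_zpowers_iff]
    obtain ⟨m, hm⟩ := exists_pow_eq_self_of_coprime h3.symm
    exact ⟨m, by rw [zpow_natCast]; exact hm⟩
  exact (Subgroup.zpowers_le.2 h1) h2

end Cfsg.Agent.H441.RG
end

-- part: H441/RG/CentS
section
/-!
# S3509, exceptional groups: Sylow subgroups of the fixed points of a frame automorphism in a centraliser (helper441)

The frame of `H441/RG/CentK.lean`, `t` of any order prime to `p`.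

* `prime_dvd_PP` : the primes dividing the order of the component group `PP t` divide the order of `t`;
* `exists_sylow_P` : `PP0` is a Sylow `p`-subgroup of `C = fixC α t`.
-/

set_option autoImplicit false
set_option linter.unusedSectionVars false

namespace Cfsg.Agent.H441.RG

open CoxeterSystem Cfsg.Agent.ChevalleyStructure.CoxeterGeom Cfsg.Agent.Tits.Roots Cfsg.Agent.Tits.Core
  Cfsg.Agent.Tits.RootComb Cfsg.Agent.Tits.Exchange Cfsg.Agent.Nodes.Reps Cfsg.Agent.Nodes.BNOf
  Cfsg.Agent.Nodes.StabComb Cfsg.Agent.Nodes.Bruhat Cfsg.Agent.Nodes.OppDec Cfsg.Agent.Nodes.LeviDec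
  Cfsg.Agent.Nodes.NormalForm Cfsg.Agent.Nodes.SubComb Cfsg.Agent.KFacts.RgdField
  Cfsg.Agent.BpExc.TorCent Cfsg.Agent.BpExc.Tow Cfsg.Agent.BpExc.Fr Cfsg.Agent.BpExc.Pair Cfsg.Agent.H28.RG

variable {I W Y : Type*} [Fintype I] [DecidableEq I] [Group W] [Finite W] [Group Y] {M : CoxeterMatrix I}
  {cs : CoxeterSystem M W} {A : I → I → ℤ} {h : IsCartan M A} {p : ℕ}
  {J : Type*} [Preorder J] {T : J → Subgroup Y} {n : I → Y} {X : J → (I → ℤ) → Subgroup Y}
  {F : Type*} [Field F] {xx : (I → ℤ) → F → Y} {χ : (I → ℤ) → Y → F}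

/-- **The primes dividing the order of the component group.** -/
theorem prime_dvd_PP {T : Subgroup Y} (hA : ChAdd cs h T χ) {t : Y} (htT : t ∈ T) {d : ℕ}
    (hd : ∀ a, IsRoot cs h a → χ a t ^ d = 1) {q : ℕ} (hq : q.Prime) (hqd : q ∣ Nat.card ↥(PP cs h χ t)) : q ∣ d := by
  classical
  obtain ⟨φ, hφ0, hadd, hφ⟩ := hA t htT
  have hqf : Fact q.Prime := ⟨hq⟩
  obtain ⟨⟨w, hwP⟩, hw⟩ := exists_prime_orderOf_dvd_card' q hqd
  have hwo : orderOf w = q := by rw [← hw]; exact (Subgroup.orderOf_mk w hwP).symm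
  have hw1 : w ≠ 1 := by
    rintro rfl
    rw [orderOf_one] at hwo
    exact hq.one_lt.ne hwo
  obtain ⟨a, ha, hsum⟩ := Cfsg.Agent.BpExc.Fix.exists_root_sum_eq_zero (cs := cs) (h := h) hw1 hq.pos
    (by rw [← hwo]; exact pow_orderOf_eq_one w)
  have hfix : ∀ i : ℕ, φ (rep cs h (w ^ i) a) = φ a := fun i => by
    have h1 := (mem_PP.1 ((PP cs h χ t).pow_mem hwP i)).1 a ha
    rw [hφ _ (ha.act _), hφ a ha] at h1
    exact h1
  have h1 : ∀ m : ℕ, φ (∑ i ∈ Finset.range m, rep cs h (w ^ i) a) = φ a ^ m := by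
    intro m
    induction m with
    | zero => rw [Finset.sum_range_zero, hφ0, pow_zero]
    | succ m ih => rw [Finset.sum_range_succ, hadd, ih, hfix, pow_succ]
  have h2 : φ a ^ q = 1 := by rw [← h1 q, hsum, hφ0]
  by_contra hqp
  have hcop : Nat.Coprime q d := (Nat.Prime.coprime_iff_not_dvd hq).2 hqp
  have h3 : φ a = 1 := by
    have h4 : orderOf (φ a) ∣ d := orderOf_dvd_of_pow_eq_one (by rw [← hφ a ha]; exact hd a ha)
    have h5 : orderOf (φ a) ∣ q := orderOf_dvd_of_pow_eq_one h2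
    have h6 := Nat.dvd_gcd h5 h4
    rw [hcop, Nat.dvd_one] at h6
    exact orderOf_eq_one_iff.1 h6
  -- WLOG `a` is positive
  have key : ∀ b, IsRoot cs h b → φ b = 1 → 0 ≤ b → ∑ i ∈ Finset.range q, rep cs h (w ^ i) b ≠ 0 := by
    intro b hb hb1 hb0 hs
    have hpos : ∀ i : ℕ, 0 < ht (rep cs h (w ^ i) b) := fun i =>
      RGD.ht_pos (hb.act _) ((mem_PP.1 ((PP cs h χ t).pow_mem hwP i)).2 b ⟨hb, by rw [hφ b hb]; exact hb1⟩ hb0)
    have h6 : 0 < ∑ i ∈ Finset.range q, ht (rep cs h (w ^ i) b) :=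
      Finset.sum_pos (fun i _ => hpos i) ⟨0, Finset.mem_range.2 hq.pos⟩
    have h7 : ∑ i ∈ Finset.range q, ht (rep cs h (w ^ i) b) = ht (∑ i ∈ Finset.range q, rep cs h (w ^ i) b) :=
      (map_sum Nodes.Slope.htHom _ _).symm
    rw [h7, hs] at h6
    exact absurd h6 (by unfold ht; simp)
  rcases ha.pos_or_neg with h4 | h4
  · exact key a ha h3 h4 hsum
  · refine key (-a) ha.neg ?_ (neg_nonneg.2 h4) ?_
    · have h5 := hadd a (-a)
      rw [add_neg_cancel, hφ0, h3, one_mul] at h5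
      exact h5.symm
    · have h5 : ∀ i : ℕ, rep cs h (w ^ i) (-a) = - rep cs h (w ^ i) a := fun i => map_neg _ _
      simp only [h5, Finset.sum_neg_distrib, hsum, neg_zero]

variable (H : Tow cs h p T n X) (C : Coords cs h (TL T) n (XL X) xx χ)
  {α : MulAut Y} {θ : (I → ℤ) ≃+ (I → ℤ)} (Fα : Fr cs h (TL T) (XL X) α θ)

/-- the existence of fixed elements -/
def HNe (cs : CoxeterSystem M W) (h : IsCartan M A) (X : J → (I → ℤ) → Subgroup Y) (χ : (I → ℤ) → Y → F)
    (α : MulAut Y) (θ : (I → ℤ) ≃+ (I → ℤ)) (t : Y) : Prop :=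
  ∀ Ψ : Set (I → ℤ), Ψ.Nonempty → Ψ ⊆ SP cs h χ t → (∀ a ∈ Ψ, θ a ∈ Ψ) →
      (∀ a ∈ Ψ, ∀ b ∈ Ψ, ∀ z, IsRoot cs h z → (∃ i j : ℕ, 0 < i ∧ 0 < j ∧ z = i • a + j • b) → z ∈ Ψ) →
      ∃ u ∈ RGD.Sup (XL X) Ψ, u ≠ 1 ∧ α u = u

/-- the group of the representatives -/
def NGL (H : Tow cs h p T n X) : Subgroup Y where
  carrier := {k | ∃ w, Rp cs H.nsys w k}
  one_mem' := ⟨1, rp_one⟩
  mul_mem' := by
    rintro a b ⟨w, hw⟩ ⟨w', hw'⟩
    exact ⟨w * w', hw.mul hw'⟩
  inv_mem' := by
    rintro a ⟨w, hw⟩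
    exact ⟨w⁻¹, hw.inv⟩

/-- the group of the representatives over the component group -/
def NPL (H : Tow cs h p T n X) (χ : (I → ℤ) → Y → F) (t : Y) : Subgroup Y where
  carrier := {k | ∃ w ∈ PP cs h χ t, Rp cs H.nsys w k}
  one_mem' := ⟨1, one_mem _, rp_one⟩
  mul_mem' := by
    rintro a b ⟨w, hw, ha⟩ ⟨w', hw', hb⟩
    exact ⟨w * w', mul_mem hw hw', ha.mul hb⟩
  inv_mem' := by
    rintro a ⟨w, hw, ha⟩
    exact ⟨w⁻¹, inv_mem hw, ha.inv⟩

include H

theorem rpL_unique {w w' : W} {k : Y} (hk : Rp cs H.nsys w k) (hk' : Rp cs H.nsys w' k) : w = w' := by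
  have h1 := H.normal_form_unique (u := 1) (u' := 1) (v := 1) (v' := 1) (one_mem _) (one_mem _) hk hk'
    (one_mem _) (one_mem _) rfl
  exact h1.1

theorem isPGroup_Up {t : Y} : IsPGroup p ↥(Up cs h X χ t) := by
  rintro ⟨u, hu⟩
  obtain ⟨j, hj⟩ := H.mem_Sup.1 hu
  obtain ⟨m, hm⟩ := (H.rgd j).isPGroup_of_pos (S := SP cs h χ t) (fun a ha => ⟨ha.1.1, ha.2⟩) ⟨u, hj⟩
  refine ⟨m, Subtype.ext ?_⟩
  have h1 := congrArg (fun z : ↥(RGD.Sup (X j) (SP cs h χ t)) => (z : Y)) hm
  exact (Subgroup.coe_pow _ _ _).trans (((Subgroup.coe_pow _ (⟨u, hj⟩ : ↥(RGD.Sup (X j) (SP cs h χ t))) _).symm.trans h1).trans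
    ((Subgroup.coe_one _).trans (Subgroup.coe_one _).symm))

theorem norm_Up {t : Y} {w : W} {k : Y} (hk : Rp cs H.nsys w k) (hw : w ∈ PP cs h χ t) {u : Y}
    (hu : u ∈ Up cs h X χ t) : k * u * k⁻¹ ∈ Up cs h X χ t :=
  conj_SupL H hk (S := SP cs h χ t) (S' := SP cs h χ t) (fun x hx => hx.1.1)
    (fun x hx => ⟨⟨hx.1.1.act w, by rw [(mem_PP.1 hw).1 x hx.1.1, hx.1.2]⟩, (mem_PP.1 hw).2 x hx.1 hx.2⟩) hu

variable {t : Y} (Dt : CDat cs h T X χ α θ t)

include C Fα Dt

/-- **The Bruhat form.** -/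
theorem formF (hne : HNe cs h X χ α θ t) : Cfsg.Agent.BpExc.NSol.Form (fixC α t) (Up cs h X χ t) (Un cs h X χ t)
    (NGL H) (NPL H χ t) where
  form g hg := by
    obtain ⟨h3, h4⟩ := mem_fixC.1 hg
    obtain ⟨w, u, hu, hαu, k, hk, hkt, hαk, v, hv, hαv, hkv, e1⟩ :=
      form_fix H C Fα Dt.hG Dt.hsep Dt.hA Dt.ht Dt.hα Dt.hpos h4 h3
    exact ⟨u, ⟨hu, mem_fixC.2 ⟨hαu, comm_Up C Dt.ht hu⟩⟩, k, ⟨⟨w, hk⟩, mem_fixC.2 ⟨hαk, hkt⟩⟩, v,
      ⟨hv, mem_fixC.2 ⟨hαv, comm_Up C Dt.ht hv⟩⟩, hkv, e1⟩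
  inf := by
    rw [eq_bot_iff]
    rintro x ⟨h1, h2⟩
    exact Subgroup.mem_bot.2 (eq_one_of_pos_neg H (Up_le h1) (Un_le h2))
  move := by
    rintro k ⟨⟨w, hk⟩, hkC⟩ hn
    obtain ⟨hαk, hkt⟩ := mem_fixC.1 hkC
    have hw : ¬ ∀ x ∈ PP0 cs h X χ α t, k * x * k⁻¹ ∈ PP0 cs h X χ α t := fun hx =>
      hn ⟨w, mem_PP_of_normalizer H C Fα Dt hne hk hkt hαk hx, hk⟩
    push Not at hw
    obtain ⟨x, hx, hx'⟩ := hw
    obtain ⟨b, hb, c, hc, e, h1, h2⟩ := dec_PP0 H C Fα Dt.hA Dt.ht Dt.hα Dt.hpos hk hkt hαk hx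
    refine ⟨c, ⟨hc.1, PP0_le_fixC H C Fα Dt hc⟩, fun hc1 => hx' ?_, h2.1⟩
    rw [e, hc1, mul_one]
    exact h1
  norm := by
    rintro k ⟨⟨w, hw, hk⟩, -⟩ u hu
    exact norm_Up H hk hw hu.1

/-- **The order of the complement.** -/
theorem coprime_NPL [Fact p.Prime] [Finite ↥(fixC α t)] (hPP : (Nat.card ↥(PP cs h χ t)).Coprime p) :
    (Nat.card ↥(NPL H χ t ⊓ fixC α t)).Coprime p := by
  have hpp : p.Prime := Fact.out
  have hfin : Finite ↥(NPL H χ t ⊓ fixC α t) :=
    Finite.of_injective (Subgroup.inclusion inf_le_right) (Subgroup.inclusion_injective _)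
  rw [Nat.coprime_comm, Nat.Prime.coprime_iff_not_dvd hpp]
  intro hdvd
  obtain ⟨x, hx⟩ := exists_prime_orderOf_dvd_card' p hdvd
  obtain ⟨⟨w, hw, hk⟩, hxC⟩ := x.2
  have hxp : (x : Y) ^ p = 1 := by
    have h1 := pow_orderOf_eq_one x
    rw [hx] at h1
    exact congrArg Subtype.val h1
  have h2 : ∀ m : ℕ, Rp cs H.nsys (w ^ m) ((x : Y) ^ m) := by
    intro m
    induction m with
    | zero => rw [pow_zero, pow_zero]; exact rp_one
    | succ m ih => rw [pow_succ, pow_succ]; exact ih.mul hk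
  have h3 : w ^ p = 1 := by
    have h4 := h2 p
    rw [hxp] at h4
    exact rpL_unique H h4 rp_one
  have h5 : w = 1 := by
    have h6 : (⟨w, hw⟩ : ↥(PP cs h χ t)) ^ p = 1 := Subtype.ext h3
    have h7 := orderOf_dvd_of_pow_eq_one h6
    have h8 := orderOf_dvd_natCard (⟨w, hw⟩ : ↥(PP cs h χ t))
    have h9 := Nat.eq_one_of_dvd_coprimes hPP h8 h7
    rw [orderOf_eq_one_iff] at h9
    exact congrArg Subtype.val h9
  rw [h5] at hk
  obtain ⟨j, hj⟩ := H.mem_TL.1 hk.mem_of_one
  have h6 : orderOf (x : Y) ∣ Nat.card ↥(T j) := by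
    have := orderOf_dvd_natCard (⟨(x : Y), hj⟩ : ↥(T j))
    rwa [Subgroup.orderOf_mk] at this
  have h7 : orderOf (x : Y) = 1 :=
    Nat.eq_one_of_dvd_coprimes (H.rgd j).tcop h6 (orderOf_dvd_of_pow_eq_one hxp)
  have h8 : orderOf x = 1 := by rw [← h7]; exact (Subgroup.orderOf_coe x).symm
  rw [hx] at h8
  exact hpp.one_lt.ne' h8

/-- **`P` is a Sylow subgroup.** -/
theorem exists_sylow_P [Fact p.Prime] [Finite ↥(fixC α t)] (hne : HNe cs h X χ α θ t)
    (hPP : (Nat.card ↥(PP cs h χ t)).Coprime p) :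
    ∃ P : Sylow p ↥(fixC α t), (P : Subgroup ↥(fixC α t)) = (PP0 cs h X χ α t).subgroupOf (fixC α t) := by
  obtain ⟨P, hP⟩ := (formF H C Fα Dt hne).exists_sylow ((isPGroup_Up H (χ := χ) (t := t)).comap_subtype)
    (coprime_NPL H C Fα Dt hPP)
  refine ⟨P, ?_⟩
  rw [hP]
  ext x
  rw [Subgroup.mem_subgroupOf, Subgroup.mem_subgroupOf]
  exact ⟨fun hx => ⟨hx, (mem_fixC.1 x.2).1⟩, fun hx => hx.1⟩

end Cfsg.Agent.H441.RG
end

private theorem dce_e89963380b53 : _root_.True := by
  try have : _root_.True := by simp only [_root_.Cfsg.Agent.H441.RG.PP0.congr_simp]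
  exact _root_.True.intro
end

-- part: H256/EX/GenA
section
prune_inst 0x4010000
set_option linter.all false
open scoped Cfsg.Agent.FastGrp

/-!
# S3509, MIX M4, generation by opposite unipotent radicals: abstract part (helper256)

`lam` a functional on the root lattice, `PL`, `NL`, `ZL` the roots with positive, negative, zero value.
-/

set_option autoImplicit false
set_option linter.unusedSectionVars false

namespace Cfsg.Agent.H256.EX

open CoxeterSystem Cfsg.Agent.ChevalleyStructure.CoxeterGeom Cfsg.Agent.Tits.Roots Cfsg.Agent.Tits.Core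
  Cfsg.Agent.Tits.RootComb Cfsg.Agent.Tits.Exchange Cfsg.Agent.Nodes.Reps Cfsg.Agent.Nodes.BNOf
  Cfsg.Agent.Nodes.StabComb Cfsg.Agent.Nodes.Bruhat Cfsg.Agent.Nodes.OppDec Cfsg.Agent.Nodes.LeviDec
  Cfsg.Agent.Nodes.NormalForm Cfsg.Agent.Nodes.SubComb Cfsg.Agent.Nodes.Coroot Cfsg.Agent.KFacts.RgdField
  Cfsg.Agent.BpExc Cfsg.Agent.BpExc.TorCent Cfsg.Agent.BpExc.Tow Cfsg.Agent.BpExc.Fr
open scoped commutatorElement

variable {I W Y : Type*} [Fintype I] [DecidableEq I] [Group W] [Finite W] [Group Y] {M : CoxeterMatrix I}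
  {cs : CoxeterSystem M W} {A : I → I → ℤ} {h : IsCartan M A} {p : ℕ}
  {J : Type*} [Preorder J] {T : J → Subgroup Y} {n : I → Y} {X : J → (I → ℤ) → Subgroup Y}

section sets

variable (cs h) (lam : (I → ℤ) →+ ℤ)

/-- roots with positive value -/
def PL : Set (I → ℤ) := {a | IsRoot cs h a ∧ 0 < lam a}
/-- roots with negative value -/
def NL : Set (I → ℤ) := {a | IsRoot cs h a ∧ lam a < 0}
/-- roots with value zero -/
def ZL : Set (I → ℤ) := {a | IsRoot cs h a ∧ lam a = 0}

variable {cs h lam}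

theorem lam_smul (lam : (I → ℤ) →+ ℤ) (m : ℤ) (a : I → ℤ) : lam (m • a) = m * lam a := by
  rw [map_zsmul, smul_eq_mul]

theorem pl_btw {x y z : I → ℤ} (hx : 0 ≤ lam x) (hy : y ∈ PL cs h lam) (hz : Btwn cs h x y z) : z ∈ PL cs h lam := by
  obtain ⟨h1, m, a, b, hm, ha, hb, e⟩ := hz
  refine ⟨h1, ?_⟩
  have e1 : m * lam z = a * lam x + b * lam y := by
    rw [← lam_smul, e, map_add, lam_smul, lam_smul]
  have h2 : 0 ≤ a * lam x := mul_nonneg ha.le hx
  have h3 : 0 < b * lam y := mul_pos hb hy.2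
  by_contra hcon
  push Not at hcon
  have h4 : m * lam z ≤ 0 := mul_nonpos_of_nonneg_of_nonpos hm.le hcon
  omega

theorem nl_eq_pl : NL cs h lam = PL cs h (-lam) := by
  ext a
  show _ ∧ _ ↔ _ ∧ _
  rw [AddMonoidHom.neg_apply, Left.neg_pos_iff]

/-- **Dominance.** -/
theorem exists_dom (lam : (I → ℤ) →+ ℤ) : ∃ w : W, ∀ a, IsRoot cs h a → 0 ≤ a → 0 ≤ lam (rep cs h w a) := by
  obtain ⟨y, hy⟩ := exists_rho (cs := cs) (h := h)
  obtain ⟨w, hmax⟩ := Finite.exists_max (fun w : W => lam (rep cs h w y))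
  refine ⟨w, fun a ha h0 => ?_⟩
  obtain ⟨u, i, hau⟩ := ha
  have h1 := hmax (w * rfl' cs u i)
  have h2 : lam (rep cs h (w * rfl' cs u i) y) = lam (rep cs h w y) - cpr cs h y a * lam (rep cs h w a) := by
    rw [rep_mul_apply, rep_rfl'_eq, ← hau, map_sub, map_smul, map_sub, lam_smul]
  rw [h2] at h1
  have h4 := hy a ⟨u, i, hau⟩ h0
  by_contra hcon
  push Not at hcon
  have := mul_neg_of_pos_of_neg h4 hcon
  omega

end sets

/-! ### the union -/

section Lim

variable (H : Tow cs h p T n X)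

include H

/-- `X x` normalises `Sup X S` when `S` absorbs the intervals -/
theorem le_norm {x : I → ℤ} {S : Set (I → ℤ)} (hx : IsRoot cs h x)
    (hS : ∀ y ∈ S, IsRoot cs h y ∧ (x = y ∨ (x ≠ -y ∧ ∀ z, Btwn cs h x y z → z ∈ S))) :
    XL X x ≤ Subgroup.normalizer (RGD.Sup (XL X) S : Set Y) := by
  intro u hu
  obtain ⟨j₀, hj₀⟩ := H.mem_XL.1 hu
  rw [Subgroup.mem_normalizer_iff]
  intro y
  constructor
  · intro hy
    obtain ⟨j, hj⟩ := H.mem_Sup.1 hy
    obtain ⟨c, h1, h2⟩ := H.dir j₀ j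
    exact Sup_le_SupL c S ((Subgroup.mem_normalizer_iff.1 ((H.rgd c).le_normalizer hx hS (H.monoX x h1 hj₀)) y).1
      (H.mono_Sup S h2 hj))
  · intro hy
    obtain ⟨j, hj⟩ := H.mem_Sup.1 hy
    obtain ⟨c, h1, h2⟩ := H.dir j₀ j
    exact Sup_le_SupL c S ((Subgroup.mem_normalizer_iff.1 ((H.rgd c).le_normalizer hx hS (H.monoX x h1 hj₀)) y).2
      (H.mono_Sup S h2 hj))

/-- the parabolic subgroup normalises its radical -/
theorem le_norm_PL (lam : (I → ℤ) →+ ℤ) {x : I → ℤ} (hx : IsRoot cs h x) (h0 : 0 ≤ lam x) :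
    XL X x ≤ Subgroup.normalizer (RGD.Sup (XL X) (PL cs h lam) : Set Y) := by
  refine le_norm H hx fun y hy => ⟨hy.1, Or.inr ⟨?_, fun z hz => pl_btw h0 hy hz⟩⟩
  rintro rfl
  rw [map_neg] at h0
  have := hy.2
  omega

theorem Sup_le_norm_PL (lam : (I → ℤ) →+ ℤ) {S : Set (I → ℤ)} (hS : ∀ x ∈ S, IsRoot cs h x ∧ 0 ≤ lam x) :
    RGD.Sup (XL X) S ≤ Subgroup.normalizer (RGD.Sup (XL X) (PL cs h lam) : Set Y) :=
  RGD.Sup_le fun x hx => le_norm_PL H lam (hS x hx).1 (hS x hx).2

/-- the reflections of the Levi subgroup -/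
theorem exists_rfl_ZL {S : Set (I → ℤ)} (hS : ∀ x ∈ S, IsRoot cs h x) (hneg : ∀ x ∈ S, -x ∈ S) {a : I → ℤ}
    (ha : a ∈ S) : ∃ w i, a = rep cs h w (sr i) ∧ ∃ m ∈ RGD.Sup (XL X) S, Rp cs H.nsys (rfl' cs w i) m := by
  obtain ⟨w, i, hw⟩ := hS a ha
  refine ⟨w, i, hw, ?_⟩
  obtain ⟨j⟩ := H.ne
  obtain ⟨m, hm, hm'⟩ := TorCent.exists_rfl (H.rgd j) w i
  rw [← hw] at hm
  have h3 : (X j a ⊔ X j (-a)) ≤ RGD.Sup (XL X) S :=
    sup_le ((le_XL j a).trans (RGD.le_Sup ha)) ((le_XL j _).trans (RGD.le_Sup (hneg a ha)))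
  have hTn : T j ≤ Subgroup.normalizer ((X j a ⊔ X j (-a) : Subgroup Y) : Set Y) := by
    intro s hs
    rw [mem_normalizer_iff_cj, cj_sup, (H.rgd j).tor a (hS a ha) s hs, (H.rgd j).tor (-a) (hS a ha).neg s hs]
  have h4 : m ∈ ((T j ⊔ (X j a ⊔ X j (-a)) : Subgroup Y) : Set Y) := hm
  rw [Subgroup.coe_mul_of_left_le_normalizer_right _ _ hTn, Set.mem_mul] at h4
  obtain ⟨s, hs, u, hu, e⟩ := h4
  refine ⟨u, h3 hu, H.rp_up (j := j) ?_⟩
  have h5 := (rp_of_mem (cs := cs) (hN := (H.rgd j).nsys) (inv_mem hs)).mul hm'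
  rw [one_mul] at h5
  have h6 : s⁻¹ * m = u := by rw [← e]; group
  rwa [h6] at h5

/-- the elements of `W` represented in the Levi subgroup and fixing `lam` -/
def VL (lam : (I → ℤ) →+ ℤ) : Subgroup W where
  carrier := {v | (∃ m ∈ RGD.Sup (XL X) (ZL cs h lam), Rp cs H.nsys v m) ∧ ∀ x, lam (rep cs h v x) = lam x}
  one_mem' := ⟨⟨1, one_mem _, rp_one⟩, fun x => by rw [map_one, Module.End.one_apply]⟩
  mul_mem' := by
    rintro a b ⟨⟨m, hm, hm'⟩, h1⟩ ⟨⟨m', hm1, hm2⟩, h2⟩
    exact ⟨⟨m * m', mul_mem hm hm1, hm'.mul hm2⟩, fun x => by rw [rep_mul_apply, h1, h2]⟩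
  inv_mem' := by
    rintro a ⟨⟨m, hm, hm'⟩, h1⟩
    refine ⟨⟨m⁻¹, inv_mem hm, hm'.inv⟩, fun x => ?_⟩
    rw [← h1 (rep cs h a⁻¹ x), ← rep_mul_apply, mul_inv_cancel, map_one, Module.End.one_apply]

theorem exists_rfl_VL (lam : (I → ℤ) →+ ℤ) {a : I → ℤ} (ha : a ∈ ZL cs h lam) :
    ∃ w i, a = rep cs h w (sr i) ∧ rfl' cs w i ∈ VL H lam := by
  obtain ⟨w, i, hw, m, hm, hm'⟩ := exists_rfl_ZL H (S := ZL cs h lam) (fun x hx => hx.1)
    (fun x hx => ⟨hx.1.neg, by rw [map_neg, hx.2, neg_zero]⟩) ha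
  refine ⟨w, i, hw, ⟨m, hm, hm'⟩, fun x => ?_⟩
  rw [rep_rfl'_eq, ← hw, map_sub, lam_smul, ha.2, mul_zero, sub_zero]

/-- Levi part and radical of the positive (negative) part meet trivially -/
theorem inf_trivial (lam : (I → ℤ) →+ ℤ) (hdom : ∀ a, IsRoot cs h a → 0 ≤ a → 0 ≤ lam a) :
    (∀ x ∈ RGD.Sup (XL X) {a | a ∈ ZL cs h lam ∧ 0 ≤ a}, x ∈ RGD.Sup (XL X) (PL cs h lam) → x = 1) ∧
    (∀ x ∈ RGD.Sup (XL X) {a | a ∈ ZL cs h lam ∧ a ≤ 0}, x ∈ RGD.Sup (XL X) (NL cs h lam) → x = 1) := by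
  obtain ⟨v, hv, hpos⟩ := exists_adjust (cs := cs) (h := h) (ZL cs h lam) (VL H lam) (fun a ha => exists_rfl_VL H lam ha)
    (AddEquiv.neg (I → ℤ)) (fun a ha => ha.neg)
  obtain ⟨k, -, hk⟩ := H.exists_rp v
  have hneg : ∀ a ∈ ZL cs h lam, 0 ≤ a → rep cs h v a ≤ 0 := by
    intro a ha h0
    have := hpos a ha h0
    rw [AddEquiv.neg_apply] at this
    exact neg_nonneg.1 this
  have hpl : ∀ a ∈ PL cs h lam, 0 ≤ a := by
    intro a ha
    rcases ha.1.pos_or_neg with h1 | h1
    · exact h1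
    · exfalso
      have h2 := hdom _ ha.1.neg (neg_nonneg.2 h1)
      rw [map_neg] at h2
      have := ha.2
      omega
  have hnl : ∀ a ∈ NL cs h lam, a ≤ 0 := by
    intro a ha
    rcases ha.1.pos_or_neg with h1 | h1
    · exfalso
      have h2 := hdom _ ha.1 h1
      have := ha.2
      omega
    · exact h1
  have hfin : ∀ x : Y, k * x * k⁻¹ = 1 → x = 1 := by
    intro x hx
    have e : x = k⁻¹ * (k * x * k⁻¹) * k := by group
    rw [e, hx]; group
  constructor
  · intro x h1 h2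
    have g1 : k * x * k⁻¹ ∈ RGD.Sup (XL X) (Neg cs h) :=
      H28.RG.conj_SupL H hk (S' := Neg cs h) (fun a ha => ha.1.1) (fun a ha => ⟨ha.1.1.act v, hneg a ha.1 ha.2⟩) h1
    have g2 : k * x * k⁻¹ ∈ RGD.Sup (XL X) (RGD.Pos cs h) :=
      H28.RG.conj_SupL H hk (S' := RGD.Pos cs h) (fun a ha => ha.1)
        (fun a ha => ⟨ha.1.act v, hpl _ ⟨ha.1.act v, by rw [hv.2]; exact ha.2⟩⟩) h2
    exact hfin x (H28.RG.eq_one_of_pos_neg H g2 g1)
  · intro x h1 h2
    have g1 : k * x * k⁻¹ ∈ RGD.Sup (XL X) (RGD.Pos cs h) :=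
      H28.RG.conj_SupL H hk (S' := RGD.Pos cs h) (fun a ha => ha.1.1) (fun a ha => ⟨ha.1.1.act v, by
        have h3 := hneg (-a) ⟨ha.1.1.neg, by rw [map_neg, ha.1.2, neg_zero]⟩ (neg_nonneg.2 ha.2)
        rwa [map_neg, neg_nonpos] at h3⟩) h1
    have g2 : k * x * k⁻¹ ∈ RGD.Sup (XL X) (Neg cs h) :=
      H28.RG.conj_SupL H hk (S' := Neg cs h) (fun a ha => ha.1)
        (fun a ha => ⟨ha.1.act v, hnl _ ⟨ha.1.act v, by rw [hv.2]; exact ha.2⟩⟩) h2
    exact hfin x (H28.RG.eq_one_of_pos_neg H g1 g2)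

end Lim

/-! ### normalising the group generated by two fixed point groups -/

section norm

variable {σ : MulAut Y} {A₀ A₁ A₂ : Subgroup Y}

/-- the group generated by the fixed points of `A₁` and `A₂` -/
def HH (σ : MulAut Y) (A₁ A₂ : Subgroup Y) : Subgroup Y :=
  Subgroup.closure ({y | y ∈ A₁ ∧ σ y = y} ∪ {y | y ∈ A₂ ∧ σ y = y})

theorem mem_HH_left {y : Y} (hy : y ∈ A₁) (hs : σ y = y) : y ∈ HH σ A₁ A₂ := Subgroup.subset_closure (Or.inl ⟨hy, hs⟩)
theorem mem_HH_right {y : Y} (hy : y ∈ A₂) (hs : σ y = y) : y ∈ HH σ A₁ A₂ := Subgroup.subset_closure (Or.inr ⟨hy, hs⟩)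

theorem norm_HH {l : Y} (hl : σ l = l) (h1 : l ∈ Subgroup.normalizer (A₁ : Set Y))
    (h2 : l ∈ Subgroup.normalizer (A₂ : Set Y)) : l ∈ Subgroup.normalizer (HH σ A₁ A₂ : Set Y) := by
  have key : ∀ l : Y, σ l = l → l ∈ Subgroup.normalizer (A₁ : Set Y) → l ∈ Subgroup.normalizer (A₂ : Set Y) →
      ∀ y ∈ HH σ A₁ A₂, l * y * l⁻¹ ∈ HH σ A₁ A₂ := by
    intro l hl h1 h2 y hy
    have h3 : HH σ A₁ A₂ ≤ (HH σ A₁ A₂).comap (MulAut.conj l).toMonoidHom := by
      conv_lhs => rw [HH]
      rw [Subgroup.closure_le]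
      rintro y (⟨hy, hs⟩ | ⟨hy, hs⟩)
      · refine mem_HH_left ((Subgroup.mem_normalizer_iff.1 h1 y).1 hy) ?_
        show σ (l * y * l⁻¹) = l * y * l⁻¹
        rw [map_mul, map_mul, map_inv, hl, hs]
      · refine mem_HH_right ((Subgroup.mem_normalizer_iff.1 h2 y).1 hy) ?_
        show σ (l * y * l⁻¹) = l * y * l⁻¹
        rw [map_mul, map_mul, map_inv, hl, hs]
    exact h3 hy
  rw [Subgroup.mem_normalizer_iff]
  intro y
  refine ⟨key l hl h1 h2 y, fun hy => ?_⟩
  have h4 := key l⁻¹ (by rw [map_inv, hl]) (inv_mem h1) (inv_mem h2) _ hy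
  have e : l⁻¹ * (l * y * l⁻¹) * l⁻¹⁻¹ = y := by group
  rwa [e] at h4

/-- fixed elements of `A₀ A₁` normalise `HH` -/
theorem norm_of_dec (hσ0 : ∀ x ∈ A₀, σ x ∈ A₀) (hσ1 : ∀ x ∈ A₁, σ x ∈ A₁) (hI : ∀ x ∈ A₀, x ∈ A₁ → x = 1)
    (hn1 : A₀ ≤ Subgroup.normalizer (A₁ : Set Y)) (hn2 : A₀ ≤ Subgroup.normalizer (A₂ : Set Y)) {x : Y}
    (hx : x ∈ A₀ ⊔ A₁) (hs : σ x = x) : x ∈ Subgroup.normalizer (HH σ A₁ A₂ : Set Y) := by
  have h1 : x ∈ ((A₀ ⊔ A₁ : Subgroup Y) : Set Y) := hx
  rw [Subgroup.coe_mul_of_left_le_normalizer_right _ _ hn1, Set.mem_mul] at h1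
  obtain ⟨l, hl, u, hu, rfl⟩ := h1
  rw [map_mul] at hs
  have e : l⁻¹ * σ l = u * (σ u)⁻¹ := by
    have : σ l = l * u * (σ u)⁻¹ := by rw [← hs]; group
    rw [this]; group
  have h2 : l⁻¹ * σ l = 1 := hI _ (mul_mem (inv_mem hl) (hσ0 l hl)) (by
    rw [e]; exact mul_mem hu (inv_mem (hσ1 u hu)))
  have h3 : σ l = l := (inv_mul_eq_one.1 h2).symm
  have h4 : σ u = u := by
    rw [h3] at hs
    exact mul_left_cancel hs
  exact mul_mem (norm_HH h3 (hn1 hl) (hn2 hl)) (Subgroup.le_normalizer (mem_HH_left hu h4))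

theorem HH_comm : HH σ A₁ A₂ = HH σ A₂ A₁ := by
  unfold HH
  rw [Set.union_comm]

end norm

end Cfsg.Agent.H256.EX

private theorem dce_5f15bbeb24d7 : _root_.True := by
  try have : _root_.True := by simp only [_root_.Cfsg.Agent.H256.EX.HH.eq_1]
  exact _root_.True.intro
end

-- part: H345/RG/Wrd
section
prune_inst 0x4010000
set_option linter.all false
open scoped Cfsg.Agent.FastGrp

/-!
# Words in permutation models: conjugates generating a group (helper345, S3509 sporadic block)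

`N ≤ Perm (Fin n)` with tables `tabs` of letters (`Tabs w N tabs`) and a base `bs` (`Base N bs`); a word `l : List ℕ` has the
value `va ht l : N`; checks on the base:

* `cPow l k = true → va l ^ k = 1`, `cNe l k = true → va l ^ k ≠ 1`;
* for the letter `i` and pairs `(c, c')` of words with `va c' = (va c)⁻¹` (check `cInv`): the words over the conjugates
  `y_j = c_j i c_j'` have values in `Gen (va [i]) (cs.map va)` (`ex_mem`).
-/

set_option autoImplicit false

namespace Cfsg.Agent.H345.RG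

open Equiv Cfsg.Agent.H123.Cls Cfsg.Agent.H763.Cls Cfsg.Agent.Lib.BitNetSimple

section

variable {n w : ℕ} {N : Subgroup (Perm (Fin n))} {tabs bs : List ℕ}

/-- the letter `i` -/
noncomputable def lt (ht : Tabs w N tabs) (i : ℕ) : N :=
  open Classical in if h : i < tabs.length then ⟨(ht i h).choose, (ht i h).choose_spec.1⟩ else 1

theorem lt_apply (ht : Tabs w N tabs) {i : ℕ} (h : i < tabs.length) (p : Fin n) :
    ((lt ht i : Perm (Fin n)) p : ℕ) = lk w (nth tabs i) p := by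
  unfold lt
  rw [dif_pos h]
  exact (ht i h).choose_spec.2 p

/-- the value of a word -/
noncomputable def va (ht : Tabs w N tabs) (l : List ℕ) : N := (l.map (lt ht)).prod

theorem va_append (ht : Tabs w N tabs) (l m : List ℕ) : va ht (l ++ m) = va ht l * va ht m := by
  simp [va]

theorem va_cons (ht : Tabs w N tabs) (i : ℕ) (l : List ℕ) : va ht (i :: l) = lt ht i * va ht l := by
  simp [va]

theorem va_one (ht : Tabs w N tabs) (i : ℕ) : va ht [i] = lt ht i := by simp [va]

theorem va_apply (ht : Tabs w N tabs) {l : List ℕ} (hl : ∀ x ∈ l, x < tabs.length) (p : Fin n) :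
    ((va ht l : Perm (Fin n)) p : ℕ) = evw w tabs l p := by
  induction l with
  | nil => rfl
  | cons i l ih =>
    rw [va_cons, Subgroup.coe_mul, Perm.mul_apply, lt_apply ht (hl i List.mem_cons_self),
      ih fun x hx => hl x (List.mem_cons_of_mem _ hx), evw_cons]

theorem va_pow_apply (ht : Tabs w N tabs) {l : List ℕ} (hl : ∀ x ∈ l, x < tabs.length) (k : ℕ) (p : Fin n) :
    (((va ht l ^ k : N) : Perm (Fin n)) p : ℕ) = evn w tabs l k p := by
  rw [Subgroup.coe_pow]
  exact Val.evn (N := N) ⟨(va ht l).2, va_apply ht hl⟩ k p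

/-- the `k`-th power of the word is not trivial on the base -/
noncomputable def cNe (w : ℕ) (tabs bs l : List ℕ) (k : ℕ) : Bool :=
  band (chkL tabs.length l) (Bool.rec true false (allL bs fun b => Nat.beq (evn w tabs l k b) b))

theorem allL_of {l : List ℕ} {f : ℕ → Bool} (h : ∀ x ∈ l, f x = true) : allL l f = true := by
  induction l with
  | nil => rfl
  | cons y l ih =>
    show band (f y) (allL l f) = true
    exact band_eq.2 ⟨h y List.mem_cons_self, ih fun x hx => h x (List.mem_cons_of_mem _ hx)⟩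

theorem pow_eq_one (ht : Tabs w N tabs) (hb : Base N bs) {l : List ℕ} {k : ℕ} (h : chkPow w tabs bs l k = true) :
    va ht l ^ k = 1 := by
  obtain ⟨h1, h2⟩ := band_true h
  apply Subtype.ext
  refine hb.2 _ (va ht l ^ k).2 fun b hbb => Fin.ext ?_
  rw [va_pow_apply ht (chkL_iff _ l h1)]
  exact Nat.eq_of_beq_eq_true (allL_iff h2 b hbb)

theorem pow_ne_one (ht : Tabs w N tabs) (hb : Base N bs) {l : List ℕ} {k : ℕ} (h : cNe w tabs bs l k = true) :
    va ht l ^ k ≠ 1 := by
  obtain ⟨h1, h2⟩ := band_true h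
  intro h3
  have h4 : (allL bs fun b => Nat.beq (evn w tabs l k b) b) = true := by
    apply allL_of
    intro b hbb
    have h5 := va_pow_apply ht (chkL_iff _ l h1) k ⟨b, hb.1 b hbb⟩
    rw [h3] at h5
    have h6 : b = evn w tabs l k b := h5
    rw [← h6]
    exact Nat.beq_refl b
  rw [h4] at h2
  exact Bool.noConfusion h2

/-! ### conjugates of a letter -/

/-- the words of the conjugates -/
def yw (i : ℕ) (cs : List (List ℕ × List ℕ)) : List (List ℕ) := cs.map fun c => c.1 ++ ([i] ++ c.2)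

/-- substitution -/
def ex (i : ℕ) (cs : List (List ℕ × List ℕ)) (u : List ℕ) : List ℕ := u.flatMap fun j => (yw i cs).getD j []

theorem ex_append (i : ℕ) (cs : List (List ℕ × List ℕ)) (u v : List ℕ) : ex i cs (u ++ v) = ex i cs u ++ ex i cs v := by
  simp [ex]

/-- the check of the inverses -/
noncomputable def cInv (w : ℕ) (tabs bs : List ℕ) (cs : List (List ℕ × List ℕ)) : Bool :=
  List.rec true (fun c _ ih => band (chkPow w tabs bs (c.1 ++ c.2) 1) ih) cs

theorem cInv_iff (ht : Tabs w N tabs) (hb : Base N bs) {cs : List (List ℕ × List ℕ)} (h : cInv w tabs bs cs = true) :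
    ∀ c ∈ cs, va ht c.2 = (va ht c.1)⁻¹ := by
  induction cs with
  | nil => intro c hc; exact absurd hc List.not_mem_nil
  | cons d cs ih =>
    obtain ⟨h1, h2⟩ := band_true (show band (chkPow w tabs bs (d.1 ++ d.2) 1) (cInv w tabs bs cs) = true from h)
    intro c hc
    rcases List.mem_cons.1 hc with rfl | hc
    · have h3 := pow_eq_one ht hb h1
      rw [pow_one, va_append] at h3
      exact eq_inv_of_mul_eq_one_right h3
    · exact ih h2 c hc

theorem ex_mem (ht : Tabs w N tabs) (hb : Base N bs) (i : ℕ) {cs : List (List ℕ × List ℕ)}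
    (h : cInv w tabs bs cs = true) (u : List ℕ) :
    va ht (ex i cs u) ∈ Gen (lt ht i) (cs.map fun c => va ht c.1) := by
  have h0 := cInv_iff ht hb h
  induction u with
  | nil => exact one_mem _
  | cons j u ih =>
    have e : ex i cs (j :: u) = (yw i cs).getD j [] ++ ex i cs u := by simp [ex]
    rw [e, va_append]
    refine mul_mem ?_ ih
    rcases lt_or_ge j cs.length with hj | hj
    · have h1 : (yw i cs).getD j [] = cs[j].1 ++ ([i] ++ cs[j].2) := by
        simp [yw, List.getD_eq_getElem?_getD, hj]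
      rw [h1, va_append, va_append, va_one, h0 _ (List.getElem_mem hj), ← mul_assoc]
      exact Subgroup.subset_closure ⟨_, List.mem_map.2 ⟨cs[j], List.getElem_mem hj, rfl⟩, rfl⟩
    · have h1 : (yw i cs).getD j [] = [] := by
        simp [yw, List.getD_eq_getElem?_getD, hj]
      rw [h1]
      exact one_mem _

/-! ### generation by conjugates, independent of the representative -/

/-- `k` conjugates of `g` under `N` generate `N` -/
def GP (N : Subgroup (Perm (Fin n))) (k : ℕ) (g : Perm (Fin n)) : Prop :=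
  ∃ L : List (Perm (Fin n)), L.length = k ∧ (∀ c ∈ L, c ∈ N) ∧ Gen g L = N

theorem Gen_map {G H : Type*} [Group G] [Group H] (f : G →* H) (x : G) (L : List G) :
    (Gen x L).map f = Gen (f x) (L.map f) := by
  rw [Gen, Gen, MonoidHom.map_closure]
  congr 1
  ext y
  constructor
  · rintro ⟨_, ⟨c, hc, rfl⟩, rfl⟩
    exact ⟨f c, List.mem_map.2 ⟨c, hc, rfl⟩, by simp⟩
  · rintro ⟨d, hd, rfl⟩
    obtain ⟨c, hc, rfl⟩ := List.mem_map.1 hd
    exact ⟨c * x * c⁻¹, ⟨c, hc, rfl⟩, by simp⟩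

theorem GP.conj {A : Subgroup (Perm (Fin n))} (hnA : ∀ a ∈ A, ∀ x ∈ N, a * x * a⁻¹ ∈ N) {k : ℕ} {g b : Perm (Fin n)}
    (h : GP N k g) (hb : b ∈ A) : GP N k (b * g * b⁻¹) := by
  obtain ⟨L, h1, h2, h3⟩ := h
  refine ⟨L.map (fun c => b * c * b⁻¹), by rw [List.length_map, h1], fun c hc => ?_, ?_⟩
  · obtain ⟨d, hd, rfl⟩ := List.mem_map.1 hc
    exact hnA b hb d (h2 d hd)
  · have h4 := Gen_map (MulAut.conj b).toMonoidHom g L
    rw [h3] at h4
    have h5 : N.map (MulAut.conj b).toMonoidHom = N := by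
      apply le_antisymm
      · rintro _ ⟨x, hx, rfl⟩
        exact hnA b hb x hx
      · intro x hx
        refine ⟨b⁻¹ * x * b, ?_, ?_⟩
        · have := hnA b⁻¹ (A.inv_mem hb) x hx
          rwa [inv_inv] at this
        · show b * (b⁻¹ * x * b) * b⁻¹ = x
          group
    rw [h5] at h4
    exact h4.symm

/-- from a subgroup of `N` (as a group) -/
theorem GP.of_gen {g : N} {L : List N} (h : Gen g L = ⊤) : GP N L.length (g : Perm (Fin n)) := by
  refine ⟨L.map N.subtype, List.length_map _, fun c hc => ?_, ?_⟩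
  · obtain ⟨d, -, rfl⟩ := List.mem_map.1 hc
    exact d.2
  · have h1 := Gen_map N.subtype g L
    rw [h, ← MonoidHom.range_eq_map, Subgroup.range_subtype] at h1
    exact h1.symm

/-- to a group isomorphic to `N` -/
theorem GP.gen {S : Type*} [Group S] (e : S ≃* N) {k : ℕ} {x : S} (h : GP N k (e x : Perm (Fin n))) :
    ∃ L : List S, L.length = k ∧ Gen x L = ⊤ := by
  obtain ⟨L, h1, h2, h3⟩ := h
  let f : S →* Perm (Fin n) := N.subtype.comp e.toMonoidHom
  have hf : Function.Injective f := N.subtype_injective.comp e.injective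
  have hL : ∀ L : List (Perm (Fin n)), (∀ c ∈ L, c ∈ N) → ∃ L' : List S, L'.map f = L := by
    intro L
    induction L with
    | nil => exact fun _ => ⟨[], rfl⟩
    | cons c L ih =>
      intro hc
      obtain ⟨L', hL'⟩ := ih fun d hd => hc d (List.mem_cons_of_mem _ hd)
      refine ⟨e.symm ⟨c, hc c List.mem_cons_self⟩ :: L', ?_⟩
      rw [List.map_cons, hL']
      congr 1
      show ((e (e.symm ⟨c, _⟩) : N) : Perm (Fin n)) = c
      rw [MulEquiv.apply_symm_apply]
  obtain ⟨L', rfl⟩ := hL L h2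
  refine ⟨L', by rw [← h1, List.length_map], ?_⟩
  have h4 := Gen_map f x L'
  have h5 : Gen (f x) (L'.map f) = N := h3
  rw [h5] at h4
  rw [eq_top_iff]
  intro s _
  have h6 : f s ∈ (Gen x L').map f := by rw [h4]; exact (e s).2
  obtain ⟨t, ht, hts⟩ := h6
  rwa [← hf hts]

end

end Cfsg.Agent.H345.RG

private theorem dce_138e0a01e998 : _root_.True := by
  try have : _root_.True := by simp only [_root_.Cfsg.Agent.H345.RG.ex.eq_1]
  try have : _root_.True := by simp only [_root_.Cfsg.Agent.H345.RG.va.eq_1]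
  try have : _root_.True := by simp only [_root_.Cfsg.Agent.H345.RG.lt.congr_simp]
  try have : _root_.True := by simp only [_root_.Cfsg.Agent.H345.RG.yw.eq_1]
  exact _root_.True.intro
end
end
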